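import Groth.Agent.H23.RatProductK
import Groth.Agent.H23.MaxAbelian
import Groth.Agent.H23.RigidGamma
import Groth.Agent.H23.GeomConn
import Groth.Agent.GrpSchLib.NormalQuot
import Groth.Agent.GrpSchLib.KernelGrp
import Groth.Agent.GrpSchLib.SmoothReduced
import Groth.Agent.GrpSchLib.AntiAffineHom
import Groth.Agent.FBaseLib.Basic
import Groth.Agent.S3280
import Groth.Agent.S3036

/-!
# Morphisms from connected algebraic groups to abelian varieties
-/

universe u

open CategoryTheory CategoryTheory.Limits MonoidalCategory CartesianMonoidalCategory MonObj GrpObj AlgebraicGeometry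

namespace Groth.Agent.Deform.AVFactor

set_option linter.style.haveILetI false

attribute [local instance] CategoryTheory.Hom.monoid CategoryTheory.Hom.group

variable {k : Type u} [Field k]

open GrpSchLib in
open scoped CategoryTheory.Obj in
/-- A smooth connected group is geometrically integral. -/
theorem geometricallyIntegral_smooth (G : Over (Spec (CommRingCat.of k))) [GrpObj G]
    [Smooth G.hom] [ConnectedSpace ↥G.left] : GeometricallyIntegral G.hom := by
  haveI : GeometricallyReduced G.hom := H23.RigidGamma.geometricallyReduced_of_smooth G.hom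
  obtain ⟨g, hg, hge⟩ := exists_isMaxPt (η[G].left (IsLocalRing.closedPoint k))
  have hu : closure ({g} : Set G.left) = Set.univ := by
    rw [← connectedComponent_one hg hge]; exact PreconnectedSpace.connectedComponent_eq_univ _
  haveI : IsClosedImmersion (𝟙 G : G ⟶ G).left := by rw [Over.id_left]; infer_instance
  haveI : GeometricallyIrreducible G.hom := geometricallyIrreducible_one hg hge (𝟙 G)
    (hu ▸ Set.range_eq_univ.2 fun x => ⟨x, rfl⟩)
  exact GeometricallyIntegral.of_geometricallyReduced_of_geometricallyIrreducible _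

/-- A homomorphism out of a quotient with no more kernel is a monomorphism. -/
theorem mono_of_kernel {N Q B K : Over (Spec (CommRingCat.of k))} [GrpObj N] [GrpObj Q] [GrpObj B] (q : N ⟶ Q)
    [IsMonHom q] [Flat q.left] [Surjective q.left] [QuasiCompact q.left] (φ : Q ⟶ B) [IsMonHom φ] (i : K ⟶ N)
    (hiq : AlgGrp.IsKernel i q) (hif : AlgGrp.IsKernel i (q ≫ φ)) : Mono φ := by
  have htriv : ∀ {X : Over (Spec (CommRingCat.of k))} (z : X ⟶ Q), z ≫ φ = 1 → z = 1 := by
    intro X z hz
    let P : Over (Spec (CommRingCat.of k)) := Over.mk (pullback.fst z.left q.left ≫ X.hom)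
    let p : P ⟶ X := Over.homMk (pullback.fst z.left q.left) rfl
    let x : P ⟶ N := Over.homMk (pullback.snd z.left q.left) (by
      show pullback.snd z.left q.left ≫ N.hom = pullback.fst z.left q.left ≫ X.hom
      rw [← Over.w q, ← Category.assoc, ← pullback.condition, Category.assoc, Over.w z])
    have hsq : p ≫ z = x ≫ q := Over.OverMorphism.ext pullback.condition
    have hx : x ≫ q ≫ φ = 1 := by rw [← Category.assoc, ← hsq, Category.assoc, hz, MonObj.comp_one]
    have h1 : x ≫ q = 1 := by
      conv_lhs => rw [← hif.lift_fst x (toUnit P) (hx.trans Hom.one_def)]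
      rw [Category.assoc, hiq.w, ← Category.assoc, toUnit_unique (_ ≫ toUnit K) (toUnit P), ← Hom.one_def]
    haveI : Epi p.left := inferInstanceAs (Epi (pullback.fst z.left q.left))
    haveI : Epi p := (Over.forget _).epi_of_epi_map (inferInstanceAs (Epi p.left))
    rw [← cancel_epi p, MonObj.comp_one, hsq, h1]
  refine ⟨fun {X} a b hab => ?_⟩
  refine mul_inv_eq_one.mp (htriv (a * b⁻¹) ?_)
  rw [MonObj.mul_comp, GrpObj.inv_comp, hab, mul_inv_cancel]

/-- A homomorphism from a smooth connected affine group to a proper group is trivial. -/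
theorem eq_one_of_affine {N B : Over (Spec (CommRingCat.of k))} [GrpObj N] [GrpObj B] [IsAffine N.left]
    [Smooth N.hom] [ConnectedSpace ↥N.left] [IsProper B.hom] (f : N ⟶ B) [IsMonHom f] : f = 1 := by
  haveI : IsAffineHom N.hom := isAffineHom_of_isAffine _
  haveI : IsSeparated B.hom := inferInstance
  obtain ⟨K, iK, i, hi, hic, hn, hk⟩ := GrpSchLib.exists_kernel f
  letI := iK
  haveI := hi; haveI := hic
  obtain ⟨Q, iQ, q, hq, hQa, hQl, hqf, hqs, hqk⟩ := GrpSchLib.NormalQuot.exists_quot N K i hn
  letI := iQ
  haveI := hq; haveI := hQa; haveI := hQl; haveI := hqf; haveI := hqs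
  haveI : IsAffineHom Q.hom := isAffineHom_of_isAffine _
  haveI : QuasiCompact q.left := by
    haveI : QuasiCompact (q.left ≫ Q.hom) := by rw [Over.w q]; infer_instance
    exact QuasiCompact.of_comp q.left Q.hom
  obtain ⟨φ, hφ, hqφ, -⟩ := S3280.result k N K Q B q i hqk f hk.w
  haveI := hφ
  haveI : Mono φ := mono_of_kernel q φ i hqk (by rw [hqφ]; exact hk)
  haveI : QuasiCompact φ.left := by
    haveI : QuasiCompact (φ.left ≫ B.hom) := by rw [Over.w φ]; infer_instance
    exact QuasiCompact.of_comp φ.left B.hom
  haveI : IsClosedImmersion φ.left := S3036.result k Q B φ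
  haveI : IsProper Q.hom := by rw [← Over.w φ]; infer_instance
  haveI : Smooth Q.hom := by
    refine GrpSchLib.smooth_of_isReduced_baseChange Q ?_
    let g : Spec (CommRingCat.of (AlgebraicClosure k)) ⟶ Spec (CommRingCat.of k) :=
      Spec.map (CommRingCat.ofHom (algebraMap k (AlgebraicClosure k)))
    haveI : IsReduced (pullback (q.left ≫ Q.hom) g) := by
      rw [Over.w q]
      exact GrpSchLib.isReduced_of_smooth_field (pullback.snd N.hom g)
    haveI : IsReduced (pullback q.left (pullback.fst Q.hom g)) :=
      isReduced_of_isOpenImmersion (pullbackRightPullbackFstIso Q.hom g q.left).hom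
    exact FBaseLib.isReduced_of_flat_surjective (pullback.snd q.left (pullback.fst Q.hom g))
  haveI : ConnectedSpace ↥Q.left := q.left.surjective.connectedSpace q.left.continuous
  haveI : GeometricallyReduced Q.hom := H23.RigidGamma.geometricallyReduced_of_smooth Q.hom
  haveI : GeometricallyConnected Q.hom := H23.GeomConn.of_point k Q.hom η[Q].left (Over.w η[Q])
  have hbij : Function.Bijective Q.hom.appTop := by
    haveI : ConnectedSpace ↥(pullback Q.hom (Spec.map (CommRingCat.ofHom (algebraMap k (AlgebraicClosure k))))) :=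
      GeometricallyConnected.geometrically_connectedSpace (f := Q.hom) _ _ _ (.of_hasPullback _ _)
    haveI : IsReduced (pullback Q.hom (Spec.map (CommRingCat.ofHom (algebraMap k (AlgebraicClosure k))))) :=
      GeometricallyReduced.geometrically_isReduced (f := Q.hom) _ _ _ (.of_hasPullback _ _)
    exact H23.RigidGamma.bijective_appTop_of_algClosure Q.hom
  have h := GrpSchLib.AntiAffine.eq_const_of_isAffine hbij (𝟙 Q) η[Q]
  rw [Category.comp_id] at h
  rw [← hqφ, ← Category.comp_id q, h, ← Hom.one_def, MonObj.comp_one, MonObj.one_comp]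

/-- A pointed morphism from a smooth connected group to an abelian variety is a homomorphism. -/
theorem isMonHom_of_one {G B : Over (Spec (CommRingCat.of k))} [GrpObj G] [GrpObj B] [Smooth G.hom]
    [ConnectedSpace ↥G.left] [IsProper B.hom] [Smooth B.hom] [ConnectedSpace ↥B.left] (f : G ⟶ B)
    (hf : η[G] ≫ f = 1) : IsMonHom f := by
  haveI := geometricallyIntegral_smooth G
  haveI := geometricallyIntegral_smooth B
  haveI := GrpSchLib.AntiAffine.isSeparated_grp G
  have hte : ∀ X : Over (Spec (CommRingCat.of k)), (1 : X ⟶ G) ≫ f = 1 :=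
    GrpSchLib.AntiAffine.one_comp f hf
  let h : G ⊗ G ⟶ B := (fst G G ≫ f) * (snd G G ≫ f) * ((fst G G * snd G G) ≫ f)⁻¹
  have hl : lift (𝟙 G) (toUnit G ≫ η[G]) ≫ h = toUnit G ≫ 1 := by
    simp only [h, MonObj.comp_mul, GrpObj.comp_inv, ← Category.assoc, lift_fst, lift_snd, Category.id_comp,
      MonObj.comp_one]
    rw [show toUnit G ≫ η[G] = (1 : G ⟶ G) from rfl, hte, _root_.mul_one, _root_.mul_one, Category.id_comp,
      mul_inv_cancel]
  have hr : lift (toUnit G ≫ η[G]) (𝟙 G) ≫ h = toUnit G ≫ 1 := by
    simp only [h, MonObj.comp_mul, GrpObj.comp_inv, ← Category.assoc, lift_fst, lift_snd, Category.id_comp,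
      MonObj.comp_one]
    rw [show toUnit G ≫ η[G] = (1 : G ⟶ G) from rfl, hte, _root_.one_mul, _root_.one_mul, Category.id_comp,
      mul_inv_cancel]
  have hh := H23.RatProductK.eq_const η[G] η[G] 1 h hl hr
  rw [MonObj.comp_one] at hh
  have hmul : (fst G G * snd G G) ≫ f = (fst G G ≫ f) * (snd G G ≫ f) := (mul_inv_eq_one.mp hh).symm
  refine ⟨hf.trans (by rw [Hom.one_def, toUnit_unique (toUnit _) (𝟙 _), Category.id_comp]), ?_⟩
  have e : lift (fst G G) (snd G G) = 𝟙 (G ⊗ G) := lift_fst_snd
  have e2 : μ[G] = fst G G * snd G G := by rw [Hom.mul_def, e, Category.id_comp]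
  rw [e2, hmul, Hom.mul_def, ← lift_map, e, Category.id_comp]

end Groth.Agent.Deform.AVFactor
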