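import Groth.Agent.Deform.QuotSep
import Groth.Agent.GrpdThick.Local
import Groth.Agent.GrpdLib.QuasiSection
import Groth.Agent.GrpSchLib.ArtinTop
import Groth.Agent.SrcDescent.SmoothFppf
import Groth.Agent.AlgSpLib.ThickScheme
import Groth.Agent.FComplLib.IdealComap

/-!
# Quotients of group schemes over an artinian local ring by flat subgroup schemes

The quotient exists on the closed fibre, which is a nilpotent thickening, so it exists.
-/

set_option backward.isDefEq.respectTransparency false
set_option backward.isDefEq.respectTransparency.types false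
set_option linter.style.haveILetI false
set_option linter.unusedSectionVars false

universe u

open CategoryTheory CategoryTheory.Limits MonoidalCategory CartesianMonoidalCategory MonObj AlgebraicGeometry

attribute [local instance] CategoryTheory.Hom.monoid CategoryTheory.Hom.group

namespace Groth.Agent.Deform.QuotArtin

open QuotBase GrpSchLib

noncomputable section

/-- A pulled back morphism is a base change. -/
theorem isPullback_map_left {S S' : Scheme.{u}} (f : S' ⟶ S) {X Y : Over S} (a : X ⟶ Y) :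
    IsPullback (pullback.fst X.hom f) ((Over.pullback f).map a).left a.left (pullback.fst Y.hom f) := by
  refine IsPullback.of_bot ?_ (pullback.lift_fst _ _ _).symm (IsPullback.of_hasPullback Y.hom f)
  have h1 : ((Over.pullback f).map a).left ≫ pullback.snd Y.hom f = pullback.snd X.hom f := pullback.lift_snd _ _ _
  rw [h1, Over.w a]
  exact IsPullback.of_hasPullback X.hom f

variable {A : Type u} [CommRing A] [IsArtinianRing A] [IsLocalRing A]

theorem isNilpotent_ker_fst {X : Scheme.{u}} (f : X ⟶ Spec (CommRingCat.of A)) :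
    IsNilpotent (pullback.fst f (clPt A)).ker := by
  haveI : IsNoetherianRing Γ(Spec (CommRingCat.of A), ⊤) :=
    isNoetherianRing_of_ringEquiv A (Scheme.ΓSpecIso (CommRingCat.of A)).symm.commRingCatIsoToRingEquiv
  obtain ⟨n, hn⟩ : IsNilpotent (RingHom.ker (clPt A).appTop.hom) := by
    obtain ⟨n, hn⟩ := IsNoetherianRing.isNilpotent_nilradical Γ(Spec (CommRingCat.of A), ⊤)
    exact ⟨n, le_bot_iff.1 ((Ideal.pow_right_mono (AlgSpLib.ker_appTop_le_nilradical (clPt A)) n).trans hn.le)⟩
  refine ⟨n + 1, ?_⟩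
  rw [Scheme.IdealSheafData.ker_fst_of_isClosedImmersion, ← FComplLib.comap_pow]
  have h0 : (clPt A).ker ^ (n + 1) = ⊥ := by
    refine Scheme.IdealSheafData.ext_of_isAffine ?_
    rw [Scheme.IdealSheafData.ideal_pow, Pi.pow_apply, Scheme.IdealSheafData.ideal_bot, Scheme.Hom.ker_apply]
    exact le_bot_iff.1 ((Ideal.pow_le_pow_right (Nat.le_succ n)).trans hn.le)
  rw [h0, Scheme.IdealSheafData.zero_eq_bot, eq_bot_iff, ← Scheme.IdealSheafData.le_map_iff_comap_le]
  exact bot_le

variable {F G : Over (Spec (CommRingCat.of A))} [GrpObj F] [GrpObj G] (u : F ⟶ G) [IsMonHom u] [Mono u]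
  [QuasiCompact u.left] [LocallyOfFiniteType F.hom] [LocallyOfFiniteType G.hom] [Flat F.hom]

theorem isClosedImmersion_hom : IsClosedImmersion u.left := by
  haveI : Mono u.left := (Over.forget _).map_mono u
  haveI : LocallyOfFiniteType (u.left ≫ G.hom) := by rw [Over.w u]; infer_instance
  haveI : LocallyOfFiniteType u.left := locallyOfFiniteType_of_comp u.left G.hom
  haveI : IsFinite u.left := HomFinite.isFinite u
  exact (IsClosedImmersion.iff_isFinite_and_mono _).mpr ⟨inferInstance, inferInstance⟩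

/-- The quotient of a group scheme over an artinian local ring by left translations of a flat subgroup scheme. -/
theorem exists_quot :
    ∃ (X : Over (Spec (CommRingCat.of A))) (p : G ⟶ X), Flat p.left ∧ Surjective p.left ∧
      LocallyOfFinitePresentation p.left ∧ IsPullback ((u ▷ G) ≫ μ[G]) (snd F G) p p ∧
      IsSeparated X.hom ∧ LocallyOfFinitePresentation X.hom ∧ (Flat G.hom → Flat X.hom) ∧
      (Smooth G.hom → Smooth X.hom) := by
  haveI : LocallyOfFinitePresentation F.hom := inferInstance
  haveI : LocallyOfFinitePresentation G.hom := inferInstance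
  let Fr := Over.pullback (clPt A)
  haveI : LocallyOfFiniteType (Fr.obj F).hom := inferInstanceAs (LocallyOfFiniteType (pullback.snd F.hom _))
  haveI : LocallyOfFiniteType (Fr.obj G).hom := inferInstanceAs (LocallyOfFiniteType (pullback.snd G.hom _))
  haveI : QuasiCompact (Fr.map u).left := MorphismProperty.overPullbackMap (P := @QuasiCompact) _ u ‹_›
  haveI : IsMonHom (Fr.map u) := inferInstance
  haveI : Mono (Fr.map u) := inferInstance
  obtain ⟨X₀, p₀, hf₀, hs₀, hl₀, sq₀, -, -⟩ := QuotField.exists_quot (Fr.map u)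
  -- the relation on the closed fibre
  haveI : IsIso (Functor.LaxMonoidal.μ Fr F G) := (Functor.Monoidal.μIso Fr F G).isIso_hom
  have sq₁ : IsPullback (Fr.map ((u ▷ G) ≫ μ[G])) (Fr.map (snd F G)) p₀ p₀ := by
    refine sq₀.of_iso (Functor.Monoidal.μIso Fr F G) (Iso.refl _) (Iso.refl _) (Iso.refl _) ?_ ?_ (by simp) (by simp)
    · have h1 := Functor.LaxMonoidal.μ_natural_left Fr u G
      have h2 : μ[Fr.obj G] = Functor.LaxMonoidal.μ Fr G G ≫ Fr.map μ[G] := rfl
      rw [Iso.refl_hom, Category.comp_id, Functor.Monoidal.μIso_hom, h2, reassoc_of% h1, Fr.map_comp]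
    · simp
  let Gr := AlgSpDec.ActGroupoid.gpd (leftAct u)
  haveI : Mono Gr.j := AlgSpDec.FinLocFreeQuot.mono_j Gr (isEqvRel u)
  haveI : Flat Gr.s := flat_snd
  haveI : LocallyOfFinitePresentation Gr.s := lfp_snd
  haveI : Flat Gr.t := flat_act u
  haveI : LocallyOfFinitePresentation Gr.t := lfp_act u
  let c₀ : (Fr.obj G).left ⟶ Gr.U := pullback.fst G.hom (clPt A)
  haveI : IsClosedImmersion c₀ := inferInstanceAs (IsClosedImmersion (pullback.fst G.hom (clPt A)))
  haveI : Surjective c₀ := inferInstanceAs (Surjective (pullback.fst G.hom (clPt A)))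
  have sqs : IsPullback (pullback.fst (F ⊗ G).hom (clPt A)) (Fr.map (snd F G)).left Gr.s c₀ :=
    isPullback_map_left (clPt A) (snd F G)
  have sqt : IsPullback (pullback.fst (F ⊗ G).hom (clPt A)) (Fr.map ((u ▷ G) ≫ μ[G])).left Gr.t c₀ :=
    isPullback_map_left (clPt A) ((u ▷ G) ≫ μ[G])
  let ψ : pullback Gr.s c₀ ≅ pullback Gr.t c₀ := sqs.isoPullback.symm ≪≫ sqt.isoPullback
  have hψ : ψ.hom ≫ pullback.fst Gr.t c₀ = pullback.fst Gr.s c₀ := by
    rw [Iso.trans_hom, Iso.symm_hom, Category.assoc, IsPullback.isoPullback_hom_fst,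
      IsPullback.isoPullback_inv_fst]
  have h₀ : IsPullback (ψ.hom ≫ pullback.snd Gr.t c₀) (pullback.snd Gr.s c₀) p₀.left p₀.left := by
    refine (sq₁.map (Over.forget _)).of_iso sqs.isoPullback (Iso.refl _) (Iso.refl _) (Iso.refl _) ?_ ?_ (by simp)
      (by simp)
    · simp [ψ]
    · simp
  haveI : Surjective p₀.left := hs₀
  haveI : Flat p₀.left := hf₀
  haveI : LocallyOfFinitePresentation p₀.left := hl₀
  obtain ⟨Y, q, hs, hf, hl, hpb⟩ :=
    GrpdThick.exists_quotient_of_thickening Gr c₀ ψ hψ (isNilpotent_ker_fst G.hom) h₀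
  haveI : Surjective q := hs
  haveI : Flat q := hf
  haveI : LocallyOfFinitePresentation q := hl
  have hw : ∀ {T : Scheme.{u}} (a b : T ⟶ G.left), a ≫ q = b ≫ q → a ≫ G.hom = b ≫ G.hom := fun a b h => by
    obtain ⟨r, hr1, hr2⟩ := hpb.exists_lift a b h
    rw [← hr1, ← hr2, Category.assoc, Category.assoc]
    exact congrArg (r ≫ ·) ((Over.w (leftAct u).act).trans (Over.w (snd F G)).symm)
  let σ : Y ⟶ Spec (CommRingCat.of A) := EffectiveEpi.desc q G.hom hw
  have hσ : q ≫ σ = G.hom := EffectiveEpi.fac q G.hom hw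
  let X : Over (Spec (CommRingCat.of A)) := Over.mk σ
  let p : G ⟶ X := Over.homMk q hσ
  haveI : Surjective p.left := hs
  haveI : Flat p.left := hf
  haveI : LocallyOfFinitePresentation p.left := hl
  have hpX : IsPullback ((u ▷ G) ≫ μ[G]) (snd F G) p p :=
    IsPullback.of_map (Over.forget _) (f := (u ▷ G) ≫ μ[G]) (g := snd F G) (h := p) (i := p)
      (Over.OverMorphism.ext hpb.w) hpb
  haveI : LocallyOfFinitePresentation (q ≫ σ) := by rw [hσ]; infer_instance
  haveI := isClosedImmersion_hom u
  refine ⟨X, p, hf, hs, hl, hpX, QuotGroup.isSeparated_of_isPullback u p hpX,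
    SrcDescent.locallyOfFinitePresentation_of_fppf_comp q σ,
    fun h => GrpdLib.flat_of_flat_comp q σ (by rwa [hσ]), fun h => ?_⟩
  haveI : Smooth (q ≫ σ) := by rwa [hσ]
  exact SrcDescent.smooth_of_fppf_comp q σ

end

end Groth.Agent.Deform.QuotArtin
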