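import Groth.Agent.Deform.QuotField

/-!
# The group structure on the quotient by a normal subgroup
-/

set_option backward.isDefEq.respectTransparency false
set_option backward.isDefEq.respectTransparency.types false
set_option linter.style.haveILetI false
set_option linter.unusedSectionVars false

universe u

open CategoryTheory CategoryTheory.Limits MonoidalCategory CartesianMonoidalCategory MonObj AlgebraicGeometry

attribute [local instance] CategoryTheory.Hom.monoid CategoryTheory.Hom.group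

namespace Groth.Agent.Deform.QuotGroup

open QuotBase QuotDescent

noncomputable section

variable {S : Scheme.{u}} {F G Q : Over S} [GrpObj F] [GrpObj G] (u : F ⟶ G) [IsMonHom u] (p : G ⟶ Q)
  [Flat p.left] [Surjective p.left] [LocallyOfFinitePresentation p.left]

theorem fppf_whiskerLeft {A B : Over S} (π : A ⟶ B) (C : Over S) [Flat π.left] [Surjective π.left]
    [LocallyOfFinitePresentation π.left] :
    Flat (C ◁ π).left ∧ Surjective (C ◁ π).left ∧ LocallyOfFinitePresentation (C ◁ π).left := by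
  obtain ⟨_, _, _⟩ := fppf_whiskerRight π C
  have e : C ◁ π = (β_ C A).hom ≫ (π ▷ C) ≫ (β_ B C).hom := by
    apply CartesianMonoidalCategory.hom_ext <;> simp
  haveI : IsIso (β_ C A).hom.left := ((Over.forget _).mapIso (β_ C A)).isIso_hom
  haveI : IsIso (β_ B C).hom.left := ((Over.forget _).mapIso (β_ B C)).isIso_hom
  rw [e, Over.comp_left, Over.comp_left]
  exact ⟨inferInstance, inferInstance, inferInstance⟩

theorem fppf_tensor {A B C D : Over S} (π : A ⟶ B) (ρ : C ⟶ D) [Flat π.left] [Surjective π.left]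
    [LocallyOfFinitePresentation π.left] [Flat ρ.left] [Surjective ρ.left] [LocallyOfFinitePresentation ρ.left] :
    Flat (π ⊗ₘ ρ).left ∧ Surjective (π ⊗ₘ ρ).left ∧ LocallyOfFinitePresentation (π ⊗ₘ ρ).left := by
  obtain ⟨_, _, _⟩ := fppf_whiskerRight π C
  obtain ⟨_, _, _⟩ := fppf_whiskerLeft ρ B
  rw [MonoidalCategory.tensorHom_def, Over.comp_left]
  exact ⟨inferInstance, inferInstance, inferInstance⟩

variable (sq : IsPullback ((u ▷ G) ≫ μ[G]) (snd F G) p p)
include sq

theorem comp_eq_iff {T : Over S} (a b : T ⟶ G) : a ≫ p = b ≫ p ↔ Rel u a b := by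
  rw [rel_iff]
  refine ⟨fun h => sq.exists_lift a b h, ?_⟩
  rintro ⟨r, rfl, rfl⟩
  rw [Category.assoc, Category.assoc]
  exact congrArg (r ≫ ·) sq.w

/-- The quotient by a normal subgroup is a group and the subgroup is the kernel. -/
theorem exists_grpObj (hN : AlgGrp.IsNormalHom u) [Mono u] :
    ∃ _ : GrpObj Q, IsMonHom p ∧ AlgGrp.IsKernel u p := by
  have hiff : ∀ {T : Over S} (a b : T ⟶ G), a ≫ p = b ≫ p ↔ Rel u a b := fun a b => comp_eq_iff u p sq a b
  obtain ⟨_, _, _⟩ := fppf_tensor p p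
  obtain ⟨m, hm⟩ := exists_descOver (p ⊗ₘ p) (μ[G] ≫ p) fun T x y h => by
    have h1 := congrArg (· ≫ fst Q Q) h
    have h2 := congrArg (· ≫ snd Q Q) h
    simp only [Category.assoc, tensorHom_fst, tensorHom_snd] at h1 h2
    rw [← Category.assoc, ← Category.assoc, hiff] at h1 h2
    obtain ⟨f, hf⟩ := h1
    obtain ⟨f', hf'⟩ := h2
    have hμ : ∀ z : T ⟶ G ⊗ G, z ≫ μ[G] = (z ≫ fst G G) * (z ≫ snd G G) := fun z => by
      rw [Hom.mul_def, ← comp_lift, lift_fst_snd, Category.comp_id]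
    rw [← Category.assoc, ← Category.assoc, hiff, hμ, hμ, hf, hf']
    obtain ⟨n', hn'⟩ := hN T (y ≫ fst G G) f'
    exact ⟨f * n', by rw [MonObj.mul_comp, ← hn']; simp [_root_.mul_assoc]⟩
  obtain ⟨ν, hν⟩ := exists_descOver p ((𝟙 G)⁻¹ ≫ p) fun T x y h => by
    rw [hiff] at h
    obtain ⟨f, hf⟩ := h
    rw [← Category.assoc, ← Category.assoc, hiff, GrpObj.comp_inv, GrpObj.comp_inv, Category.comp_id,
      Category.comp_id, hf]
    obtain ⟨n', hn'⟩ := hN T y⁻¹ f⁻¹
    exact ⟨n', by rw [← hn', GrpObj.inv_comp]; simp [_root_.mul_assoc]⟩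
  have hmul : ∀ {T : Over S} (a b : T ⟶ G), lift (a ≫ p) (b ≫ p) ≫ m = (a * b) ≫ p := fun a b => by
    have : lift (a ≫ p) (b ≫ p) = lift a b ≫ (p ⊗ₘ p) := by simp
    rw [this, Category.assoc, hm, ← Category.assoc, Hom.mul_def]
  haveI := epi_of_fppf p
  letI : MonObj Q :=
    { one := η[G] ≫ p
      mul := m
      one_mul := by
        obtain ⟨_, _, _⟩ := fppf_whiskerLeft p (𝟙_ (Over S))
        haveI := epi_of_fppf (𝟙_ (Over S) ◁ p)
        rw [← cancel_epi (𝟙_ (Over S) ◁ p)]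
        have : 𝟙_ (Over S) ◁ p ≫ (η[G] ≫ p) ▷ Q = η[G] ▷ G ≫ (p ⊗ₘ p) := by
          apply CartesianMonoidalCategory.hom_ext
          · simp [toUnit_unique (toUnit (𝟙_ (Over S) ⊗ G)) (fst _ _)]
          · simp [leftUnitor_hom]
        rw [reassoc_of% this, hm, MonObj.one_mul_assoc]
        simp
      mul_one := by
        obtain ⟨_, _, _⟩ := fppf_whiskerRight p (𝟙_ (Over S))
        haveI := epi_of_fppf (p ▷ 𝟙_ (Over S))
        rw [← cancel_epi (p ▷ 𝟙_ (Over S))]
        have : p ▷ 𝟙_ (Over S) ≫ Q ◁ (η[G] ≫ p) = G ◁ η[G] ≫ (p ⊗ₘ p) := by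
          apply CartesianMonoidalCategory.hom_ext
          · simp [rightUnitor_hom]
          · simp [toUnit_unique (toUnit (G ⊗ 𝟙_ (Over S))) (snd _ _)]
        rw [reassoc_of% this, hm, MonObj.mul_one_assoc]
        simp
      mul_assoc := by
        obtain ⟨_, _, _⟩ := fppf_tensor (p ⊗ₘ p) p
        haveI := epi_of_fppf ((p ⊗ₘ p) ⊗ₘ p)
        rw [← cancel_epi ((p ⊗ₘ p) ⊗ₘ p)]
        have h1 : ((p ⊗ₘ p) ⊗ₘ p) ≫ m ▷ Q = μ[G] ▷ G ≫ (p ⊗ₘ p) := by
          apply CartesianMonoidalCategory.hom_ext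
          · rw [Category.assoc, whiskerRight_fst, tensorHom_fst_assoc, hm, Category.assoc, tensorHom_fst,
              whiskerRight_fst_assoc]
          · rw [Category.assoc, whiskerRight_snd, tensorHom_snd, Category.assoc, tensorHom_snd,
              whiskerRight_snd_assoc]
        have h2 : ((p ⊗ₘ p) ⊗ₘ p) ≫ (α_ Q Q Q).hom ≫ Q ◁ m = (α_ G G G).hom ≫ G ◁ μ[G] ≫ (p ⊗ₘ p) := by
          rw [← Category.assoc, associator_naturality, Category.assoc]
          congr 1
          apply CartesianMonoidalCategory.hom_ext <;> simp [hm]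
        rw [reassoc_of% h1, reassoc_of% h2, hm, MonObj.mul_assoc_assoc] }
  letI : GrpObj Q :=
    { inv := ν
      left_inv := by
        rw [← cancel_epi p, ← Category.assoc, comp_lift, hν, Category.comp_id]
        show lift ((𝟙 G)⁻¹ ≫ p) p ≫ m = _
        rw [show lift ((𝟙 G)⁻¹ ≫ p) p = lift ((𝟙 G)⁻¹ ≫ p) (𝟙 G ≫ p) by rw [Category.id_comp], hmul, inv_mul_cancel,
          Hom.one_def, Category.assoc, ← Category.assoc p, comp_toUnit]
        rfl
      right_inv := by
        rw [← cancel_epi p, ← Category.assoc, comp_lift, hν, Category.comp_id]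
        show lift p ((𝟙 G)⁻¹ ≫ p) ≫ m = _
        rw [show lift p ((𝟙 G)⁻¹ ≫ p) = lift (𝟙 G ≫ p) ((𝟙 G)⁻¹ ≫ p) by rw [Category.id_comp], hmul, mul_inv_cancel,
          Hom.one_def, Category.assoc, ← Category.assoc p, comp_toUnit]
        rfl }
  haveI hp : IsMonHom p := { one_hom := rfl, mul_hom := hm.symm }
  refine ⟨inferInstance, hp, ?_⟩
  have hone : ∀ T : Over S, toUnit T ≫ η[Q] = (1 : T ⟶ G) ≫ p := fun T => by
    rw [Hom.one_def, Category.assoc]
    rfl
  have w : u ≫ p = toUnit F ≫ η[Q] := by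
    rw [hone, hiff]
    exact ⟨𝟙 F, by rw [Category.id_comp, _root_.mul_one]⟩
  have hl : ∀ c : PullbackCone p η[Q], ∃ l : c.pt ⟶ F, l ≫ u = c.fst := fun c => by
    have h := c.condition
    rw [toUnit_unique c.snd (toUnit _), hone, hiff] at h
    obtain ⟨f, hf⟩ := h
    exact ⟨f, by rw [hf, _root_.mul_one]⟩
  choose l hl using hl
  exact ⟨⟨w⟩, ⟨PullbackCone.IsLimit.mk _ l hl (fun c => toUnit_unique _ _)
    fun c n h₁ _ => by rw [← cancel_mono u, h₁, hl]⟩⟩

end

end Groth.Agent.Deform.QuotGroup
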