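import Groth.Agent.Deform.QuotDescent
import Groth.Agent.Deform.QuotGroup
import Groth.Agent.GrpSchLib.KernelGrp
import Groth.Agent.GrpSchLib.HomFinite
import Groth.Agent.EtFound.Descent
import Groth.Agent.Deform.QuotArtin
import Groth.Agent.AlgSpLib.Descends2

/-! Homomorphisms of algebraic groups with affine kernel are affine. -/

universe u

open CategoryTheory CategoryTheory.Limits MonoidalCategory CartesianMonoidalCategory MonObj AlgebraicGeometry

attribute [local instance] CategoryTheory.Hom.monoid CategoryTheory.Hom.group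
set_option linter.style.haveILetI false

namespace Groth.Agent.Deform.AffineKernel

variable {k : Type u} [Field k]

theorem flat_over_field {W : Scheme.{u}} (g : W ⟶ Spec (CommRingCat.of k)) : Flat g := by
  have : Subsingleton ↥(Spec (CommRingCat.of k)) := inferInstanceAs (Subsingleton (PrimeSpectrum k))
  infer_instance

variable {G H : Over (Spec (CommRingCat.of k))} [GrpObj G] [GrpObj H] [LocallyOfFiniteType G.hom]
  [LocallyOfFiniteType H.hom]

/-- A homomorphism with affine kernel is an affine morphism. -/
theorem isAffineHom_of_ker (f : G ⟶ H) [IsMonHom f] [QuasiCompact f.left] {N : Over (Spec (CommRingCat.of k))}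
    [GrpObj N] (i : N ⟶ G) [IsMonHom i] [IsClosedImmersion i.left] [IsAffine N.left]
    (hN : AlgGrp.IsNormalHom i) (hk : AlgGrp.IsKernel i f) : IsAffineHom f.left := by
  haveI : LocallyOfFiniteType N.hom := by rw [← Over.w i]; infer_instance
  haveI : Flat N.hom := flat_over_field _
  haveI : Flat G.hom := flat_over_field _
  haveI : Mono i := (Over.forget _).mono_of_mono_map (inferInstanceAs (Mono i.left))
  obtain ⟨Q, p, hpf, hps, hpl, sq, hsep, hQl, -, -⟩ := Deform.QuotArtin.exists_quot i
  haveI := hpf; haveI := hps; haveI := hpl; haveI := hsep; haveI := hQl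
  obtain ⟨gQ, hp, hpk⟩ := Deform.QuotGroup.exists_grpObj i p sq hN
  haveI := hp
  haveI := QuotDescent.epi_of_fppf p
  have hker : ∀ {T : Over (Spec (CommRingCat.of k))} (x : T ⟶ G), x ≫ p = 1 ↔ x ≫ f = 1 := by
    intro T x
    have h1 : i ≫ f = 1 := hk.w
    have h2 : i ≫ p = 1 := hpk.w
    constructor <;> intro hx
    · rw [← hpk.lift_fst x (toUnit T) hx, Category.assoc, h1, MonObj.comp_one]
    · rw [← hk.lift_fst x (toUnit T) hx, Category.assoc, h2, MonObj.comp_one]
  have hpair : ∀ {T : Over (Spec (CommRingCat.of k))} (x y : T ⟶ G), x ≫ p = y ≫ p ↔ x ≫ f = y ≫ f := by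
    intro T x y
    rw [← mul_inv_eq_one, ← GrpObj.inv_comp, ← MonObj.mul_comp, hker, MonObj.mul_comp, GrpObj.inv_comp,
      mul_inv_eq_one]
  obtain ⟨j, hj⟩ := QuotDescent.exists_descOver p f fun T x y h => (hpair x y).1 h
  have hjm : IsMonHom j := by
    constructor
    · rw [← IsMonHom.one_hom p, Category.assoc, hj, IsMonHom.one_hom]
    · obtain ⟨h1, h2, h3⟩ := Deform.QuotGroup.fppf_tensor p p
      haveI := h1; haveI := h2; haveI := h3
      haveI := QuotDescent.epi_of_fppf (p ⊗ₘ p)
      rw [← cancel_epi (p ⊗ₘ p), ← IsMonHom.mul_hom_assoc p, hj, IsMonHom.mul_hom, ← Category.assoc,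
        MonoidalCategory.tensorHom_comp_tensorHom, hj]
  haveI := hjm
  haveI : Mono j := by
    refine ⟨fun {T} a b hab => ?_⟩
    obtain ⟨h1, h2, h3⟩ := Deform.QuotGroup.fppf_tensor p p
    haveI := h1; haveI := h2; haveI := h3
    let W : Over (Spec (CommRingCat.of k)) := Over.mk (pullback.fst (lift a b).left (p ⊗ₘ p).left ≫ T.hom)
    let π : W ⟶ T := Over.homMk (pullback.fst (lift a b).left (p ⊗ₘ p).left) rfl
    let xy : W ⟶ G ⊗ G := Over.homMk (pullback.snd (lift a b).left (p ⊗ₘ p).left) (by
      show _ ≫ (G ⊗ G).hom = pullback.fst (lift a b).left (p ⊗ₘ p).left ≫ T.hom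
      rw [← Over.w (p ⊗ₘ p), ← pullback.condition_assoc, Over.w])
    have hxy : π ≫ lift a b = xy ≫ (p ⊗ₘ p) := Over.OverMorphism.ext pullback.condition
    haveI : Flat π.left := inferInstanceAs (Flat (pullback.fst (lift a b).left (p ⊗ₘ p).left))
    haveI : Surjective π.left := inferInstanceAs (Surjective (pullback.fst (lift a b).left (p ⊗ₘ p).left))
    haveI : LocallyOfFinitePresentation π.left :=
      inferInstanceAs (LocallyOfFinitePresentation (pullback.fst (lift a b).left (p ⊗ₘ p).left))
    haveI := QuotDescent.epi_of_fppf π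
    have ea : π ≫ a = (xy ≫ fst G G) ≫ p := by simpa using congrArg (· ≫ fst Q Q) hxy
    have eb : π ≫ b = (xy ≫ snd G G) ≫ p := by simpa using congrArg (· ≫ snd Q Q) hxy
    rw [← cancel_epi π, ea, eb, hpair, ← hj, ← Category.assoc, ← ea, ← Category.assoc (xy ≫ snd G G), ← eb,
      Category.assoc, Category.assoc, hab]
  haveI : Mono j.left := inferInstanceAs (Mono ((Over.forget _).map j))
  haveI : QuasiCompact j.left := by
    haveI : QuasiCompact (p.left ≫ j.left) := by rw [← Over.comp_left, hj]; infer_instance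
    exact AlgSpLib.quasiCompact_of_comp_surjective p.left j.left
  haveI : LocallyOfFiniteType j.left := by
    haveI : LocallyOfFiniteType (j.left ≫ H.hom) := by rw [Over.w]; infer_instance
    exact locallyOfFiniteType_of_comp j.left H.hom
  haveI : IsClosedImmersion j.left :=
    (IsClosedImmersion.iff_isFinite_and_mono _).2 ⟨GrpSchLib.HomFinite.isFinite j, inferInstance⟩
  haveI : QuasiCompact p.left := by
    haveI : QuasiCompact (p.left ≫ j.left) := by rw [← Over.comp_left, hj]; infer_instance
    exact QuasiCompact.of_comp p.left j.left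
  haveI : IsAffineHom p.left := by
    haveI : IsAffineHom N.hom := isAffineHom_of_isAffine _
    have hsnd : IsAffineHom (snd N G).left := MorphismProperty.pullback_snd (P := @IsAffineHom) N.hom G.hom ‹_›
    have hsq : IsPullback ((i ▷ G) ≫ μ[G]).left (snd N G).left p.left p.left := sq.map (Over.forget _)
    have h1 : IsAffineHom (pullback.snd p.left p.left) := by
      rw [← hsq.isoPullback_inv_snd]
      exact MorphismProperty.comp_mem @IsAffineHom _ _ inferInstance hsnd
    haveI := EtFound.fpqc_isAffineHom.{u}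
    exact MorphismProperty.of_pullback_snd_of_descendsAlong (P := @IsAffineHom)
      (Q := @Surjective ⊓ @Flat ⊓ @QuasiCompact) ⟨⟨inferInstance, inferInstance⟩, inferInstance⟩ h1
  rw [← hj, Over.comp_left]
  infer_instance

end Groth.Agent.Deform.AffineKernel
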