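import Groth.Agent.Deform.QuotDescent
import Groth.Agent.GrpSchLib.HomFinite
import Groth.Agent.GrpSchLib.AntiAffineHom
import Groth.Agent.GrpSchLib.Homogeneous
import Groth.Agent.EtFound.FinitePoints
import Mathlib.AlgebraicGeometry.AlgClosed.Basic
import Mathlib.AlgebraicGeometry.Morphisms.FlatDescent

/-!
# Quotients of group schemes over a field by subgroup schemes

For every closed point some right translate by a closed point of the group moves all the geometric
points above it into a dense affine piece of the quotient, so the quotient exists around it.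
-/

set_option backward.isDefEq.respectTransparency false
set_option backward.isDefEq.respectTransparency.types false
set_option linter.style.haveILetI false
set_option linter.unusedSectionVars false

universe u

open CategoryTheory CategoryTheory.Limits MonoidalCategory CartesianMonoidalCategory MonObj AlgebraicGeometry
open TopologicalSpace Groth.Agent.GrpdLib

attribute [local instance] CategoryTheory.Hom.monoid CategoryTheory.Hom.group

namespace Groth.Agent.Deform.QuotField

open QuotBase

noncomputable section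

variable {k : Type u} [Field k]

local notation "K" => AlgebraicClosure k
local notation "PK" => Over.mk (Spec.map (CommRingCat.ofHom (algebraMap k K)))

theorem isFinite_closedPoint {X : Scheme.{u}} (f : X ⟶ Spec (CommRingCat.of k)) [LocallyOfFiniteType f] {x : X}
    (hx : IsClosed ({x} : Set X)) : IsFinite (X.fromSpecResidueField x ≫ f) := by
  rw [isClosed_singleton_iff_isClosedImmersion] at hx
  rw [isFinite_iff_locallyOfFiniteType_of_jacobsonSpace]
  infer_instance

/-- The closed point of `x`, over the base. -/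
abbrev pt (X : Over (Spec (CommRingCat.of k))) (x : X.left) : Over (Spec (CommRingCat.of k)) :=
  Over.mk (X.left.fromSpecResidueField x ≫ X.hom)

/-- A geometric point above a point factors through its residue field. -/
theorem exists_factor_pt {X : Over (Spec (CommRingCat.of k))} (a : PK ⟶ X) (x : X.left)
    (hx : a.left (IsLocalRing.closedPoint K) = x) :
    ∃ em : PK ⟶ pt X x, em ≫ (Over.homMk (X.left.fromSpecResidueField x) rfl : pt X x ⟶ X) = a := by
  subst hx
  let φ := ((Scheme.SpecToEquivOfField K X.left) a.left).2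
  have hφ : Spec.map φ ≫ X.left.fromSpecResidueField (a.left (IsLocalRing.closedPoint K)) = a.left :=
    (Scheme.SpecToEquivOfField K X.left).symm_apply_apply a.left
  let f : Spec (CommRingCat.of K) ⟶ (pt X (a.left (IsLocalRing.closedPoint K))).left := Spec.map φ
  have hw : f ≫ (pt X (a.left (IsLocalRing.closedPoint K))).hom = (PK : Over (Spec (CommRingCat.of k))).hom :=
    (Category.assoc _ _ _).symm.trans ((congrArg (· ≫ X.hom) hφ).trans (Over.w a))
  exact ⟨Over.homMk f hw, Over.OverMorphism.ext hφ⟩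

variable {F G : Over (Spec (CommRingCat.of k))} [GrpObj F] [GrpObj G] (u : F ⟶ G) [IsMonHom u]
  [Mono u] [QuasiCompact u.left] [LocallyOfFiniteType F.hom] [LocallyOfFiniteType G.hom]

omit [Mono u] [QuasiCompact u.left] [LocallyOfFiniteType F.hom] [LocallyOfFiniteType G.hom] in
/-- An open preserved on points of the relation is invariant. -/
theorem act_mem {P : Over (Spec (CommRingCat.of k))} (i : P ⟶ G) [IsOpenImmersion i.left]
    (hinv : ∀ (T : Over (Spec (CommRingCat.of k))) (r : T ⟶ F ⊗ G) (a : T ⟶ P), r ≫ (leftAct u).act = a ≫ i →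
      ∃ b : T ⟶ P, r ≫ snd F G = b ≫ i) (r : (F ⊗ G).left) (h : (snd F G).left r ∈ Set.range i.left) :
    (leftAct u).act.left r ∈ Set.range i.left := by
  let inv := AlgSpDec.ActGroupoid.invMor (leftAct u)
  let U : (F ⊗ G).left.Opens := (snd F G).left ⁻¹ᵁ i.left.opensRange
  let T := QuotDescent.sub (F ⊗ G) U
  let j : T ⟶ F ⊗ G := QuotDescent.subι (F ⊗ G) U
  let a : T ⟶ P := Over.homMk (IsOpenImmersion.lift i.left (j ≫ snd F G).left (by
    rintro _ ⟨z, rfl⟩
    exact z.2)) (by rw [← Over.w i, IsOpenImmersion.lift_fac_assoc, Over.w (j ≫ snd F G)])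
  have ha : (j ≫ inv) ≫ (leftAct u).act = a ≫ i := by
    rw [Category.assoc, AlgSpDec.ActGroupoid.invMor_act]
    exact (Over.OverMorphism.ext (IsOpenImmersion.lift_fac _ _ _)).symm
  obtain ⟨b, hb⟩ := hinv T (j ≫ inv) a ha
  rw [Category.assoc, AlgSpDec.ActGroupoid.invMor_snd] at hb
  exact ⟨b.left ⟨r, h⟩, (congrArg (fun f : T ⟶ G => f.left ⟨r, h⟩) hb).symm⟩

/-- Every closed point has an invariant neighbourhood with a quotient. -/
theorem exists_quotData_closed {x : G.left} (hx : IsClosed ({x} : Set G.left)) :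
    ∃ O : G.left.Opens, x ∈ O ∧
      Nonempty (GrpdThick.QuotData (AlgSpDec.ActGroupoid.gpd (leftAct u)) O) := by
  classical
  haveI : IsIntegralHom (PK : Over (Spec (CommRingCat.of k))).hom := IsIntegralHom.SpecMap_iff.2
    (algebraMap_isIntegral_iff.2 (Algebra.IsAlgebraic.isIntegral))
  -- the geometric points above `x`
  haveI : IsFinite (pt G x).hom := isFinite_closedPoint G.hom hx
  haveI := EtFound.finite_points (f := (pt G x).hom) (PK : Over (Spec (CommRingCat.of k))).hom
  let I := {ξ : Spec (CommRingCat.of K) ⟶ (pt G x).left // ξ ≫ (pt G x).hom = (PK : Over (Spec (CommRingCat.of k))).hom}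
  let a : I → (PK ⟶ G) := fun ξ => Over.homMk (ξ.1 ≫ G.left.fromSpecResidueField x) (by
    rw [Category.assoc]; exact ξ.2)
  have ha : ∀ b : PK ⟶ G, b.left (IsLocalRing.closedPoint K) = x → ∃ ξ : I, a ξ = b := fun b hb => by
    obtain ⟨em, hι⟩ := exists_factor_pt b x hb
    exact ⟨⟨em.left, Over.w em⟩, Over.OverMorphism.ext (congrArg CommaMorphism.left hι :)⟩
  -- right translates of an affine neighbourhood of the unit
  haveI : IsAffineHom (fst G PK).left := MorphismProperty.pullback_fst (P := @IsAffineHom) _ _ inferInstance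
  haveI : IsIntegralHom (fst G PK).left := MorphismProperty.pullback_fst (P := @IsIntegralHom) _ _ ‹_›
  obtain ⟨N₀, hN₀, he⟩ := exists_affineOpen_mem ((η[G]).left (IsLocalRing.closedPoint k))
  let B : (G ⊗ PK).left.Opens := (fst G PK).left ⁻¹ᵁ N₀
  have hBc : IsCompact (B : Set (G ⊗ PK).left) := (hN₀.preimage (fst G PK).left).isCompact
  let Ψ : I → (G ⊗ PK ⟶ G) := fun ξ => (snd G PK ≫ a ξ) * fst G PK
  have hΨ : ∀ ξ, IsOpenMap (Ψ ξ).left := fun ξ => by
    let sh : G ⊗ PK ≅ G ⊗ PK :=
      { hom := lift (Ψ ξ) (snd G PK)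
        inv := lift ((snd G PK ≫ a ξ)⁻¹ * fst G PK) (snd G PK)
        hom_inv_id := by
          apply CartesianMonoidalCategory.hom_ext
          · simp [Ψ, MonObj.comp_mul, GrpObj.comp_inv]
          · simp
        inv_hom_id := by
          apply CartesianMonoidalCategory.hom_ext
          · simp [Ψ, MonObj.comp_mul, GrpObj.comp_inv]
          · simp }
    have h : Ψ ξ = sh.hom ≫ fst G PK := by simp [sh]
    haveI : UniversallyOpen (fst G PK).left := by
      haveI : UniversallyOpen (PK : Over (Spec (CommRingCat.of k))).hom := inferInstance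
      exact MorphismProperty.pullback_fst (P := @UniversallyOpen) _ _ ‹_›
    haveI : IsIso sh.hom.left := ((Over.forget _).mapIso sh).isIso_hom
    rw [h, Over.comp_left, Scheme.Hom.comp_base]
    exact (fst G PK).left.isOpenMap.comp sh.hom.left.isOpenEmbedding.isOpenMap
  let Ω : G.left.Opens := ⟨⋃ ξ, (Ψ ξ).left '' B, isOpen_iUnion fun ξ => hΨ ξ _ B.2⟩
  obtain ⟨P, V, i, q, hi, hV, hq1, hq2, hq3, hinv, hch, hdense⟩ :=
    exists_affine_piece u Ω (isCompact_iUnion fun ξ => hBc.image (Ψ ξ).left.continuous)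
  haveI := hi
  haveI := hV
  haveI := hq1
  haveI := hq2
  haveI := hq3
  -- a geometric point translating all of them into the piece
  let R : Set G.left := Set.range i.left
  have hR : IsOpen R := i.left.isOpenEmbedding.isOpen_range
  obtain ⟨C, hCo, hCB, hCne, hC⟩ : ∃ C : Set (G ⊗ PK).left, IsOpen C ∧ C ⊆ B ∧ C.Nonempty ∧
      ∀ ξ : I, C ⊆ (Ψ ξ).left ⁻¹' R := by
    suffices h : ∀ s : Finset I, ∃ C : Set (G ⊗ PK).left, IsOpen C ∧ C ⊆ B ∧ C.Nonempty ∧
        ∀ ξ ∈ s, C ⊆ (Ψ ξ).left ⁻¹' R by
      haveI : Fintype I := Fintype.ofFinite I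
      obtain ⟨C, h1, h2, h3, h4⟩ := h Finset.univ
      exact ⟨C, h1, h2, h3, fun ξ => h4 ξ (Finset.mem_univ ξ)⟩
    intro s
    induction s using Finset.induction_on with
    | empty =>
      haveI : Surjective (fst G PK).left := MorphismProperty.pullback_fst (P := @Surjective) _ _
        ⟨fun _ => ⟨IsLocalRing.closedPoint K, Subsingleton.elim (α := PrimeSpectrum k) _ _⟩⟩
      obtain ⟨z, hz⟩ := (fst G PK).left.surjective ((η[G]).left (IsLocalRing.closedPoint k))
      exact ⟨B, B.2, subset_rfl, ⟨z, show (fst G PK).left z ∈ N₀ by rw [hz]; exact he⟩, fun ξ h => by simp at h⟩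
    | insert ξ s _ ih =>
      obtain ⟨C, h1, h2, h3, h4⟩ := ih
      obtain ⟨_, ⟨z, hz, rfl⟩, hzR⟩ := hdense ((Ψ ξ).left '' C) (hΨ ξ _ h1)
        (fun y hy => Set.mem_iUnion.2 ⟨ξ, Set.image_mono h2 hy⟩) (h3.image _)
      refine ⟨C ∩ (Ψ ξ).left ⁻¹' R, h1.inter (hR.preimage (Ψ ξ).left.continuous),
        Set.inter_subset_left.trans h2, ⟨z, hz, hzR⟩, fun ζ hζ => ?_⟩
      rcases Finset.mem_insert.1 hζ with rfl | hζ
      · exact Set.inter_subset_right
      · exact Set.inter_subset_left.trans (h4 ζ hζ)
  haveI : LocallyOfFiniteType (snd G PK).left :=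
    MorphismProperty.pullback_snd (P := @LocallyOfFiniteType) _ _ ‹_›
  haveI : JacobsonSpace (G ⊗ PK).left :=
    @LocallyOfFiniteType.jacobsonSpace _ (Spec (CommRingCat.of K)) (snd G PK).left ‹_› inferInstance
  obtain ⟨c, hcC, hc⟩ := nonempty_inter_closedPoints hCne hCo.isLocallyClosed
  obtain ⟨z, hz⟩ := GrpSchLib.exists_point_of_closed_bc G hc
  have htr : ∀ ξ : I, (a ξ * z).left (IsLocalRing.closedPoint K) ∈ R := fun ξ => by
    have e : a ξ * z = lift z (𝟙 PK) ≫ Ψ ξ := by
      simp [Ψ, MonObj.comp_mul]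
    rw [e, Over.comp_left, Scheme.Hom.comp_apply, hz]
    exact hC ξ hcC
  -- the closed point of the translation
  let gam : G.left := z.left (IsLocalRing.closedPoint K)
  have hγ : IsClosed ({gam} : Set G.left) := by
    have h1 : (fst G PK).left c = gam := by
      rw [← hz, ← Scheme.Hom.comp_apply, ← Over.comp_left, lift_fst]
    have h2 := (fst G PK).left.isClosedMap _ hc
    rwa [Set.image_singleton, h1] at h2
  haveI : IsFinite (pt G gam).hom := isFinite_closedPoint G.hom hγ
  let g : pt G gam ⟶ G := Over.homMk (G.left.fromSpecResidueField gam) rfl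
  obtain ⟨em, hι⟩ := exists_factor_pt z gam rfl
  haveI : Surjective em.left := ⟨fun y => ⟨IsLocalRing.closedPoint K,
    Subsingleton.elim (α := PrimeSpectrum (G.left.residueField gam)) _ _⟩⟩
  haveI : Nonempty (pt G gam).left := ⟨em.left (IsLocalRing.closedPoint K)⟩
  let Φ : G ⊗ pt G gam ⟶ G := fst G _ * (snd G _ ≫ g)
  haveI : IsFinite (fst G (pt G gam)).left := MorphismProperty.pullback_fst (P := @IsFinite) _ _ ‹_›
  haveI : IsSeparated (pt G gam).hom := inferInstance
  -- every point over `x` is moved into the piece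
  have hpts : ∀ y, (fst G (pt G gam)).left y = x → Φ.left y ∈ R := fun y hy => by
    haveI : LocallyOfFiniteType (snd G (pt G gam)).left :=
      MorphismProperty.pullback_snd (P := @LocallyOfFiniteType) _ _ ‹_›
    let W := pullback (snd G (pt G gam)).left em.left
    haveI : LocallyOfFiniteType (pullback.snd (snd G (pt G gam)).left em.left) :=
      MorphismProperty.pullback_snd (P := @LocallyOfFiniteType) _ _ ‹_›
    haveI : JacobsonSpace W := @LocallyOfFiniteType.jacobsonSpace _ (Spec (CommRingCat.of K))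
      (pullback.snd (snd G (pt G gam)).left em.left) ‹_› inferInstance
    have hyc : IsClosed ({y} : Set (G ⊗ pt G gam).left) := by
      have hf := (fst G (pt G gam)).left.finite_preimage_singleton x
      haveI : JacobsonSpace (G ⊗ pt G gam).left := by
        haveI : JacobsonSpace G.left := LocallyOfFiniteType.jacobsonSpace G.hom
        exact LocallyOfFiniteType.jacobsonSpace (fst G (pt G gam)).left
      have hsub : closure {y} ⊆ (fst G (pt G gam)).left ⁻¹' {x} :=
        closure_minimal (Set.singleton_subset_iff.2 hy) (hx.preimage (fst G (pt G gam)).left.continuous)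
      have hfin := (hf.subset hsub).inter_of_left (closedPoints (G ⊗ pt G gam).left)
      have hcl : IsClosed (closure {y} ∩ closedPoints (G ⊗ pt G gam).left) := by
        rw [← Set.biUnion_of_singleton (closure {y} ∩ _)]
        exact hfin.isClosed_biUnion fun z hz => hz.2
      have hy' : y ∈ closure {y} ∩ closedPoints (G ⊗ pt G gam).left := by
        rw [← hcl.closure_eq, closure_inter_closedPoints isClosed_closure]
        exact subset_closure rfl
      exact hy'.2
    haveI : Surjective (pullback.fst (snd G (pt G gam)).left em.left) :=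
      MorphismProperty.pullback_fst (P := @Surjective) _ _ ‹_›
    obtain ⟨w₀, hw₀⟩ := (pullback.fst (snd G (pt G gam)).left em.left).surjective y
    obtain ⟨w, hw, hwc⟩ := nonempty_inter_closedPoints
      (Z := pullback.fst (snd G (pt G gam)).left em.left ⁻¹' {y}) ⟨w₀, hw₀⟩
      (hyc.preimage (pullback.fst (snd G (pt G gam)).left em.left).continuous).isLocallyClosed
    let s : {f : Spec (CommRingCat.of K) ⟶ W // f ≫ pullback.snd (snd G (pt G gam)).left em.left = 𝟙 _} :=
      (pointEquivClosedPoint (pullback.snd (snd G (pt G gam)).left em.left)).symm ⟨w, hwc⟩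
    have hsw : s.1 (IsLocalRing.closedPoint K) = w :=
      congrArg Subtype.val ((pointEquivClosedPoint (pullback.snd (snd G (pt G gam)).left em.left)).apply_symm_apply
        ⟨w, hwc⟩)
    let c' : PK ⟶ G ⊗ pt G gam := Over.homMk (s.1 ≫ pullback.fst (snd G (pt G gam)).left em.left) (by
      show (s.1 ≫ _) ≫ (G ⊗ pt G gam).hom = _
      rw [← Over.w (snd G (pt G gam)), Category.assoc, reassoc_of% (pullback.condition
        (f := (snd G (pt G gam)).left) (g := em.left)), reassoc_of% s.2, Over.w em])
    have hc'snd : c' ≫ snd G (pt G gam) = em := Over.OverMorphism.ext (by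
      show (s.1 ≫ _) ≫ _ = _
      rw [Category.assoc, pullback.condition, reassoc_of% s.2])
    have hc'y : c'.left (IsLocalRing.closedPoint K) = y := by
      show (s.1 ≫ pullback.fst (snd G (pt G gam)).left em.left) (IsLocalRing.closedPoint K) = y
      rw [Scheme.Hom.comp_apply, hsw]
      exact hw
    obtain ⟨ξ, hξ⟩ := ha (c' ≫ fst G (pt G gam)) (by rw [Over.comp_left, Scheme.Hom.comp_apply, hc'y, hy])
    have e : c' ≫ Φ = a ξ * z := by
      rw [MonObj.comp_mul, ← hξ, reassoc_of% hc'snd, hι]
    rw [← hc'y, ← Scheme.Hom.comp_apply, ← Over.comp_left, e]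
    exact htr ξ
  -- the invariant neighbourhood
  let O : G.left.Opens := ⟨((fst G (pt G gam)).left '' (Φ.left ⁻¹' R)ᶜ)ᶜ,
    ((fst G (pt G gam)).left.isClosedMap _ (hR.preimage Φ.left.continuous).isClosed_compl).isOpen_compl⟩
  have hxO : x ∈ O := by
    rintro ⟨y, hy, hyx⟩
    exact hy (hpts y hyx)
  refine ⟨O, hxO, QuotDescent.exists_quotData u g i q hch O (isInv_of_mem fun r hr => ?_) fun y hy => ?_⟩
  · rintro ⟨y, hy, hyr⟩
    have sq : IsPullback ((leftAct u).act ▷ pt G gam).left (fst (F ⊗ G) (pt G gam)).left (fst G (pt G gam)).left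
        (leftAct u).act.left := GrpSchLib.isPullback_whiskerRight (leftAct u).act (pt G gam)
    obtain ⟨r', hr'1, hr'2⟩ := Scheme.exists_preimage_of_isPullback sq y r hyr
    let ρ : (F ⊗ G) ⊗ pt G gam ⟶ F ⊗ G :=
      lift (fst (F ⊗ G) _ ≫ fst F G) (((snd F G) ▷ pt G gam) ≫ Φ)
    have hρs : ρ ≫ snd F G = ((snd F G) ▷ pt G gam) ≫ Φ := lift_snd _ _
    have hρt : ρ ≫ (leftAct u).act = ((leftAct u).act ▷ pt G gam) ≫ Φ := by
      rw [leftAct_apply, lift_fst, lift_snd, MonObj.comp_mul, MonObj.comp_mul, whiskerRight_fst,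
        whiskerRight_fst, whiskerRight_snd_assoc, whiskerRight_snd_assoc, ← _root_.mul_assoc]
      congr 1
      conv_rhs => rw [← Category.id_comp (leftAct u).act, leftAct_apply, Category.id_comp, Category.id_comp,
        MonObj.comp_mul]
      simp only [Category.assoc]
    have hrR : (snd F G).left (ρ.left r') ∈ R := by
      rw [← Scheme.Hom.comp_apply, ← Over.comp_left, hρs, Over.comp_left, Scheme.Hom.comp_apply]
      by_contra h
      refine hr ⟨_, h, ?_⟩
      rw [← Scheme.Hom.comp_apply, ← Over.comp_left, whiskerRight_fst, Over.comp_left, Scheme.Hom.comp_apply,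
        hr'2]
      rfl
    refine hy ?_
    show Φ.left y ∈ R
    rw [← hr'1, ← Scheme.Hom.comp_apply, ← Over.comp_left, ← hρt, Over.comp_left, Scheme.Hom.comp_apply]
    exact act_mem u i hinv _ hrR
  · by_contra h
    exact hy ⟨y, h, rfl⟩

/-- Every point has an invariant neighbourhood with a quotient. -/
theorem exists_quotData (x : G.left) :
    ∃ O : G.left.Opens, x ∈ O ∧
      Nonempty (GrpdThick.QuotData (AlgSpDec.ActGroupoid.gpd (leftAct u)) O) := by
  haveI : JacobsonSpace G.left := LocallyOfFiniteType.jacobsonSpace G.hom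
  obtain ⟨y, hy, hyc⟩ := nonempty_inter_closedPoints (Z := closure {x}) ⟨x, subset_closure rfl⟩
    isClosed_closure.isLocallyClosed
  obtain ⟨O, hyO, hO⟩ := exists_quotData_closed u hyc
  exact ⟨O, (specializes_iff_mem_closure.2 hy).mem_open O.2 hyO, hO⟩

theorem isClosedImmersion_hom : IsClosedImmersion u.left := by
  haveI := GrpSchLib.AntiAffine.isSeparated_grp G
  haveI := GrpSchLib.AntiAffine.isSeparated_grp F
  haveI : Mono u.left := (Over.forget _).map_mono u
  haveI : LocallyOfFiniteType (u.left ≫ G.hom) := by rw [Over.w u]; infer_instance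
  haveI : LocallyOfFiniteType u.left := locallyOfFiniteType_of_comp u.left G.hom
  haveI : IsFinite u.left := GrpSchLib.HomFinite.isFinite u
  exact (IsClosedImmersion.iff_isFinite_and_mono _).mpr ⟨inferInstance, inferInstance⟩

/-- The quotient of a group scheme over a field by left translations of a subgroup scheme. -/
theorem exists_quot :
    ∃ (X : Over (Spec (CommRingCat.of k))) (p : G ⟶ X), Flat p.left ∧ Surjective p.left ∧
      LocallyOfFinitePresentation p.left ∧ IsPullback ((u ▷ G) ≫ μ[G]) (snd F G) p p ∧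
      IsSeparated X.hom ∧ LocallyOfFinitePresentation X.hom := by
  let Gr := AlgSpDec.ActGroupoid.gpd (leftAct u)
  haveI : Mono Gr.j := AlgSpDec.FinLocFreeQuot.mono_j Gr (isEqvRel u)
  obtain ⟨Y, p₀, hs, hf, hl, hpb⟩ := GrpdThick.exists_quotient_of_cover Gr (exists_quotData u)
  haveI : Surjective p₀ := hs
  haveI : Flat p₀ := hf
  haveI : LocallyOfFinitePresentation p₀ := hl
  have hw : ∀ {T : Scheme.{u}} (a b : T ⟶ G.left), a ≫ p₀ = b ≫ p₀ → a ≫ G.hom = b ≫ G.hom := fun a b h => by
    obtain ⟨r, hr1, hr2⟩ := hpb.exists_lift a b h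
    rw [← hr1, ← hr2, Category.assoc, Category.assoc]
    exact congrArg (r ≫ ·) ((Over.w (leftAct u).act).trans (Over.w (snd F G)).symm)
  let σ : Y ⟶ Spec (CommRingCat.of k) := EffectiveEpi.desc p₀ G.hom hw
  have hσ : p₀ ≫ σ = G.hom := EffectiveEpi.fac p₀ G.hom hw
  let X : Over (Spec (CommRingCat.of k)) := Over.mk σ
  let p : G ⟶ X := Over.homMk p₀ hσ
  haveI : Surjective p.left := hs
  haveI : Flat p.left := hf
  haveI : LocallyOfFinitePresentation p.left := hl
  have hpX : IsPullback ((u ▷ G) ≫ μ[G]) (snd F G) p p :=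
    IsPullback.of_map (Over.forget _) (f := (u ▷ G) ≫ μ[G]) (g := snd F G) (h := p) (i := p)
      (Over.OverMorphism.ext hpb.w) hpb
  haveI : LocallyOfFinitePresentation (p₀ ≫ σ) := by rw [hσ]; infer_instance
  refine ⟨X, p, hf, hs, hl, hpX, ?_, SrcDescent.locallyOfFinitePresentation_of_fppf_comp p₀ σ⟩
  -- separatedness
  let J : F ⊗ G ⟶ G ⊗ G := lift ((u ▷ G) ≫ μ[G]) (snd F G)
  haveI : IsClosedImmersion J.left := by
    let e : G ⊗ G ≅ G ⊗ G :=
      { hom := lift μ[G] (snd G G)
        inv := lift (fst G G * (snd G G)⁻¹) (snd G G)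
        hom_inv_id := by
          have hμ : μ[G] = fst G G * snd G G := by rw [Hom.mul_def, lift_fst_snd, Category.id_comp]
          apply CartesianMonoidalCategory.hom_ext
          · simp [MonObj.comp_mul, GrpObj.comp_inv, hμ]
          · simp
        inv_hom_id := by
          apply CartesianMonoidalCategory.hom_ext
          · rw [Category.assoc, lift_fst, ← Hom.mul_def, inv_mul_cancel_right, Category.id_comp]
          · simp }
    have hJ : J = (u ▷ G) ≫ e.hom := by apply CartesianMonoidalCategory.hom_ext <;> simp [J, e]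
    haveI := isClosedImmersion_hom u
    haveI : IsClosedImmersion (u ▷ G).left :=
      MorphismProperty.of_isPullback (GrpSchLib.isPullback_whiskerRight u G).flip ‹IsClosedImmersion u.left›
    haveI : IsIso e.hom.left := ((Over.forget _).mapIso e).isIso_hom
    rw [hJ, Over.comp_left]
    infer_instance
  have sq : IsPullback J (((u ▷ G) ≫ μ[G]) ≫ p) (p ⊗ₘ p) (lift (𝟙 X) (𝟙 X)) := by
    have w : J ≫ (p ⊗ₘ p) = (((u ▷ G) ≫ μ[G]) ≫ p) ≫ lift (𝟙 X) (𝟙 X) := by
      apply CartesianMonoidalCategory.hom_ext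
      · simp [J]
      · simp only [J, Category.assoc, tensorHom_snd, lift_snd_assoc, lift_snd, Category.comp_id]
        rw [← hpX.w, Category.assoc]
    have hl : ∀ c : PullbackCone (p ⊗ₘ p) (lift (𝟙 X) (𝟙 X)),
        (c.fst ≫ fst G G) ≫ p = c.snd ∧ (c.fst ≫ fst G G) ≫ p = (c.fst ≫ snd G G) ≫ p := fun c => by
      have h1 := congrArg (· ≫ fst X X) c.condition
      have h2 := congrArg (· ≫ snd X X) c.condition
      simp only [Category.assoc, tensorHom_fst, tensorHom_snd, lift_fst, lift_snd, Category.comp_id] at h1 h2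
      refine ⟨(Category.assoc _ _ _).trans h1, ?_⟩
      rw [Category.assoc, Category.assoc, h1, h2]
    refine ⟨⟨w⟩, ⟨PullbackCone.IsLimit.mk _ (fun c => hpX.lift _ _ (hl c).2) (fun c => ?_) (fun c => ?_)
      (fun c m h₁ _ => ?_)⟩⟩
    · apply CartesianMonoidalCategory.hom_ext
      · rw [Category.assoc, lift_fst, hpX.lift_fst]
      · rw [Category.assoc, lift_snd, hpX.lift_snd]
    · rw [hpX.lift_fst_assoc, (hl c).1]
    · refine hpX.hom_ext ?_ ?_
      · rw [hpX.lift_fst, ← h₁, Category.assoc, lift_fst]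
      · rw [hpX.lift_snd, ← h₁, Category.assoc, lift_snd]
  obtain ⟨_, _, _⟩ := QuotDescent.fppf_whiskerRight p G
  obtain ⟨_, _, _⟩ := QuotDescent.fppf_whiskerRight p X
  have hpp : (p ⊗ₘ p) = (p ▷ G) ≫ (β_ X G).hom ≫ (p ▷ X) ≫ (β_ X X).hom := by
    apply CartesianMonoidalCategory.hom_ext <;> simp
  haveI : IsIso (β_ X G).hom.left := ((Over.forget _).mapIso (β_ X G)).isIso_hom
  haveI : IsIso (β_ X X).hom.left := ((Over.forget _).mapIso (β_ X X)).isIso_hom
  haveI : Flat (p ⊗ₘ p).left := by rw [hpp]; simp only [Over.comp_left]; infer_instance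
  haveI : Surjective (p ⊗ₘ p).left := by rw [hpp]; simp only [Over.comp_left]; infer_instance
  haveI : LocallyOfFinitePresentation (p ⊗ₘ p).left := by rw [hpp]; simp only [Over.comp_left]; infer_instance
  haveI := EtFound.fpqc_isClosedImmersion.{u}
  haveI hd : IsClosedImmersion (lift (𝟙 X) (𝟙 X)).left :=
    MorphismProperty.of_isPullback_of_descendsAlong (P := @IsClosedImmersion)
      (Q := @Surjective ⊓ @Flat ⊓ @LocallyOfFinitePresentation) (sq.map (Over.forget _))
      ⟨⟨inferInstanceAs (Surjective (p ⊗ₘ p).left), inferInstanceAs (Flat (p ⊗ₘ p).left)⟩,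
        inferInstanceAs (LocallyOfFinitePresentation (p ⊗ₘ p).left)⟩ ‹IsClosedImmersion J.left›
  constructor
  have : (lift (𝟙 X) (𝟙 X)).left = pullback.diagonal X.hom := by
    apply pullback.hom_ext
    · rw [pullback.diagonal_fst]
      exact congrArg CommaMorphism.left (lift_fst (𝟙 X) (𝟙 X))
    · rw [pullback.diagonal_snd]
      exact congrArg CommaMorphism.left (lift_snd (𝟙 X) (𝟙 X))
  exact this ▸ hd

end

end Groth.Agent.Deform.QuotField
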