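import Groth.Agent.GrpSchLib.AffinizationKer
import Groth.Agent.GrpSchLib.AntiAffineSmoothAny
import Groth.Agent.GrpSchLib.AntiAffineHom
import Groth.Agent.GrpSchLib.KernelGrp
import Groth.Agent.GrpSchLib.NormalQuot
import Groth.Agent.GrpSchLib.ImageFactor
import Groth.Agent.GrpSchLib.SmoothReduced
import Groth.Agent.H23.RedSub
import Groth.Agent.Deform.QuotArtin
import Groth.Agent.Deform.QuotGroup
import Groth.Agent.Deform.AVFactor
import Groth.Agent.Deform.AffineKernel
import Groth.Agent.S3280
import Groth.Agent.S3036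

/-!
# The largest anti-affine subgroup of an algebraic group
-/

universe u

open CategoryTheory CategoryTheory.Limits MonoidalCategory CartesianMonoidalCategory MonObj GrpObj AlgebraicGeometry

namespace Groth.Agent.Deform.AntiAffineParts

set_option linter.style.haveILetI false

attribute [local instance] CategoryTheory.Hom.monoid CategoryTheory.Hom.group

variable {k : Type u} [Field k]

/-- An algebraic group contains an anti-affine subgroup with affine quotient. -/
theorem exists_ant (G : Over (Spec (CommRingCat.of k))) [GrpObj G] [LocallyOfFiniteType G.hom] [QuasiCompact G.hom] :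
    ∃ (K : Over (Spec (CommRingCat.of k))) (_ : GrpObj K) (κ : K ⟶ G), IsMonHom κ ∧ IsClosedImmersion κ.left ∧
      LocallyOfFiniteType K.hom ∧ QuasiCompact K.hom ∧ Function.Bijective K.hom.appTop ∧
      ∃ (I : Over (Spec (CommRingCat.of k))) (_ : GrpObj I) (p : G ⟶ I), IsMonHom p ∧ IsAffine I.left ∧
        LocallyOfFiniteType I.hom ∧ Flat p.left ∧ Surjective p.left ∧ AlgGrp.IsKernel κ p := by
  obtain ⟨I, iI, p, hp, hI, hlft, hfl, hs, hb⟩ := GrpSchLib.Affinization.exists_affinization G
  haveI := hp; haveI := hI; haveI := hlft; haveI := hfl; haveI := hs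
  haveI := GrpSchLib.AntiAffine.isSeparated_grp I
  obtain ⟨K, iK, κ, hκ, hκc, -, hk⟩ := GrpSchLib.exists_kernel p
  haveI := hκ; haveI := hκc
  haveI : IsIso p.left.appTop := (ConcreteCategory.isIso_iff_bijective _).mpr hb
  let m : I.left ⟶ Spec Γ(G.left, ⊤) := I.left.toSpecΓ ≫ inv (Spec.map p.left.appTop)
  have hm : G.left.toSpecΓ = p.left ≫ m := by
    rw [← Category.assoc, Scheme.toSpecΓ_naturality, Category.assoc, IsIso.hom_inv_id, Category.comp_id]
  have hη : η[G].left ≫ p.left = η[I].left := by rw [← Over.comp_left, IsMonHom.one_hom]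
  have hw : κ.left ≫ p.left = K.hom ≫ η[I].left := congrArg CommaMorphism.left hk.w
  have sq : IsPullback κ.left K.hom p.left η[I].left := hk.map (Over.forget _)
  let a : K.left ⟶ (GrpSchLib.AffinizationKer.ker G).left :=
    pullback.lift κ.left K.hom (by rw [hm, reassoc_of% hw, reassoc_of% hη])
  have hcond : pullback.fst G.left.toSpecΓ (η[G].left ≫ G.left.toSpecΓ) ≫ p.left =
      pullback.snd G.left.toSpecΓ (η[G].left ≫ G.left.toSpecΓ) ≫ η[I].left := by
    rw [← cancel_mono m, Category.assoc, Category.assoc, ← hm, pullback.condition, ← hη, Category.assoc, ← hm]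
  let b : (GrpSchLib.AffinizationKer.ker G).left ⟶ K.left := sq.lift _ _ hcond
  have hab : a ≫ b = 𝟙 _ := sq.hom_ext
    (by rw [Category.assoc, sq.lift_fst, pullback.lift_fst, Category.id_comp])
    (by rw [Category.assoc, sq.lift_snd, pullback.lift_snd, Category.id_comp])
  have hba : b ≫ a = 𝟙 _ := pullback.hom_ext
    (by rw [Category.assoc, pullback.lift_fst, sq.lift_fst, Category.id_comp])
    (by rw [Category.assoc, pullback.lift_snd, sq.lift_snd, Category.id_comp])
  haveI : IsIso a := ⟨b, hab, hba⟩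
  obtain ⟨-, -, -, hbij⟩ := GrpSchLib.AffinizationKer.main G
  have hK : K.hom = a ≫ (GrpSchLib.AffinizationKer.ker G).hom := by
    show K.hom = a ≫ pullback.snd _ _ ≫ (𝟙_ (Over (Spec (CommRingCat.of k)))).hom
    rw [pullback.lift_snd_assoc]
    exact (Category.comp_id _).symm
  refine ⟨K, iK, κ, hκ, hκc, by rw [← Over.w κ]; infer_instance, by rw [← Over.w κ]; infer_instance, ?_,
    I, iI, p, hp, hI, hlft, hfl, hs, hk⟩
  haveI : IsIso a.appTop := Iso.isIso_hom (asIso (Scheme.Γ.map (Quiver.Hom.op a)))
  rw [hK, Scheme.Hom.comp_appTop]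
  exact (ConcreteCategory.bijective_of_isIso a.appTop).comp hbij

/-- Pointed maps from anti-affine groups to affine groups are trivial. -/
theorem eq_one_of_isAffine {X I : Over (Spec (CommRingCat.of k))} [GrpObj X] [GrpObj I] [IsAffine I.left]
    (hX : Function.Bijective X.hom.appTop) (f : X ⟶ I) (hf : η[X] ≫ f = 1) : f = 1 := by
  rw [GrpSchLib.AntiAffine.eq_const_of_isAffine hX f η[X], hf, MonObj.comp_one]

/-- A group which is both affine and anti-affine is trivial. -/
theorem isIso_hom_of_isAffine {K : Over (Spec (CommRingCat.of k))} [GrpObj K] [IsAffine K.left]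
    (hK : Function.Bijective K.hom.appTop) : IsIso K.hom := by
  have h := eq_one_of_isAffine (I := K) hK (𝟙 K) ((Category.comp_id _).trans (MonObj.one_eq_one K))
  refine ⟨η[K].left, ?_, Over.w η[K]⟩
  exact (congrArg CommaMorphism.left h).symm

/-- A homomorphism with trivial kernel is a monomorphism. -/
theorem mono_of_trivial {G I K : Over (Spec (CommRingCat.of k))} [GrpObj G] [GrpObj I] [GrpObj K] (p : G ⟶ I)
    [IsMonHom p] (κ : K ⟶ G) [IsMonHom κ] (hk : AlgGrp.IsKernel κ p) [IsIso K.hom] : Mono p := by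
  refine ⟨fun {T} a b hab => ?_⟩
  have h : (a * b⁻¹) ≫ p = 1 := by rw [MonObj.mul_comp, GrpObj.inv_comp, hab, mul_inv_cancel]
  have h2 : hk.lift (a * b⁻¹) (toUnit T) h = 1 := by
    refine Over.OverMorphism.ext ?_
    rw [← cancel_mono K.hom, Over.w, Over.w]
  have h3 := hk.lift_fst (a * b⁻¹) (toUnit T) h
  rw [h2, MonObj.one_comp] at h3
  exact mul_inv_eq_one.mp h3.symm

/-- The image of an affine group is an affine closed subgroup. -/
theorem exists_affine_image {I Q : Over (Spec (CommRingCat.of k))} [GrpObj I] [GrpObj Q] [IsAffine I.left]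
    [LocallyOfFiniteType I.hom] [LocallyOfFiniteType Q.hom] [QuasiCompact Q.hom] (φ : I ⟶ Q) [IsMonHom φ] :
    ∃ (J : Over (Spec (CommRingCat.of k))) (_ : GrpObj J) (q : I ⟶ J) (c : J ⟶ Q), IsMonHom q ∧ IsMonHom c ∧
      IsAffine J.left ∧ IsClosedImmersion c.left ∧ LocallyOfFiniteType J.hom ∧ Surjective q.left ∧ q ≫ c = φ := by
  haveI := GrpSchLib.AntiAffine.isSeparated_grp Q
  haveI : IsAffineHom I.hom := isAffineHom_of_isAffine _
  obtain ⟨K, iK, i, hi, hic, hn, hk⟩ := GrpSchLib.exists_kernel φ
  letI := iK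
  haveI := hi; haveI := hic
  obtain ⟨J, iJ, q, hq, hJa, hJl, hqf, hqs, hqk⟩ := GrpSchLib.NormalQuot.exists_quot I K i hn
  letI := iJ
  haveI := hq; haveI := hJa; haveI := hJl; haveI := hqf; haveI := hqs
  haveI : IsAffineHom J.hom := isAffineHom_of_isAffine _
  haveI : QuasiCompact q.left := by
    haveI : QuasiCompact (q.left ≫ J.hom) := by rw [Over.w q]; infer_instance
    exact QuasiCompact.of_comp q.left J.hom
  obtain ⟨c, hc, hqc, -⟩ := S3280.result k I K J Q q i hqk φ hk.w
  haveI := hc
  haveI : Mono c := AVFactor.mono_of_kernel q c i hqk (by rw [hqc]; exact hk)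
  haveI : QuasiCompact c.left := by
    haveI : QuasiCompact (c.left ≫ Q.hom) := by rw [Over.w c]; infer_instance
    exact QuasiCompact.of_comp c.left Q.hom
  exact ⟨J, iJ, q, c, hq, hc, hJa, S3036.result k J Q c, hJl, hqs, hqc⟩

/-- A connected proper group which is the image of an affine group is a point. -/
theorem subsingleton_of_affine {I Q : Over (Spec (CommRingCat.of k))} [GrpObj I] [GrpObj Q] [IsAffine I.left]
    [LocallyOfFiniteType I.hom] [IsProper Q.hom] [ConnectedSpace ↥Q.left] (φ : I ⟶ Q) [IsMonHom φ]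
    [Surjective φ.left] : Subsingleton ↥Q.left := by
  obtain ⟨J, iJ, q, c, hq, hc, hJa, hcc, hJl, hqs, hqc⟩ := exists_affine_image φ
  haveI := hJa; haveI := hcc; haveI := hqs
  haveI : Surjective (q.left ≫ c.left) := by rw [← Over.comp_left, hqc]; infer_instance
  haveI : Surjective c.left := Surjective.of_comp q.left c.left
  haveI : IsProper J.hom := by rw [← Over.w c]; infer_instance
  haveI : IsFinite J.hom := by
    rw [IsFinite.iff_isProper_and_isAffineHom]
    exact ⟨inferInstance, isAffineHom_of_isAffine _⟩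
  haveI : Finite ↥J.left := by
    have h := J.hom.finite_preimage_singleton (IsLocalRing.closedPoint k)
    have e : J.hom ⁻¹' {IsLocalRing.closedPoint k} = Set.univ :=
      Set.eq_univ_of_forall fun x => Subsingleton.elim (α := PrimeSpectrum k) _ _
    exact Set.finite_univ_iff.mp (e ▸ h)
  haveI : Finite ↥Q.left := Finite.of_surjective c.left c.left.surjective
  haveI : JacobsonSpace ↥Q.left := LocallyOfFiniteType.jacobsonSpace Q.hom
  haveI : DiscreteTopology ↥Q.left := inferInstance
  exact PreconnectedSpace.trivial_of_discrete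

/-- The anti-affine part surjects onto a connected quotient unless a central quotient of the latter is affine. -/
theorem exists_central {G A K I : Over (Spec (CommRingCat.of k))} [GrpObj G] [GrpObj A] [GrpObj K] [GrpObj I]
    [LocallyOfFiniteType G.hom] [QuasiCompact G.hom] [LocallyOfFiniteType A.hom] [QuasiCompact A.hom]
    [ConnectedSpace ↥A.left] [LocallyOfFiniteType K.hom] [QuasiCompact K.hom]
    (hK : Function.Bijective K.hom.appTop) (κ : K ⟶ G) [IsMonHom κ] [IsAffine I.left] [LocallyOfFiniteType I.hom]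
    (p : G ⟶ I) [IsMonHom p] [Flat p.left] [Surjective p.left] (hk : AlgGrp.IsKernel κ p)
    (q : G ⟶ A) [IsMonHom q] [Surjective q.left] :
    ∃ (A' : Over (Spec (CommRingCat.of k))) (_ : GrpObj A') (π : A ⟶ A') (φ : I ⟶ A'), IsMonHom φ ∧
      Surjective φ.left ∧ Flat π.left ∧ Surjective π.left ∧ LocallyOfFiniteType A'.hom ∧ QuasiCompact A'.hom ∧
      IsSeparated A'.hom ∧ (Subsingleton ↥A'.left → Surjective (κ ≫ q).left) := by
  haveI := GrpSchLib.AntiAffine.isSeparated_grp A
  haveI : IsAffineHom I.hom := isAffineHom_of_isAffine _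
  obtain ⟨B, iB, r, c, hr, hc, hrc, hcc, hrf, hrs, hBl, hBq⟩ := GrpSchLib.ImageFactor.exists_image (κ ≫ q)
  haveI := hr; haveI := hc; haveI := hcc; haveI := hrf; haveI := hrs; haveI := hBl; haveI := hBq
  have hB : Function.Bijective B.hom.appTop := by
    haveI := GrpSchLib.AntiAffine.isSeparated_grp B
    haveI : QuasiCompact (r.left ≫ B.hom) := by rw [Over.w r]; infer_instance
    haveI : QuasiCompact r.left := QuasiCompact.of_comp r.left B.hom
    have hinj : Function.Injective r.left.appTop := GrpSchLib.AntiAffine.appTop_injective_of_epi r.left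
    rw [← Over.w r, Scheme.Hom.comp_appTop] at hK
    refine ⟨fun a b h => hK.1 (congrArg r.left.appTop h), fun z => ?_⟩
    obtain ⟨a, ha⟩ := hK.2 (r.left.appTop z)
    exact ⟨a, hinj ha⟩
  have hc1 : η[B] ≫ c = 1 := by rw [IsMonHom.one_hom, MonObj.one_eq_one]
  have hn : AlgGrp.IsNormalHom c := fun T g n => ⟨n, by
    rw [← GrpSchLib.AntiAffine.commute hB c hc1 n g, mul_inv_cancel_right]⟩
  haveI : Flat B.hom := Deform.AffineKernel.flat_over_field _
  haveI : Flat A.hom := Deform.AffineKernel.flat_over_field _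
  haveI : Mono c := (Over.forget _).mono_of_mono_map (inferInstanceAs (Mono c.left))
  obtain ⟨A', π, hπf, hπs, hπl, sq, hsep, hA'l, -, -⟩ := Deform.QuotArtin.exists_quot c
  haveI := hπf; haveI := hπs; haveI := hπl; haveI := hsep; haveI := hA'l
  obtain ⟨gA', hπ, hπk⟩ := Deform.QuotGroup.exists_grpObj c π sq hn
  haveI := hπ
  haveI : LocallyOfFiniteType A'.hom := inferInstance
  haveI hA'q : QuasiCompact A'.hom := by
    haveI : CompactSpace A.left := QuasiCompact.compactSpace_of_compactSpace A.hom
    haveI : CompactSpace A'.left := π.left.surjective.compactSpace π.left.continuous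
    exact (quasiCompact_iff_compactSpace A'.hom).mpr inferInstance
  have hqπ : κ ≫ q ≫ π = toUnit K ≫ η[A'] := by
    rw [← reassoc_of% hrc, hπk.w, ← Category.assoc, toUnit_unique (r ≫ toUnit B) (toUnit K)]
  obtain ⟨φ, hφ, hpφ, -⟩ := S3280.result k G K I A' p κ hk (q ≫ π) hqπ
  haveI : Surjective φ.left := by
    haveI : Surjective (p.left ≫ φ.left) := by
      rw [← Over.comp_left, hpφ, Over.comp_left]; infer_instance
    exact Surjective.of_comp p.left φ.left
  refine ⟨A', gA', π, φ, hφ, inferInstance, hπf, hπs, inferInstance, hA'q, hsep, fun hsub => ?_⟩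
  haveI : Surjective η[A'].left := ⟨fun x =>
    ⟨(IsLocalRing.closedPoint k : PrimeSpectrum k), Subsingleton.elim _ _⟩⟩
  haveI : Surjective c.left := MorphismProperty.of_isPullback (P := @Surjective)
    (hπk.map (Over.forget _)).flip (inferInstanceAs (Surjective η[A'].left))
  rw [← hrc, Over.comp_left]
  infer_instance

/-- The anti-affine part surjects onto every connected proper quotient. -/
theorem surjective_proper {G A K I : Over (Spec (CommRingCat.of k))} [GrpObj G] [GrpObj A] [GrpObj K] [GrpObj I]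
    [LocallyOfFiniteType G.hom] [QuasiCompact G.hom] [IsProper A.hom]
    [ConnectedSpace ↥A.left] [LocallyOfFiniteType K.hom] [QuasiCompact K.hom]
    (hK : Function.Bijective K.hom.appTop) (κ : K ⟶ G) [IsMonHom κ] [IsAffine I.left] [LocallyOfFiniteType I.hom]
    (p : G ⟶ I) [IsMonHom p] [Flat p.left] [Surjective p.left] (hk : AlgGrp.IsKernel κ p)
    (q : G ⟶ A) [IsMonHom q] [Surjective q.left] : Surjective (κ ≫ q).left := by
  obtain ⟨A', _, π, φ, hφ, hφs, hπf, hπs, hl, hq, hsep, h⟩ := exists_central hK κ p hk q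
  haveI := hφ; haveI := hφs; haveI := hπs; haveI := hl; haveI := hsep
  haveI : UniversallyClosed A'.hom := by
    haveI : UniversallyClosed (π.left ≫ A'.hom) := by rw [Over.w π]; infer_instance
    exact UniversallyClosed.of_comp_surjective π.left A'.hom
  haveI : IsProper A'.hom := IsProper.mk
  haveI : ConnectedSpace ↥A'.left := π.left.surjective.connectedSpace π.left.continuous
  exact h (subsingleton_of_affine φ)

/-- The anti-affine part surjects onto every anti-affine quotient. -/
theorem surjective_antiAffine {G A K I : Over (Spec (CommRingCat.of k))} [GrpObj G] [GrpObj A] [GrpObj K] [GrpObj I]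
    [LocallyOfFiniteType G.hom] [QuasiCompact G.hom] [LocallyOfFiniteType A.hom] [QuasiCompact A.hom]
    (hA : Function.Bijective A.hom.appTop) [LocallyOfFiniteType K.hom] [QuasiCompact K.hom]
    (hK : Function.Bijective K.hom.appTop) (κ : K ⟶ G) [IsMonHom κ] [IsAffine I.left] [LocallyOfFiniteType I.hom]
    (p : G ⟶ I) [IsMonHom p] [Flat p.left] [Surjective p.left] (hk : AlgGrp.IsKernel κ p)
    (q : G ⟶ A) [IsMonHom q] [Surjective q.left] : Surjective (κ ≫ q).left := by
  haveI := GrpSchLib.AntiAffine.connectedSpace_of_bijective hA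
  obtain ⟨A', iA', π, φ, hφ, hφs, hπf, hπs, hl, hq, hsep, h⟩ := exists_central hK κ p hk q
  haveI := hφ; haveI := hφs; haveI := hπf; haveI := hπs; haveI := hl; haveI := hq; haveI := hsep
  have hA' : Function.Bijective A'.hom.appTop := by
    haveI : QuasiCompact (π.left ≫ A'.hom) := by rw [Over.w π]; infer_instance
    haveI : QuasiCompact π.left := QuasiCompact.of_comp π.left A'.hom
    have hinj : Function.Injective π.left.appTop := GrpSchLib.AntiAffine.appTop_injective_of_epi π.left
    rw [← Over.w π, Scheme.Hom.comp_appTop] at hA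
    refine ⟨fun a b e => hA.1 (congrArg π.left.appTop e), fun z => ?_⟩
    obtain ⟨a, ha⟩ := hA.2 (π.left.appTop z)
    exact ⟨a, hinj ha⟩
  haveI : Smooth A'.hom := GrpSchLib.AntiAffineSmooth.smooth hA'
  haveI : IsReduced A'.left := GrpSchLib.isReduced_of_smooth_field A'.hom
  obtain ⟨J, iJ, r, c, hr, hc, hJa, hcc, hJl, hrs, hrc⟩ := exists_affine_image φ
  haveI := hJa; haveI := hcc
  haveI : Surjective c.left := by
    haveI : Surjective (r.left ≫ c.left) := by rw [← Over.comp_left, hrc]; infer_instance
    exact Surjective.of_comp r.left c.left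
  haveI := isIso_of_isClosedImmersion_of_surjective c.left
  haveI : IsAffine A'.left := IsAffine.of_isIso (inv c.left)
  haveI := isIso_hom_of_isAffine hA'
  exact h (A'.hom.homeomorph.injective.subsingleton)

/-- Points of a group are products of points of a kernel and of a subgroup surjecting onto the quotient. -/
theorem surjective_mul {G A N K : Over (Spec (CommRingCat.of k))} [GrpObj G] [GrpObj A]
    (i : N ⟶ G) (q : G ⟶ A) [IsMonHom q] (hq : AlgGrp.IsKernel i q) (κ : K ⟶ G) [Surjective (κ ≫ q).left] :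
    Surjective ((i ⊗ₘ κ) ≫ μ[G]).left := by
  let P : Over (Spec (CommRingCat.of k)) := Over.mk (pullback.fst q.left (κ ≫ q).left ≫ G.hom)
  let g : P ⟶ G := Over.homMk (pullback.fst q.left (κ ≫ q).left) rfl
  let m : P ⟶ K := Over.homMk (pullback.snd q.left (κ ≫ q).left) (by
    show pullback.snd _ _ ≫ K.hom = pullback.fst _ _ ≫ G.hom
    rw [← Over.w q, ← Category.assoc, pullback.condition, Category.assoc, Over.w (κ ≫ q)])
  have hgm : g ≫ q = m ≫ κ ≫ q := Over.OverMorphism.ext pullback.condition
  have h : (g * (m ≫ κ)⁻¹) ≫ q = 1 := by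
    rw [MonObj.mul_comp, GrpObj.inv_comp, hgm, Category.assoc, mul_inv_cancel]
  let z : P ⟶ N ⊗ K := lift (hq.lift _ (toUnit P) h) m
  have hz : z ≫ (i ⊗ₘ κ) ≫ μ[G] = g := by
    rw [lift_map_assoc, ← Hom.mul_def, hq.lift_fst, inv_mul_cancel_right]
  haveI : Surjective g.left := inferInstanceAs (Surjective (pullback.fst q.left (κ ≫ q).left))
  haveI : Surjective (z.left ≫ ((i ⊗ₘ κ) ≫ μ[G]).left) := by rw [← Over.comp_left, hz]; infer_instance
  exact Surjective.of_comp z.left _

end Groth.Agent.Deform.AntiAffineParts
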