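import Groth.Agent.GrpSchLib.HomUnitLocus
import Groth.Agent.GrpSchLib.MultTypeBC

/-!
# Rigidity of pairings out of groups of multiplicative type

A family of homomorphisms out of a group of multiplicative type, parametrised by a scheme with connected fibres,
is trivial as soon as it is trivial along a section.
-/

set_option autoImplicit false
set_option linter.style.haveILetI false
set_option backward.isDefEq.respectTransparency false
set_option backward.isDefEq.respectTransparency.types false

universe u

open CategoryTheory CategoryTheory.Limits MonoidalCategory CartesianMonoidalCategory MonObj GrpObj AlgebraicGeometry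

attribute [local instance] CategoryTheory.Hom.monoid CategoryTheory.Hom.group

namespace Groth.Agent.Deform

open GrpSchLib.HomUnitLocus (Triv triv_iff_of_field theta_one)

variable {S : Scheme.{u}}

/-- A scheme over `S` lies over a point of `S`. -/
def LiesOver (s : S) (T : Over S) : Prop := ∃ φ : T.left ⟶ Spec (S.residueField s), φ ≫ S.fromSpecResidueField s = T.hom

/-- A family of homomorphisms out of a group of multiplicative type is trivial if it is trivial along one section
and, at each point of the base, either the fibre of the parameter scheme is connected or the family is trivial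
there. -/
theorem pairing_eq_one_of {H X G : Over S} [GrpObj H] [GrpObj G] [IsSeparated G.hom] [LocallyOfFiniteType G.hom]
    (hH : SGA3x.IsMultTypeFT H) (c : H ⊗ X ⟶ G)
    (hlin : ∀ (T : Over S) (x x' : T ⟶ H) (y : T ⟶ X), lift (x * x') y ≫ c = lift x y ≫ c * lift x' y ≫ c)
    (x₀ : 𝟙_ (Over S) ⟶ X) (h₀ : lift (𝟙 H) (toUnit H ≫ x₀) ≫ c = 1)
    (hX : ∀ s : S, _root_.IsPreconnected (X.hom.base ⁻¹' {s}) ∨
      ∀ T : Over S, LiesOver s T → ∀ (a : T ⟶ H) (b : T ⟶ X), lift a b ≫ c = 1) : c = 1 := by
  let g : X.left ⟶ S := X.hom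
  let v : Red.bc g H ⟶ Red.bc g G := Over.homMk
    (pullback.lift c.left (pullback.snd H.hom g) ((Over.w c).trans pullback.condition)) (pullback.lift_snd _ _ _)
  let pt : ∀ Y : Over X.left, (Over.map g).obj Y ⟶ X := fun Y => Over.homMk Y.hom rfl
  have hθ : ∀ (Y : Over X.left) (a : Y ⟶ Red.bc g H),
      DSPtsLib.theta g (a ≫ v) = lift (DSPtsLib.theta g a) (pt Y) ≫ c := fun Y a => by
    apply Over.OverMorphism.ext
    have e : a.left = (lift (DSPtsLib.theta g a) (pt Y)).left := by
      apply pullback.hom_ext
      · exact (congrArg CommaMorphism.left (lift_fst (DSPtsLib.theta g a) (pt Y))).symm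
      · exact (Over.w a).trans (congrArg CommaMorphism.left (lift_snd (DSPtsLib.theta g a) (pt Y))).symm
    rw [DSPtsLib.theta_left, Over.comp_left, Category.assoc]
    show a.left ≫ pullback.lift c.left _ _ ≫ pullback.fst _ _ = _
    rw [pullback.lift_fst, e]
    rfl
  have hvmul : ∀ (Y : Over X.left) (a b : Y ⟶ Red.bc g H), (a * b) ≫ v = a ≫ v * b ≫ v := fun Y a b => by
    apply (DSPtsLib.theta_bijective g).1
    rw [DSPtsLib.theta_mul, hθ, hθ, hθ, DSPtsLib.theta_mul, hlin]
  haveI : IsMonHom v :=
    { one_hom := by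
        have h := hvmul (𝟙_ (Over X.left)) 1 1
        rw [_root_.one_mul] at h
        have h1 := left_eq_mul.mp h
        simpa [MonObj.one_eq_one] using h1
      mul_hom := by
        rw [MonObj.mul_eq_mul, hvmul, Hom.mul_def]
        congr 1 }
  haveI : IsSeparated (Red.bc g G).hom := inferInstanceAs (IsSeparated (pullback.snd G.hom g))
  haveI : LocallyOfFiniteType (Red.bc g G).hom := inferInstanceAs (LocallyOfFiniteType (pullback.snd G.hom g))
  obtain ⟨U, hUc, hU, hUt⟩ := GrpSchLib.HomUnitLocus.main (u := v)
    (GrpSchLib.MultTypeBC.isMultTypeFT_bc g hH) (Or.inr inferInstance)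
  have hw : x₀.left ≫ g = 𝟙 S := Over.w x₀
  have hsec : ∀ s : S, x₀.left.base s ∈ U := fun s => by
    let b : Spec (S.residueField s) ⟶ X.left := S.fromSpecResidueField s ≫ x₀.left
    have hb : b (IsLocalRing.closedPoint (S.residueField s)) = x₀.left.base s := by
      show x₀.left.base ((S.fromSpecResidueField s) _) = _
      exact congrArg x₀.left.base (Scheme.fromSpecResidueField_apply _ _)
    rw [← hb, hU]
    refine (triv_iff_of_field (u := v) (K := S.residueField s) b).mp ?_
    intro Y q₀ a
    apply (DSPtsLib.theta_bijective g).1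
    rw [hθ, theta_one]
    have e : pt Y = toUnit _ ≫ x₀ := by
      apply Over.OverMorphism.ext
      rw [Over.comp_left]
      show Y.hom = (toUnit ((Over.map g).obj Y)).left ≫ x₀.left
      have h1 : (toUnit ((Over.map g).obj Y)).left = Y.hom ≫ g :=
        (Category.comp_id _).symm.trans (Over.w (toUnit ((Over.map g).obj Y)))
      have h2 : q₀.left ≫ S.fromSpecResidueField s ≫ x₀.left = Y.hom := Over.w q₀
      rw [h1, ← h2]
      simp only [Category.assoc, reassoc_of% hw]
      exact congrArg (fun m => q₀.left ≫ S.fromSpecResidueField s ≫ m) (Category.id_comp _).symm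
    rw [e]
    have h := congrArg (DSPtsLib.theta g a ≫ ·) h₀
    simp only [comp_lift_assoc, Category.comp_id, MonObj.comp_one] at h
    rw [← Category.assoc, toUnit_unique (DSPtsLib.theta g a ≫ toUnit H) (toUnit _)] at h
    exact h
  have htop : ∀ x : X.left, x ∈ U := fun x => by
    rcases hX (g x) with hx | hx
    swap
    · rw [← X.left.fromSpecResidueField_apply x (IsLocalRing.closedPoint (X.left.residueField x)), hU]
      refine (triv_iff_of_field (u := v) (K := X.left.residueField x) (X.left.fromSpecResidueField x)).mp ?_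
      intro Y q₀ a
      apply (DSPtsLib.theta_bijective g).1
      rw [hθ, theta_one]
      refine hx _ ⟨q₀.left ≫ Spec.map (g.residueFieldMap x), ?_⟩ _ _
      rw [Category.assoc, Scheme.Hom.SpecMap_residueFieldMap_fromSpecResidueField, ← Category.assoc]
      exact congrArg (· ≫ g) (Over.w q₀)
    refine hx.subset_isClopen ⟨hUc, U.2⟩ ⟨x₀.left.base (g x), ?_, hsec _⟩ (rfl : g x = g x)
    show (x₀.left ≫ g) (g x) = g x
    rw [hw]
    rfl
  have hv1 : v = 1 := by
    have h1 := hUt (Red.bc g H) (Over.homMk (IsOpenImmersion.lift U.ι (Red.bc g H).hom (fun x _ =>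
      ⟨⟨x, htop x⟩, rfl⟩)) (IsOpenImmersion.lift_fac _ _ _)) (𝟙 _)
    simpa using h1
  have h1 := hθ _ (𝟙 (Red.bc g H))
  rw [Category.id_comp, hv1, theta_one] at h1
  let e : H ⊗ X ⟶ (Over.map g).obj (Red.bc g H) := Over.homMk (𝟙 _) (by
    show 𝟙 _ ≫ pullback.snd H.hom g ≫ g = (H ⊗ X).hom
    rw [Category.id_comp, Over.tensorObj_hom]
    exact pullback.condition.symm)
  have e1 : e ≫ lift (DSPtsLib.theta g (𝟙 (Red.bc g H))) (pt _) = 𝟙 _ := by
    apply CartesianMonoidalCategory.hom_ext
    · rw [Category.assoc, lift_fst, Category.id_comp]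
      apply Over.OverMorphism.ext
      simp [e, DSPtsLib.theta_left]
      rfl
    · rw [Category.assoc, lift_snd, Category.id_comp]
      apply Over.OverMorphism.ext
      simp [e, pt]
      rfl
  have h2 := congrArg (e ≫ ·) h1.symm
  simpa only [← Category.assoc, e1, Category.id_comp, MonObj.comp_one] using h2

/-- A family of homomorphisms out of a group of multiplicative type over a base with connected fibres is trivial
if it is trivial at one section. -/
theorem pairing_eq_one {H X G : Over S} [GrpObj H] [GrpObj G] [IsSeparated G.hom] [LocallyOfFiniteType G.hom]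
    (hH : SGA3x.IsMultTypeFT H) (c : H ⊗ X ⟶ G)
    (hlin : ∀ (T : Over S) (x x' : T ⟶ H) (y : T ⟶ X), lift (x * x') y ≫ c = lift x y ≫ c * lift x' y ≫ c)
    (x₀ : 𝟙_ (Over S) ⟶ X) (h₀ : lift (𝟙 H) (toUnit H ≫ x₀) ≫ c = 1)
    (hX : ∀ s : S, _root_.IsPreconnected (X.hom.base ⁻¹' {s})) : c = 1 :=
  pairing_eq_one_of hH c hlin x₀ h₀ fun s => Or.inl (hX s)

/-- The fibres of a scheme over a field are preconnected if it is connected. -/
theorem isPreconnected_fibre {k : Type u} [Field k] (X : Over (Spec (CommRingCat.of k))) [PreconnectedSpace X.left]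
    (s : ↥(Spec (CommRingCat.of k))) : _root_.IsPreconnected (X.hom.base ⁻¹' {s}) := by
  have h : X.hom.base ⁻¹' {s} = Set.univ :=
    Set.eq_univ_of_forall fun x => Subsingleton.elim (α := PrimeSpectrum k) _ _
  rw [h]
  exact isPreconnected_univ

end Groth.Agent.Deform
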