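import Groth.Agent.GrpSchLib.AffineHopf
import Groth.Agent.GrpSchLib.MultTypeBC
import Groth.Agent.FpqcDescLib.Closed
import Groth.Agent.EtFound.Descent
import Groth.Agent.MultTypeLib.CoverType
import Groth.Prelude.Def_TwC
import Mathlib.AlgebraicGeometry.Morphisms.Affine

/-!
# Groups of multiplicative type over an affine base as Hopf algebras
-/

set_option autoImplicit false
set_option linter.style.haveILetI false
set_option backward.isDefEq.respectTransparency false
set_option backward.isDefEq.respectTransparency.types false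

universe u

open CategoryTheory CategoryTheory.Limits MonoidalCategory CartesianMonoidalCategory MonObj AlgebraicGeometry

namespace Groth.Agent.Deform

open GrpSchLib.AffineHopf (sp spMap spMap_comp spMap_id spMap_injective exists_bialgHom nonempty_DS_iso nonempty_bc_sp)

/-- An isomorphism of affine group schemes comes from an isomorphism of Hopf algebras. -/
theorem nonempty_bialgEquiv {S : Type u} [CommRing S] {A B : Type u} [CommRing A] [CommRing B] [HopfAlgebra S A]
    [HopfAlgebra S B] (e : Grp.mk (sp S A) ≅ Grp.mk (sp S B)) : Nonempty (B ≃ₐc[S] A) := by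
  haveI : IsMonHom e.hom.hom.hom := e.hom.hom.isMonHom_hom
  haveI : IsMonHom e.inv.hom.hom := e.inv.hom.isMonHom_hom
  obtain ⟨f, hf⟩ := exists_bialgHom e.hom.hom.hom
  obtain ⟨g, hg⟩ := exists_bialgHom e.inv.hom.hom
  have h1 := congrArg (fun m : Grp.mk (sp S A) ⟶ Grp.mk (sp S A) => m.hom.hom) e.hom_inv_id
  have h2 := congrArg (fun m : Grp.mk (sp S B) ⟶ Grp.mk (sp S B) => m.hom.hom) e.inv_hom_id
  change e.hom.hom.hom ≫ e.inv.hom.hom = 𝟙 _ at h1
  change e.inv.hom.hom ≫ e.hom.hom.hom = 𝟙 _ at h2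
  rw [hf, hg, spMap_comp, ← spMap_id] at h1
  rw [hf, hg, spMap_comp, ← spMap_id] at h2
  exact ⟨BialgEquiv.ofBialgHom f g (BialgHom.ext fun x => AlgHom.congr_fun (spMap_injective h1) x)
    (BialgHom.ext fun x => AlgHom.congr_fun (spMap_injective h2) x)⟩

/-- Changing the universe of the characters. -/
noncomputable def uliftEquiv (S : Type u) [CommRing S] (N : Type) [CommGroup N] :
    MonoidAlgebra S N ≃ₐc[S] MonoidAlgebra S (ULift.{u} N) :=
  BialgEquiv.ofBialgHom (MonoidAlgebra.mapDomainBialgHom S (MulEquiv.ulift (α := N)).symm.toMonoidHom)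
    (MonoidAlgebra.mapDomainBialgHom S (MulEquiv.ulift (α := N)).toMonoidHom)
    (BialgHom.ext fun x => by
      induction x using MonoidAlgebra.induction_linear with
      | zero => simp
      | add a b ha hb => simp only [map_add, ha, hb]
      | single m r => simp)
    (BialgHom.ext fun x => by
      induction x using MonoidAlgebra.induction_linear with
      | zero => simp
      | add a b ha hb => simp only [map_add, ha, hb]
      | single m r => simp)

variable {R : Type u} [CommRing R]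

theorem isAffineHom {S : Scheme.{u}} {H : Over S} [GrpObj H]
    (hH : TwC.Locally S TwC.Topology.fpqc (fun S' f => ∃ (M : Type) (_ : AddCommGroup M),
      Nonempty (Grp.mk (Red.bc f H) ≅ Grp.mk (Red.DS S' M)))) : IsAffineHom H.hom := by
  obtain ⟨S', f, hflat, hsurj, hqc, hloc⟩ := hH
  choose O hO M hM hiso using hloc
  haveI := EtFound.fpqc_isAffineHom.{u}
  have hcov : FpqcDescLib.Covers f :=
    FpqcDescLib.covers_of_hcov f ⟨S', f, 𝟙 _, Category.id_comp _, hsurj, hflat, hqc⟩
  refine hcov.descends @IsAffineHom H.hom (pullback.snd H.hom f) (pullback.fst H.hom f)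
    (IsPullback.of_hasPullback H.hom f).flip ?_
  refine IsZariskiLocalAtTarget.of_forall_exists_morphismRestrict fun s' => ⟨O s', hO s', ?_⟩
  obtain ⟨i⟩ := hiso s'
  haveI : IsAffine (Red.diag (ULift.{u} ℤ) (M s')).left := inferInstanceAs (IsAffine (Spec _))
  have hA : IsAffineHom (Red.DS (O s' : Scheme.{u}) (M s')).hom :=
    MorphismProperty.pullback_snd (P := @IsAffineHom) _ _ (isAffineHom_of_isAffine _)
  have H1 : IsPullback ((pullback.snd H.hom f ⁻¹ᵁ O s').ι ≫ pullback.fst H.hom f)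
      (pullback.snd H.hom f ∣_ O s') H.hom ((O s').ι ≫ f) :=
    (isPullback_morphismRestrict _ _).flip.paste_horiz (IsPullback.of_hasPullback H.hom f)
  rw [← H1.isoPullback_hom_snd]
  haveI : IsIso i.hom.hom.hom.left :=
    ⟨i.inv.hom.hom.left, congrArg (fun h => h.hom.hom.left) i.hom_inv_id,
      congrArg (fun h => h.hom.hom.left) i.inv_hom_id⟩
  have hw : i.hom.hom.hom.left ≫ (Red.DS (O s' : Scheme.{u}) (M s')).hom = pullback.snd H.hom ((O s').ι ≫ f) :=
    Over.w i.hom.hom.hom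
  rw [MorphismProperty.cancel_left_of_respectsIso (P := @IsAffineHom), ← hw,
    MorphismProperty.cancel_left_of_respectsIso (P := @IsAffineHom)]
  exact hA

/-- A group of multiplicative type over an affine base is the spectrum of a Hopf algebra of multiplicative type. -/
theorem exists_hopf_multType (H : Over (Spec (CommRingCat.of R))) [GrpObj H]
    (hH : TwC.Locally (Spec (CommRingCat.of R)) TwC.Topology.fpqc (fun S' f => ∃ (M : Type) (_ : AddCommGroup M),
      Nonempty (Grp.mk (Red.bc f H) ≅ Grp.mk (Red.DS S' M)))) :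
    ∃ (B : Type u) (_ : CommRing B) (_ : HopfAlgebra R B),
      SGA3b.IsMultType R B ∧ Nonempty (Grp.mk (sp R B) ≅ Grp.mk H) := by
  haveI := isAffineHom hH
  haveI : IsAffine H.left := isAffine_of_isAffineHom H.hom
  obtain ⟨B, _, _, ⟨e⟩⟩ := GrpSchLib.AffineHopf.exists_hopf H
  refine ⟨B, inferInstance, inferInstance, ?_, ⟨e⟩⟩
  obtain ⟨S', f, hflat, hsurj, hqc, hloc⟩ := hH
  choose O hO M hM hiso using hloc
  obtain ⟨W, hWc, hWU⟩ := hqc ⊤ (isAffineOpen_top _)
  have hex : ∀ w : S', ∃ V : S'.Opens, IsAffineOpen V ∧ w ∈ V ∧ V ≤ O w := fun w => by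
    obtain ⟨V, hV, hwV, hVle⟩ := exists_isAffineOpen_mem_and_subset (hO w)
    exact ⟨V, hV, hwV, hVle⟩
  choose V hVa hwV hVO using hex
  obtain ⟨t, ht⟩ := hWc.elim_finite_subcover (fun w => (V w : Set S')) (fun w => (V w).2)
    fun w _ => Set.mem_iUnion.mpr ⟨w, hwV _⟩
  let S : ↥t → Type u := fun w => Γ(S', V w.1)
  let ρ : ∀ w : t, CommRingCat.of R ⟶ CommRingCat.of (S w) := fun w => Spec.preimage ((hVa w.1).fromSpec ≫ f)
  have hρ : ∀ w : t, Spec.map (ρ w) = (hVa w.1).fromSpec ≫ f := fun w => Spec.map_preimage _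
  letI : ∀ w : t, Algebra R (S w) := fun w => (ρ w).hom.toAlgebra
  haveI : ∀ w : t, Module.Flat R (S w) := fun w => by
    haveI : Flat (Spec.map (ρ w)) := by rw [hρ]; infer_instance
    exact (HasRingHomProperty.Spec_iff (P := @Flat)).mp this
  refine MultTypeLib.isMultType_of_flatCover S (fun p hp => ?_) fun w => ?_
  · have hz : (⟨p, hp⟩ : PrimeSpectrum R) ∈ f.base '' (W : Set S') := by rw [hWU]; trivial
    obtain ⟨y, hy, hyz⟩ := hz
    obtain ⟨w, hw, hyw⟩ := Set.mem_iUnion₂.mp (ht hy)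
    rw [← (hVa w).range_fromSpec] at hyw
    obtain ⟨q, hq⟩ := hyw
    refine ⟨⟨w, hw⟩, q.asIdeal, q.isPrime, ?_⟩
    have : (Spec.map (ρ ⟨w, hw⟩)) q = (⟨p, hp⟩ : PrimeSpectrum R) := by
      rw [hρ, Scheme.Hom.comp_apply]
      exact (congrArg f.base hq).trans hyz
    exact congrArg PrimeSpectrum.asIdeal this
  · let j : Spec (CommRingCat.of (S w)) ⟶ (O w.1 : Scheme.{u}) :=
      IsOpenImmersion.lift (O w.1).ι (hVa w.1).fromSpec (by
        refine (hVa w.1).range_fromSpec.trans_subset ?_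
        rw [Scheme.Opens.range_ι]
        exact hVO w.1)
    have hj : j ≫ (O w.1).ι ≫ f = Spec.map (CommRingCat.ofHom (algebraMap R (S w))) := by
      rw [IsOpenImmersion.lift_fac_assoc, ← hρ]
      rfl
    obtain ⟨a₀⟩ := nonempty_bc_sp (R := R) (S w) B
    obtain ⟨a₁⟩ := GrpSchLib.MultTypeBC.bc_iso (Spec.map (CommRingCat.ofHom (algebraMap R (S w)))) e
    obtain ⟨a₂⟩ := GrpSchLib.MultTypeBC.bc_congr hj H
    obtain ⟨a₃⟩ := GrpSchLib.MultTypeBC.bc_bc j ((O w.1).ι ≫ f) H
    obtain ⟨i⟩ := hiso w.1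
    obtain ⟨a₄⟩ := GrpSchLib.MultTypeBC.bc_iso j i
    obtain ⟨a₅⟩ := GrpSchLib.MultTypeBC.bc_DS j (M w.1)
    obtain ⟨a₆⟩ := nonempty_DS_iso (S w) (M w.1)
    obtain ⟨q⟩ := nonempty_bialgEquiv
      (a₀.symm ≪≫ a₁ ≪≫ a₂.symm ≪≫ a₃.symm ≪≫ a₄ ≪≫ a₅ ≪≫ a₆.symm)
    exact ⟨ULift.{u} (Multiplicative (M w.1)), inferInstance, ⟨q.symm.trans (uliftEquiv _ _)⟩⟩

end Groth.Agent.Deform
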