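import Groth.Agent.Deform.Rigid
import Groth.Agent.TransLib.MultEssFree
import Groth.Agent.TransLib.Universal
import Groth.Agent.GrpSchLib.MonoSubgroup
import Groth.Agent.MultTypeFlat.Basic
import Groth.Agent.S5284
import Groth.Agent.S1488
import Groth.Agent.S4599
import Groth.Agent.AlgSpPts.Sep

/-!
# Transporters of homomorphisms and of subgroups of multiplicative type are smooth
-/

set_option autoImplicit false
set_option linter.style.haveILetI false
set_option linter.unusedSectionVars false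
set_option backward.isDefEq.respectTransparency false
set_option backward.isDefEq.respectTransparency.types false

universe u

open CategoryTheory CategoryTheory.Limits MonoidalCategory CartesianMonoidalCategory AlgebraicGeometry

open scoped MonObj

namespace Groth.Agent.Deform

section Theta

variable {S T : Scheme.{u}} (b : T ⟶ S) {H G : Over S}

theorem theta_map' {Y : Over T} (h : Y ⟶ Red.bc b H) (w : H ⟶ G) :
    DSPtsLib.theta b (h ≫ (Over.pullback b).map w) = DSPtsLib.theta b h ≫ w :=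
  (Over.mapPullbackAdj b).homEquiv_naturality_right_symm h w

/-- Points of the base change, as a homomorphism to points over the base. -/
noncomputable def thHom [GrpObj G] (Y : Over T) : (Y ⟶ Red.bc b G) →* ((Over.map b).obj Y ⟶ G) :=
  MonoidHom.mk' (DSPtsLib.theta b) (DSPtsLib.theta_mul b)

theorem thHom_apply [GrpObj G] {Y : Over T} (a : Y ⟶ Red.bc b G) : thHom b Y a = DSPtsLib.theta b a := rfl

theorem theta_inv [GrpObj G] {Y : Over T} (a : Y ⟶ Red.bc b G) :
    DSPtsLib.theta b a⁻¹ = (DSPtsLib.theta b a)⁻¹ := map_inv (thHom b Y) a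

/-- A scheme over an `S`-scheme lying over `T` lies over `T`. -/
theorem exists_pullPoint {U : Over T} (X : Over S) (x : X ⟶ (Over.map b).obj U) :
    ∃ (Y : Over T) (y : Y ⟶ U) (e : X ≅ (Over.map b).obj Y), e.hom ≫ (Over.map b).map y = x := by
  let Y : Over T := Over.mk (x.left ≫ U.hom)
  have hw : (x.left ≫ U.hom) ≫ b = X.hom := (Category.assoc _ _ _).trans (Over.w x)
  refine ⟨Y, Over.homMk x.left rfl, Over.isoMk (Iso.refl _) ((Category.id_comp _).trans hw), ?_⟩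
  exact Over.OverMorphism.ext (Category.id_comp _)

end Theta

/-- A closed subscheme of points with the lifting property is smooth. -/
theorem smooth_of_points {S : Scheme.{u}} {T G : Over S} (j : T ⟶ G) [Mono j]
    [LocallyOfFinitePresentation T.hom]
    (hlift : ∀ (A : Type u) [CommRing A] (I : Ideal A), I ^ 2 = ⊥ → ∀ (b : Spec (CommRingCat.of A) ⟶ S)
      (g₀ : closedPt I ⟶ Red.bc b G), (∃ z, z ≫ j = DSPtsLib.theta b g₀) →
      ∃ g : 𝟙_ (Over (Spec (CommRingCat.of A))) ⟶ Red.bc b G,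
        toUnit (closedPt I) ≫ g = g₀ ∧ ∃ z, z ≫ j = DSPtsLib.theta b g) :
    Smooth T.hom := by
  refine (S1488.result T.hom).mpr ⟨inferInstance, fun A _ I hI a b w => ?_⟩
  let a' : (Over.map b).obj (closedPt I) ⟶ T := Over.homMk a w.symm
  obtain ⟨g₀, hg₀⟩ := (DSPtsLib.theta_bijective b).surjective (a' ≫ j)
  obtain ⟨g, hg, z, hz⟩ := hlift A I hI b g₀ ⟨a', hg₀.symm⟩
  refine ⟨z.left, ?_, (Over.w z).trans (Category.id_comp _)⟩
  have e : (Over.map b).map (toUnit (closedPt I)) ≫ z = a' := by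
    rw [← cancel_mono j, Category.assoc, hz, ← DSPtsLib.theta_comp, hg, hg₀]
  exact congrArg CommaMorphism.left e

section Mult

variable {S : Scheme.{u}} {H G : Over S} [GrpObj H] [GrpObj G]

theorem smooth_bc {T : Scheme.{u}} (b : T ⟶ S) [Smooth G.hom] : Smooth (Red.bc b G).hom :=
  inferInstanceAs (Smooth (pullback.snd G.hom b))

/-- A monomorphic homomorphism from a group of multiplicative type to an affine group is a closed immersion. -/
theorem isClosedImmersion_of_mono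
    (hH : TwC.Locally S TwC.Topology.fpqc (fun S' f => ∃ (M : Type) (_ : AddCommGroup M),
      Nonempty (Grp.mk (Red.bc f H) ≅ Grp.mk (Red.DS S' M))))
    [IsAffineHom G.hom] (i : H ⟶ G) [IsMonHom i] [Mono i] : IsClosedImmersion i.left := by
  let a : AlgGrp.Action H G :=
    { act := (fst H G ≫ i) * snd H G
      one_act := by
        rw [MonObj.comp_mul, whiskerRight_fst_assoc, whiskerRight_snd, IsMonHom.one_hom,
          Subsingleton.elim (fst (𝟙_ (Over S)) G) (toUnit _), ← Hom.one_def, _root_.one_mul]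
        exact (leftUnitor_hom G).symm
      mul_act := by
        simp only [MonObj.comp_mul, whiskerRight_fst_assoc, whiskerRight_snd, associator_hom_fst_assoc,
          whiskerLeft_fst_assoc, whiskerLeft_snd, associator_hom_snd_fst_assoc, associator_hom_snd_snd,
          MonObj.mul_eq_mul, MonObj.mul_comp, _root_.mul_assoc] }
  have h := (S5284.result H G hH ‹_› a fun Y g x hgx => by
    change lift g x ≫ ((fst H G ≫ i) * snd H G) = x at hgx
    rw [MonObj.comp_mul, lift_fst_assoc, lift_snd] at hgx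
    exact (cancel_mono i).mp ((mul_eq_right.mp hgx).trans (MonObj.one_comp i).symm)).2 η[G]
  have e : a.orbitMap η[G] = i := by
    show lift (𝟙 H) (toUnit H ≫ η[G]) ≫ ((fst H G ≫ i) * snd H G) = i
    rw [MonObj.comp_mul, lift_fst_assoc, lift_snd, ← Hom.one_def, _root_.mul_one, Category.id_comp]
  rwa [e] at h

/-- The transporter of a homomorphism into another is a smooth closed subscheme. -/
theorem exists_transporter
    (hH : TwC.Locally S TwC.Topology.fpqc (fun S' f => ∃ (M : Type) (_ : AddCommGroup M),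
      Nonempty (Grp.mk (Red.bc f H) ≅ Grp.mk (Red.DS S' M))))
    [Smooth G.hom] [IsSeparated G.hom] (u₁ u₂ : H ⟶ G) [IsMonHom u₁] [IsMonHom u₂] :
    ∃ (T : Over S) (j : T ⟶ G), IsClosedImmersion j.left ∧ Smooth T.hom ∧
      ∀ (X : Over S) (g : X ⟶ G), (∃ t : X ⟶ T, t ≫ j = g) ↔
        ∀ (X' : Over S) (x : X' ⟶ X) (h : X' ⟶ H), (x ≫ g) * (h ≫ u₁) * (x ≫ g)⁻¹ = h ≫ u₂ := by
  obtain ⟨haff, hfree⟩ := TransLib.multType_essFree hH
  let dg : G ⟶ G ⊗ G := lift (𝟙 G) (𝟙 G)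
  have hdg : dg.left = pullback.diagonal G.hom := by
    refine pullback.hom_ext ?_ ?_
    · rw [pullback.diagonal_fst]
      exact congrArg CommaMorphism.left (lift_fst (𝟙 G) (𝟙 G))
    · rw [pullback.diagonal_snd]
      exact congrArg CommaMorphism.left (lift_snd (𝟙 G) (𝟙 G))
  haveI : IsClosedImmersion dg.left := by rw [hdg]; exact IsSeparated.isClosedImmersion_diagonal
  have hdfp : LocallyOfFinitePresentation dg.left := by rw [hdg]; exact S4599.result G.hom
  let c : H ⊗ G ⟶ G := snd H G * (fst H G ≫ u₁) * (snd H G)⁻¹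
  obtain ⟨T, j, hj, hjfp, hT⟩ := TransLib.exists_closed_universal_essFree (X := G) hfree
    (lift c (fst H G ≫ u₂)) dg
  haveI := hj
  haveI : Mono j := (Over.forget _).mono_of_mono_map (inferInstanceAs (Mono j.left))
  haveI := hjfp inferInstance hdfp
  haveI : LocallyOfFinitePresentation T.hom := by rw [← Over.w j]; infer_instance
  have hc : ∀ {X' : Over S} (g : X' ⟶ G) (h : X' ⟶ H),
      lift h g ≫ c = g * (h ≫ u₁) * g⁻¹ := fun g h => by simp [c, MonObj.comp_mul, GrpObj.comp_inv]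
  have key : ∀ (X : Over S) (g : X ⟶ G), (∃ t : X ⟶ T, t ≫ j = g) ↔
      ∀ (X' : Over S) (x : X' ⟶ X) (h : X' ⟶ H), (x ≫ g) * (h ≫ u₁) * (x ≫ g)⁻¹ = h ≫ u₂ := fun X g => by
    refine (hT g).trans ⟨fun ⟨l, hl⟩ X' x h => ?_, fun hall => ?_⟩
    · have e1 := congrArg (fun m => lift h x ≫ m ≫ fst G G) hl
      have e2 := congrArg (fun m => lift h x ≫ m ≫ snd G G) hl
      simp only [dg, Category.assoc, lift_fst, lift_snd, Category.comp_id, lift_whiskerLeft_assoc, hc,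
        lift_fst_assoc] at e1 e2
      rw [← e1, e2]
    · refine ⟨(H ◁ g) ≫ fst H G ≫ u₂, CartesianMonoidalCategory.hom_ext _ _ ?_ ?_⟩
      · simp only [dg, Category.assoc, lift_fst, Category.comp_id]
        have := hall (H ⊗ X) (snd H X) (fst H X)
        rw [← hc] at this
        rw [whiskerLeft_fst_assoc, ← this]
        congr 1
      · simp only [dg, Category.assoc, lift_snd, Category.comp_id]
  refine ⟨T, j, hj, smooth_of_points j fun A _ I hI b g₀ hz₀ => ?_, key⟩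
  haveI : IsMonHom ((Over.pullback b).map u₁) := inferInstance
  haveI : IsMonHom ((Over.pullback b).map u₂) := inferInstance
  haveI := smooth_bc (G := G) b
  obtain ⟨g, hg, hg'⟩ := exists_conj_nilpotent (H := Red.bc b H) (G := Red.bc b G) ⟨2, hI⟩ (locally_bc b hH)
    ((Over.pullback b).map u₁) ((Over.pullback b).map u₂) g₀ fun Y p h => by
      apply (DSPtsLib.theta_bijective b).injective
      rw [DSPtsLib.theta_mul, DSPtsLib.theta_mul, theta_inv, theta_map', theta_map', DSPtsLib.theta_comp]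
      exact ((key _ _).mp hz₀ _ ((Over.map b).map p) (DSPtsLib.theta b h)).symm
  refine ⟨g, hg, (key _ _).mpr fun X' x h => ?_⟩
  obtain ⟨Y, y, e, rfl⟩ := exists_pullPoint b X' x
  obtain ⟨h', hh'⟩ := (DSPtsLib.theta_bijective b).surjective (e.inv ≫ h)
  have hh : h = e.hom ≫ DSPtsLib.theta b h' := by rw [hh', Iso.hom_inv_id_assoc]
  have h1 := congrArg (fun m => e.hom ≫ DSPtsLib.theta b m) (hg' Y h')
  simp only [DSPtsLib.theta_mul, theta_inv, theta_map', MonObj.comp_mul, GrpObj.comp_inv] at h1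
  rw [hh, Category.assoc, Category.assoc, Category.assoc, h1, ← DSPtsLib.theta_comp,
    Subsingleton.elim y (toUnit Y)]

/-- The centralizer of a homomorphism is a smooth closed subgroup. -/
theorem exists_centralizer
    (hH : TwC.Locally S TwC.Topology.fpqc (fun S' f => ∃ (M : Type) (_ : AddCommGroup M),
      Nonempty (Grp.mk (Red.bc f H) ≅ Grp.mk (Red.DS S' M))))
    [Smooth G.hom] [IsSeparated G.hom] (u : H ⟶ G) [IsMonHom u] :
    ∃ (Z : Over S) (_ : GrpObj Z) (j : Z ⟶ G), Red.IsCentralizerOf u j ∧ IsClosedImmersion j.left ∧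
      Smooth Z.hom := by
  obtain ⟨Z, j, hj, hZs, hZ⟩ := exists_transporter hH u u
  haveI := hj
  haveI : Mono j := (Over.forget _).mono_of_mono_map (inferInstanceAs (Mono j.left))
  have key : ∀ (X : Over S) (g : X ⟶ G), (∃ z : X ⟶ Z, z ≫ j = g) ↔
      ∀ (X' : Over S) (x : X' ⟶ X) (h : X' ⟶ H), (x ≫ g) * (h ≫ u) = (h ≫ u) * (x ≫ g) := fun X g =>
    (hZ X g).trans (forall_congr' fun X' => forall_congr' fun x => forall_congr' fun h => mul_inv_eq_iff_eq_mul)
  obtain ⟨e, he⟩ := (key _ η[G]).mpr fun X' x h => by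
    rw [show x ≫ η[G] = (1 : X' ⟶ G) by rw [Hom.one_def, toUnit_unique x (toUnit _)], _root_.one_mul, _root_.mul_one]
  obtain ⟨m, hm⟩ := (key _ ((fst Z Z ≫ j) * (snd Z Z ≫ j))).mpr fun X' x h => by
    rw [MonObj.comp_mul, ← Category.assoc, ← Category.assoc]
    have h1 := (key _ ((x ≫ fst Z Z) ≫ j)).mp ⟨_, rfl⟩ X' (𝟙 _) h
    have h2 := (key _ ((x ≫ snd Z Z) ≫ j)).mp ⟨_, rfl⟩ X' (𝟙 _) h
    simp only [Category.id_comp] at h1 h2
    exact (Commute.mul_left h1 h2).eq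
  obtain ⟨v, hv⟩ := (key _ j⁻¹).mpr fun X' x h => by
    have h1 := (key _ (x ≫ j)).mp ⟨x, rfl⟩ X' (𝟙 _) h
    simp only [Category.id_comp] at h1
    rw [GrpObj.comp_inv]
    exact (Commute.inv_left h1).eq
  obtain ⟨str, hmon⟩ := GrpSchLib.exists_grpObj_of_mono j e he m hm v hv
  exact ⟨Z, str, j, ⟨hmon, inferInstance, key⟩, hj, hZs⟩

end Mult

section Sub

variable {S : Scheme.{u}} {H₁ H₂ G : Over S} [GrpObj H₁] [GrpObj H₂] [GrpObj G]

theorem isMultType_of_ft {H : Over S} [GrpObj H] (hH : SGA3x.IsMultTypeFT H) :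
    TwC.Locally S TwC.Topology.fpqc (fun S' f => ∃ (M : Type) (_ : AddCommGroup M),
      Nonempty (Grp.mk (Red.bc f H) ≅ Grp.mk (Red.DS S' M))) := by
  obtain ⟨S', f, hf, hs, hqc, hloc⟩ := hH
  exact ⟨S', f, hf, hs, hqc, fun s' => by
    obtain ⟨U, hU, M, iM, -, e⟩ := hloc s'
    exact ⟨U, hU, M, iM, e⟩⟩

variable (hH₁ : SGA3x.IsMultTypeFT H₁) (hH₂ : SGA3x.IsMultTypeFT H₂) (i₁ : H₁ ⟶ G) [IsMonHom i₁]
  (i₂ : H₂ ⟶ G) [IsMonHom i₂] [Mono i₂]

include hH₁ hH₂ in
/-- The points conjugating a subgroup into another, as a closed subscheme. -/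
theorem exists_transporter_sub_closed [Smooth G.hom] [IsClosedImmersion i₂.left] :
    ∃ (T : Over S) (j : T ⟶ G), IsClosedImmersion j.left ∧ LocallyOfFinitePresentation j.left ∧
      ∀ (X : Over S) (g : X ⟶ G), (∃ t : X ⟶ T, t ≫ j = g) ↔
        ∀ (X' : Over S) (x : X' ⟶ X) (h : X' ⟶ H₁),
          ∃ h' : X' ⟶ H₂, (x ≫ g) * (h ≫ i₁) * (x ≫ g)⁻¹ = h' ≫ i₂ := by
  obtain ⟨haff, hfree⟩ := TransLib.multType_essFree (isMultType_of_ft hH₁)
  have hfp : LocallyOfFinitePresentation i₂.left := by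
    haveI := MultTypeFlat.lfp hH₂
    haveI : LocallyOfFinitePresentation (i₂.left ≫ G.hom) := by rw [Over.w i₂]; infer_instance
    exact AlgSpPts.locallyOfFinitePresentation_of_comp i₂.left G.hom
  let c : H₁ ⊗ G ⟶ G := snd H₁ G * (fst H₁ G ≫ i₁) * (snd H₁ G)⁻¹
  obtain ⟨T, j, hj, hjfp, hT⟩ := TransLib.exists_closed_universal_essFree (X := G) hfree c i₂
  refine ⟨T, j, hj, hjfp inferInstance hfp, fun X g => (hT g).trans ⟨fun ⟨l, hl⟩ X' x h => ⟨lift h x ≫ l, ?_⟩,
    fun hall => ?_⟩⟩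
  · rw [Category.assoc, hl]
    simp [c, MonObj.comp_mul, GrpObj.comp_inv]
  · obtain ⟨l, hl⟩ := hall (H₁ ⊗ X) (snd H₁ X) (fst H₁ X)
    exact ⟨l, by rw [← hl]; simp [c, MonObj.comp_mul, GrpObj.comp_inv]⟩

include hH₁ hH₂ in
/-- The strict transporter of subgroups is a smooth closed subscheme. -/
theorem exists_transporter_eq' [Smooth G.hom] [Mono i₁] [IsClosedImmersion i₁.left] [IsClosedImmersion i₂.left] :
    ∃ (T : Over S) (j : T ⟶ G), IsClosedImmersion j.left ∧ Smooth T.hom ∧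
      ∀ (X : Over S) (g : X ⟶ G), (∃ t : X ⟶ T, t ≫ j = g) ↔ ∀ (X' : Over S) (x : X' ⟶ X),
        (∀ h₁ : X' ⟶ H₁, ∃ h₂ : X' ⟶ H₂, (x ≫ g) * (h₁ ≫ i₁) * (x ≫ g)⁻¹ = h₂ ≫ i₂) ∧
        (∀ h₂ : X' ⟶ H₂, ∃ h₁ : X' ⟶ H₁, (x ≫ g)⁻¹ * (h₂ ≫ i₂) * (x ≫ g) = h₁ ≫ i₁) := by
  obtain ⟨A, a, ha, hafp, hA⟩ := exists_transporter_sub_closed hH₁ hH₂ i₁ i₂
  obtain ⟨B, b₁, hb, hbfp, hB⟩ := exists_transporter_sub_closed hH₂ hH₁ i₂ i₁
  haveI : IsClosedImmersion a.left := ha
  haveI : IsClosedImmersion b₁.left := hb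
  let v : G ⟶ G := (𝟙 G)⁻¹
  haveI : IsIso v := ⟨v, by simp [v, GrpObj.comp_inv], by simp [v, GrpObj.comp_inv]⟩
  haveI : IsIso v.left := inferInstanceAs (IsIso ((Over.forget S).map v))
  let bb : B ⟶ G := b₁ ≫ v
  haveI : IsClosedImmersion bb.left := inferInstanceAs (IsClosedImmersion (b₁.left ≫ v.left))
  haveI := hafp
  haveI := hbfp
  haveI : LocallyOfFinitePresentation bb.left := inferInstanceAs (LocallyOfFinitePresentation (b₁.left ≫ v.left))
  let T : Over S := Over.mk (pullback.fst a.left bb.left ≫ a.left ≫ G.hom)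
  let j : T ⟶ G := Over.homMk (pullback.fst a.left bb.left ≫ a.left) (Category.assoc _ _ _)
  haveI hj : IsClosedImmersion j.left := inferInstanceAs (IsClosedImmersion (_ ≫ _))
  haveI : Mono j := (Over.forget _).mono_of_mono_map (inferInstanceAs (Mono j.left))
  haveI : LocallyOfFinitePresentation T.hom := inferInstanceAs (LocallyOfFinitePresentation (_ ≫ _ ≫ _))
  have hAB : ∀ (X : Over S) (g : X ⟶ G),
      (∃ t : X ⟶ T, t ≫ j = g) ↔ (∃ z, z ≫ a = g) ∧ ∃ z, z ≫ b₁ = g⁻¹ := by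
    intro X g
    constructor
    · rintro ⟨t, rfl⟩
      refine ⟨⟨t ≫ Over.homMk (pullback.fst a.left bb.left) (by
          show pullback.fst a.left bb.left ≫ A.hom = _
          rw [← Over.w a]; rfl), ?_⟩,
        ⟨t ≫ Over.homMk (pullback.snd a.left bb.left) (by
          show pullback.snd a.left bb.left ≫ B.hom = pullback.fst a.left bb.left ≫ a.left ≫ G.hom
          rw [← Over.w bb, pullback.condition_assoc]), ?_⟩⟩
      · rw [Category.assoc]
        exact congrArg (t ≫ ·) (Over.OverMorphism.ext rfl)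
      · have e : t ≫ j = (t ≫ Over.homMk (pullback.snd a.left bb.left) (by
            show pullback.snd a.left bb.left ≫ B.hom = pullback.fst a.left bb.left ≫ a.left ≫ G.hom
            rw [← Over.w bb, pullback.condition_assoc])) ≫ b₁ ≫ v := by
          rw [Category.assoc]
          exact congrArg (t ≫ ·) (Over.OverMorphism.ext pullback.condition)
        rw [e]
        simp [v, GrpObj.comp_inv]
    · rintro ⟨⟨z, hz⟩, z', hz'⟩
      have e : z' ≫ bb = g := by
        simp only [bb, v, GrpObj.comp_inv, Category.comp_id, hz', inv_inv]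
      refine ⟨Over.homMk (pullback.lift z.left z'.left (congrArg CommaMorphism.left (hz.trans e.symm))) ?_,
        Over.OverMorphism.ext ?_⟩
      · show pullback.lift _ _ _ ≫ pullback.fst _ _ ≫ a.left ≫ G.hom = _
        rw [pullback.lift_fst_assoc, Over.w a, Over.w z]
      · show pullback.lift _ _ _ ≫ pullback.fst _ _ ≫ a.left = _
        rw [pullback.lift_fst_assoc]
        exact congrArg CommaMorphism.left hz
  have key : ∀ (X : Over S) (g : X ⟶ G), (∃ t : X ⟶ T, t ≫ j = g) ↔ ∀ (X' : Over S) (x : X' ⟶ X),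
        (∀ h₁ : X' ⟶ H₁, ∃ h₂ : X' ⟶ H₂, (x ≫ g) * (h₁ ≫ i₁) * (x ≫ g)⁻¹ = h₂ ≫ i₂) ∧
        (∀ h₂ : X' ⟶ H₂, ∃ h₁ : X' ⟶ H₁, (x ≫ g)⁻¹ * (h₂ ≫ i₂) * (x ≫ g) = h₁ ≫ i₁) := fun X g => by
    rw [hAB, hA, hB]
    simp only [GrpObj.comp_inv, inv_inv]
    exact ⟨fun h X' x => ⟨h.1 X' x, h.2 X' x⟩, fun h => ⟨fun X' x => (h X' x).1, fun X' x => (h X' x).2⟩⟩
  refine ⟨T, j, hj, smooth_of_points j fun R _ I hI b g₀ hz₀ => ?_, key⟩
  haveI := smooth_bc (G := G) b
  obtain ⟨g, hg, φ, hφ⟩ := conjBy_nilpotent (G := Red.bc b G) (locally_bc b (isMultType_of_ft hH₁))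
    (locally_bc b (isMultType_of_ft hH₂)) ⟨2, hI⟩ ((Over.pullback b).map i₁) ((Over.pullback b).map i₂) g₀
    fun Y p => by
      have hp := (key _ _).mp hz₀ _ ((Over.map b).map p)
      rw [← DSPtsLib.theta_comp] at hp
      constructor
      · intro h
        obtain ⟨h', hh'⟩ := hp.1 (DSPtsLib.theta b h)
        obtain ⟨k, rfl⟩ := (DSPtsLib.theta_bijective b).surjective h'
        exact ⟨k, (DSPtsLib.theta_bijective b).injective (by
          rw [DSPtsLib.theta_mul, DSPtsLib.theta_mul, theta_inv, theta_map', theta_map', hh'])⟩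
      · intro h
        obtain ⟨h', hh'⟩ := hp.2 (DSPtsLib.theta b h)
        obtain ⟨k, rfl⟩ := (DSPtsLib.theta_bijective b).surjective h'
        exact ⟨k, (DSPtsLib.theta_bijective b).injective (by
          rw [DSPtsLib.theta_mul, DSPtsLib.theta_mul, theta_inv, theta_map', theta_map', hh'])⟩
  refine ⟨g, hg, (key _ _).mpr fun X' x => ?_⟩
  obtain ⟨Y, y, e, rfl⟩ := exists_pullPoint b X' x
  have hy : (e.hom ≫ (Over.map b).map y) ≫ DSPtsLib.theta b g =
      e.hom ≫ DSPtsLib.theta b (toUnit Y ≫ g) := by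
    rw [Category.assoc, ← DSPtsLib.theta_comp, Subsingleton.elim y (toUnit Y)]
  have hc : ∀ q : Y ⟶ Red.bc b H₁, (toUnit Y ≫ g) * (q ≫ (Over.pullback b).map i₁) * (toUnit Y ≫ g)⁻¹ =
      (q ≫ φ.hom) ≫ (Over.pullback b).map i₂ := fun q => by
    rw [Category.assoc, ← hφ]
    simp only [MonObj.comp_mul, GrpObj.comp_inv, comp_toUnit_assoc]
  constructor
  · intro h₁
    obtain ⟨q, hq⟩ := (DSPtsLib.theta_bijective b).surjective (e.inv ≫ h₁)
    refine ⟨e.hom ≫ DSPtsLib.theta b (q ≫ φ.hom), ?_⟩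
    have h1 := congrArg (fun m => e.hom ≫ DSPtsLib.theta b m) (hc q)
    simp only [DSPtsLib.theta_mul, theta_inv, theta_map', MonObj.comp_mul, GrpObj.comp_inv, hq, Category.assoc,
      Iso.hom_inv_id_assoc] at h1
    rw [hy, h1, Category.assoc, ← theta_map', Category.assoc]
  · intro h₂
    obtain ⟨q, hq⟩ := (DSPtsLib.theta_bijective b).surjective (e.inv ≫ h₂)
    refine ⟨e.hom ≫ DSPtsLib.theta b (q ≫ φ.inv), ?_⟩
    have h0 : (toUnit Y ≫ g)⁻¹ * (q ≫ (Over.pullback b).map i₂) * (toUnit Y ≫ g) =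
        (q ≫ φ.inv) ≫ (Over.pullback b).map i₁ := by
      have := hc (q ≫ φ.inv)
      rw [Category.assoc q φ.inv φ.hom, Iso.inv_hom_id, Category.comp_id] at this
      rw [← this]
      group
    have h1 := congrArg (fun m => e.hom ≫ DSPtsLib.theta b m) h0
    simp only [DSPtsLib.theta_mul, theta_inv, theta_map', MonObj.comp_mul, GrpObj.comp_inv, hq, Category.assoc,
      Iso.hom_inv_id_assoc] at h1
    rw [hy, h1, Category.assoc, ← theta_map', Category.assoc]

include hH₁ hH₂ in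
/-- The strict transporter in an affine group is a smooth closed subscheme. -/
theorem exists_transporter_eq [Smooth G.hom] [IsAffineHom G.hom] [Mono i₁] :
    ∃ (T : Over S) (j : T ⟶ G), IsClosedImmersion j.left ∧ Smooth T.hom ∧
      ∀ (X : Over S) (g : X ⟶ G), (∃ t : X ⟶ T, t ≫ j = g) ↔ ∀ (X' : Over S) (x : X' ⟶ X),
        (∀ h₁ : X' ⟶ H₁, ∃ h₂ : X' ⟶ H₂, (x ≫ g) * (h₁ ≫ i₁) * (x ≫ g)⁻¹ = h₂ ≫ i₂) ∧
        (∀ h₂ : X' ⟶ H₂, ∃ h₁ : X' ⟶ H₁, (x ≫ g)⁻¹ * (h₂ ≫ i₂) * (x ≫ g) = h₁ ≫ i₁) := by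
  haveI := isClosedImmersion_of_mono (isMultType_of_ft hH₁) i₁
  haveI := isClosedImmersion_of_mono (isMultType_of_ft hH₂) i₂
  exact exists_transporter_eq' hH₁ hH₂ i₁ i₂

include hH₁ hH₂ in
/-- The transporter of a subgroup into another is a smooth closed subscheme. -/
theorem exists_transporter_le [Smooth G.hom] [IsAffineHom G.hom] :
    ∃ (C : Over S) (c : C ⟶ G), IsClosedImmersion c.left ∧ Smooth C.hom ∧
      ∀ (X : Over S) (g : X ⟶ G), (∃ z : X ⟶ C, z ≫ c = g) ↔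
        ∀ (X' : Over S) (x : X' ⟶ X) (h : X' ⟶ H₁),
          ∃ h' : X' ⟶ H₂, (x ≫ g) * (h ≫ i₁) * (x ≫ g)⁻¹ = h' ≫ i₂ := by
  haveI := isClosedImmersion_of_mono (isMultType_of_ft hH₂) i₂
  obtain ⟨C, c, hc, hcfp, hC⟩ := exists_transporter_sub_closed hH₁ hH₂ i₁ i₂
  haveI := hc
  haveI := hcfp
  haveI : Mono c := (Over.forget _).mono_of_mono_map (inferInstanceAs (Mono c.left))
  haveI : LocallyOfFinitePresentation C.hom := by rw [← Over.w c]; infer_instance
  refine ⟨C, c, hc, smooth_of_points c fun R _ I hI b g₀ hz₀ => ?_, hC⟩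
  have hnil : IsNilpotent I := ⟨2, hI⟩
  haveI := smooth_bc (G := G) b
  let u := (Over.pullback b).map i₁
  let k := (Over.pullback b).map i₂
  haveI : IsMonHom u := inferInstanceAs (IsMonHom ((Over.pullback b).map i₁))
  haveI : IsMonHom k := inferInstanceAs (IsMonHom ((Over.pullback b).map i₂))
  haveI : Mono k := inferInstanceAs (Mono ((Over.pullback b).map i₂))
  have hH₁' := locally_bc b (isMultType_of_ft hH₁)
  have hH₂' := locally_bc b (isMultType_of_ft hH₂)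
  obtain ⟨g₁, hg₁⟩ := exists_lift_pt hnil g₀
  let u₁ := (toUnit _ ≫ g₁) * u * (toUnit _ ≫ g₁)⁻¹
  haveI : IsMonHom u₁ := isMonHom_conj u g₁
  have hu₁ : ∀ (Y : Over (Spec (CommRingCat.of R))) (h : Y ⟶ Red.bc b H₁),
      h ≫ u₁ = (toUnit Y ≫ g₁) * (h ≫ u) * (toUnit Y ≫ g₁)⁻¹ := fun Y h => by
    simp only [u₁, MonObj.comp_mul, GrpObj.comp_inv, comp_toUnit_assoc]
  let x₀ := DSPtsLib.theta (bm I) (𝟙 (Red.bc (bm I) (Red.bc b H₁)))
  obtain ⟨y, hy⟩ := (hC _ _).mp hz₀ _ ((Over.map b).map (redPt I (Red.bc b H₁))) (DSPtsLib.theta b x₀)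
  obtain ⟨y', rfl⟩ := (DSPtsLib.theta_bijective b).surjective y
  have hy' : (toUnit _ ≫ g₁) * (x₀ ≫ u) * (toUnit _ ≫ g₁)⁻¹ = y' ≫ k := by
    apply (DSPtsLib.theta_bijective b).injective
    rw [DSPtsLib.theta_mul, DSPtsLib.theta_mul, theta_inv, theta_map', theta_map', ← comp_toUnit (redPt I (Red.bc b H₁)),
      Category.assoc, hg₁, DSPtsLib.theta_comp]
    exact hy
  obtain ⟨ψ, rfl⟩ := (DSPtsLib.theta_bijective (bm I)).surjective y'
  have e1 : ψ ≫ (Over.pullback (bm I)).map k = (Over.pullback (bm I)).map u₁ := by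
    refine ((DSPtsLib.theta_bijective (bm I)).injective ?_).trans (Category.id_comp _)
    rw [theta_map, theta_map, ← hy', hu₁]
  haveI : Mono ((Over.pullback (bm I)).map k) := inferInstance
  haveI : IsMonHom ((Over.pullback (bm I)).map k) := inferInstance
  haveI : IsMonHom ((Over.pullback (bm I)).map u₁) := inferInstance
  haveI : IsMonHom ψ := WittEndoLib.isMonHom_of_mul _ fun T p q => by
    rw [← cancel_mono ((Over.pullback (bm I)).map k), Category.assoc, e1, MonObj.mul_comp, MonObj.mul_comp,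
      Category.assoc, Category.assoc, e1]
  obtain ⟨a, ha, ha'⟩ := exists_hom_lift hH₁' hH₂' hnil ψ
  have hag : ∀ (Y : Over (Spec (CommRingCat.of R))) (p : Y ⟶ closedPt I) (h : Y ⟶ Red.bc b H₁),
      h ≫ a ≫ k = (p ≫ (1 : closedPt I ⟶ Red.bc b G)) * (h ≫ u₁) * (p ≫ 1)⁻¹ := fun Y p h => by
    rw [MonObj.comp_one, _root_.one_mul, inv_one, _root_.mul_one]
    exact agree_of_map_eq (by rw [Functor.map_comp, ha', e1]) Y p h
  obtain ⟨g, hg, hg'⟩ := exists_conj_nilpotent hnil hH₁' u₁ (a ≫ k) (1 : closedPt I ⟶ Red.bc b G) hag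
  refine ⟨g * g₁, by rw [MonObj.comp_mul, hg, hg₁, _root_.one_mul], (hC _ _).mpr fun X' x h => ?_⟩
  obtain ⟨Y, y, e, rfl⟩ := exists_pullPoint b X' x
  obtain ⟨q, hq⟩ := (DSPtsLib.theta_bijective b).surjective (e.inv ≫ h)
  refine ⟨e.hom ≫ DSPtsLib.theta b (q ≫ a), ?_⟩
  have hy2 : (e.hom ≫ (Over.map b).map y) ≫ DSPtsLib.theta b (g * g₁) =
      e.hom ≫ DSPtsLib.theta b (toUnit Y ≫ (g * g₁)) := by
    rw [Category.assoc, ← DSPtsLib.theta_comp, Subsingleton.elim y (toUnit Y)]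
  have h0 : (toUnit Y ≫ (g * g₁)) * (q ≫ u) * (toUnit Y ≫ (g * g₁))⁻¹ = (q ≫ a) ≫ k := by
    rw [Category.assoc, hg' Y q, hu₁, MonObj.comp_mul]
    group
  have h1 := congrArg (fun m => e.hom ≫ DSPtsLib.theta b m) h0
  simp only [u, k, DSPtsLib.theta_mul, theta_inv, theta_map'] at h1
  simp only [MonObj.comp_mul, GrpObj.comp_inv, hq, Category.assoc, Iso.hom_inv_id_assoc] at h1
  simp only [DSPtsLib.theta_mul] at hy2
  rw [DSPtsLib.theta_mul, hy2, Category.assoc]
  simp only [MonObj.comp_mul] at h1 ⊢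
  exact h1

end Sub

end Groth.Agent.Deform

namespace Groth.Agent.Deform

variable {S : Scheme.{u}} {H G : Over S} [GrpObj H] [GrpObj G]

/-- The normalizer of a subgroup of multiplicative type is a smooth closed subgroup. -/
theorem exists_normalizer' (hH : SGA3x.IsMultTypeFT H) [Smooth G.hom] (i : H ⟶ G) [IsMonHom i]
    [Mono i] [IsClosedImmersion i.left] :
    ∃ (N : Over S) (_ : GrpObj N) (j : N ⟶ G), Red.IsNormalizerOf i j ∧ IsClosedImmersion j.left ∧ Smooth N.hom := by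
  obtain ⟨N, j, hj, hNs, hN⟩ := exists_transporter_eq' hH hH i i
  haveI := hj
  haveI : Mono j := (Over.forget _).mono_of_mono_map (inferInstanceAs (Mono j.left))
  have key : ∀ (X : Over S) (g : X ⟶ G), (∃ z : X ⟶ N, z ≫ j = g) ↔ ∀ (X' : Over S) (x : X' ⟶ X) (h : X' ⟶ H),
      (∃ h' : X' ⟶ H, (x ≫ g) * (h ≫ i) * (x ≫ g)⁻¹ = h' ≫ i) ∧
      (∃ h' : X' ⟶ H, (x ≫ g)⁻¹ * (h ≫ i) * (x ≫ g) = h' ≫ i) := fun X g =>
    (hN X g).trans ⟨fun a X' x h => ⟨(a X' x).1 h, (a X' x).2 h⟩,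
      fun a X' x => ⟨fun h => (a X' x h).1, fun h => (a X' x h).2⟩⟩
  obtain ⟨e, he⟩ := (key _ η[G]).mpr fun X' x h => by
    rw [show x ≫ η[G] = (1 : X' ⟶ G) by rw [Hom.one_def, toUnit_unique x (toUnit _)]]
    exact ⟨⟨h, by group⟩, ⟨h, by group⟩⟩
  obtain ⟨m, hm⟩ := (key _ ((fst N N ≫ j) * (snd N N ≫ j))).mpr fun X' x h => by
    rw [MonObj.comp_mul, ← Category.assoc, ← Category.assoc]
    obtain ⟨a₁, b₁⟩ := forall_and.mp ((key _ ((x ≫ fst N N) ≫ j)).mp ⟨_, rfl⟩ X' (𝟙 _))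
    obtain ⟨a₂, b₂⟩ := forall_and.mp ((key _ ((x ≫ snd N N) ≫ j)).mp ⟨_, rfl⟩ X' (𝟙 _))
    simp only [Category.id_comp] at a₁ b₁ a₂ b₂
    constructor
    · obtain ⟨h₂, e₂⟩ := a₂ h
      obtain ⟨h₁, e₁⟩ := a₁ h₂
      exact ⟨h₁, by rw [← e₁, ← e₂]; group⟩
    · obtain ⟨h₁, e₁⟩ := b₁ h
      obtain ⟨h₂, e₂⟩ := b₂ h₁
      exact ⟨h₂, by rw [← e₂, ← e₁]; group⟩
  obtain ⟨v, hv⟩ := (key _ j⁻¹).mpr fun X' x h => by
    obtain ⟨a, b⟩ := forall_and.mp ((key _ (x ≫ j)).mp ⟨x, rfl⟩ X' (𝟙 _))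
    simp only [Category.id_comp] at a b
    rw [GrpObj.comp_inv, inv_inv]
    exact ⟨b h, a h⟩
  obtain ⟨str, hmon⟩ := GrpSchLib.exists_grpObj_of_mono j e he m hm v hv
  exact ⟨N, str, j, ⟨hmon, inferInstance, key⟩, hj, hNs⟩

/-- The normalizer in an affine group. -/
theorem exists_normalizer (hH : SGA3x.IsMultTypeFT H) [Smooth G.hom] [IsAffineHom G.hom] (i : H ⟶ G) [IsMonHom i]
    [Mono i] :
    ∃ (N : Over S) (_ : GrpObj N) (j : N ⟶ G), Red.IsNormalizerOf i j ∧ IsClosedImmersion j.left ∧ Smooth N.hom := by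
  haveI := isClosedImmersion_of_mono (isMultType_of_ft hH) i
  exact exists_normalizer' hH i

end Groth.Agent.Deform
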