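import Groth.Agent.Deform.TorusSpread
import Groth.Agent.Deform.MultHopf
import Groth.Agent.Deform.Transporter
import Groth.Agent.GrpSchLib.AffineHopfClosed
import Groth.Agent.GrpSchLib.MultTypeLft

/-!
# Tori over algebraically closed fields and maximal tori under field extensions
-/

set_option autoImplicit false
set_option linter.style.haveILetI false
set_option linter.unusedSectionVars false
set_option backward.isDefEq.respectTransparency false
set_option backward.isDefEq.respectTransparency.types false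

universe u

open CategoryTheory CategoryTheory.Limits MonoidalCategory CartesianMonoidalCategory AlgebraicGeometry
open TensorProduct

open scoped MonObj

namespace Groth.Agent.Deform

open GrpSchLib.AffineHopf (sp spMap spMap_comp spMap_id spMap_injective exists_bialgHom exists_eq_spMap spIso
  nonempty_DS_iso scalarBialgEquiv)

/-- A torus is of multiplicative type and of finite type. -/
theorem isMultTypeFT_of_isTorus {S : Scheme.{u}} {T : Over S} [GrpObj T] (hT : Red.IsTorus T) :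
    SGA3x.IsMultTypeFT T := by
  obtain ⟨S', f, hflat, hsurj, hcov, hloc⟩ := hT
  exact ⟨S', f, hflat, hsurj, hcov, fun s' =>
    let ⟨U, hU, r, h⟩ := hloc s'
    ⟨U, hU, Fin r → ℤ, inferInstance, Module.Finite.iff_addGroup_fg.mp inferInstance, h⟩⟩

theorem grp_inv_hom {C : Type*} [Category C] [CartesianMonoidalCategory C] {A B : Grp C} (e : A ≅ B) :
    e.inv.hom.hom ≫ e.hom.hom.hom = 𝟙 _ := congrArg (fun m : B ⟶ B => m.hom.hom) e.inv_hom_id

/-- A split torus is a torus. -/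
theorem isTorus_of_split {S : Scheme.{u}} {T : Over S} [GrpObj T] (r : ℕ)
    (h : Red.IsSplitTorusWith (Fin r → ℤ) T) : Red.IsTorus T := by
  obtain ⟨e⟩ := h
  refine ⟨S, 𝟙 S, inferInstance, inferInstance, fun V hV => ⟨V, hV.isCompact, by simp⟩, fun s => ⟨⊤, trivial, r, ?_⟩⟩
  obtain ⟨a⟩ := GrpSchLib.MultTypeBC.bc_iso ((⊤ : S.Opens).ι ≫ 𝟙 S) e
  obtain ⟨b⟩ := GrpSchLib.MultTypeBC.bc_DS ((⊤ : S.Opens).ι ≫ 𝟙 S) (Fin r → ℤ)
  exact ⟨a ≪≫ b⟩

/-- Tori are stable under base change. -/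
theorem isTorus_bc {S T : Scheme.{u}} (g : T ⟶ S) {H : Over S} [GrpObj H] (hH : Red.IsTorus H) :
    Red.IsTorus (Red.bc g H) := by
  obtain ⟨S', f, hflat, hsurj, hqc, hloc⟩ := hH
  have hcf : FpqcDescLib.Covers f :=
    FpqcDescLib.covers_of_hcov f ⟨S', f, 𝟙 _, Category.id_comp _, hsurj, hflat, hqc⟩
  obtain ⟨Z, r, hr⟩ := hcf.pullback g (pullback.fst g f) (pullback.snd g f) (IsPullback.of_hasPullback g f)
  obtain ⟨hfl, hcov⟩ := GrpSchLib.SubgroupEqLocus.flat_hcov_of_isCovering hr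
  refine ⟨Z, r ≫ pullback.fst g f, hfl, ⟨fun x => ?_⟩, hcov, fun z => ?_⟩
  · obtain ⟨V, hV, hxV, -⟩ := exists_isAffineOpen_mem_and_subset (show x ∈ (⊤ : T.Opens) from trivial)
    obtain ⟨W, -, hW⟩ := hcov V hV
    have hx : x ∈ (V : Set T) := hxV
    rw [← hW] at hx
    obtain ⟨w, -, hw⟩ := hx
    exact ⟨w, hw⟩
  · obtain ⟨U, hzU, n, ⟨e⟩⟩ := hloc ((r ≫ pullback.snd g f) z)
    let U' : Z.Opens := (r ≫ pullback.snd g f) ⁻¹ᵁ U
    let l : (U' : Scheme.{u}) ⟶ U := (r ≫ pullback.snd g f) ∣_ U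
    have hl : (U'.ι ≫ r ≫ pullback.fst g f) ≫ g = l ≫ U.ι ≫ f := by
      rw [← Category.assoc l, morphismRestrict_ι, Category.assoc, Category.assoc, Category.assoc, Category.assoc,
        pullback.condition]
    obtain ⟨e₁⟩ := GrpSchLib.MultTypeBC.bc_bc (U'.ι ≫ r ≫ pullback.fst g f) g H
    obtain ⟨e₂⟩ := GrpSchLib.MultTypeBC.bc_congr hl H
    obtain ⟨e₃⟩ := GrpSchLib.MultTypeBC.bc_bc l (U.ι ≫ f) H
    obtain ⟨e₄⟩ := GrpSchLib.MultTypeBC.bc_iso l e
    obtain ⟨e₅⟩ := GrpSchLib.MultTypeBC.bc_DS l (Fin n → ℤ)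
    exact ⟨U', hzU, n, ⟨e₁ ≪≫ e₂ ≪≫ e₃.symm ≪≫ e₄ ≪≫ e₅⟩⟩

variable {R : Type u} [CommRing R]

/-- Base change of the spectrum of a Hopf algebra, with its formula. -/
theorem exists_bc_sp' (L : Type u) [CommRing L] [Algebra R L] (B : Type u) [CommRing B] [HopfAlgebra R B] :
    ∃ a : Grp.mk (Red.bc (Spec.map (CommRingCat.ofHom (algebraMap R L))) (sp R B)) ≅ Grp.mk (sp L (L ⊗[R] B)),
      a.hom.hom.hom.left ≫ Spec.map (CommRingCat.ofHom
        (Algebra.TensorProduct.includeRight : B →ₐ[R] L ⊗[R] B).toRingHom) =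
        pullback.fst (sp R B).hom (Spec.map (CommRingCat.ofHom (algebraMap R L))) := by
  let g : Red.bc (Spec.map (CommRingCat.ofHom (algebraMap R L))) (sp R B) ⟶ sp L (L ⊗[R] B) :=
    (pullbackSymmetry .. ≪≫ pullbackSpecIso' R L B).hom.asOver (Spec (CommRingCat.of L))
  haveI : IsMonHom g := inferInstanceAs (IsMonHom
    ((pullbackSymmetry .. ≪≫ pullbackSpecIso' R L B).hom.asOver (Spec (CommRingCat.of L))))
  haveI : IsIso g.left := inferInstanceAs (IsIso (pullbackSymmetry .. ≪≫ pullbackSpecIso' R L B).hom)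
  haveI : IsIso ((Over.forget _).map g) := ‹IsIso g.left›
  haveI : IsIso g := isIso_of_reflects_iso g (Over.forget _)
  refine ⟨Grp.mkIso' (asIso g), ?_⟩
  show (pullbackSymmetry _ _ ≪≫ pullbackSpecIso' R L B).hom ≫ _ = _
  rw [Iso.trans_hom, Category.assoc]
  refine (congrArg (_ ≫ ·) (pullbackSpecIso_hom_snd R L B)).trans ?_
  exact pullbackSymmetry_hom_comp_snd _ _

/-- A group of multiplicative type and of finite type over an affine base is given by a Hopf algebra of finite type. -/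
theorem exists_hopf_ft (H : Over (Spec (CommRingCat.of R))) [GrpObj H] (hH : SGA3x.IsMultTypeFT H) :
    ∃ (B : Type u) (_ : CommRing B) (_ : HopfAlgebra R B),
      SGA3b.IsMultType R B ∧ Algebra.FiniteType R B ∧ Nonempty (Grp.mk (sp R B) ≅ Grp.mk H) := by
  obtain ⟨B, _, _, hB, ⟨e⟩⟩ := exists_hopf_multType H (isMultType_of_ft hH)
  refine ⟨B, inferInstance, inferInstance, hB, ?_, ⟨e⟩⟩
  haveI := GrpSchLib.MultTypeLft.lft hH
  haveI : IsIso e.hom.hom.hom.left :=
    ⟨e.inv.hom.hom.left, congrArg (fun h => h.hom.hom.left) e.hom_inv_id,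
      congrArg (fun h => h.hom.hom.left) e.inv_hom_id⟩
  have h1 : LocallyOfFiniteType (sp R B).hom := by
    rw [← Over.w e.hom.hom.hom]
    infer_instance
  exact RingHom.finiteType_algebraMap.mp ((HasRingHomProperty.Spec_iff (P := @LocallyOfFiniteType)).mp h1)

/-- A bialgebra isomorphism between group algebras over a domain comes from the groups. -/
theorem nonempty_mulEquiv_of_bialgEquiv {L : Type u} [CommRing L] [IsDomain L] {M N : Type u} [CommGroup M]
    [CommGroup N] (e : MonoidAlgebra L M ≃ₐc[L] MonoidAlgebra L N) : Nonempty (M ≃* N) := by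
  have key : ∀ {G H : Type u} [CommGroup G] [CommGroup H] (e : MonoidAlgebra L G ≃ₐc[L] MonoidAlgebra L H) (g : G),
      MonoidAlgebra.mapDomainOfBialgHom (e.symm : MonoidAlgebra L H →ₐc[L] MonoidAlgebra L G)
        (MonoidAlgebra.mapDomainOfBialgHom (e : MonoidAlgebra L G →ₐc[L] MonoidAlgebra L H) g) = g := fun e g => by
    refine MonoidAlgebra.single_left_injective (R := L) one_ne_zero ?_
    show MonoidAlgebra.single _ 1 = MonoidAlgebra.single g 1
    rw [MonoidAlgebra.single_mapDomainOfBialgHom, MonoidAlgebra.single_mapDomainOfBialgHom]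
    exact e.symm_apply_apply _
  exact ⟨{
    toFun := MonoidAlgebra.mapDomainOfBialgHom (e : MonoidAlgebra L M →ₐc[L] MonoidAlgebra L N)
    invFun := MonoidAlgebra.mapDomainOfBialgHom (e.symm : MonoidAlgebra L N →ₐc[L] MonoidAlgebra L M)
    left_inv := key e
    right_inv := fun h => key e.symm h
    map_mul' := map_mul _ }⟩

variable {K : Type u} [Field K] [IsAlgClosed K]

/-- Over an algebraically closed field a group of multiplicative type is diagonalisable. -/
theorem exists_diag (H : Over (Spec (CommRingCat.of K))) [GrpObj H] (hH : SGA3x.IsMultTypeFT H) :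
    ∃ (M : Type u) (_ : CommGroup M), Group.FG M ∧
      Nonempty (Grp.mk (sp K (MonoidAlgebra K M)) ≅ Grp.mk H) := by
  obtain ⟨B, _, _, hB, hft, ⟨e⟩⟩ := exists_hopf_ft H hH
  obtain ⟨K', _, _, _, _, M, _, hfg, ⟨q⟩⟩ := MultTypeLib.isotrivial_of_field K B hft hB
  let σ : K ≃+* K' := RingEquiv.ofBijective (algebraMap K K') IsAlgClosed.algebraMap_bijective_of_isIntegral
  letI : Algebra K' K := σ.symm.toRingHom.toAlgebra
  haveI : IsScalarTower K K' K := IsScalarTower.of_algebraMap_eq fun x => (σ.symm_apply_apply x).symm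
  have q' : B ≃ₐc[K] MonoidAlgebra K M :=
    (((Bialgebra.TensorProduct.lid K B).symm.trans (MultTypeLib.baseChangeTrans (R := K) K' K B)).trans
      (MultTypeLib.congrBase K q)).trans (scalarBialgEquiv K' K M).symm
  exact ⟨M, inferInstance, hfg, ⟨spIso q' ≪≫ e⟩⟩

/-- Over an algebraically closed field a torus is split. -/
theorem exists_split (H : Over (Spec (CommRingCat.of K))) [GrpObj H] (hH : Red.IsTorus H) :
    ∃ r : ℕ, Red.IsSplitTorusWith (Fin r → ℤ) H := by
  obtain ⟨M, _, -, ⟨e⟩⟩ := exists_diag H (isMultTypeFT_of_isTorus hH)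
  obtain ⟨S', f, -, hsurj, -, hloc⟩ := hH
  obtain ⟨s', -⟩ := f.surjective (IsLocalRing.closedPoint K)
  obtain ⟨U, hsU, r, ⟨i⟩⟩ := hloc s'
  refine ⟨r, ?_⟩
  let L : Type u := S'.residueField s'
  let p : Spec (CommRingCat.of L) ⟶ (U : Scheme.{u}) :=
    IsOpenImmersion.lift U.ι (S'.fromSpecResidueField s') (by
      rw [Scheme.Opens.range_ι, Set.range_subset_iff]
      intro x
      have hx := Scheme.fromSpecResidueField_apply (X := S') s' x
      exact hx.symm ▸ hsU)
  let ρ := Spec.preimage (p ≫ U.ι ≫ f)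
  letI : Algebra K L := ρ.hom.toAlgebra
  have hp : p ≫ U.ι ≫ f = Spec.map (CommRingCat.ofHom (algebraMap K L)) := (Spec.map_preimage _).symm
  obtain ⟨a₀, -⟩ := exists_bc_sp' (R := K) L (MonoidAlgebra K M)
  obtain ⟨a₁⟩ := GrpSchLib.MultTypeBC.bc_iso (Spec.map (CommRingCat.ofHom (algebraMap K L))) e
  obtain ⟨a₂⟩ := GrpSchLib.MultTypeBC.bc_congr hp H
  obtain ⟨a₃⟩ := GrpSchLib.MultTypeBC.bc_bc p (U.ι ≫ f) H
  obtain ⟨a₄⟩ := GrpSchLib.MultTypeBC.bc_iso p i
  obtain ⟨a₅⟩ := GrpSchLib.MultTypeBC.bc_DS p (Fin r → ℤ)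
  obtain ⟨a₆⟩ := nonempty_DS_iso L (Fin r → ℤ)
  obtain ⟨q⟩ := nonempty_bialgEquiv (a₀.symm ≪≫ a₁ ≪≫ a₂.symm ≪≫ a₃.symm ≪≫ a₄ ≪≫ a₅ ≪≫ a₆.symm)
  obtain ⟨θ⟩ := nonempty_mulEquiv_of_bialgEquiv
    ((uliftEquiv L (Multiplicative (Fin r → ℤ))).symm.trans (q.trans (scalarBialgEquiv K L M).symm))
  let qK : MonoidAlgebra K (Multiplicative (Fin r → ℤ)) ≃ₐc[K] MonoidAlgebra K M :=
    (uliftEquiv K (Multiplicative (Fin r → ℤ))).trans
      (BialgEquiv.ofBialgHom (MonoidAlgebra.mapDomainBialgHom K θ.toMonoidHom)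
        (MonoidAlgebra.mapDomainBialgHom K θ.symm.toMonoidHom)
        (BialgHom.ext fun x => by
          simp only [BialgHom.comp_apply, MonoidAlgebra.mapDomainBialgHom_mapDomainBialgHom]
          rw [show θ.toMonoidHom.comp θ.symm.toMonoidHom = MonoidHom.id _ from MonoidHom.ext θ.apply_symm_apply,
            MonoidAlgebra.mapDomainBialgHom_id])
        (BialgHom.ext fun x => by
          simp only [BialgHom.comp_apply, MonoidAlgebra.mapDomainBialgHom_mapDomainBialgHom]
          rw [show θ.symm.toMonoidHom.comp θ.toMonoidHom = MonoidHom.id _ from MonoidHom.ext θ.symm_apply_apply,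
            MonoidAlgebra.mapDomainBialgHom_id]))
  obtain ⟨b⟩ := nonempty_DS_iso K (Fin r → ℤ)
  exact ⟨e.symm ≪≫ spIso qK ≪≫ b⟩

/-- A morphism is a homomorphism as soon as its composite with a monomorphic homomorphism is. -/
theorem isMonHom_of_comp {S : Scheme.{u}} {X Y Z : Over S} [GrpObj X] [GrpObj Y] [GrpObj Z] (f : X ⟶ Y) (j : Y ⟶ Z)
    [IsMonHom j] [Mono j] {i : X ⟶ Z} [IsMonHom i] (h : f ≫ j = i) : IsMonHom f where
  one_hom := by rw [← cancel_mono j, Category.assoc, h, IsMonHom.one_hom, IsMonHom.one_hom]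
  mul_hom := by
    rw [← cancel_mono j, Category.assoc, h, IsMonHom.mul_hom, Category.assoc, IsMonHom.mul_hom (f := j),
      MonoidalCategory.tensorHom_comp_tensorHom_assoc, h]

/-- Maximality of a subgroup among subtori, over a field. -/
def MaxAt {k : Type u} [Field k] {T G : Over (Spec (CommRingCat.of k))} [GrpObj T] [GrpObj G] (i : T ⟶ G) : Prop :=
  ∀ (T' : Over (Spec (CommRingCat.of k))) [GrpObj T'] (j : T' ⟶ G) [IsMonHom j] [Mono j] (f : T ⟶ T'),
    Red.IsTorus T' → f ≫ j = i → IsIso f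

variable {L : Type u} [Field L] [IsAlgClosed L] [Algebra K L]

/-- The base of the field extension. -/
noncomputable abbrev ext (K L : Type u) [CommRing K] [CommRing L] [Algebra K L] :
    Spec (CommRingCat.of L) ⟶ Spec (CommRingCat.of K) :=
  Spec.map (CommRingCat.ofHom (algebraMap K L))

/-- Base change of a morphism of affine groups, in coordinates. -/
theorem exists_bc_map {A B : Type u} [CommRing A] [CommRing B] [HopfAlgebra R A] [HopfAlgebra R B] (π : A →ₐc[R] B)
    (L : Type u) [CommRing L] [Algebra R L]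
    (a : Grp.mk (Red.bc (ext R L) (sp R A)) ≅ Grp.mk (sp L (L ⊗[R] A)))
    (ha : a.hom.hom.hom.left ≫ Spec.map (CommRingCat.ofHom
      (Algebra.TensorProduct.includeRight : A →ₐ[R] L ⊗[R] A).toRingHom) = pullback.fst (sp R A).hom (ext R L))
    (b : Grp.mk (Red.bc (ext R L) (sp R B)) ≅ Grp.mk (sp L (L ⊗[R] B)))
    (hb : b.hom.hom.hom.left ≫ Spec.map (CommRingCat.ofHom
      (Algebra.TensorProduct.includeRight : B →ₐ[R] L ⊗[R] B).toRingHom) = pullback.fst (sp R B).hom (ext R L)) :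
    ∃ φ : L ⊗[R] A →ₐc[L] L ⊗[R] B, (∀ x, φ (1 ⊗ₜ x) = 1 ⊗ₜ π x) ∧
      b.inv.hom.hom ≫ (Over.pullback (ext R L)).map (spMap (π : A →ₐ[R] B)) ≫ a.hom.hom.hom =
        spMap (φ : L ⊗[R] A →ₐ[L] L ⊗[R] B) := by
  haveI : IsMonHom b.inv.hom.hom := b.inv.hom.isMonHom_hom
  haveI : IsMonHom a.hom.hom.hom := a.hom.hom.isMonHom_hom
  haveI : IsMonHom ((Over.pullback (ext R L)).map (spMap (π : A →ₐ[R] B))) := inferInstance
  obtain ⟨φ, hφ⟩ := exists_bialgHom
    (b.inv.hom.hom ≫ (Over.pullback (ext R L)).map (spMap (π : A →ₐ[R] B)) ≫ a.hom.hom.hom)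
  refine ⟨φ, fun x => ?_, hφ⟩
  have h0 : b.inv.hom.hom.left ≫ pullback.fst (sp R B).hom (ext R L) = Spec.map (CommRingCat.ofHom
      (Algebra.TensorProduct.includeRight : B →ₐ[R] L ⊗[R] B).toRingHom) := by
    rw [← hb, ← Category.assoc, ← Over.comp_left,
      show b.inv.hom.hom ≫ b.hom.hom.hom = 𝟙 _ from grp_inv_hom b,
      Over.id_left, Category.id_comp]
  have h1 := congrArg (fun m => Over.Hom.left m ≫ Spec.map (CommRingCat.ofHom
    (Algebra.TensorProduct.includeRight : A →ₐ[R] L ⊗[R] A).toRingHom)) hφ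
  simp only [Over.comp_left, Category.assoc, ha] at h1
  have h2 : ((Over.pullback (ext R L)).map (spMap (π : A →ₐ[R] B))).left ≫ pullback.fst (sp R A).hom (ext R L) =
      pullback.fst (sp R B).hom (ext R L) ≫ (spMap (π : A →ₐ[R] B)).left := pullback.lift_fst _ _ _
  rw [h2, ← Category.assoc, h0] at h1
  change Spec.map _ ≫ Spec.map _ = Spec.map _ ≫ Spec.map _ at h1
  rw [← Spec.map_comp, ← Spec.map_comp] at h1
  exact (congrArg (fun m => m.hom x) (Spec.map_injective h1)).symm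

/-- Over algebraically closed fields maximality of a subgroup among subtori passes to field extensions. -/
theorem maxAt_bc {T G : Over (Spec (CommRingCat.of K))} [GrpObj T] [GrpObj G] [IsAffine G.left]
    [LocallyOfFiniteType G.hom] (hT : SGA3x.IsMultTypeFT T) (i : T ⟶ G) [IsMonHom i] (hmax : MaxAt i) :
    MaxAt ((Over.pullback (ext K L)).map i) := by
  intro T' _ j _ _ f hT' hf
  haveI : IsMonHom f := isMonHom_of_comp f j hf
  obtain ⟨N, _, -, ⟨eT⟩⟩ := exists_diag T hT
  obtain ⟨A, _, _, ⟨eG⟩⟩ := GrpSchLib.AffineHopf.exists_hopf G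
  haveI : IsMonHom eT.hom.hom.hom := eT.hom.hom.isMonHom_hom
  haveI : IsMonHom eG.inv.hom.hom := eG.inv.hom.isMonHom_hom
  obtain ⟨π, hπ⟩ := exists_bialgHom (eT.hom.hom.hom ≫ i ≫ eG.inv.hom.hom)
  have hAft : Algebra.FiniteType K A := by
    haveI : IsIso eG.hom.hom.hom.left :=
      ⟨eG.inv.hom.hom.left, congrArg (fun h => h.hom.hom.left) eG.hom_inv_id,
        congrArg (fun h => h.hom.hom.left) eG.inv_hom_id⟩
    have h1 : LocallyOfFiniteType (sp K A).hom := by
      rw [← Over.w eG.hom.hom.hom]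
      infer_instance
    exact RingHom.finiteType_algebraMap.mp ((HasRingHomProperty.Spec_iff (P := @LocallyOfFiniteType)).mp h1)
  obtain ⟨M, _, hMfg, ⟨eT'⟩⟩ := exists_diag T' (isMultTypeFT_of_isTorus hT')
  haveI := hMfg
  obtain ⟨aA, haA⟩ := exists_bc_sp' (R := K) L A
  obtain ⟨aN, haN⟩ := exists_bc_sp' (R := K) L (MonoidAlgebra K N)
  obtain ⟨φ, hφ, hφs⟩ := exists_bc_map π L aA haA aN haN
  -- the bigger torus in coordinates
  haveI : IsAffine (Red.bc (ext K L) G).left := by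
    haveI : IsAffineHom G.hom := isAffineHom_of_isAffine _
    haveI : IsAffineHom (Red.bc (ext K L) G).hom := inferInstanceAs (IsAffineHom (pullback.snd G.hom _))
    exact isAffine_of_isAffineHom (Red.bc (ext K L) G).hom
  haveI : IsAffineHom (Red.bc (ext K L) G).hom := isAffineHom_of_isAffine _
  haveI : IsMonHom eT'.hom.hom.hom := eT'.hom.hom.isMonHom_hom
  haveI : IsMonHom eT'.inv.hom.hom := eT'.inv.hom.isMonHom_hom
  haveI : IsMonHom aA.hom.hom.hom := aA.hom.hom.isMonHom_hom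
  haveI : IsMonHom aN.inv.hom.hom := aN.inv.hom.isMonHom_hom
  haveI : IsMonHom ((Over.pullback (ext K L)).map eG.inv.hom.hom) := inferInstance
  haveI : IsMonHom ((Over.pullback (ext K L)).map eT.hom.hom.hom) := inferInstance
  obtain ⟨ψ, hψ⟩ := exists_bialgHom
    (eT'.hom.hom.hom ≫ j ≫ (Over.pullback (ext K L)).map eG.inv.hom.hom ≫ aA.hom.hom.hom)
  obtain ⟨χ, hχ⟩ := exists_bialgHom
    (aN.inv.hom.hom ≫ (Over.pullback (ext K L)).map eT.hom.hom.hom ≫ f ≫ eT'.inv.hom.hom)
  haveI : IsClosedImmersion j.left :=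
    isClosedImmersion_of_mono (isMultType_of_ft (isMultTypeFT_of_isTorus hT')) j
  have hψs : Function.Surjective ψ := by
    refine GrpSchLib.AffineHopf.surjective_of_isClosedImmersion (ψ : L ⊗[K] A →ₐ[L] MonoidAlgebra L M) ?_
    rw [← hψ]
    haveI : ∀ {U V : Grp (Over (Spec (CommRingCat.of L)))} (e : U ≅ V), IsIso e.hom.hom.hom.left := fun e =>
      ⟨e.inv.hom.hom.left, congrArg (fun h => h.hom.hom.left) e.hom_inv_id,
        congrArg (fun h => h.hom.hom.left) e.inv_hom_id⟩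
    haveI : IsIso ((Over.pullback (ext K L)).map eG.inv.hom.hom).left := by
      haveI : IsIso eG.inv.hom.hom := ⟨eG.hom.hom.hom, congrArg (fun h => h.hom.hom) eG.inv_hom_id,
        congrArg (fun h => h.hom.hom) eG.hom_inv_id⟩
      show IsIso ((Over.forget _).map ((Over.pullback (ext K L)).map eG.inv.hom.hom))
      infer_instance
    simp only [Over.comp_left]
    infer_instance
  have hcomp : ∀ x, χ (ψ x) = φ x := by
    have h1 : spMap (χ : MonoidAlgebra L M →ₐ[L] L ⊗[K] MonoidAlgebra K N) ≫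
        spMap (ψ : L ⊗[K] A →ₐ[L] MonoidAlgebra L M) =
          spMap (φ : L ⊗[K] A →ₐ[L] L ⊗[K] MonoidAlgebra K N) := by
      rw [← hψ, ← hχ, ← hφs, ← hπ]
      simp only [Category.assoc, Functor.map_comp]
      congr 2
      rw [← Category.assoc eT'.inv.hom.hom,
        show eT'.inv.hom.hom ≫ eT'.hom.hom.hom = 𝟙 _ from grp_inv_hom eT',
        Category.id_comp, ← Category.assoc f, hf]
    rw [spMap_comp] at h1
    exact fun x => AlgHom.congr_fun (spMap_injective h1) x
  let θ : M →* N := MonoidAlgebra.mapDomainOfBialgHom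
    (((scalarBialgEquiv K L N).symm : L ⊗[K] MonoidAlgebra K N →ₐc[L] MonoidAlgebra L N).comp χ)
  have hθ : ∀ x, MonoidAlgebra.mapDomainBialgHom L θ x = (scalarBialgEquiv K L N).symm (χ x) := fun x =>
    DFunLike.congr_fun (MonoidAlgebra.mapDomainBialgHom_mapDomainOfBialgHom
      (((scalarBialgEquiv K L N).symm : L ⊗[K] MonoidAlgebra K N →ₐc[L] MonoidAlgebra L N).comp χ)) x
  let h : MultTypeLib.SemiBialgHom K L A (MonoidAlgebra L M) :=
    (MultTypeLib.SemiBialgHom.ofBialgHom ψ).comp (MultTypeLib.SemiBialgHom.baseChange K L A)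
  have hh : ∀ a, h.toAlgHom a = ψ (1 ⊗ₜ a) := fun a => rfl
  obtain ⟨ψ₀, hψ₀, hθπ⟩ := exists_specialize hAft h (by
    rw [eq_top_iff]
    rintro y -
    obtain ⟨x, rfl⟩ := hψs y
    induction x using TensorProduct.induction_on with
    | zero => rw [map_zero]; exact Submodule.zero_mem _
    | add x y hx hy => rw [map_add]; exact Submodule.add_mem _ hx hy
    | tmul c a =>
      rw [show c ⊗ₜ[K] a = c • (1 : L) ⊗ₜ[K] a by simp [TensorProduct.smul_tmul'], map_smul]
      exact Submodule.smul_mem _ c (Submodule.subset_span ⟨a, hh a⟩)) θ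
    (π : A →ₐ[K] MonoidAlgebra K N) fun a => by
      refine (hθ (h.toAlgHom a)).trans ?_
      rw [hh, hcomp, hφ]
      show MonoidAlgebra.scalarTensorEquiv K L (1 ⊗ₜ π a) = _
      rw [MonoidAlgebra.scalarTensorEquiv_tmul, one_smul]
      rfl
  -- the specialised torus
  have hMt : Red.IsTorus (sp K (MonoidAlgebra K M)) := by
    obtain ⟨r, ⟨e⟩⟩ := exists_split T' hT'
    obtain ⟨b⟩ := nonempty_DS_iso L (Fin r → ℤ)
    obtain ⟨q⟩ := nonempty_bialgEquiv (eT' ≪≫ e ≪≫ b.symm)
    obtain ⟨σ⟩ := nonempty_mulEquiv_of_bialgEquiv ((uliftEquiv L (Multiplicative (Fin r → ℤ))).symm.trans q)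
    refine isTorus_of_split r ?_
    obtain ⟨b'⟩ := nonempty_DS_iso K (Fin r → ℤ)
    exact ⟨spIso ((uliftEquiv K (Multiplicative (Fin r → ℤ))).trans
      (BialgEquiv.ofBialgHom (MonoidAlgebra.mapDomainBialgHom K σ.toMonoidHom)
        (MonoidAlgebra.mapDomainBialgHom K σ.symm.toMonoidHom)
        (BialgHom.ext fun x => by
          simp only [BialgHom.comp_apply, MonoidAlgebra.mapDomainBialgHom_mapDomainBialgHom]
          rw [show σ.toMonoidHom.comp σ.symm.toMonoidHom = MonoidHom.id _ from MonoidHom.ext σ.apply_symm_apply,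
            MonoidAlgebra.mapDomainBialgHom_id])
        (BialgHom.ext fun x => by
          simp only [BialgHom.comp_apply, MonoidAlgebra.mapDomainBialgHom_mapDomainBialgHom]
          rw [show σ.symm.toMonoidHom.comp σ.toMonoidHom = MonoidHom.id _ from MonoidHom.ext σ.symm_apply_apply,
            MonoidAlgebra.mapDomainBialgHom_id]))) ≪≫ b'⟩
  haveI : IsMonHom eG.hom.hom.hom := eG.hom.hom.isMonHom_hom
  haveI : IsMonHom eT.inv.hom.hom := eT.inv.hom.isMonHom_hom
  haveI : IsClosedImmersion (spMap (ψ₀ : A →ₐ[K] MonoidAlgebra K M)).left :=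
    IsClosedImmersion.spec_of_surjective _ hψ₀
  haveI : Mono ((Over.forget _).map (spMap (ψ₀ : A →ₐ[K] MonoidAlgebra K M))) :=
    inferInstanceAs (Mono (spMap (ψ₀ : A →ₐ[K] MonoidAlgebra K M)).left)
  haveI : Mono (spMap (ψ₀ : A →ₐ[K] MonoidAlgebra K M)) := (Over.forget _).mono_of_mono_map ‹_›
  haveI : IsIso eG.hom.hom.hom := ⟨eG.inv.hom.hom, congrArg (fun h => h.hom.hom) eG.hom_inv_id,
    congrArg (fun h => h.hom.hom) eG.inv_hom_id⟩
  let m : MonoidAlgebra K M →ₐ[K] MonoidAlgebra K N := MonoidAlgebra.mapDomainAlgHom K K θ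
  have h3 : (eT.inv.hom.hom ≫ spMap m) ≫ spMap (ψ₀ : A →ₐ[K] MonoidAlgebra K M) ≫ eG.hom.hom.hom = i := by
    rw [Category.assoc, ← Category.assoc (spMap m), spMap_comp,
      show m.comp (ψ₀ : A →ₐ[K] MonoidAlgebra K M) = (π : A →ₐ[K] MonoidAlgebra K N) from AlgHom.ext hθπ,
      ← hπ]
    simp only [Category.assoc]
    rw [show eG.inv.hom.hom ≫ eG.hom.hom.hom = 𝟙 _ from congrArg (fun h => h.hom.hom) eG.inv_hom_id,
      Category.comp_id, ← Category.assoc,
      show eT.inv.hom.hom ≫ eT.hom.hom.hom = 𝟙 _ from congrArg (fun h => h.hom.hom) eT.inv_hom_id,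
      Category.id_comp]
  haveI := hmax (sp K (MonoidAlgebra K M)) (spMap (ψ₀ : A →ₐ[K] MonoidAlgebra K M) ≫ eG.hom.hom.hom)
    (eT.inv.hom.hom ≫ spMap m) hMt h3
  haveI : IsIso eT.inv.hom.hom := ⟨eT.hom.hom.hom, congrArg (fun h => h.hom.hom) eT.inv_hom_id,
    congrArg (fun h => h.hom.hom) eT.hom_inv_id⟩
  haveI : IsIso (spMap m) := IsIso.of_isIso_comp_left eT.inv.hom.hom (spMap m)
  obtain ⟨g, hg⟩ := exists_eq_spMap (inv (spMap m))
  have hgm : m.comp g = AlgHom.id K _ := spMap_injective (by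
    rw [← spMap_comp, ← hg, IsIso.hom_inv_id, spMap_id])
  have hmg : g.comp m = AlgHom.id K _ := spMap_injective (by
    rw [← spMap_comp, ← hg, IsIso.inv_hom_id, spMap_id])
  have hθb : Function.Bijective θ := by
    refine ⟨fun a b hab => ?_, fun n => ?_⟩
    · refine MonoidAlgebra.single_left_injective (R := K) one_ne_zero ?_
      have := congrArg g (show m (MonoidAlgebra.single a 1) = m (MonoidAlgebra.single b 1) by simp [m, hab])
      simpa [← AlgHom.comp_apply, hmg] using this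
    · classical
      by_contra hne
      push Not at hne
      have h4 := congrArg (fun z : MonoidAlgebra K N => z.coeff n)
        (AlgHom.congr_fun hgm (MonoidAlgebra.single n 1))
      simp [m, Finsupp.mapDomain_of_notMem_range _ n (fun ⟨y, hy⟩ => hne y hy)] at h4
  have hχb : Function.Bijective χ := by
    have h5 : Function.Bijective (MonoidAlgebra.mapDomainBialgHom L θ) := by
      refine Function.bijective_iff_has_inverse.mpr
        ⟨MonoidAlgebra.mapDomainBialgHom L (MulEquiv.ofBijective θ hθb).symm.toMonoidHom, fun x => ?_, fun x => ?_⟩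
      · rw [MonoidAlgebra.mapDomainBialgHom_mapDomainBialgHom,
          show ((MulEquiv.ofBijective θ hθb).symm.toMonoidHom).comp θ = MonoidHom.id _ from
            MonoidHom.ext (MulEquiv.ofBijective θ hθb).symm_apply_apply, MonoidAlgebra.mapDomainBialgHom_id]
        rfl
      · rw [MonoidAlgebra.mapDomainBialgHom_mapDomainBialgHom,
          show θ.comp ((MulEquiv.ofBijective θ hθb).symm.toMonoidHom) = MonoidHom.id _ from
            MonoidHom.ext (MulEquiv.ofBijective θ hθb).apply_symm_apply, MonoidAlgebra.mapDomainBialgHom_id]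
        rfl
    have e : ⇑χ = ⇑(scalarBialgEquiv K L N) ∘ MonoidAlgebra.mapDomainBialgHom L θ := funext fun x => by
      rw [Function.comp_apply, hθ, BialgEquiv.apply_symm_apply]
    rw [e]
    exact (scalarBialgEquiv K L N).bijective.comp h5
  haveI : IsIso (spMap (χ : MonoidAlgebra L M →ₐ[L] L ⊗[K] MonoidAlgebra K N)) := by
    refine ⟨spMap (AlgEquiv.ofBijective (χ : MonoidAlgebra L M →ₐ[L] L ⊗[K] MonoidAlgebra K N) hχb).symm.toAlgHom, ?_, ?_⟩
    · rw [spMap_comp, ← spMap_id]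
      congr 1
      exact AlgHom.ext fun x =>
        (AlgEquiv.ofBijective (χ : MonoidAlgebra L M →ₐ[L] L ⊗[K] MonoidAlgebra K N) hχb).apply_symm_apply x
    · rw [spMap_comp, ← spMap_id]
      congr 1
      exact AlgHom.ext fun x =>
        (AlgEquiv.ofBijective (χ : MonoidAlgebra L M →ₐ[L] L ⊗[K] MonoidAlgebra K N) hχb).symm_apply_apply x
  haveI : IsIso eT.hom.hom.hom := ⟨eT.inv.hom.hom, congrArg (fun h => h.hom.hom) eT.hom_inv_id,
    congrArg (fun h => h.hom.hom) eT.inv_hom_id⟩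
  haveI : IsIso aN.inv.hom.hom := ⟨aN.hom.hom.hom, congrArg (fun h => h.hom.hom) aN.inv_hom_id,
    congrArg (fun h => h.hom.hom) aN.hom_inv_id⟩
  haveI : IsIso eT'.inv.hom.hom := ⟨eT'.hom.hom.hom, congrArg (fun h => h.hom.hom) eT'.inv_hom_id,
    congrArg (fun h => h.hom.hom) eT'.hom_inv_id⟩
  rw [← hχ] at *
  haveI := IsIso.of_isIso_comp_left aN.inv.hom.hom ((Over.pullback (ext K L)).map eT.hom.hom.hom ≫ f ≫ eT'.inv.hom.hom)
  haveI := IsIso.of_isIso_comp_left ((Over.pullback (ext K L)).map eT.hom.hom.hom) (f ≫ eT'.inv.hom.hom)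
  exact IsIso.of_isIso_comp_right f eT'.inv.hom.hom

end Groth.Agent.Deform
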