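import Groth.Agent.Deform.DiagMaps
import Groth.Agent.Deform.TorusAlg
import Groth.Prelude.Def_RedSub
import Groth.Agent.GrpSchLib.MultTypeLft

/-!
# Images and quotients of split groups of multiplicative type
-/

set_option autoImplicit false
set_option linter.style.haveILetI false
set_option maxHeartbeats 400000

universe u

open CategoryTheory CategoryTheory.Limits MonoidalCategory CartesianMonoidalCategory MonObj GrpObj AlgebraicGeometry

attribute [local instance] CategoryTheory.Hom.monoid CategoryTheory.Hom.group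

namespace Groth.Agent.Deform.SplitQuot

open DiagMaps
open GrpSchLib.HomUnitLocus (Triv)
open GrpSchLib.HomMonoLocus (Inj)
open GrpSchLib.HomSplitLocal (Ff)

variable {S : Scheme.{u}}

theorem isMultTypeFT_DS (S : Scheme.{u}) (M : Type) [AddCommGroup M] [AddGroup.FG M] :
    SGA3x.IsMultTypeFT (Red.DS S M) := by
  refine ⟨S, 𝟙 S, inferInstance, inferInstance, fun V hV => ⟨V, hV.isCompact, by simp⟩,
    fun s => ⟨⊤, trivial, M, inferInstance, inferInstance, ?_⟩⟩
  obtain ⟨b⟩ := GrpSchLib.MultTypeBC.bc_DS ((⊤ : S.Opens).ι ≫ 𝟙 S) M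
  exact ⟨b⟩

theorem isSeparated_of_multType {G : Over S} [GrpObj G] (hG : SGA3x.IsMultTypeFT G) : IsSeparated G.hom := by
  haveI : IsAffineHom G.hom := Deform.isAffineHom (Deform.isMultType_of_ft hG)
  infer_instance

theorem isMonHom_of_div {X Y : Over S} [GrpObj X] [GrpObj Y] {f : X ⟶ Y} [IsMonHom f] {T : Over S} (x y : T ⟶ X) :
    (x⁻¹ * y) ≫ f = (x ≫ f)⁻¹ * (y ≫ f) := by
  rw [MonObj.mul_comp, GrpObj.inv_comp]

theorem mono_of_inj {H G : Over S} [GrpObj H] [GrpObj G] (f : H ⟶ G) [IsMonHom f] (h : Inj f (𝟙 S)) : Mono f := by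
  refine ⟨fun {T} x y e => ?_⟩
  have h1 := h T (Over.homMk T.hom (Category.comp_id _)) (x⁻¹ * y) (by rw [isMonHom_of_div, e, inv_mul_cancel])
  exact inv_mul_eq_one.mp h1

theorem inj_of_mono' {H G : Over S} [GrpObj H] [GrpObj G] (f : H ⟶ G) [IsMonHom f] [Mono f] {T : Scheme.{u}}
    (g : T ⟶ S) : Inj f g := fun Y _ x hx => by
  have h1 : (1 : Y ⟶ H) ≫ f = 1 := MonObj.one_comp f
  exact (cancel_mono f).mp (hx.trans h1.symm)

theorem exists_lift_univ {U : S.Opens} (h : (U : Set S) = Set.univ) : ∃ l : S ⟶ U, l ≫ U.ι = 𝟙 S :=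
  ⟨IsOpenImmersion.lift U.ι (𝟙 S) (by rw [Scheme.Opens.range_ι, h]; exact Set.subset_univ _),
    IsOpenImmersion.lift_fac _ _ _⟩

/-- The image of a split group in a group of multiplicative type, over a connected base. -/
theorem exists_image [ConnectedSpace ↥S] {G : Over S} [GrpObj G] (hG : SGA3x.IsMultTypeFT G) {M : Type}
    [AddCommGroup M] [AddGroup.FG M] (u : Red.DS S M ⟶ G) [IsMonHom u] :
    ∃ (A : AddSubgroup M) (ψ : Red.DS S A ⟶ G), IsMonHom ψ ∧ Mono ψ ∧ Red.DSmap S A.subtype ≫ ψ = u := by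
  haveI := isSeparated_of_multType hG
  haveI : LocallyOfFiniteType G.hom := GrpSchLib.MultTypeLft.lft hG
  obtain ⟨s⟩ : Nonempty S := inferInstance
  obtain ⟨k, _, β, MQ, _, _, cG, hs⟩ := exists_chart hG s
  obtain ⟨φ, hφ⟩ := exists_rep (chartDS β M) cG u
  let A : AddSubgroup M := φ.range
  have hr := (rep_DSmap (S := S) (β := β) (QuotientAddGroup.mk' A)).comp hφ
  rw [show (QuotientAddGroup.mk' A).comp φ = 0 from AddMonoidHom.ext fun m =>
    (QuotientAddGroup.eq_zero_iff _).mpr ⟨m, rfl⟩] at hr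
  have ht := (GrpSchLib.HomUnitLocus.triv_iff_of_field β).mp (triv_of_rep_zero hr)
  obtain ⟨U, hUc, hU, hUt⟩ := GrpSchLib.HomUnitLocus.main (isMultTypeFT_DS S (M ⧸ A))
    (u := Red.DSmap S (QuotientAddGroup.mk' A) ≫ u) (Or.inr inferInstance)
  obtain ⟨l, hl⟩ := exists_lift_univ (U := U) (IsClopen.eq_univ ⟨hUc, U.2⟩ ⟨_, (hU _).mpr ht⟩)
  have hker : Red.DSmap S (QuotientAddGroup.mk' A) ≫ u = 1 := by
    rw [← triv_id_iff, ← hl]
    exact hUt.comp l
  obtain ⟨ψ, hψm, hψ⟩ := exists_desc A u hker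
  haveI := hψm
  obtain ⟨φ', hφ'⟩ := exists_rep (chartDS β A) cG ψ
  have hcomp := (rep_DSmap (S := S) (β := β) A.subtype).comp hφ'
  rw [hψ] at hcomp
  have hsurj : Function.Surjective φ' := by
    rintro ⟨_, m, rfl⟩
    exact ⟨m, Subtype.ext (DFunLike.congr_fun (hcomp.unique hφ) m)⟩
  haveI : Module.Finite ℤ M := Module.Finite.iff_addGroup_fg.mpr ‹_›
  haveI : AddGroup.FG A := Module.Finite.iff_addGroup_fg.mp
    (Module.Finite.of_injective A.subtype.toIntLinearMap (fun a b e => A.subtype_injective e))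
  obtain ⟨V, hVc, hV, hVt⟩ := GrpSchLib.HomSplitLocus.mono_locus (u := ψ)
    (Deform.isMultType_of_ft (isMultTypeFT_DS S A)) hG
  have hres := GrpSchLib.HomSplitLocus.residue_of_field (fun g => Inj ψ g) (fun l _ _ hl h => Inj.of_covers l hl h) β
    (inj_of_rep hφ' hsurj)
  obtain ⟨l', hl'⟩ := exists_lift_univ (U := V) (IsClopen.eq_univ ⟨hVc, V.2⟩ ⟨_, (hV _).mpr hres⟩)
  refine ⟨A, ψ, hψm, mono_of_inj ψ ?_, hψ⟩
  rw [← hl']
  exact hVt.comp l'

/-! ### Quotients -/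

/-- `q` presents its target as the fppf quotient by `i`. -/
structure Pres {H T Q : Over S} [GrpObj H] [GrpObj T] [GrpObj Q] (i : H ⟶ T) (q : T ⟶ Q) : Prop where
  flat : Flat q.left
  surj : Surjective q.left
  lfp : LocallyOfFinitePresentation q.left
  zero : i ≫ q = 1
  exact' : ∀ {Y : Over S} (x y : Y ⟶ T), x ≫ q = y ≫ q → ∃ h : Y ⟶ H, h ≫ i = x⁻¹ * y

theorem pres_of_isQuotient {T H Q : Over S} [GrpObj T] [GrpObj H] [GrpObj Q] (i : H ⟶ T) [IsMonHom i] (q : T ⟶ Q)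
    [IsMonHom q] (hq : RedSub.IsQuotient i q) : Pres i q := by
  obtain ⟨h1, h2, h3, hp⟩ := hq
  have hr : ∀ {Y : Over S} (r : Y ⟶ T ⊗ H), r ≫ (T ◁ i) ≫ μ[T] = (r ≫ fst T H) * (r ≫ snd T H ≫ i) := fun r => by
    rw [Hom.mul_def, ← Category.assoc r (T ◁ i) μ[T]]
    congr 1
    apply CartesianMonoidalCategory.hom_ext <;> simp
  refine ⟨h2, h1, h3, ?_, fun x y e => ?_⟩
  · have h := congrArg (lift (1 : H ⟶ T) (𝟙 H) ≫ ·) hp.w
    simp only [← Category.assoc] at h
    rw [lift_fst, Category.assoc (lift _ _) (T ◁ i), hr, lift_fst, lift_snd_assoc, Category.id_comp,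
      _root_.one_mul, MonObj.one_comp] at h
    exact h.symm
  · obtain ⟨r, hr1, hr2⟩ := hp.exists_lift x y e
    refine ⟨r ≫ snd T H, ?_⟩
    rw [hr, hr1] at hr2
    rw [Category.assoc, ← hr2, inv_mul_cancel_left]

variable {H T Q : Over S} [GrpObj H] [GrpObj T] [GrpObj Q] {i : H ⟶ T} {q : T ⟶ Q}

theorem Pres.bc [IsMonHom q] (h : Pres i q) {U : Scheme.{u}} (g : U ⟶ S) :
    Pres ((Over.pullback g).map i) ((Over.pullback g).map q) where
  flat := MorphismProperty.overPullbackMap (P := @Flat) _ _ h.flat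
  surj := MorphismProperty.overPullbackMap (P := @Surjective) _ _ h.surj
  lfp := MorphismProperty.overPullbackMap (P := @LocallyOfFinitePresentation) _ _ h.lfp
  zero := by
    rw [← Functor.map_comp, h.zero]
    exact map_one ((Over.pullback g).homMonoidHom)
  exact' {Y} x y e := by
    have e1 : DSPtsLib.theta g x ≫ q = DSPtsLib.theta g y ≫ q := by
      rw [← GrpSchLib.HomUnitLocus.theta_comp_map, ← GrpSchLib.HomUnitLocus.theta_comp_map]
      exact congrArg (DSPtsLib.theta g) e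
    obtain ⟨a, ha⟩ := h.exact' _ _ e1
    obtain ⟨a', rfl⟩ := (DSPtsLib.theta_bijective g).2 a
    refine ⟨a', (DSPtsLib.theta_bijective g).1 ?_⟩
    rw [GrpSchLib.HomUnitLocus.theta_comp_map, ha, DSPtsLib.theta_mul, Deform.theta_inv]

theorem Pres.congr_mid {T' : Over S} [GrpObj T'] (e : T ≅ T') [IsMonHom e.hom] (h : Pres i q) :
    Pres (i ≫ e.hom) (e.inv ≫ q) := by
  haveI : IsIso e.inv.left := ((Over.forget S).mapIso e.symm).isIso_hom
  haveI := h.flat
  haveI := h.surj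
  haveI := h.lfp
  refine ⟨by rw [Over.comp_left]; infer_instance, by rw [Over.comp_left]; infer_instance,
    by rw [Over.comp_left]; infer_instance, by rw [Category.assoc, e.hom_inv_id_assoc]; exact h.zero, fun x y hxy => ?_⟩
  obtain ⟨a, ha⟩ := h.exact' (x ≫ e.inv) (y ≫ e.inv) (by simpa only [Category.assoc] using hxy)
  refine ⟨a, ?_⟩
  rw [← Category.assoc, ha, isMonHom_of_div, Category.assoc, Category.assoc, e.inv_hom_id, Category.comp_id,
    Category.comp_id]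

/-- If the kernel of a quotient of `D(M)` is `D(M ⧸ A)` then the quotient is `D(A)`. -/
theorem nonempty_iso {M : Type} [AddCommGroup M] [AddGroup.FG M] {i : H ⟶ Red.DS S M} {q : Red.DS S M ⟶ Q}
    [IsMonHom q] (h : Pres i q) (A : AddSubgroup M) (e : H ≅ Red.DS S (M ⧸ A))
    (he : e.hom ≫ Red.DSmap S (QuotientAddGroup.mk' A) = i) : Nonempty (Grp.mk Q ≅ Grp.mk (Red.DS S A)) := by
  have hi : Red.DSmap S (QuotientAddGroup.mk' A) = e.inv ≫ i := by rw [← he, e.inv_hom_id_assoc]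
  obtain ⟨ψ, hψm, hψ⟩ := exists_desc A q (by rw [hi, Category.assoc, h.zero, MonObj.comp_one])
  haveI := hψm
  haveI := h.flat
  haveI := h.surj
  haveI := h.lfp
  have hz : i ≫ Red.DSmap S A.subtype = 1 := by
    rw [← he, Category.assoc, DSmap_comp_eq_one (show (QuotientAddGroup.mk' A).comp A.subtype = 0 from
      AddMonoidHom.ext fun a => (QuotientAddGroup.eq_zero_iff _).mpr a.2), MonObj.comp_one]
  haveI hm : IsMonHom (Red.DSmap S A.subtype) := isMonHom_DSmap (S := S) (M := A) (N := M) A.subtype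
  obtain ⟨θ, hθ⟩ := QuotDescent.exists_descOver q (Red.DSmap S A.subtype) fun Y x y hxy => by
    obtain ⟨a, ha⟩ := h.exact' x y hxy
    have h1 : (x⁻¹ * y) ≫ Red.DSmap S A.subtype = 1 := by rw [← ha, Category.assoc, hz, MonObj.comp_one]
    rw [@isMonHom_of_div _ _ _ _ _ _ hm] at h1
    exact inv_mul_eq_one.mp h1
  obtain ⟨_, _, _⟩ := fppf_DSmap (S := S) A.subtype A.subtype_injective
  haveI := QuotDescent.epi_of_fppf (Red.DSmap S A.subtype)
  haveI := QuotDescent.epi_of_fppf q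
  haveI : IsIso ψ := ⟨θ, by rw [← cancel_epi (Red.DSmap S A.subtype), reassoc_of% hψ, hθ, Category.comp_id],
    by rw [← cancel_epi q, reassoc_of% hθ, hψ, Category.comp_id]⟩
  exact ⟨(Grp.mkIso' (asIso ψ)).symm⟩

/-- An injective chart map of the kernel spreads to an isomorphism near the point. -/
theorem exists_iso_near {M : Type} [AddCommGroup M] [AddGroup.FG M] (i : H ⟶ Red.DS S M) [IsMonHom i] [Mono i]
    (hH : SGA3x.IsMultTypeFT H) (A : AddSubgroup M) (hz : i ≫ Red.DSmap S A.subtype = 1)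
    {k : Type u} [Field k] {β : Spec (CommRingCat.of k) ⟶ S} {MH : Type} [AddCommGroup MH] (cH : Chart β H MH)
    {φ : M →+ MH} (hφ : Rep cH (chartDS β M) i φ) (hker : φ.ker ≤ A) :
    ∃ V : S.Opens, β (IsLocalRing.closedPoint k) ∈ V ∧ IsClosed (V : Set S) ∧ ∃ e : Red.bc V.ι H ≅ Red.DS V (M ⧸ A),
      e.hom ≫ Red.DSmap V (QuotientAddGroup.mk' A) = (Over.pullback V.ι).map i ≫ (bcDS V.ι M).hom := by
  haveI := mono_DSmap (S := S) (QuotientAddGroup.mk'_surjective A)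
  obtain ⟨v, hv⟩ := exists_factor_mk A i hz
  haveI : IsMonHom v := Deform.isMonHom_of_comp v _ hv
  haveI : Mono v := mono_of_mono_fac hv
  obtain ⟨φv, hφv⟩ := exists_rep cH (chartDS β (M ⧸ A)) v
  have h1 := hφv.comp (rep_DSmap (S := S) (β := β) (QuotientAddGroup.mk' A))
  rw [hv] at h1
  have hinj : Function.Injective φv := by
    rw [injective_iff_map_eq_zero]
    intro a ha
    obtain ⟨m, rfl⟩ := QuotientAddGroup.mk'_surjective A a
    exact (QuotientAddGroup.eq_zero_iff _).mpr (hker ((DFunLike.congr_fun (hφ.unique h1) m).trans ha))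
  obtain ⟨V, hVc, hV, hVt⟩ := GrpSchLib.HomSplitLocus.ff_locus (u := v) (Deform.isMultType_of_ft hH)
    (isMultTypeFT_DS S (M ⧸ A))
  have hres := GrpSchLib.HomSplitLocus.residue_of_field (fun g => Ff v g)
    (fun l _ _ _ h => by exact Ff.of_flat_surjective l h) β (ff_of_rep hφv hinj)
  refine ⟨V, (hV _).mpr hres, hVc, ?_⟩
  let w : Red.bc V.ι H ⟶ Red.DS V (M ⧸ A) := (Over.pullback V.ι).map v ≫ (bcDS V.ι (M ⧸ A)).hom
  haveI := hVt.1
  haveI := hVt.2
  haveI : IsIso (bcDS V.ι (M ⧸ A)).hom.left := ((Over.forget _).mapIso (bcDS V.ι (M ⧸ A))).isIso_hom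
  haveI : Flat w.left := by rw [Over.comp_left]; infer_instance
  haveI : Surjective w.left := by rw [Over.comp_left]; infer_instance
  haveI := MultTypeFlat.lfp_DS (V : Scheme.{u}) (M ⧸ A)
  haveI := MultTypeFlat.lfp (GrpSchLib.MultTypeBC.isMultTypeFT_bc V.ι hH)
  haveI : LocallyOfFinitePresentation (w.left ≫ (Red.DS V (M ⧸ A)).hom) := by rw [Over.w w]; infer_instance
  haveI : LocallyOfFinitePresentation w.left :=
    AlgSpPts.locallyOfFinitePresentation_of_comp w.left (Red.DS V (M ⧸ A)).hom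
  haveI : Mono w := inferInstanceAs (Mono ((Over.pullback V.ι).map v ≫ (bcDS V.ι (M ⧸ A)).hom))
  haveI : Mono w.left := Over.mono_left_of_mono _
  haveI := IsOpenImmersion.of_flat_of_mono w.left
  haveI : IsIso w.left := by
    haveI := (TopCat.epi_iff_surjective _).mpr (Scheme.Hom.surjective w.left)
    exact (isIso_iff_isOpenImmersion_and_epi_base w.left).mpr ⟨inferInstance, inferInstance⟩
  haveI : IsIso ((Over.forget _).map w) := ‹IsIso w.left›
  haveI : IsIso w := isIso_of_reflects_iso w (Over.forget _)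
  refine ⟨asIso w, ?_⟩
  rw [asIso_hom, Category.assoc, ← bcDS_naturality, ← Category.assoc, ← Functor.map_comp, hv]

/-- The characters killed near the point are killed at the point. -/
theorem ker_le {M : Type} [AddCommGroup M] (i : H ⟶ Red.DS S M) [IsMonHom i] {k : Type u} [Field k]
    {β : Spec (CommRingCat.of k) ⟶ S} {MH : Type} [AddCommGroup MH] {cH : Chart β H MH} {φ : M →+ MH}
    (hφ : Rep cH (chartDS β M) i φ) {s : S} (hs : β (IsLocalRing.closedPoint k) = s) (U : S.Opens) (u₀ : U)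
    (hu : U.ι u₀ = s) {k' : Type u} [Field k'] {β' : Spec (CommRingCat.of k') ⟶ U} {MH' : Type} [AddCommGroup MH']
    {cH' : Chart β' (Red.bc U.ι H) MH'} {φ' : M →+ MH'}
    (hφ' : Rep cH' (chartDS β' M) ((Over.pullback U.ι).map i ≫ (bcDS U.ι M).hom) φ')
    (hs' : β' (IsLocalRing.closedPoint k') = u₀) : φ'.ker ≤ φ.ker := fun m hm' => by
    let z : ℤ →+ M := zmultiplesHom M m
    have h1 := hφ'.comp (rep_DSmap (S := (U : Scheme.{u})) (β := β') z)
    rw [show φ'.comp z = 0 from AddMonoidHom.ext_int (by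
      show φ' ((1 : ℤ) • m) = 0
      rw [one_zsmul]
      exact hm')] at h1
    have h2 := triv_of_rep_zero h1
    rw [Category.assoc, ← bcDS_naturality, ← Category.assoc, ← Functor.map_comp] at h2
    have h3 : Triv ((Over.pullback U.ι).map (i ≫ Red.DSmap S z)) β' := fun Y p x => by
      rw [← cancel_mono (bcDS U.ι ℤ).hom, MonObj.one_comp, Category.assoc]
      exact h2 Y p x
    have h4 := (GrpSchLib.HomUnitLocus.triv_iff_of_field _).mp ((triv_bc _ U.ι β').mp h3)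
    rw [Scheme.Hom.comp_apply, hs', hu, ← hs] at h4
    have h5 := rep_zero_of_triv (hφ.comp (rep_DSmap (S := S) (β := β) z))
      ((GrpSchLib.HomUnitLocus.triv_iff_of_field β).mpr h4)
    have h6 := DFunLike.congr_fun h5 1
    show φ m = 0
    simpa [z] using h6

/-- An isomorphism over an open subscheme of an open subscheme, seen on the image. -/
theorem exists_image_open (U : S.Opens) (V : (U : Scheme.{u}).Opens) (Q : Over S) [GrpObj Q] {A : Type} [AddCommGroup A]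
    (eQ : Grp.mk (Red.bc V.ι (Red.bc U.ι Q)) ≅ Grp.mk (Red.DS V A)) (u₀ : U) (hu : u₀ ∈ V) :
    ∃ W : S.Opens, U.ι u₀ ∈ W ∧ (IsClosed (U : Set S) → IsClosed (V : Set U) → IsClosed (W : Set S)) ∧ Nonempty (Grp.mk (Red.bc W.ι Q) ≅ Grp.mk (Red.DS W A)) := by
  obtain ⟨eb⟩ := GrpSchLib.MultTypeBC.bc_bc V.ι U.ι Q
  let W : S.Opens := U.ι ''ᵁ V
  have hcl : IsClosed (U : Set S) → IsClosed (V : Set U) → IsClosed (W : Set S) := fun hUc hVc => by
    have h : Topology.IsClosedEmbedding U.ι := ⟨U.ι.isOpenEmbedding.isEmbedding, by rwa [Scheme.Opens.range_ι]⟩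
    exact h.isClosedMap _ hVc
  let t : (W : Scheme.{u}) ⟶ V := IsOpenImmersion.lift (V.ι ≫ U.ι) W.ι (by
    rw [Scheme.Hom.comp_base, TopCat.coe_comp, Set.range_comp, Scheme.Opens.range_ι, Scheme.Opens.range_ι]
    exact subset_rfl)
  obtain ⟨et⟩ := GrpSchLib.MultTypeBC.bc_bc t (V.ι ≫ U.ι) Q
  obtain ⟨ec⟩ := GrpSchLib.MultTypeBC.bc_congr (IsOpenImmersion.lift_fac (V.ι ≫ U.ι) W.ι _ : t ≫ V.ι ≫ U.ι = W.ι) Q
  obtain ⟨ei⟩ := GrpSchLib.MultTypeBC.bc_iso t (eb.symm ≪≫ eQ)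
  obtain ⟨ed⟩ := GrpSchLib.MultTypeBC.bc_DS t A
  exact ⟨W, ⟨u₀, hu, rfl⟩, hcl, ⟨(et ≪≫ ec).symm ≪≫ ei ≪≫ ed⟩⟩

/-- The quotient of a split group by a subgroup of multiplicative type is split over a connected base. -/
theorem iso_of_univ {Q : Over S} [GrpObj Q] {A : Type} [AddCommGroup A] (W : S.Opens) (hW : (W : Set S) = Set.univ)
    (e : Grp.mk (Red.bc W.ι Q) ≅ Grp.mk (Red.DS W A)) : Nonempty (Grp.mk Q ≅ Grp.mk (Red.DS S A)) := by
  obtain ⟨l, hl⟩ := exists_lift_univ hW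
  obtain ⟨e1⟩ := GrpSchLib.MultTypeBC.bc_bc l W.ι Q
  obtain ⟨e2⟩ := GrpSchLib.MultTypeBC.bc_congr hl Q
  obtain ⟨e3⟩ := GrpSchLib.MultTypeBC.bc_iso l e
  obtain ⟨e4⟩ := GrpSchLib.MultTypeBC.bc_DS l A
  exact ⟨((Functor.mapGrpNatIso Over.pullbackId ≪≫ Functor.mapGrpIdIso).app (Grp.mk Q)).symm ≪≫ (e1 ≪≫ e2).symm ≪≫
    e3 ≪≫ e4⟩

/-- The quotient is split near a point where the chart map of the kernel is known. -/
theorem exists_iso_of_pres {M : Type} [AddCommGroup M] [AddGroup.FG M] (i : H ⟶ Red.DS S M) [IsMonHom i] [Mono i]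
    (hH : SGA3x.IsMultTypeFT H) (q : Red.DS S M ⟶ Q) [IsMonHom q] (h : Pres i q) (A : AddSubgroup M)
    (hz : i ≫ Red.DSmap S A.subtype = 1) {k : Type u} [Field k] {β : Spec (CommRingCat.of k) ⟶ S} {MH : Type}
    [AddCommGroup MH] (cH : Chart β H MH) {φ : M →+ MH} (hφ : Rep cH (chartDS β M) i φ) (hker : φ.ker ≤ A) :
    ∃ V : S.Opens, β (IsLocalRing.closedPoint k) ∈ V ∧ IsClosed (V : Set S) ∧
      Nonempty (Grp.mk (Red.bc V.ι Q) ≅ Grp.mk (Red.DS V A)) := by
  obtain ⟨V, hsV, hVc, e, he⟩ := exists_iso_near i hH A hz cH hφ hker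
  have hp' := (h.bc V.ι).congr_mid (bcDS V.ι M)
  haveI : IsMonHom ((bcDS V.ι M).inv ≫ (Over.pullback V.ι).map q) := inferInstance
  exact ⟨V, hsV, hVc, nonempty_iso hp' A e he⟩

theorem zero_of_triv {M N : Type} [AddCommGroup M] [AddCommGroup N] (i : H ⟶ Red.DS S M) [IsMonHom i] (φ : N →+ M)
    {U : Scheme.{u}} (g : U ⟶ S) (h : Triv (i ≫ Red.DSmap S φ) g) :
    ((Over.pullback g).map i ≫ (bcDS g M).hom) ≫ Red.DSmap U φ = 1 := by
  rw [Category.assoc, ← bcDS_naturality, ← Category.assoc, ← Functor.map_comp,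
    GrpSchLib.HomUnitLocus.map_eq_one_of_triv h, MonObj.one_comp]

/-- The quotient of a split group by a subgroup of multiplicative type is split near every point. -/
theorem exists_quotient_near {M : Type} [AddCommGroup M] [AddGroup.FG M] (i : H ⟶ Red.DS S M) [IsMonHom i] [Mono i]
    (hH : SGA3x.IsMultTypeFT H) (q : Red.DS S M ⟶ Q) [IsMonHom q] (h : Pres i q) (s : S) :
    ∃ (V : S.Opens) (A : AddSubgroup M), s ∈ V ∧ IsClosed (V : Set S) ∧
      Nonempty (Grp.mk (Red.bc V.ι Q) ≅ Grp.mk (Red.DS V A)) := by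
  obtain ⟨k, _, β, MH, _, _, cH, hs⟩ := exists_chart hH s
  obtain ⟨φ, hφ⟩ := exists_rep cH (chartDS β M) i
  let A : AddSubgroup M := φ.ker
  haveI : Module.Finite ℤ M := Module.Finite.iff_addGroup_fg.mpr ‹_›
  haveI : AddGroup.FG A := Module.Finite.iff_addGroup_fg.mp
    (Module.Finite.of_injective A.subtype.toIntLinearMap (fun a b e => A.subtype_injective e))
  haveI := isSeparated_of_multType (isMultTypeFT_DS S A)
  haveI : LocallyOfFiniteType (Red.DS S A).hom := GrpSchLib.MultTypeLft.lft (isMultTypeFT_DS S A)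
  have hr := hφ.comp (rep_DSmap (S := S) (β := β) A.subtype)
  rw [show φ.comp A.subtype = 0 from AddMonoidHom.ext fun a => a.2] at hr
  have ht := (GrpSchLib.HomUnitLocus.triv_iff_of_field β).mp (triv_of_rep_zero hr)
  haveI hm : IsMonHom (Red.DSmap S A.subtype) := isMonHom_DSmap (S := S) (M := A) (N := M) A.subtype
  obtain ⟨U, hUc, hU, hUt⟩ := GrpSchLib.HomUnitLocus.main hH (u := i ≫ Red.DSmap S A.subtype)
    (Or.inr inferInstance)
  rw [hs] at ht
  have hsU : s ∈ U := (hU s).mpr ht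
  let i₁ : Red.bc U.ι H ⟶ Red.DS U M := (Over.pullback U.ι).map i ≫ (bcDS U.ι M).hom
  haveI : IsMonHom i₁ := inferInstanceAs (IsMonHom ((Over.pullback U.ι).map i ≫ (bcDS U.ι M).hom))
  haveI : Mono i₁ := inferInstanceAs (Mono ((Over.pullback U.ι).map i ≫ (bcDS U.ι M).hom))
  let q₁ : Red.DS U M ⟶ Red.bc U.ι Q := (bcDS U.ι M).inv ≫ (Over.pullback U.ι).map q
  haveI : IsMonHom q₁ := inferInstanceAs (IsMonHom ((bcDS U.ι M).inv ≫ (Over.pullback U.ι).map q))
  have hp : Pres i₁ q₁ := (h.bc U.ι).congr_mid (bcDS U.ι M)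
  have hz : i₁ ≫ Red.DSmap U A.subtype = 1 := zero_of_triv i A.subtype U.ι hUt
  have hH₁ := GrpSchLib.MultTypeBC.isMultTypeFT_bc U.ι hH
  obtain ⟨k', _, β', MH', _, _, cH', hs'⟩ := exists_chart hH₁ ⟨s, hsU⟩
  obtain ⟨φ', hφ'⟩ := exists_rep cH' (chartDS β' M) i₁
  have hker : φ'.ker ≤ A := ker_le i hφ hs U ⟨s, hsU⟩ rfl hφ' hs'
  obtain ⟨V, hsV, hVc, ⟨eQ⟩⟩ := exists_iso_of_pres i₁ hH₁ q₁ hp A hz cH' hφ' hker
  rw [hs'] at hsV
  obtain ⟨W, hsW, hWc, hW⟩ := exists_image_open U V Q eQ ⟨s, hsU⟩ hsV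
  exact ⟨W, A, hsW, hWc hUc hVc, hW⟩

/-- A subgroup of a lattice is a lattice of smaller rank. -/
theorem exists_lattice {r : ℕ} (A : AddSubgroup (Fin r → ℤ)) :
    ∃ r' : ℕ, r' ≤ r ∧ Nonempty (A ≃+ (Fin r' → ℤ)) := by
  let W : Submodule ℤ (Fin r → ℤ) := A.toIntSubmodule
  obtain ⟨n, b⟩ := Submodule.basisOfPid (Pi.basisFun ℤ (Fin r)) W
  refine ⟨n, ?_, ⟨b.equivFun.toAddEquiv⟩⟩
  have h := Submodule.finrank_le W
  rwa [Module.finrank_eq_card_basis b, Module.finrank_eq_card_basis (Pi.basisFun ℤ (Fin r)), Fintype.card_fin,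
    Fintype.card_fin] at h

/-- Isomorphic character groups give isomorphic diagonalisable groups. -/
theorem nonempty_DS_congr {A B : Type} [AddCommGroup A] [AddCommGroup B] (e : A ≃+ B) :
    Nonempty (Grp.mk (Red.DS S B) ≅ Grp.mk (Red.DS S A)) := by
  let i : Red.DS S B ≅ Red.DS S A :=
    { hom := Red.DSmap S e.toAddMonoidHom
      inv := Red.DSmap S e.symm.toAddMonoidHom
      hom_inv_id := by
        rw [DSmap_comp, show e.toAddMonoidHom.comp e.symm.toAddMonoidHom = AddMonoidHom.id B from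
          AddMonoidHom.ext e.apply_symm_apply, DSmap_id]
      inv_hom_id := by
        rw [DSmap_comp, show e.symm.toAddMonoidHom.comp e.toAddMonoidHom = AddMonoidHom.id A from
          AddMonoidHom.ext e.symm_apply_apply, DSmap_id] }
  haveI : IsMonHom i.hom := isMonHom_DSmap e.toAddMonoidHom
  exact ⟨Grp.mkIso' i⟩

/-- The quotient of a split torus by a subgroup of multiplicative type is a split torus near every point. -/
theorem exists_splitTorus_near {r : ℕ} (hT : Red.IsSplitTorusWith (Fin r → ℤ) T) (i : H ⟶ T) [IsMonHom i] [Mono i]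
    (hH : SGA3x.IsMultTypeFT H) (q : T ⟶ Q) [IsMonHom q] (h : Pres i q) (s : S) :
    ∃ (V : S.Opens) (r' : ℕ), s ∈ V ∧ IsClosed (V : Set S) ∧ r' ≤ r ∧
      Red.IsSplitTorusWith (Fin r' → ℤ) (Red.bc V.ι Q) := by
  obtain ⟨e⟩ := hT
  haveI : AddGroup.FG (Fin r → ℤ) := Module.Finite.iff_addGroup_fg.mp inferInstance
  let eT : T ≅ Red.DS S (Fin r → ℤ) := (Grp.forget _).mapIso e
  haveI : IsMonHom eT.hom := e.hom.hom.isMonHom_hom
  haveI : IsMonHom eT.inv := e.inv.hom.isMonHom_hom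
  haveI : Mono (i ≫ eT.hom) := mono_comp _ _
  obtain ⟨V, A, hs, hc, ⟨eQ⟩⟩ := exists_quotient_near (i ≫ eT.hom) hH (eT.inv ≫ q) (h.congr_mid eT) s
  obtain ⟨r', hle, ⟨b⟩⟩ := exists_lattice A
  obtain ⟨eb⟩ := nonempty_DS_congr (S := (V : Scheme.{u})) b.symm
  exact ⟨V, r', hs, hc, hle, ⟨eQ ≪≫ eb⟩⟩

/-- The quotient of a torus, split on an open, is split near each point of that open. -/
theorem exists_splitTorus_open (U : S.Opens) {r : ℕ} (hT : Red.IsSplitTorusWith (Fin r → ℤ) (Red.bc U.ι T))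
    (i : H ⟶ T) [IsMonHom i] [Mono i] (hH : SGA3x.IsMultTypeFT H) (q : T ⟶ Q) [IsMonHom q] (h : Pres i q) (s : S)
    (hs : s ∈ U) : ∃ (W : S.Opens) (r' : ℕ), s ∈ W ∧ Red.IsSplitTorusWith (Fin r' → ℤ) (Red.bc W.ι Q) := by
  obtain ⟨V, r', hV, -, -, ⟨e⟩⟩ := exists_splitTorus_near hT ((Over.pullback U.ι).map i)
    (GrpSchLib.MultTypeBC.isMultTypeFT_bc U.ι hH) ((Over.pullback U.ι).map q) (h.bc U.ι) ⟨s, hs⟩
  obtain ⟨W, hW, -, hW'⟩ := exists_image_open U V Q e ⟨s, hs⟩ hV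
  exact ⟨W, r', hW, hW'⟩

end Groth.Agent.Deform.SplitQuot
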