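import Groth.Agent.Deform.QuasiIsotrivial
import Groth.Agent.Deform.SplitQuot
import Groth.Agent.GrpSchLib.SubschemeDescent
import Groth.Agent.GrpSchLib.MonoSubgroup
import Groth.Agent.ModPairLib.CoprodAdm

/-!
# The greatest torus of a group of multiplicative type and of finite type

A homomorphism from a torus to `D(M)` factors through `D(M ⧸ torsion)`; the greatest torus descends along etale charts.
-/

set_option autoImplicit false
set_option linter.style.haveILetI false

universe u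

open CategoryTheory CategoryTheory.Limits MonoidalCategory CartesianMonoidalCategory MonObj GrpObj AlgebraicGeometry

attribute [local instance] CategoryTheory.Hom.monoid CategoryTheory.Hom.group

namespace Groth.Agent.Deform.GreatestTorus

open DiagMaps

variable {S : Scheme.{u}}

theorem fg_torsion (M : Type) [AddCommGroup M] [AddGroup.FG M] : AddGroup.FG (AddCommGroup.torsion M) := by
  haveI : Module.Finite ℤ M := Module.Finite.iff_addGroup_fg.mpr inferInstance
  haveI : Module.Finite ℤ (AddSubgroup.toIntSubmodule (AddCommGroup.torsion M)) := inferInstance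
  exact Module.Finite.iff_addGroup_fg.mp this

/-- A homomorphism from a torus to `D(M)` factors through the torus `D(M ⧸ torsion)`. -/
theorem exists_factor {M : Type} [AddCommGroup M] [AddGroup.FG M] {R : Over S} [GrpObj R] (hR : Red.IsTorus R)
    (v : R ⟶ Red.DS S M) [IsMonHom v] :
    ∃ l, l ≫ Red.DSmap S (QuotientAddGroup.mk' (AddCommGroup.torsion M)) = v := by
  let A := AddCommGroup.torsion M
  haveI := fg_torsion M
  haveI hS := isMonHom_DSmap (S := S) (M := A) (N := M) A.subtype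
  let w : R ⟶ Red.DS S A := v ≫ Red.DSmap S A.subtype
  haveI : IsMonHom w := inferInstanceAs (IsMonHom (v ≫ Red.DSmap S A.subtype))
  have hMA := SplitQuot.isMultTypeFT_DS S A
  haveI := SplitQuot.isSeparated_of_multType hMA
  haveI : LocallyOfFinitePresentation (Red.DS S A).hom := MultTypeFlat.lfp hMA
  obtain ⟨U, -, hU, hUt⟩ := GrpSchLib.HomUnitLocus.main (u := w) (Deform.isMultTypeFT_of_isTorus hR)
    (Or.inr inferInstance)
  have key : ∀ s, s ∈ U := fun s => by
    let K := AlgebraicClosure (S.residueField s)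
    let β := Red.geomPt s
    have hβ : β (IsLocalRing.closedPoint K) = s := by
      show (Spec.map _ ≫ S.fromSpecResidueField s) _ = s
      rw [Scheme.Hom.comp_apply, Scheme.fromSpecResidueField_apply]
    rw [hU, ← hβ, ← GrpSchLib.HomUnitLocus.triv_iff_of_field]
    obtain ⟨r, ⟨e⟩⟩ := Deform.exists_split _ (Deform.isTorus_bc β hR)
    haveI : IsMonHom e.inv.hom.hom := e.inv.hom.isMonHom_hom
    let u' : Red.DS (Spec (CommRingCat.of K)) (Fin r → ℤ) ⟶ Red.DS (Spec (CommRingCat.of K)) A :=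
      e.inv.hom.hom ≫ (Over.pullback β).map w ≫ (bcDS β A).hom
    haveI : IsMonHom u' :=
      inferInstanceAs (IsMonHom (e.inv.hom.hom ≫ (Over.pullback β).map w ≫ (bcDS β A).hom))
    obtain ⟨φ, hφ⟩ := exists_rep (chartDS (𝟙 _) (Fin r → ℤ)) (chartDS (𝟙 _) A) u'
    have h0 : φ = 0 := by
      refine AddMonoidHom.ext fun a => ?_
      obtain ⟨n, hn, hna⟩ := isOfFinAddOrder_iff_nsmul_eq_zero.mp (a.2 : IsOfFinAddOrder (a : M))
      have h1 : n • φ a = 0 := by
        rw [← map_nsmul, show n • a = 0 from Subtype.ext hna, map_zero]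
      exact (smul_eq_zero_iff_right hn.ne').mp h1
    have h2 : u' = 1 := (triv_id_iff u').mp (triv_of_rep_zero (h0 ▸ hφ))
    apply GrpSchLib.HomUnitLocus.triv_of_map_eq_one
    haveI : IsIso e.inv.hom.hom := ((Grp.forget _).mapIso e.symm).isIso_hom
    rw [← cancel_epi e.inv.hom.hom, ← cancel_mono (bcDS β A).hom, MonObj.comp_one, MonObj.one_comp, Category.assoc]
    exact h2
  obtain ⟨l, hl⟩ := SplitQuot.exists_lift_univ (U := U) (Set.eq_univ_of_forall key)
  exact exists_factor_mk A v ((triv_id_iff w).mp (by rw [← hl]; exact hUt.comp l))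

/-- The greatest torus, over every base over the chart. -/
theorem exists_factor_bc {W : Scheme.{u}} {M : Type} [AddCommGroup M] [AddGroup.FG M] {G : Over W} [GrpObj G]
    (e : Grp.mk G ≅ Grp.mk (Red.DS W M)) {U : Scheme.{u}} (g : U ⟶ W) {R : Over U} [GrpObj R] (hR : Red.IsTorus R)
    (v : R ⟶ Red.bc g G) [IsMonHom v] :
    ∃ l, l ≫ (Over.pullback g).map (Red.DSmap W (QuotientAddGroup.mk' (AddCommGroup.torsion M)) ≫ e.inv.hom.hom) = v := by
  haveI : IsMonHom e.hom.hom.hom := e.hom.hom.isMonHom_hom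
  obtain ⟨l, hl⟩ := exists_factor hR (v ≫ (Over.pullback g).map e.hom.hom.hom ≫ (bcDS g M).hom)
  refine ⟨l ≫ (bcDS g (M ⧸ AddCommGroup.torsion M)).inv, ?_⟩
  have hn := bcDS_naturality g (QuotientAddGroup.mk' (AddCommGroup.torsion M))
  rw [Functor.map_comp, Category.assoc,
    show (Over.pullback g).map (Red.DSmap W (QuotientAddGroup.mk' (AddCommGroup.torsion M))) =
      (bcDS g (M ⧸ AddCommGroup.torsion M)).hom ≫ Red.DSmap U (QuotientAddGroup.mk' (AddCommGroup.torsion M)) ≫
        (bcDS g M).inv by rw [← Category.assoc, ← hn, Category.assoc, Iso.hom_inv_id, Category.comp_id],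
    Category.assoc, Iso.inv_hom_id_assoc, Category.assoc, ← Category.assoc l, hl, Category.assoc, Category.assoc,
    Iso.hom_inv_id_assoc, ← Functor.map_comp,
    show e.hom.hom.hom ≫ e.inv.hom.hom = 𝟙 _ from congrArg (fun m => m.hom.hom) e.hom_inv_id,
    CategoryTheory.Functor.map_id, Category.comp_id]

/-- The greatest torus of a split group, with its universal property over every base. -/
theorem exists_piece {W : Scheme.{u}} {G : Over W} [GrpObj G] {M : Type} [AddCommGroup M] [AddGroup.FG M]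
    (e : Grp.mk G ≅ Grp.mk (Red.DS W M)) :
    ∃ (Q : Over W) (_ : GrpObj Q) (q : Q ⟶ G) (r : ℕ), IsMonHom q ∧ IsClosedImmersion q.left ∧
      Red.IsSplitTorusWith (Fin r → ℤ) Q ∧
      (∀ (R : Over W) [GrpObj R] (v : R ⟶ G) [IsMonHom v], Red.IsTorus R → ∃ l, l ≫ q = v) ∧
      ∀ {U : Scheme.{u}} (g : U ⟶ W) (R : Over U) [GrpObj R] (v : R ⟶ Red.bc g G) [IsMonHom v], Red.IsTorus R →
        ∃ l, l ≫ (Over.pullback g).map q = v := by
  let A := AddCommGroup.torsion M
  haveI : Module.Finite ℤ M := Module.Finite.iff_addGroup_fg.mpr inferInstance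
  haveI : Module.Finite ℤ (M ⧸ A) := Module.Finite.of_surjective
    (QuotientAddGroup.mk' A).toIntLinearMap (QuotientAddGroup.mk'_surjective _)
  haveI : IsAddTorsionFree (M ⧸ A) := inferInstance
  haveI : Module.Free ℤ (M ⧸ A) := Module.free_of_finite_type_torsion_free'
  obtain ⟨a⟩ := SplitQuot.nonempty_DS_congr (S := W) (Module.finBasis ℤ (M ⧸ A)).equivFun.toAddEquiv
  haveI := S5427.isMonHom_DSmap W (QuotientAddGroup.mk' A)
  haveI := S5427.isClosedImmersion_DSmap W (QuotientAddGroup.mk' A) (QuotientAddGroup.mk'_surjective A)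
  haveI : IsMonHom e.inv.hom.hom := e.inv.hom.isMonHom_hom
  haveI : IsMonHom e.hom.hom.hom := e.hom.hom.isMonHom_hom
  haveI : IsIso e.inv.hom.hom := ((Grp.forget _).mapIso e.symm).isIso_hom
  haveI : IsIso e.inv.hom.hom.left := ((Over.forget _).mapIso (asIso e.inv.hom.hom)).isIso_hom
  refine ⟨Red.DS W (M ⧸ A), inferInstance, Red.DSmap W (QuotientAddGroup.mk' A) ≫ e.inv.hom.hom, _,
    inferInstance, ?_, ⟨a.symm⟩, fun R _ v _ hR => ?_, fun g R _ v _ hR => exists_factor_bc e g hR v⟩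
  · rw [Over.comp_left]
    infer_instance
  · obtain ⟨m, hm⟩ := exists_factor hR (v ≫ e.hom.hom.hom)
    refine ⟨m, ?_⟩
    rw [← Category.assoc, hm, Category.assoc,
      show e.hom.hom.hom ≫ e.inv.hom.hom = 𝟙 _ from congrArg (fun m => m.hom.hom) e.hom_inv_id, Category.comp_id]

/-- An etale surjection is a covering for the flat topology. -/
theorem hcov_of_etale {X Y : Scheme.{u}} (f : X ⟶ Y) [Etale f] [Surjective f] (V : Y.Opens) (hV : IsAffineOpen V) :
    ∃ W : X.Opens, IsCompact (W : Set X) ∧ f.base '' (W : Set X) = (V : Set Y) := by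
  have hloc : ∀ t ∈ (V : Set Y), ∃ A : X.Opens, IsCompact (A : Set X) ∧ t ∈ f '' (A : Set X) ∧
      f '' (A : Set X) ⊆ V := by
    intro t ht
    obtain ⟨v, rfl⟩ := f.surjective t
    obtain ⟨A, hA, hvA, hAsub⟩ := exists_isAffineOpen_mem_and_subset (show v ∈ f ⁻¹ᵁ V from ht)
    exact ⟨A, hA.isCompact, ⟨v, hvA, rfl⟩, Set.image_subset_iff.mpr fun x hx => hAsub hx⟩
  choose! A hAc htA hAV using hloc
  obtain ⟨F, hFV, hFfin, hF⟩ := hV.isCompact.elim_finite_subcover_image (b := (V : Set Y))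
    (c := fun t => f '' (A t : Set X)) (fun t _ => f.isOpenMap _ (A t).2)
    (fun t ht => Set.mem_iUnion₂.mpr ⟨t, ht, htA t ht⟩)
  refine ⟨⟨⋃ t ∈ F, (A t : Set X), isOpen_biUnion fun t _ => (A t).2⟩,
    hFfin.isCompact_biUnion fun t h => hAc t (hFV h), ?_⟩
  show f '' (⋃ t ∈ F, (A t : Set X)) = _
  rw [Set.image_iUnion₂]
  exact subset_antisymm (Set.iUnion₂_subset fun t h => hAV t (hFV h)) hF

open Limits in
set_option maxHeartbeats 2000000 in
/-- The greatest torus of a group of multiplicative type and of finite type. -/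
theorem exists_greatest {H : Over S} [GrpObj H] (hH : SGA3x.IsMultTypeFT H) :
    ∃ (T : Over S) (_ : GrpObj T) (i : T ⟶ H), IsMonHom i ∧ Mono i ∧ Red.IsTorus T ∧
      (∀ (R : Over S) [GrpObj R] (v : R ⟶ H) [IsMonHom v], Red.IsTorus R → ∃ w : R ⟶ T, w ≫ i = v) ∧
      ∀ {U : Scheme.{u}} (g : U ⟶ S) (R : Over U) [GrpObj R] (v : R ⟶ Red.bc g H) [IsMonHom v], Red.IsTorus R →
        ∃ w : R ⟶ Red.bc g T, w ≫ (Over.pullback g).map i = v := by
  classical
  choose W g M iM hg hs hM he using QuasiIsotrivial.exists_etale_split hH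
  letI := iM
  haveI := hg
  haveI := hM
  choose Q iQ q r hqh hqc hQsplit hfacS hfacU using fun s => exists_piece (he s).some
  letI := iQ
  haveI := hqh
  haveI := hqc
  haveI : ∀ s, Mono (q s) := fun s => (Over.forget _).mono_of_mono_map (inferInstanceAs (Mono (q s).left))
  have hQ : ∀ s, Red.IsTorus (Q s) := fun s => Deform.isTorus_of_split _ (hQsplit s)
  -- tori factor through the pieces
  have hkey : ∀ {U : Scheme.{u}} (gU : U ⟶ S) (R : Over U) [GrpObj R] (v : R ⟶ Red.bc gU H) [IsMonHom v],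
      Red.IsTorus R → ∀ (t : S) {O : Scheme.{u}} (a : O ⟶ R.left) (b : O ⟶ pullback H.hom (g t)),
        a ≫ v.left ≫ pullback.fst H.hom gU = b ≫ pullback.fst H.hom (g t) → ∃ l, l ≫ (q t).left = b := by
    intro U gU R _ v _ hR t O a b hab
    let p1 := pullback.fst gU (g t)
    let p2 := pullback.snd gU (g t)
    let c : O ⟶ pullback gU (g t) := pullback.lift (a ≫ R.hom) (b ≫ pullback.snd H.hom (g t)) (by
      rw [Category.assoc, Category.assoc, ← pullback.condition, ← reassoc_of% hab,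
        pullback.condition]
      rw [← Over.w v, Category.assoc]
      rfl)
    let κ₁ := ActBC.bcCompIso p1 gU H rfl
    let κ₂ := ActBC.bcCompIso p2 (g t) H pullback.condition.symm
    let v' : Red.bc p1 R ⟶ Red.bc p2 (Red.bc (g t) H) := (Over.pullback p1).map v ≫ κ₁.hom ≫ κ₂.inv
    haveI : IsMonHom v' := inferInstanceAs (IsMonHom ((Over.pullback p1).map v ≫ κ₁.hom ≫ κ₂.inv))
    obtain ⟨w, hw⟩ := hfacU t p2 (Red.bc p1 R) v' (Deform.isTorus_bc p1 hR)
    let ρ : O ⟶ (Red.bc p1 R).left := pullback.lift a c (pullback.lift_fst _ _ _).symm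
    refine ⟨ρ ≫ w.left ≫ pullback.fst (Q t).hom p2, ?_⟩
    have h1 : w.left ≫ pullback.fst (Q t).hom p2 ≫ (q t).left =
        v'.left ≫ pullback.fst (Red.bc (g t) H).hom p2 := by
      rw [← hw, Over.comp_left, Category.assoc, ActBC.pullback_map_left_fst]
    rw [Category.assoc, Category.assoc, h1]
    have hk : κ₂.inv.left ≫ pullback.fst (Red.bc (g t) H).hom p2 ≫ pullback.fst H.hom (g t) =
        pullback.fst H.hom (p1 ≫ gU) := by
      rw [← ActBC.bcCompIso_hom_left_fst p2 (g t) H pullback.condition.symm, ← Category.assoc, ← Over.comp_left,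
        Iso.inv_hom_id]
      exact Category.id_comp _
    apply pullback.hom_ext
    · simp only [v', Over.comp_left, Category.assoc]
      rw [hk, ActBC.bcCompIso_hom_left_fst, ActBC.pullback_map_left_fst_assoc, pullback.lift_fst_assoc, hab]
    · have h2 : v'.left ≫ pullback.snd (Red.bc (g t) H).hom p2 = pullback.snd R.hom p1 := Over.w v'
      rw [Category.assoc, Category.assoc]
      show ρ ≫ v'.left ≫ pullback.fst (Red.bc (g t) H).hom p2 ≫ (Red.bc (g t) H).hom = _
      rw [pullback.condition, reassoc_of% h2, pullback.lift_snd_assoc, pullback.lift_snd]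
  -- the covering
  let P : S → Scheme.{u} := fun s => pullback H.hom (g s)
  let π : (∐ P) ⟶ H.left := Sigma.desc fun s => pullback.fst H.hom (g s)
  haveI : Etale π := IsZariskiLocalAtSource.sigmaDesc (P := @Etale) fun s => inferInstance
  haveI : Surjective π := ⟨fun x => by
    obtain ⟨w, hw⟩ := hs (H.hom x)
    obtain ⟨z, hz, -⟩ := Scheme.Pullback.exists_preimage_pullback (f := H.hom) (g := g (H.hom x)) x w hw.symm
    exact ⟨Sigma.ι P _ z, by rw [← Scheme.Hom.comp_apply, Sigma.ι_desc]; exact hz⟩⟩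
  have hπ : FpqcDescLib.IsCovering π := FpqcDescLib.isCovering_of_flat π (hcov_of_etale π)
  let J : (∐ fun s => (Q s).left) ⟶ ∐ P := Limits.Sigma.map fun s => (q s).left
  haveI : IsClosedImmersion J := by
    refine (IsZariskiLocalAtTarget.iff_of_openCover (P := @IsClosedImmersion) (sigmaOpenCover P)).mpr fun s => ?_
    have Hs := (ModPairLib.isPullback_sigmaMap (fun s => (q s).left) s).flip
    have h1 : IsClosedImmersion (Hs.isoPullback.hom ≫ pullback.snd J (Sigma.ι P s)) := by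
      rw [show Hs.isoPullback.hom ≫ pullback.snd J (Sigma.ι P s) = (q s).left from Hs.isoPullback_hom_snd]; exact hqc s
    exact (MorphismProperty.cancel_left_of_respectsIso @IsClosedImmersion _ _).mp h1
  have hsquare : ∀ (s : S) {O : Scheme.{u}} (l : O ⟶ ∐ fun s => (Q s).left) (a : O ⟶ P s),
      l ≫ J = a ≫ Sigma.ι P s → ∃ l', l' ≫ (q s).left = a := fun s O l a h => by
    have Hs := ModPairLib.isPullback_sigmaMap (fun s => (q s).left) s
    exact ⟨Hs.lift a l h.symm, Hs.lift_fst _ _ _⟩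
  have hglue : ∀ {T : Scheme.{u}} (b : T ⟶ ∐ P),
      (∀ (t : S) {O : Scheme.{u}} (o : O ⟶ T) [IsOpenImmersion o] (bt : O ⟶ P t), bt ≫ Sigma.ι P t = o ≫ b →
        ∃ l, l ≫ (q t).left = bt) → ∃ l, l ≫ J = b := by
    intro T b hb
    let 𝒰 : T.OpenCover := Scheme.openCoverOfIsOpenCover T
      (fun t : S => b ⁻¹ᵁ (Sigma.ι P t).opensRange)
      (TopologicalSpace.Opens.ext (Set.eq_univ_of_forall fun x => by
        simp only [TopologicalSpace.Opens.coe_iSup, Set.mem_iUnion]
        obtain ⟨⟨t, y⟩, hy⟩ := (sigmaMk P).surjective (b x)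
        rw [sigmaMk_mk] at hy
        exact ⟨t, ⟨y, hy⟩⟩))
    have hbt : ∀ t : S, ∃ l, l ≫ J = (b ⁻¹ᵁ (Sigma.ι P t).opensRange).ι ≫ b := fun t => by
      let bt := IsOpenImmersion.lift (Sigma.ι P t) ((b ⁻¹ᵁ (Sigma.ι P t).opensRange).ι ≫ b) (by
        rintro _ ⟨x, rfl⟩
        exact x.2)
      have hbt : bt ≫ Sigma.ι P t = (b ⁻¹ᵁ (Sigma.ι P t).opensRange).ι ≫ b := IsOpenImmersion.lift_fac _ _ _
      obtain ⟨l, hl⟩ := hb t _ bt hbt
      exact ⟨l ≫ Sigma.ι (fun s => (Q s).left) t, by rw [Category.assoc, Limits.Sigma.ι_map, reassoc_of% hl, hbt]⟩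
    choose l hl using hbt
    refine ⟨𝒰.glueMorphisms l fun i k => ?_, 𝒰.hom_ext _ _ fun i => ?_⟩
    · rw [← cancel_mono J, Category.assoc, Category.assoc]
      show pullback.fst _ _ ≫ l i ≫ J = pullback.snd _ _ ≫ l k ≫ J
      rw [hl, hl, ← Category.assoc, ← Category.assoc]
      exact congrArg (· ≫ b) pullback.condition
    · rw [Scheme.Cover.ι_glueMorphisms_assoc]
      exact hl i
  obtain ⟨Z, i, hi, hfac⟩ := GrpSchLib.SubschemeDescent.exists_descend π hπ J (fun T a b hab ⟨la, hla⟩ => by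
    refine hglue b fun t O o _ bt hbt => ?_
    let 𝒰 : O.OpenCover := Scheme.openCoverOfIsOpenCover O
      (fun s : S => (o ≫ la) ⁻¹ᵁ (Sigma.ι (fun s => (Q s).left) s).opensRange)
      (TopologicalSpace.Opens.ext (Set.eq_univ_of_forall fun x => by
        simp only [TopologicalSpace.Opens.coe_iSup, Set.mem_iUnion]
        obtain ⟨⟨s, y⟩, hy⟩ := (sigmaMk fun s => (Q s).left).surjective ((o ≫ la) x)
        rw [sigmaMk_mk] at hy
        exact ⟨s, ⟨y, hy⟩⟩))
    have hloc : ∀ s : S, ∃ l, l ≫ (q t).left =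
        ((o ≫ la) ⁻¹ᵁ (Sigma.ι (fun s => (Q s).left) s).opensRange).ι ≫ bt := fun s => by
      let O' := (o ≫ la) ⁻¹ᵁ (Sigma.ι (fun s => (Q s).left) s).opensRange
      let as' := IsOpenImmersion.lift (Sigma.ι (fun s => (Q s).left) s) (O'.ι ≫ o ≫ la) (by
        rintro _ ⟨x, rfl⟩
        exact x.2)
      refine hkey (g s) (Q s) (q s) (hQ s) t as' (O'.ι ≫ bt) ?_
      have h1 : as' ≫ Sigma.ι (fun s => (Q s).left) s = O'.ι ≫ o ≫ la := IsOpenImmersion.lift_fac _ _ _
      have h2 := congrArg (fun m => O'.ι ≫ o ≫ m) hab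
      try simp only at h2
      rw [← hla, ← reassoc_of% hbt, Sigma.ι_desc, Category.assoc, reassoc_of% h1.symm, Limits.Sigma.ι_map_assoc,
        Sigma.ι_desc] at h2
      rw [Category.assoc]
      exact h2
    choose l hl using hloc
    refine ⟨𝒰.glueMorphisms l fun i k => ?_, 𝒰.hom_ext _ _ fun i => ?_⟩
    · rw [← cancel_mono (q t).left, Category.assoc, Category.assoc]
      show pullback.fst _ _ ≫ l i ≫ (q t).left = pullback.snd _ _ ≫ l k ≫ (q t).left
      rw [hl, hl, ← Category.assoc, ← Category.assoc]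
      exact congrArg (· ≫ bt) pullback.condition
    · rw [Scheme.Cover.ι_glueMorphisms_assoc]
      exact hl i) fun hsat => by
    rw [π.isOpenMap.preimage_closure_eq_closure_preimage π.continuous, hsat]
  haveI := hi
  let T : Over S := Over.mk (i ≫ H.hom)
  let j : T ⟶ H := Over.homMk i rfl
  haveI : IsImmersion j.left := hi
  haveI : Mono j := Over.mono_of_mono_left _
  let Mem : ∀ {Y : Over S}, (Y ⟶ H) → Prop := fun {Y} x =>
    ∀ s, ∃ h : Red.bc (g s) Y ⟶ Q s, h ≫ q s = (Over.pullback (g s)).map x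
  have hout : ∀ {Y : Over S} (y : Y ⟶ T), Mem (y ≫ j) := by
    intro Y y s
    obtain ⟨l, hl⟩ := (hfac _ (((Over.pullback (g s)).map (y ≫ j)).left ≫ Sigma.ι P s)).mpr
      ⟨pullback.fst Y.hom (g s) ≫ y.left, by
        rw [Category.assoc, Category.assoc, Sigma.ι_desc, ActBC.pullback_map_left_fst]
        rfl⟩
    obtain ⟨l', hl'⟩ := hsquare s l _ hl
    exact ⟨Over.homMk l' (by
      rw [← Over.w (q s), ← Category.assoc, hl']
      exact Over.w _), Over.OverMorphism.ext hl'⟩
  have hin' : ∀ {Y : Over S} (x : Y ⟶ H),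
      (∀ (t : S) {O : Scheme.{u}} (a : O ⟶ Y.left) (b : O ⟶ P t), a ≫ x.left = b ≫ pullback.fst H.hom (g t) →
        ∃ l, l ≫ (q t).left = b) → ∃ y, y ≫ j = x := by
    intro Y x hx
    obtain ⟨l, hl⟩ := hglue (pullback.snd x.left π) fun t O o _ bt hbt => hx t (o ≫ pullback.fst x.left π) bt (by
      rw [Category.assoc, pullback.condition, ← reassoc_of% hbt, Sigma.ι_desc])
    obtain ⟨m, hm⟩ := (hfac _ _).mp ⟨l, hl⟩
    have hc := (FpqcDescLib.covers_of_isCovering hπ).pullback x.left (pullback.fst x.left π)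
      (pullback.snd x.left π) (IsPullback.of_hasPullback x.left π)
    have hm' : m ≫ i = pullback.fst x.left π ≫ x.left := hm.trans pullback.condition.symm
    obtain ⟨y, hy, -⟩ := hc.desc m fun T a b e => by
      rw [← cancel_mono i, Category.assoc, Category.assoc, hm', reassoc_of% e]
    haveI := hc.epi
    have hyi : y ≫ i = x.left := by rw [← cancel_epi (pullback.fst x.left π), reassoc_of% hy, hm']
    exact ⟨Over.homMk y (by show y ≫ i ≫ H.hom = Y.hom; rw [reassoc_of% hyi, Over.w x]),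
      Over.OverMorphism.ext hyi⟩
  have hin : ∀ {Y : Over S} (x : Y ⟶ H), Mem x → ∃ y, y ≫ j = x := by
    intro Y x hx
    refine hin' x fun t O a b hab => ?_
    obtain ⟨h, hh⟩ := hx t
    refine ⟨pullback.lift a (b ≫ pullback.snd H.hom (g t)) ?_ ≫ h.left, ?_⟩
    · rw [← Over.w x, reassoc_of% hab, pullback.condition, Category.assoc]
    rw [Category.assoc, ← Over.comp_left, hh]
    apply pullback.hom_ext
    · rw [Category.assoc, ActBC.pullback_map_left_fst, pullback.lift_fst_assoc, hab]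
    · rw [Category.assoc]
      have h1 : ((Over.pullback (g t)).map x).left ≫ pullback.snd H.hom (g t) = pullback.snd Y.hom (g t) := Over.w _
      rw [h1, pullback.lift_snd]
  obtain ⟨η', hη⟩ := hin η[H] fun s => by
    refine ⟨1, ?_⟩
    have h1 : η[H] = (1 : 𝟙_ (Over S) ⟶ H) := by
      rw [Hom.one_def, toUnit_unique (toUnit (𝟙_ (Over S))) (𝟙 _), Category.id_comp]
    rw [h1, MonObj.one_comp, Functor.map_one]
  obtain ⟨ι', hι⟩ := hin (j⁻¹) fun s => by
    obtain ⟨h, hh⟩ := hout (𝟙 T) s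
    rw [Category.id_comp] at hh
    refine ⟨h⁻¹, ?_⟩
    rw [GrpObj.inv_comp, hh]
    exact inv_eq_of_mul_eq_one_right (by rw [← Functor.map_mul, mul_inv_cancel, Functor.map_one])
  obtain ⟨μ', hμ⟩ := hin ((fst T T ≫ j) * (snd T T ≫ j)) fun s => by
    obtain ⟨h₁, hh₁⟩ := hout (fst T T) s
    obtain ⟨h₂, hh₂⟩ := hout (snd T T) s
    exact ⟨h₁ * h₂, by rw [MonObj.mul_comp, hh₁, hh₂, Functor.map_mul]⟩
  obtain ⟨str, hj⟩ := GrpSchLib.exists_grpObj_of_mono j η' hη μ' hμ ι' hι
  letI := str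
  haveI := hj
  have hiso : ∀ s, Nonempty (Grp.mk (Red.bc (g s) T) ≅ Grp.mk (Q s)) := fun s => by
    obtain ⟨h, hh⟩ := hout (𝟙 T) s
    rw [Category.id_comp] at hh
    haveI : Mono ((Over.pullback (g s)).map j) := inferInstance
    haveI : IsMonHom h := Deform.isMonHom_of_comp h (q s) hh
    obtain ⟨m, hm⟩ := (hfac _ ((q s).left ≫ Sigma.ι P s)).mp
      ⟨Sigma.ι (fun s => (Q s).left) s, Limits.Sigma.ι_map _ _⟩
    rw [Category.assoc, Sigma.ι_desc] at hm
    let ψ : Q s ⟶ Red.bc (g s) T := Over.homMk (pullback.lift m (Q s).hom (by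
      show m ≫ i ≫ H.hom = _
      rw [reassoc_of% hm, pullback.condition]
      exact (reassoc_of% (Over.w (q s))) (g s))) (pullback.lift_snd _ _ _)
    have hψ : ψ ≫ (Over.pullback (g s)).map j = q s := by
      refine Over.OverMorphism.ext (pullback.hom_ext ?_ ?_)
      · rw [Over.comp_left, Category.assoc, ActBC.pullback_map_left_fst]
        exact (pullback.lift_fst_assoc _ _ _ _).trans hm
      · exact (Over.w (ψ ≫ (Over.pullback (g s)).map j)).trans (Over.w (q s)).symm
    haveI : IsIso h := ⟨ψ, by rw [← cancel_mono ((Over.pullback (g s)).map j), Category.assoc, hψ, hh, Category.id_comp],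
      by rw [← cancel_mono (q s), Category.assoc, hh, hψ, Category.id_comp]⟩
    exact ⟨Grp.mkIso' (asIso h)⟩
  refine ⟨T, str, j, hj, inferInstance, ?_, ?_, ?_⟩
  · haveI : Etale (Sigma.desc g) := IsZariskiLocalAtSource.sigmaDesc (P := @Etale) fun _ => inferInstance
    haveI : Surjective (Sigma.desc g) := ⟨fun t => by
      obtain ⟨v, hv⟩ := hs t
      exact ⟨Sigma.ι W t v, by rw [← Scheme.Hom.comp_apply, Sigma.ι_desc]; exact hv⟩⟩
    refine ⟨∐ W, Sigma.desc g, inferInstance, inferInstance, hcov_of_etale _, fun z => ?_⟩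
    obtain ⟨⟨t, y⟩, rfl⟩ := (sigmaMk W).surjective z
    rw [sigmaMk_mk]
    let U := (Sigma.ι W t).opensRange
    let k : (U : Scheme.{u}) ⟶ W t := (Sigma.ι W t).isoOpensRange.inv
    have hk : k ≫ g t = U.ι ≫ Sigma.desc g := by
      rw [← Sigma.ι_desc g t, ← Category.assoc, Scheme.Hom.isoOpensRange_inv_comp]
    obtain ⟨a₁⟩ := GrpSchLib.MultTypeBC.bc_congr hk T
    obtain ⟨a₂⟩ := GrpSchLib.MultTypeBC.bc_bc k (g t) T
    obtain ⟨a₃⟩ := GrpSchLib.MultTypeBC.bc_iso k (hiso t).some
    obtain ⟨a₄⟩ := GrpSchLib.MultTypeBC.bc_iso k (hQsplit t).some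
    obtain ⟨a₅⟩ := GrpSchLib.MultTypeBC.bc_DS k (Fin (r t) → ℤ)
    exact ⟨U, ⟨y, rfl⟩, r t, ⟨a₁.symm ≪≫ a₂.symm ≪≫ a₃ ≪≫ a₄ ≪≫ a₅⟩⟩
  · intro R _ v _ hR
    exact hin v fun t => hfacS t (Red.bc (g t) R) ((Over.pullback (g t)).map v) (Deform.isTorus_bc (g t) hR)
  · intro U gU R _ v _ hR
    obtain ⟨y, hy⟩ := hin' (DSPtsLib.theta gU v) fun t O a b hab => hkey gU R v hR t a b hab
    refine ⟨Over.homMk (pullback.lift y.left R.hom (Over.w y)) (pullback.lift_snd _ _ _), ?_⟩
    refine Over.OverMorphism.ext (pullback.hom_ext ?_ ?_)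
    · rw [Over.comp_left, Category.assoc, ActBC.pullback_map_left_fst]
      exact (pullback.lift_fst_assoc _ _ _ _).trans (congrArg (fun m => m.left) hy)
    · exact (Over.w (_ ≫ (Over.pullback gU).map j)).trans (Over.w v).symm

end Groth.Agent.Deform.GreatestTorus
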