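import Groth.Agent.Deform.TorsionOrder
import Groth.Agent.Deform.TorusAlg
import Groth.Agent.Deform.GreatestTorus
import Mathlib.AlgebraicGeometry.Morphisms.FlatRank
import Mathlib.AlgebraicGeometry.Fiber

/-!
# Affine groups with fibres of multiplicative type and torsion of locally constant order

The scheme-theoretic form: kernels of power maps under base change, and the passage to the Hopf algebra of a chart.
-/

set_option autoImplicit false
set_option linter.style.haveILetI false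

universe u

open CategoryTheory CategoryTheory.Limits MonoidalCategory CartesianMonoidalCategory MonObj GrpObj AlgebraicGeometry
open scoped TensorProduct
open WithConv

attribute [local instance] CategoryTheory.Hom.monoid CategoryTheory.Hom.group

namespace Groth.Agent.Deform.TorsionOrderScheme

open GrpSchLib.AffineHopf (sp spIso spMap exists_hopf nonempty_DS_iso nonempty_bc_sp spMap_id)

variable {S : Scheme.{u}}

/-- The structure morphism of the kernel of the `n`-th power map. -/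
noncomputable abbrev kerHom (n : ℕ) (G : Over S) [GrpObj G] :
    pullback η[G].left (𝟙 G ^ n : G ⟶ G).left ⟶ S :=
  pullback.snd η[G].left (𝟙 G ^ n : G ⟶ G).left ≫ G.hom

theorem pow_comm {G G' : Over S} [GrpObj G] [GrpObj G'] (f : G ⟶ G') [IsMonHom f] (n : ℕ) :
    (𝟙 G ^ n : G ⟶ G) ≫ f = f ≫ (𝟙 G' ^ n) := by
  rw [MonObj.comp_pow, Category.comp_id]
  induction n with
  | zero => rw [pow_zero, pow_zero, MonObj.one_comp]
  | succ n ih => rw [pow_succ, pow_succ, MonObj.mul_comp, ih, Category.id_comp]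

/-- Isomorphic groups have isomorphic kernels. -/
theorem exists_iso_ker {G G' : Over S} [GrpObj G] [GrpObj G'] (e : Grp.mk G ≅ Grp.mk G') (n : ℕ) :
    ∃ φ : pullback η[G].left (𝟙 G ^ n : G ⟶ G).left ⟶ pullback η[G'].left (𝟙 G' ^ n : G' ⟶ G').left,
      IsIso φ ∧ φ ≫ kerHom n G' = kerHom n G := by
  haveI : IsMonHom e.hom.hom.hom := e.hom.hom.isMonHom_hom
  let f : G ⟶ G' := e.hom.hom.hom
  haveI : IsMonHom f := e.hom.hom.isMonHom_hom
  haveI : IsIso f.left := ((Grp.forget _ ⋙ Over.forget _).mapIso e).isIso_hom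
  refine ⟨pullback.map η[G].left (𝟙 G ^ n : G ⟶ G).left η[G'].left (𝟙 G' ^ n : G' ⟶ G').left (𝟙 _) f.left f.left
    ?_ ?_, inferInstance, ?_⟩
  · rw [Category.id_comp, ← Over.comp_left, IsMonHom.one_hom]
  · rw [← Over.comp_left, ← Over.comp_left, pow_comm]
  · show _ ≫ pullback.snd _ _ ≫ G'.hom = pullback.snd _ _ ≫ G.hom
    rw [pullback.map, pullback.lift_snd_assoc, Category.assoc, Over.w f]

/-- Kernels of power maps commute with base change. -/
theorem exists_bc_ker {T : Scheme.{u}} (g : T ⟶ S) (G : Over S) [GrpObj G] (n : ℕ) :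
    ∃ φ : pullback (kerHom n G) g ⟶ pullback η[Red.bc g G].left (𝟙 (Red.bc g G) ^ n : Red.bc g G ⟶ Red.bc g G).left,
      IsIso φ ∧ φ ≫ kerHom n (Red.bc g G) = pullback.snd (kerHom n G) g := by
  let K : Over S := Over.mk (kerHom n G)
  have hfst : pullback.fst η[G].left (𝟙 G ^ n : G ⟶ G).left ≫ (𝟙_ (Over S)).hom = kerHom n G := by
    rw [← Over.w η[G], pullback.condition_assoc, Over.w]
  let a : K ⟶ 𝟙_ (Over S) := Over.homMk (pullback.fst _ _) hfst
  let j : K ⟶ G := Over.homMk (pullback.snd _ _) rfl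
  have sq : IsPullback a j η[G] (𝟙 G ^ n : G ⟶ G) :=
    IsPullback.of_map (Over.forget S) (Over.OverMorphism.ext pullback.condition) (.of_hasPullback _ _)
  let F := Over.pullback g
  have hη : η[Red.bc g G] = Functor.LaxMonoidal.ε F ≫ F.map η[G] := rfl
  have hpow : F.map (𝟙 G ^ n : G ⟶ G) = (𝟙 (Red.bc g G) ^ n : Red.bc g G ⟶ Red.bc g G) :=
    (map_pow F.homMonoidHom (𝟙 G) n).trans (congrArg (· ^ n) (F.map_id G))
  have sq' : IsPullback (F.map a ≫ inv (Functor.LaxMonoidal.ε F)) (F.map j) η[Red.bc g G]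
      (𝟙 (Red.bc g G) ^ n : Red.bc g G ⟶ Red.bc g G) := by
    refine (sq.map F).of_iso (Iso.refl _) (asIso (Functor.LaxMonoidal.ε F)).symm (Iso.refl _) (Iso.refl _) ?_ ?_ ?_ ?_
    · simp
    · simp
    · simp [F]
    · simpa using hpow
  have sql := sq'.map (Over.forget T)
  refine ⟨sql.isoPullback.hom, inferInstance, ?_⟩
  show sql.isoPullback.hom ≫ pullback.snd _ _ ≫ (Red.bc g G).hom = _
  exact (sql.isoPullback_hom_snd_assoc _).trans (Over.w (F.map j))

theorem spMap_powConv {R A : Type u} [CommRing R] [CommRing A] [HopfAlgebra R A] (n : ℕ) :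
    (𝟙 (sp R A) ^ n : sp R A ⟶ sp R A) = spMap (SGA3b.powConv R A n) := by
  rw [← spMap_id]
  exact (map_pow Spec.mapMulEquiv (toConv (AlgHom.id R A)) n).symm

theorem isPushout_of_surjective {O T U : Type u} [CommRing O] [CommRing T] [CommRing U] (ε : O →+* U) (ρ : O →+* T)
    (hε : Function.Surjective ε) (i : U →+* T ⧸ (RingHom.ker ε).map ρ)
    (hi : ∀ x, i (ε x) = Ideal.Quotient.mk _ (ρ x)) :
    IsPushout (CommRingCat.ofHom ε) (CommRingCat.ofHom ρ) (CommRingCat.ofHom i)
      (CommRingCat.ofHom (Ideal.Quotient.mk ((RingHom.ker ε).map ρ))) := by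
  refine IsPushout.of_isColimit' ⟨by ext x; exact hi x⟩ (PushoutCocone.isColimitAux' _ fun s => ?_)
  have hker : ∀ x ∈ (RingHom.ker ε).map ρ, s.inr.hom x = 0 := by
    refine fun x hx => (Ideal.map_le_iff_le_comap (K := RingHom.ker s.inr.hom)).2 (fun j hj => ?_) hx
    show s.inr.hom (ρ j) = 0
    have h : s.inl.hom (ε j) = s.inr.hom (ρ j) := congrArg (fun f => f.hom j) s.condition
    rw [show ε j = 0 from hj] at h
    exact h.symm.trans (map_zero _)
  refine ⟨CommRingCat.ofHom (Ideal.Quotient.lift _ s.inr.hom hker), ?_, ?_, fun {m} _ h2 => ?_⟩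
  · ext x
    obtain ⟨y, rfl⟩ := hε x
    show Ideal.Quotient.lift _ s.inr.hom hker (i (ε y)) = s.inl.hom (ε y)
    rw [hi]
    exact (congrArg (fun f => f.hom y) s.condition).symm
  · ext x; rfl
  · refine CommRingCat.hom_ext (RingHom.ext fun x => ?_)
    obtain ⟨x, rfl⟩ := Ideal.Quotient.mk_surjective (x : T ⧸ (RingHom.ker ε).map ρ)
    exact congrArg (fun f => f.hom x) h2

/-- The kernel of a power map of an affine group is the spectrum of the torsion quotient. -/
theorem exists_sp_ker {R A : Type u} [CommRing R] [CommRing A] [HopfAlgebra R A] (n : ℕ) :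
    ∃ φ : Spec (CommRingCat.of (A ⧸ SGA3b.torsionIdeal R A n)) ⟶
        pullback η[sp R A].left (𝟙 (sp R A) ^ n : sp R A ⟶ sp R A).left,
      IsIso φ ∧ φ ≫ kerHom n (sp R A) = Spec.map (CommRingCat.ofHom (algebraMap R (A ⧸ SGA3b.torsionIdeal R A n))) := by
  let ρ : A →+* A := (SGA3b.powConv R A n).toRingHom
  let J := SGA3b.torsionIdeal R A n
  have h := isPullback_SpecMap_of_isPushout _ _ _ _ (isPushout_of_surjective (Bialgebra.counitAlgHom R A).toRingHom ρ
    (fun r => ⟨algebraMap R A r, (Bialgebra.counitAlgHom R A).commutes r⟩) (algebraMap R (A ⧸ J)) (fun x => by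
      show algebraMap R (A ⧸ J) (Coalgebra.counit x) = Ideal.Quotient.mk J (SGA3b.powConv R A n x)
      rw [eq_comm, ← Ideal.Quotient.mk_algebraMap, Ideal.Quotient.eq, ← (SGA3b.powConv R A n).commutes, ← map_sub]
      refine Ideal.mem_map_of_mem _ ?_
      rw [RingHom.mem_ker, map_sub, AlgHom.commutes]
      exact sub_eq_zero.mpr rfl))
  have h' : IsPullback (Spec.map (CommRingCat.ofHom (algebraMap R (A ⧸ J))))
      (Spec.map (CommRingCat.ofHom (Ideal.Quotient.mk J))) η[sp R A].left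
      (𝟙 (sp R A) ^ n : sp R A ⟶ sp R A).left := by
    rw [spMap_powConv]
    exact h
  refine ⟨h'.isoPullback.hom, inferInstance, ?_⟩
  show h'.isoPullback.hom ≫ pullback.snd _ _ ≫ Spec.map (CommRingCat.ofHom (algebraMap R A)) = _
  rw [h'.isoPullback_hom_snd_assoc, ← Spec.map_comp]
  rfl

/-- A group which is diagonalisable with finitely generated characters etale-locally is of multiplicative type. -/
theorem isMultTypeFT_of_etale_split {H : Over S} [GrpObj H]
    (h : ∀ s : S, ∃ (W : Scheme.{u}) (g : W ⟶ S) (M : Type) (_ : AddCommGroup M), Etale g ∧ s ∈ Set.range g ∧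
      AddGroup.FG M ∧ Nonempty (Grp.mk (Red.bc g H) ≅ Grp.mk (Red.DS W M))) : SGA3x.IsMultTypeFT H := by
  choose W g M iM hg hs hM he using h
  letI := iM
  haveI := hg
  haveI : Etale (Sigma.desc g) := IsZariskiLocalAtSource.sigmaDesc (P := @Etale) fun _ => inferInstance
  haveI : Surjective (Sigma.desc g) := ⟨fun t => by
    obtain ⟨v, hv⟩ := hs t
    exact ⟨Sigma.ι W t v, by rw [← Scheme.Hom.comp_apply, Sigma.ι_desc]; exact hv⟩⟩
  refine ⟨∐ W, Sigma.desc g, inferInstance, inferInstance, GreatestTorus.hcov_of_etale _, fun z => ?_⟩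
  obtain ⟨⟨t, y⟩, rfl⟩ := (sigmaMk W).surjective z
  rw [sigmaMk_mk]
  let U := (Sigma.ι W t).opensRange
  let k : (U : Scheme.{u}) ⟶ W t := (Sigma.ι W t).isoOpensRange.inv
  have hk : k ≫ g t = U.ι ≫ Sigma.desc g := by
    rw [← Sigma.ι_desc g t, ← Category.assoc, Scheme.Hom.isoOpensRange_inv_comp]
  obtain ⟨a₁⟩ := GrpSchLib.MultTypeBC.bc_congr hk H
  obtain ⟨a₂⟩ := GrpSchLib.MultTypeBC.bc_bc k (g t) H
  obtain ⟨a₃⟩ := GrpSchLib.MultTypeBC.bc_iso k (he t).some
  obtain ⟨a₄⟩ := GrpSchLib.MultTypeBC.bc_DS k (M t)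
  exact ⟨U, ⟨y, rfl⟩, M t, iM t, hM t, ⟨a₁.symm ≪≫ a₂.symm ≪≫ a₃ ≪≫ a₄⟩⟩

theorem finrank_of_iso {K : Type u} [Field K] {X : Scheme.{u}} (f : X ⟶ Spec (CommRingCat.of K)) (Q : Type u)
    [CommRing Q] [Algebra K Q] [Module.Finite K Q] (φ : X ⟶ Spec (CommRingCat.of Q)) [IsIso φ]
    (h : φ ≫ Spec.map (CommRingCat.ofHom (algebraMap K Q)) = f) (x : ↥(Spec (CommRingCat.of K))) :
    f.finrank x = Module.finrank K Q := by
  haveI : Flat (Spec.map (CommRingCat.ofHom (algebraMap K Q))) :=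
    (Flat.SpecMap_iff).mpr (RingHom.flat_algebraMap_iff.mpr inferInstance)
  haveI : IsFinite (Spec.map (CommRingCat.ofHom (algebraMap K Q))) :=
    (IsFinite.SpecMap_iff _).mpr (RingHom.finite_algebraMap.mpr inferInstance)
  rw [← h, Scheme.Hom.finrank_comp_left_of_isIso, Scheme.Hom.finrank_SpecMap_algebraMap,
    Module.rankAtStalk_eq_finrank_of_free]
  rfl

section Chart

variable {R : Type u} [CommRing R] (g : Spec (CommRingCat.of R) ⟶ S) {H : Over S} [GrpObj H]
  {C : Type u} [CommRing C] [HopfAlgebra R C]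

theorem nonempty_iso_field (eC : Grp.mk (sp R C) ≅ Grp.mk (Red.bc g H)) (K : Type u) [CommRing K] [Algebra R K]
    (f : Spec (CommRingCat.of K) ⟶ S) (hf : Spec.map (CommRingCat.ofHom (algebraMap R K)) ≫ g = f) :
    Nonempty (Grp.mk (Red.bc f H) ≅ Grp.mk (sp K (K ⊗[R] C))) := by
  let t := Spec.map (CommRingCat.ofHom (algebraMap R K))
  obtain ⟨a₁⟩ := GrpSchLib.MultTypeBC.bc_bc t g H
  obtain ⟨a₂⟩ := GrpSchLib.MultTypeBC.bc_congr hf H
  obtain ⟨a₃⟩ := GrpSchLib.MultTypeBC.bc_iso t eC.symm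
  obtain ⟨a₄⟩ := nonempty_bc_sp (R := R) K C
  exact ⟨(a₁ ≪≫ a₂).symm ≪≫ a₃ ≪≫ a₄⟩

variable [IsOpenImmersion g] (P : PrimeSpectrum R)

theorem exists_lift_residue : ∃ σ : R →+* S.residueField (g P),
    Spec.map (CommRingCat.ofHom σ) ≫ g = S.fromSpecResidueField (g P) ∧ RingHom.ker σ = P.asIdeal := by
  let l := IsOpenImmersion.lift g (S.fromSpecResidueField (g P)) (by
    rintro _ ⟨x, rfl⟩
    exact ⟨P, (Scheme.fromSpecResidueField_apply (g P) x).symm⟩)
  let σ := (Spec.preimage l).hom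
  have hl : Spec.map (CommRingCat.ofHom σ) = l := Spec.map_preimage l
  refine ⟨σ, by rw [hl]; exact IsOpenImmersion.lift_fac _ _ _, ?_⟩
  let x : PrimeSpectrum (S.residueField (g P)) := ⟨⊥, Ideal.isPrime_bot⟩
  have h1 : (Spec.map (CommRingCat.ofHom σ)) x = P := g.isOpenEmbedding.injective (by
    rw [← Scheme.Hom.comp_apply, hl, IsOpenImmersion.lift_fac]
    exact Scheme.fromSpecResidueField_apply (g P) x)
  exact congrArg PrimeSpectrum.asIdeal h1

omit [IsOpenImmersion g] in
/-- The field of the geometric fibre over a chart. -/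
theorem exists_geom (σ : R →+* S.residueField (g P))
    (hσ : Spec.map (CommRingCat.ofHom σ) ≫ g = S.fromSpecResidueField (g P))
    (eC : Grp.mk (sp R C) ≅ Grp.mk (Red.bc g H)) (hfib : SGA3x.IsMultTypeFT (Red.geomFibre (g P) H)) :
    ∃ (K : Type u) (_ : Field K) (_ : Algebra R K),
      RingHom.ker (algebraMap R K) = RingHom.ker σ ∧ SGA3b.IsDiag K (K ⊗[R] C) := by
  let Ω := AlgebraicClosure (S.residueField (g P))
  letI : Algebra R Ω := ((algebraMap (S.residueField (g P)) Ω).comp σ).toAlgebra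
  obtain ⟨b⟩ := nonempty_iso_field g eC Ω (Red.geomPt (g P)) (by
    show Spec.map (CommRingCat.ofHom ((algebraMap (S.residueField (g P)) Ω).comp σ)) ≫ g = _
    rw [CommRingCat.ofHom_comp, Spec.map_comp, Category.assoc, hσ])
  obtain ⟨M, iM, -, ⟨c⟩⟩ := exists_diag (Red.geomFibre (g P) H) hfib
  obtain ⟨e⟩ := nonempty_bialgEquiv (c ≪≫ b)
  refine ⟨Ω, inferInstance, inferInstance, ?_, M, iM, ⟨e⟩⟩
  have hinj : Function.Injective (algebraMap (S.residueField (g P)) Ω) := RingHom.injective _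
  exact RingHom.ker_comp_of_injective σ hinj

omit [IsOpenImmersion g] in
/-- The order of a kernel in a fibre, read in a chart. -/
theorem finrank_eq (eC : Grp.mk (sp R C) ≅ Grp.mk (Red.bc g H)) (K : Type u) [Field K] [Algebra R K]
    (f : Spec (CommRingCat.of K) ⟶ S) (hf : Spec.map (CommRingCat.ofHom (algebraMap R K)) ≫ g = f) (n : ℕ)
    [Module.Finite K ((K ⊗[R] C) ⧸ SGA3b.torsionIdeal K (K ⊗[R] C) n)] (x : ↥(Spec (CommRingCat.of K))) :
    (pullback.snd (kerHom n H) f).finrank x =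
      Module.finrank K ((K ⊗[R] C) ⧸ SGA3b.torsionIdeal K (K ⊗[R] C) n) := by
  obtain ⟨b⟩ := nonempty_iso_field g eC K f hf
  obtain ⟨φ₁, h₁, e₁⟩ := exists_bc_ker f H n
  obtain ⟨φ₂, h₂, e₂⟩ := exists_iso_ker b n
  obtain ⟨φ₃, h₃, e₃⟩ := exists_sp_ker (R := K) (A := K ⊗[R] C) n
  haveI := h₁
  haveI := h₂
  haveI := h₃
  exact finrank_of_iso _ _ (φ₁ ≫ φ₂ ≫ inv φ₃)
    (by rw [← e₃, Category.assoc, Category.assoc, IsIso.inv_hom_id_assoc, e₂, e₁]) x

end Chart

set_option maxHeartbeats 2000000 in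
/-- The criterion. -/
theorem isMultTypeFT_of_order (H : Over S) [GrpObj H] (hHa : IsAffineHom H.hom) (hHfl : Flat H.hom)
    (hHfp : LocallyOfFinitePresentation H.hom) (hfib : ∀ s : S, SGA3x.IsMultTypeFT (Red.geomFibre s H))
    (hord : ∀ n : ℕ, 0 < n → ∃ d : S → ℕ, IsLocallyConstant d ∧ ∀ (s : S) (x : ↥(Spec (S.residueField s))),
      ((kerHom n H).fiberToSpecResidueField s).finrank x = d s) : SGA3x.IsMultTypeFT H := by
  refine isMultTypeFT_of_etale_split fun s => ?_
  obtain ⟨V, hV, hsV, -⟩ := exists_isAffineOpen_mem_and_subset (show s ∈ (⊤ : S.Opens) from trivial)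
  let R : CommRingCat.{u} := Γ(S, V)
  let g : Spec (CommRingCat.of R) ⟶ S := hV.fromSpec
  obtain ⟨p, hp⟩ : s ∈ Set.range g := hV.range_fromSpec.symm ▸ hsV
  haveI := hHa
  haveI := hHfl
  haveI := hHfp
  haveI : IsAffineHom (pullback.snd H.hom g) := MorphismProperty.pullback_snd (P := @IsAffineHom) _ _ hHa
  haveI : IsAffine (Red.bc g H).left := isAffine_of_isAffineHom (pullback.snd H.hom g)
  obtain ⟨C, iC, iH, ⟨eC⟩⟩ := exists_hopf (Red.bc g H)
  haveI : IsIso eC.hom.hom.hom.left := ((Grp.forget _ ⋙ Over.forget _).mapIso eC).isIso_hom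
  have hwC : (sp R C).hom = eC.hom.hom.hom.left ≫ (Red.bc g H).hom := (Over.w eC.hom.hom.hom).symm
  haveI : Flat (Red.bc g H).hom := inferInstanceAs (Flat (pullback.snd H.hom g))
  haveI : LocallyOfFinitePresentation (Red.bc g H).hom :=
    inferInstanceAs (LocallyOfFinitePresentation (pullback.snd H.hom g))
  haveI : Module.Flat R C := by
    have h : Flat (Spec.map (CommRingCat.ofHom (algebraMap R C))) := by
      change Flat (sp R C).hom
      rw [hwC]
      infer_instance
    exact RingHom.flat_algebraMap_iff.mp ((HasRingHomProperty.Spec_iff (P := @Flat)).mp h)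
  haveI : Algebra.FinitePresentation R C := by
    have h : LocallyOfFinitePresentation (Spec.map (CommRingCat.ofHom (algebraMap R C))) := by
      change LocallyOfFinitePresentation (sp R C).hom
      rw [hwC]
      infer_instance
    exact RingHom.finitePresentation_algebraMap.mp ((HasRingHomProperty.Spec_iff (P := @LocallyOfFinitePresentation)).mp h)
  -- the fibres in the chart
  have hgeom : ∀ P : PrimeSpectrum R, ∃ (K : Type u) (_ : Field K) (_ : Algebra R K),
      RingHom.ker (algebraMap R K) = P.asIdeal ∧ SGA3b.IsDiag K (K ⊗[R] C) := fun P => by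
    obtain ⟨σ, hσ, hker⟩ := exists_lift_residue g P
    obtain ⟨K, iK, iA, hK, hd⟩ := exists_geom g P σ hσ eC (hfib _)
    exact ⟨K, iK, iA, hK.trans hker, hd⟩
  choose d hd hdx using hord
  have hrank : ∀ (n : ℕ) (hn : 0 < n) (P : PrimeSpectrum R) (K : Type u) [Field K] [Algebra R K],
      RingHom.ker (algebraMap R K) = P.asIdeal →
      Module.finrank K ((K ⊗[R] C) ⧸ SGA3b.torsionIdeal K (K ⊗[R] C) n) = d n hn (g P) := by
    intro n hn P K _ _ hK
    obtain ⟨Ω, iΩ, iA, hΩ, M, iM, ⟨e⟩⟩ := hgeom P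
    haveI : Algebra.FiniteType Ω (MonoidAlgebra Ω M) :=
      Algebra.FiniteType.equiv (inferInstance : Algebra.FiniteType Ω (Ω ⊗[R] C)) (e : _ ≃ₐ[Ω] _)
    haveI : Group.FG M := Group.fg_iff_monoid_fg.mpr ((MonoidAlgebra.finiteType_iff_fg (R := Ω)).mp inferInstance)
    have hpos := (TorsionOrder.finrank_of_diag e hn).2.1
    obtain ⟨σ, hσ, hker⟩ := exists_lift_residue g P
    letI := σ.toAlgebra
    rw [TorsionOrder.finrank_fibre P.asIdeal Ω hΩ] at hpos
    have hfin : Module.Finite (S.residueField (g P)) ((S.residueField (g P) ⊗[R] C) ⧸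
        SGA3b.torsionIdeal (S.residueField (g P)) (S.residueField (g P) ⊗[R] C) n) :=
      Module.finite_of_finrank_pos (by rw [TorsionOrder.finrank_fibre P.asIdeal _ hker]; exact hpos)
    haveI := hfin
    refine Eq.trans ?_ (hdx n hn (g P) ⟨⊥, Ideal.isPrime_bot⟩)
    refine Eq.trans ?_ (finrank_eq g eC (S.residueField (g P)) (S.fromSpecResidueField (g P)) hσ n _).symm
    rw [TorsionOrder.finrank_fibre P.asIdeal K hK, TorsionOrder.finrank_fibre P.asIdeal _ hker]
  -- the local ring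
  let Rp := Localization.AtPrime p.asIdeal
  have hloc : SGA3b.IsMultType Rp (Rp ⊗[R] C) := by
    refine TorsionOrder.isMultType_local_of_order (fun Q hQ => ?_)
      (fun n => if hn : 0 < n then d n hn (g p) else 0) fun K _ _ n hn => ?_
    · let P : PrimeSpectrum R := ⟨Q.comap (algebraMap R Rp), inferInstance⟩
      have hle : P.asIdeal ≤ p.asIdeal := by
        rw [← IsLocalization.AtPrime.comap_maximalIdeal Rp p.asIdeal]
        exact Ideal.comap_mono (IsLocalRing.le_maximalIdeal hQ.ne_top)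
      obtain ⟨Ω, iΩ, iA, hΩ, M, iM, ⟨e⟩⟩ := hgeom P
      let l : Rp →+* Ω := IsLocalization.lift (M := p.asIdeal.primeCompl) (g := algebraMap R Ω) fun y => by
        refine isUnit_iff_ne_zero.mpr fun h => y.2 (hle ?_)
        rw [← hΩ]
        exact h
      letI : Algebra Rp Ω := l.toAlgebra
      haveI : IsScalarTower R Rp Ω := IsScalarTower.of_algebraMap_eq fun x => (IsLocalization.lift_eq _ x).symm
      refine ⟨Ω, iΩ, inferInstance, ?_, M, iM, ⟨(MultTypeLib.baseChangeTrans (R := R) Rp Ω C).symm.trans e⟩⟩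
      show RingHom.ker l = Q
      rw [← IsLocalization.map_comap p.asIdeal.primeCompl Rp (RingHom.ker l),
        ← IsLocalization.map_comap p.asIdeal.primeCompl Rp Q]
      refine congrArg _ (Eq.trans ?_ hΩ)
      rw [Ideal.under_def, RingHom.comap_ker, IsLocalization.lift_comp]
    · rw [dif_pos hn]
      letI : Algebra R K := ((algebraMap Rp K).comp (algebraMap R Rp)).toAlgebra
      haveI : IsScalarTower R Rp K := IsScalarTower.of_algebraMap_eq fun _ => rfl
      let P : PrimeSpectrum R := ⟨RingHom.ker (algebraMap R K), RingHom.ker_isPrime _⟩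
      have hle : P ≤ p := by
        intro x hx
        by_contra hxp
        have hu : IsUnit (algebraMap R Rp x) := IsLocalization.map_units Rp (⟨x, hxp⟩ : p.asIdeal.primeCompl)
        exact (hu.map (algebraMap Rp K)).ne_zero hx
      have hsp : g P ⤳ g p := ((PrimeSpectrum.le_iff_specializes P p).mp hle).map g.continuous
      have hdeq : d n hn (g P) = d n hn (g p) :=
        hsp.mem_open ((hd n hn).isOpen_fiber (d n hn (g p))) rfl
      rw [← hdeq, ← hrank n hn P K rfl]
      exact (TorsionOrder.torsionQuotCongr (MultTypeLib.baseChangeTrans (R := R) Rp K C) n).toLinearEquiv.finrank_eq.symm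
  obtain ⟨E, iE, iA, hEt, ⟨q, hq, hqp⟩, M, iM, ⟨e⟩⟩ := MultTypeLib.exists_etale_nhd_diag p.asIdeal hloc
  haveI := hEt
  haveI : Nontrivial E := PrimeSpectrum.nonempty_iff_nontrivial.mp ⟨⟨q, hq⟩⟩
  haveI : Algebra.FiniteType E (MonoidAlgebra E M) :=
    Algebra.FiniteType.equiv (inferInstance : Algebra.FiniteType E (E ⊗[R] C)) (e : _ ≃ₐ[E] _)
  haveI : Group.FG M := Group.fg_iff_monoid_fg.mpr ((MonoidAlgebra.finiteType_iff_fg (R := E)).mp inferInstance)
  obtain ⟨N, iN, hN, ⟨c⟩⟩ := QuasiIsotrivial.exists_small M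
  let t : Spec (CommRingCat.of E) ⟶ Spec (CommRingCat.of R) := Spec.map (CommRingCat.ofHom (algebraMap R E))
  haveI : Etale t := (HasRingHomProperty.Spec_iff (P := @Etale)).mpr (RingHom.etale_algebraMap.mpr hEt)
  obtain ⟨b⟩ := nonempty_iso_field g eC E (t ≫ g) rfl
  obtain ⟨a⟩ := nonempty_DS_iso E N
  refine ⟨_, t ≫ g, N, iN, inferInstance, ⟨⟨q, hq⟩, ?_⟩, hN,
    ⟨b ≪≫ spIso ((QuasiIsotrivial.congrEquiv E c).trans e.symm) ≪≫ a⟩⟩
  rw [Scheme.Hom.comp_apply, show t ⟨q, hq⟩ = p from PrimeSpectrum.ext hqp, hp]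

end Groth.Agent.Deform.TorsionOrderScheme
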