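import Groth.Agent.Deform.UnipDiag
import Groth.Agent.Deform.TorsionOrderScheme
import Groth.Agent.Deform.PairingTrivial
import Groth.Agent.S5430
import Groth.Agent.TransLib.MultEssFree
import Groth.Agent.MultTypeFlat.Basic
import Groth.Agent.EtFound.Descent
import Mathlib.AlgebraicGeometry.Morphisms.LocalFlatDescent

/-!
# Extensions of groups of multiplicative type

An extension of groups of multiplicative type is affine, flat and finitely presented; if it is commutative, its
power maps are finite and it is of multiplicative type.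
-/

set_option autoImplicit false
set_option linter.style.haveILetI false
set_option linter.unusedSectionVars false

universe u

open CategoryTheory CategoryTheory.Limits MonoidalCategory CartesianMonoidalCategory MonObj GrpObj AlgebraicGeometry
open scoped TensorProduct
open WithConv

attribute [local instance] CategoryTheory.Hom.monoid CategoryTheory.Hom.group

namespace Groth.Agent.Deform.Extension

open GrpSchLib.AffineHopf (sp spIso spMap exists_hopf nonempty_DS_iso nonempty_bc_sp)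
open TorsionOrderScheme (kerHom pow_comm exists_iso_ker exists_bc_ker exists_sp_ker spMap_powConv)
open FpqcDescLib (Covers)

variable {S : Scheme.{u}}

section Points

theorem mul_comm_of {E : Over S} [GrpObj E] [IsCommMonObj E] {T : Over S} (x y : T ⟶ E) : x * y = y * x :=
  mul_comm x y

theorem pow_comp_hom {G G' : Over S} [GrpObj G] [GrpObj G'] (f : G ⟶ G') [IsMonHom f] {T : Over S} (a : T ⟶ G) (n : ℕ) :
    (a ^ n) ≫ f = (a ≫ f) ^ n := by
  induction n with
  | zero => rw [pow_zero, pow_zero, MonObj.one_comp]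
  | succ m ih => rw [pow_succ, pow_succ, MonObj.mul_comp, ih]

theorem isCommMonObj_of {E : Over S} [GrpObj E] (h : ∀ (T : Over S) (x y : T ⟶ E), x * y = y * x) : IsCommMonObj E := by
  constructor
  have h1 := h (E ⊗ E) (snd E E) (fst E E)
  rw [Hom.mul_def, Hom.mul_def, lift_fst_snd, Category.id_comp] at h1
  refine Eq.trans ?_ h1
  congr 1

/-- Points lift along a covering after a covering of the source. -/
theorem exists_lift {E K : Over S} {p : E ⟶ K} (hp : Covers p.left) {T : Over S} (x : T ⟶ K) :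
    ∃ (T' : Over S) (r : T' ⟶ T), Epi r ∧ ∃ x' : T' ⟶ E, x' ≫ p = r ≫ x := by
  let T' : Over S := Over.mk (pullback.fst x.left p.left ≫ T.hom)
  let r : T' ⟶ T := Over.homMk (pullback.fst x.left p.left) rfl
  let l : T' ⟶ E := Over.homMk (pullback.snd x.left p.left) (by
    show pullback.snd _ _ ≫ E.hom = pullback.fst _ _ ≫ T.hom
    rw [← Over.w p, ← pullback.condition_assoc, Over.w x])
  have hc : Covers r.left := hp.pullback x.left _ _ (IsPullback.of_hasPullback _ _)
  exact ⟨T', r, hc.over_epi, l, Over.OverMorphism.ext pullback.condition.symm⟩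

theorem covers_of_fpqc {E K : Over S} (p : E ⟶ K) [Surjective p.left] [Flat p.left] [QuasiCompact p.left] :
    Covers p.left :=
  FpqcDescLib.covers_of_isCovering (FpqcDescLib.isCovering_of_quasiCompact p.left)

theorem comm_bc {U : Scheme.{u}} (g : U ⟶ S) {E : Over S} [GrpObj E] (h : ∀ (T : Over S) (x y : T ⟶ E), x * y = y * x)
    (T : Over U) (x y : T ⟶ Red.bc g E) : x * y = y * x := by
  refine (DSPtsLib.theta_bijective g).1 ?_
  rw [DSPtsLib.theta_mul, DSPtsLib.theta_mul]
  exact h _ _ _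

theorem pow_bc {U : Scheme.{u}} (g : U ⟶ S) (G : Over S) [GrpObj G] (n : ℕ) :
    (Over.pullback g).map (𝟙 G ^ n : G ⟶ G) = (𝟙 (Red.bc g G) ^ n : Red.bc g G ⟶ Red.bc g G) :=
  (map_pow (Over.pullback g).homMonoidHom (𝟙 G) n).trans (congrArg (· ^ n) ((Over.pullback g).map_id G))

theorem isPullback_map_left {U : Scheme.{u}} (g : U ⟶ S) {X Y : Over S} (f : X ⟶ Y) :
    IsPullback ((Over.pullback g).map f).left (pullback.fst X.hom g) (pullback.fst Y.hom g) f.left := by
  refine (IsPullback.of_bot ?_ (ActBC.pullback_map_left_fst g f).symm (IsPullback.of_hasPullback Y.hom g)).flip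
  have h1 : ((Over.pullback g).map f).left ≫ pullback.snd Y.hom g = pullback.snd X.hom g := Over.w _
  rw [h1, Over.w f]
  exact IsPullback.of_hasPullback X.hom g

theorem liesOver_comp {s : S} {T' T : Over S} (r : T' ⟶ T) (h : Deform.LiesOver s T) : Deform.LiesOver s T' := by
  obtain ⟨φ, hφ⟩ := h
  exact ⟨r.left ≫ φ, by rw [Category.assoc, hφ, Over.w r]⟩

/-- Commutativity of a fibre gives commutativity of the points lying over the point. -/
theorem comm_of_liesOver {E : Over S} [GrpObj E] {s : S}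
    (h : ∀ (X : Over (Spec (S.residueField s))) (a b : X ⟶ Red.bc (S.fromSpecResidueField s) E), a * b = b * a)
    {T : Over S} (hT : Deform.LiesOver s T) (x y : T ⟶ E) : x * y = y * x := by
  obtain ⟨φ, hφ⟩ := hT
  let g := S.fromSpecResidueField s
  let e : (Over.map g).obj (Over.mk φ) ≅ T := Over.isoMk (Iso.refl _) ((Category.id_comp _).trans hφ.symm)
  obtain ⟨a, ha⟩ := (DSPtsLib.theta_bijective (H := E) (Y := Over.mk φ) g).2 (e.hom ≫ x)
  obtain ⟨b, hb⟩ := (DSPtsLib.theta_bijective (H := E) (Y := Over.mk φ) g).2 (e.hom ≫ y)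
  rw [← cancel_epi e.hom, MonObj.comp_mul, MonObj.comp_mul, ← ha, ← hb, ← DSPtsLib.theta_mul, h _ a b,
    DSPtsLib.theta_mul]

end Points

section Kernel

variable {E H K : Over S} [GrpObj E] [GrpObj H] [GrpObj K] (i : H ⟶ E) [IsMonHom i] {p : E ⟶ K} [IsMonHom p]

/-- The translation action of the kernel. -/
noncomputable def trans : H ⊗ E ⟶ E := (fst H E ≫ i) * snd H E

theorem lift_trans {T : Over S} (h : T ⟶ H) (x : T ⟶ E) : lift h x ≫ trans i = (h ≫ i) * x := by
  rw [trans, MonObj.comp_mul, lift_fst_assoc, lift_snd]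

variable {i} (hker : AlgGrp.IsKernel i p)

include hker in
theorem kills {T : Over S} (h : T ⟶ H) : (h ≫ i) ≫ p = 1 := by
  rw [Category.assoc, hker.w, ← Category.assoc, comp_toUnit, Hom.one_def]

include hker in
theorem isPullback_trans : IsPullback (trans i) (snd H E) p p := by
  haveI := UnipDiag.mono_of_isKernel hker
  refine IsPullback.of_isLimit' ⟨?_⟩ (PullbackCone.IsLimit.mk _
    (fun s => lift (hker.lift (s.fst * s.snd⁻¹) (toUnit _) (by
      rw [MonObj.mul_comp, GrpObj.inv_comp, s.condition, mul_inv_cancel, Hom.one_def])) s.snd)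
    (fun s => by rw [lift_trans, hker.lift_fst, inv_mul_cancel_right]) (fun s => lift_snd _ _) fun s m h1 h2 => ?_)
  · rw [trans, MonObj.mul_comp, kills hker, _root_.one_mul]
  · apply CartesianMonoidalCategory.hom_ext
    · rw [lift_fst, ← cancel_mono i, hker.lift_fst, ← h1, ← h2, trans, MonObj.comp_mul, mul_inv_cancel_right,
        Category.assoc]
    · rw [lift_snd]
      exact h2

include hker in
/-- The quotient map has every descendable property of the structure map of the kernel. -/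
theorem property_quot (hp : Covers p.left) (P : MorphismProperty Scheme.{u}) [P.IsStableUnderBaseChange]
    [IsZariskiLocalAtTarget P] [P.DescendsAlong (@Surjective ⊓ @Flat ⊓ @QuasiCompact)] (hP : P H.hom) : P p.left :=
  hp.descends P p.left (snd H E).left (trans i).left ((isPullback_trans hker).flip.map (Over.forget S))
    (MorphismProperty.pullback_snd (P := P) H.hom E.hom hP)

include hker in
/-- Power maps of a commutative extension are finite when those of kernel and quotient are. -/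
theorem isFinite_pow [IsCommMonObj E] (hp : Covers p.left) (n : ℕ) (hH : IsFinite (𝟙 H ^ n : H ⟶ H).left)
    (hK : IsFinite (𝟙 K ^ n : K ⟶ K).left) : IsFinite (𝟙 E ^ n : E ⟶ E).left := by
  haveI := UnipDiag.mono_of_isKernel hker
  let W : Over S := pullback p (𝟙 K ^ n : K ⟶ K)
  let ψ : E ⟶ W := pullback.lift (𝟙 E ^ n : E ⟶ E) p (pow_comm p n)
  have hcond : ((fst H E ≫ i) * (snd H E ≫ (𝟙 E ^ n : E ⟶ E))) ≫ p = (snd H E ≫ p) ≫ (𝟙 K ^ n : K ⟶ K) := by
    rw [MonObj.mul_comp, kills hker, _root_.one_mul, Category.assoc, pow_comm, Category.assoc]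
  let c : H ⊗ E ⟶ W := pullback.lift ((fst H E ≫ i) * (snd H E ≫ (𝟙 E ^ n : E ⟶ E))) (snd H E ≫ p) hcond
  have hc1 : ∀ {T : Over S} (h : T ⟶ H) (x : T ⟶ E),
      lift h x ≫ c ≫ pullback.fst p (𝟙 K ^ n : K ⟶ K) = (h ≫ i) * x ^ n := fun h x => by
    rw [pullback.lift_fst, MonObj.comp_mul, lift_fst_assoc, lift_snd_assoc, MonObj.comp_pow, Category.comp_id]
  have sq1 : IsPullback c (snd H E) (pullback.snd p (𝟙 K ^ n : K ⟶ K)) p := by
    refine IsPullback.of_isLimit' ⟨pullback.lift_snd _ _ _⟩ (PullbackCone.IsLimit.mk _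
      (fun s => lift (hker.lift ((s.fst ≫ pullback.fst p (𝟙 K ^ n : K ⟶ K)) * (s.snd ^ n)⁻¹) (toUnit _) (by
        rw [MonObj.mul_comp, GrpObj.inv_comp, Category.assoc, pullback.condition, ← Category.assoc, MonObj.comp_pow,
          Category.comp_id, pow_comp_hom p, ← s.condition, mul_inv_cancel, Hom.one_def])) s.snd)
      (fun s => ?_) (fun s => lift_snd _ _) fun s m h1 h2 => ?_)
    · apply pullback.hom_ext
      · rw [Category.assoc, hc1, hker.lift_fst, inv_mul_cancel_right]
      · rw [Category.assoc, pullback.lift_snd, lift_snd_assoc, ← s.condition]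
    · apply CartesianMonoidalCategory.hom_ext
      · have h3 : m = lift (m ≫ fst H E) (m ≫ snd H E) := by rw [← comp_lift, lift_fst_snd, Category.comp_id]
        have h4 := congrArg (· ≫ pullback.fst p (𝟙 K ^ n : K ⟶ K)) h1
        rw [h3, Category.assoc, hc1] at h4
        rw [lift_fst, ← cancel_mono i, hker.lift_fst, ← h4, ← h2, mul_inv_cancel_right]
      · rw [lift_snd]
        exact h2
  have sq2 : IsPullback ((𝟙 H ^ n : H ⟶ H) ▷ E) (trans i) c ψ := by
    refine IsPullback.of_isLimit' ⟨?_⟩ (PullbackCone.IsLimit.mk _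
      (fun s => lift (hker.lift (s.snd * (s.fst ≫ snd H E)⁻¹) (toUnit _) (by
        have h := congrArg (· ≫ pullback.snd p (𝟙 K ^ n : K ⟶ K)) s.condition
        simp only [Category.assoc, c, ψ, pullback.lift_snd] at h
        rw [MonObj.mul_comp, GrpObj.inv_comp, Category.assoc, h, mul_inv_cancel, Hom.one_def])) (s.fst ≫ snd H E))
      (fun s => ?_) (fun s => by rw [lift_trans, hker.lift_fst, inv_mul_cancel_right]) fun s m h1 h2 => ?_)
    · have e : lift (fst H E ≫ (𝟙 H ^ n : H ⟶ H)) (snd H E) = ((𝟙 H ^ n : H ⟶ H) ▷ E) := by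
        apply CartesianMonoidalCategory.hom_ext <;> simp
      apply pullback.hom_ext
      · rw [Category.assoc, Category.assoc, ← e, hc1, pullback.lift_fst, MonObj.comp_pow, Category.comp_id, trans]
        have hcm : Commute (fst H E ≫ i) (snd H E) := mul_comm_of _ _
        rw [MonObj.comp_pow, Category.comp_id, hcm.mul_pow, pow_comp_hom i]
      · rw [Category.assoc, Category.assoc, pullback.lift_snd, pullback.lift_snd, whiskerRight_snd_assoc,
          trans, MonObj.mul_comp, kills hker, _root_.one_mul]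
    · apply CartesianMonoidalCategory.hom_ext
      · rw [Category.assoc, whiskerRight_fst, lift_fst_assoc, MonObj.comp_pow, Category.comp_id, ← cancel_mono i]
        have h := congrArg (· ≫ pullback.fst p (𝟙 K ^ n : K ⟶ K)) s.condition
        have h3 : s.fst = lift (s.fst ≫ fst H E) (s.fst ≫ snd H E) := by
          rw [← comp_lift, lift_fst_snd, Category.comp_id]
        simp only [Category.assoc, ψ, pullback.lift_fst, MonObj.comp_pow, Category.comp_id] at h
        have hcm : Commute s.snd (s.fst ≫ snd H E)⁻¹ := mul_comm_of _ _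
        rw [pow_comp_hom i, hker.lift_fst, hcm.mul_pow, ← h, inv_pow]
        nth_rw 1 [h3]
        rw [hc1, mul_inv_cancel_right]
      · rw [Category.assoc, whiskerRight_snd, lift_snd]
    · have h4 : m ≫ snd H E = s.fst ≫ snd H E := by rw [← h1, Category.assoc, whiskerRight_snd]
      apply CartesianMonoidalCategory.hom_ext
      · rw [lift_fst, ← cancel_mono i, hker.lift_fst, ← h4, ← h2, trans, MonObj.comp_mul, mul_inv_cancel_right,
          Category.assoc]
      · rw [lift_snd, h4]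
  haveI := hH
  haveI := hK
  haveI : MorphismProperty.DescendsAlong (@IsFinite : MorphismProperty Scheme.{u}) (@Surjective ⊓ @Flat ⊓ @QuasiCompact) :=
    EtFound.fpqc_isFinite
  have hcov : Covers c.left := hp.over_pullback _ c (snd H E) sq1
  have hψ : IsFinite ψ.left := hcov.descends @IsFinite ψ.left ((𝟙 H ^ n : H ⟶ H) ▷ E).left (trans i).left
    (sq2.map (Over.forget S)) (GrpSchLib.property_whiskerRight _ E @IsFinite hH)
  have hfst : IsFinite (pullback.fst p (𝟙 K ^ n : K ⟶ K)).left :=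
    MorphismProperty.of_isPullback ((IsPullback.of_hasPullback p (𝟙 K ^ n : K ⟶ K)).map (Over.forget S)).flip hK
  haveI := hψ
  haveI := hfst
  rw [← pullback.lift_fst (𝟙 E ^ n : E ⟶ E) p (pow_comm p n), Over.comp_left]
  infer_instance

end Kernel

section Pow

variable (n : ℕ) (hn : 0 < n)

theorem isFinite_pow_of_iso {G G' : Over S} [GrpObj G] [GrpObj G'] (e : Grp.mk G ≅ Grp.mk G')
    (h : IsFinite (𝟙 G' ^ n : G' ⟶ G').left) : IsFinite (𝟙 G ^ n : G ⟶ G).left := by
  haveI : IsMonHom e.hom.hom.hom := e.hom.hom.isMonHom_hom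
  let f : G ⟶ G' := e.hom.hom.hom
  haveI : IsMonHom f := e.hom.hom.isMonHom_hom
  haveI : IsIso f.left := ((Grp.forget _ ⋙ Over.forget _).mapIso e).isIso_hom
  have h1 := congrArg CommaMorphism.left (pow_comm f n)
  change (𝟙 G ^ n : G ⟶ G).left ≫ f.left = f.left ≫ (𝟙 G' ^ n : G' ⟶ G').left at h1
  exact (MorphismProperty.cancel_right_of_respectsIso @IsFinite _ f.left).mp
    (h1 ▸ (MorphismProperty.cancel_left_of_respectsIso @IsFinite f.left _).mpr h)

theorem isFinite_pow_bc {U : Scheme.{u}} (g : U ⟶ S) {G : Over S} [GrpObj G]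
    (h : IsFinite (𝟙 G ^ n : G ⟶ G).left) : IsFinite (𝟙 (Red.bc g G) ^ n : Red.bc g G ⟶ Red.bc g G).left := by
  rw [← pow_bc]
  exact MorphismProperty.of_isPullback (isPullback_map_left g _).flip h

theorem finite_of_generated {A B : Type*} [CommRing A] [CommRing B] (φ : A →+* B) {J : Type*} [Finite J] (v : J → B)
    (h : ∀ P : B → Prop, P 0 → (∀ x y, P x → P y → P (x + y)) → (∀ a i, P (φ a * v i)) → ∀ b, P b) : φ.Finite := by
  letI := φ.toAlgebra
  refine ⟨(Set.finite_range v).toFinset, eq_top_iff.mpr fun x _ => ?_⟩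
  rw [Set.Finite.coe_toFinset]
  refine h (· ∈ Submodule.span A (Set.range v)) (zero_mem _) (fun _ _ => add_mem) (fun a i => ?_) x
  exact Submodule.smul_mem _ a (Submodule.subset_span ⟨i, rfl⟩)

include hn in
theorem finite_mapDomain_pow (k : Type u) [CommRing k] (M : Type) [CommGroup M] [Group.FG M] :
    (SGA3b.powConv k (MonoidAlgebra k M) n).toRingHom.Finite := by
  classical
  let ρ := SGA3b.powConv k (MonoidAlgebra k M) n
  let N := (powMonoidHom n : M →* M).range
  haveI : Finite (M ⧸ N) := by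
    refine CommGroup.finite_of_fg_isMulTorsion _ fun x => ?_
    obtain ⟨m, rfl⟩ := QuotientGroup.mk'_surjective _ x
    refine isOfFinOrder_iff_pow_eq_one.mpr ⟨n, hn, ?_⟩
    rw [← map_pow]
    exact (QuotientGroup.eq_one_iff _).mpr ⟨m, rfl⟩
  refine finite_of_generated ρ.toRingHom (fun q : M ⧸ N => MonoidAlgebra.single q.out 1) fun P h0 hadd hgen x => ?_
  induction x using MonoidAlgebra.induction_linear with
  | zero => exact h0
  | add a b ha hb => exact hadd _ _ ha hb
  | single m r =>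
    obtain ⟨a, ha⟩ : ((QuotientGroup.mk m : M ⧸ N).out)⁻¹ * m ∈ N :=
      QuotientGroup.eq.mp (QuotientGroup.out_eq' (QuotientGroup.mk m))
    have e : MonoidAlgebra.single m r =
        ρ (MonoidAlgebra.single a r) * MonoidAlgebra.single (QuotientGroup.mk m : M ⧸ N).out (1 : k) := by
      rw [show MonoidAlgebra.single a r = r • MonoidAlgebra.single a (1 : k) by simp, map_smul,
        GrpSchLib.powConv_isGroupLike (MonoidAlgebra.isGroupLikeElem_single_one a), MonoidAlgebra.single_pow,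
        _root_.one_pow, smul_mul_assoc, MonoidAlgebra.single_mul_single, _root_.one_mul,
        show a ^ n = ((QuotientGroup.mk m : M ⧸ N).out)⁻¹ * m from ha, mul_comm _ m, inv_mul_cancel_right]
      simp
    rw [e]
    exact hgen _ _

set_option maxHeartbeats 1000000 in
include hn in
theorem isFinite_pow_DS (T : Scheme.{u}) (M : Type) [AddCommGroup M] [AddGroup.FG M] :
    IsFinite (𝟙 (Red.DS T M) ^ n : Red.DS T M ⟶ Red.DS T M).left := by
  haveI : Monoid.FG (Multiplicative M) := by
    haveI : AddMonoid.FG M := AddGroup.fg_iff_addMonoid_fg.mp ‹_›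
    exact Monoid.fg_of_addMonoid_fg
  haveI : Group.FG (Multiplicative M) := Group.fg_iff_monoid_fg.mpr inferInstance
  have h0 : IsFinite (𝟙 (sp (ULift.{u} ℤ) (MonoidAlgebra (ULift.{u} ℤ) (Multiplicative M))) ^ n :
      sp (ULift.{u} ℤ) (MonoidAlgebra (ULift.{u} ℤ) (Multiplicative M)) ⟶
        sp (ULift.{u} ℤ) (MonoidAlgebra (ULift.{u} ℤ) (Multiplicative M))).left := by
    rw [spMap_powConv]
    exact (IsFinite.SpecMap_iff (CommRingCat.ofHom _)).mpr (finite_mapDomain_pow n hn (ULift.{u} ℤ) (Multiplicative M))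
  have h : IsFinite (𝟙 (Red.diag (ULift.{u} ℤ) M) ^ n : Red.diag (ULift.{u} ℤ) M ⟶ Red.diag (ULift.{u} ℤ) M).left := h0
  have h' := isFinite_pow_bc (G := Red.diag (ULift.{u} ℤ) M) n (IsTerminal.from specULiftZIsTerminal T) h
  exact h'

include hn in
theorem isFinite_pow_multType {G : Over S} [GrpObj G] (hG : SGA3x.IsMultTypeFT G) :
    IsFinite (𝟙 G ^ n : G ⟶ G).left := by
  obtain ⟨S', f, hflat, hsurj, hqc, hloc⟩ := hG
  have hcov : Covers f := FpqcDescLib.covers_of_hcov f ⟨S', f, 𝟙 _, Category.id_comp _, hsurj, hflat, hqc⟩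
  haveI : MorphismProperty.DescendsAlong (@IsFinite : MorphismProperty Scheme.{u}) (@Surjective ⊓ @Flat ⊓ @QuasiCompact) :=
    EtFound.fpqc_isFinite
  refine (hcov.pullback G.hom _ _ (IsPullback.of_hasPullback G.hom f)).descends @IsFinite _ _ _
    (isPullback_map_left f _) ?_
  rw [pow_bc]
  refine IsZariskiLocalAtTarget.of_forall_exists_morphismRestrict fun x => ?_
  obtain ⟨O, hxO, M, iM, hfg, ⟨e⟩⟩ := hloc (pullback.snd G.hom f x)
  haveI := hfg
  let X := Red.bc f G
  let j : (Red.bc O.ι X).left ⟶ X.left := pullback.fst X.hom O.ι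
  refine ⟨j.opensRange, ?_, ?_⟩
  · obtain ⟨z, hz, -⟩ := Scheme.Pullback.exists_preimage_pullback (f := X.hom) (g := O.ι) x ⟨_, hxO⟩ rfl
    exact ⟨z, hz⟩
  · refine (MorphismProperty.arrow_mk_iso_iff (@IsFinite : MorphismProperty Scheme.{u}) (morphismRestrictOpensRange _ j)).mpr ?_
    have sq := (isPullback_map_left O.ι (𝟙 X ^ n : X ⟶ X)).flip
    refine (MorphismProperty.cancel_left_of_respectsIso @IsFinite sq.isoPullback.hom _).mp ?_
    rw [sq.isoPullback_hom_snd, pow_bc]
    obtain ⟨a⟩ := GrpSchLib.MultTypeBC.bc_bc O.ι f G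
    exact isFinite_pow_of_iso n (a ≪≫ e) (isFinite_pow_DS n hn _ M)

theorem isFinite_kerHom {G : Over S} [GrpObj G] (h : IsFinite (𝟙 G ^ n : G ⟶ G).left) : IsFinite (kerHom n G) := by
  haveI : IsFinite (pullback.fst η[G].left (𝟙 G ^ n : G ⟶ G).left) :=
    MorphismProperty.pullback_fst (P := @IsFinite) _ _ h
  have e : kerHom n G = pullback.fst η[G].left (𝟙 G ^ n : G ⟶ G).left ≫ (𝟙_ (Over S)).hom := by
    rw [← Over.w η[G], pullback.condition_assoc, Over.w]
  rw [e]
  haveI : IsFinite (𝟙_ (Over S)).hom := inferInstanceAs (IsFinite (𝟙 S))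
  infer_instance

end Pow

set_option maxHeartbeats 1000000 in
/-- An extension of groups of multiplicative type with central kernel is commutative if, at each point of the base,
either the fibre of the quotient is connected or the extension is commutative there. -/
theorem comm_of_central {E H K : Over S} [GrpObj E] [GrpObj H] [GrpObj K] (p : E ⟶ K) [IsMonHom p]
    [Surjective p.left] [Flat p.left] [QuasiCompact p.left] (i : H ⟶ E) [IsMonHom i] (hker : AlgGrp.IsKernel i p)
    (hH : SGA3x.IsMultTypeFT H) (hK : SGA3x.IsMultTypeFT K)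
    (hcen : ∀ {X : Over S} (h : X ⟶ H) (e : X ⟶ E), Commute (h ≫ i) e)
    (hc : ∀ s : S, _root_.IsPreconnected (K.hom.base ⁻¹' {s}) ∨
      ∀ X : Over S, Deform.LiesOver s X → ∀ a b : X ⟶ E, a * b = b * a)
    (T : Over S) (x y : T ⟶ E) : x * y = y * x := by
  haveI := UnipDiag.mono_of_isKernel hker
  have hp := covers_of_fpqc p
  have hKc : ∀ {X : Over S} (a b : X ⟶ K), a * b = b * a := fun a b => GrpSchLib.MultTypeComm.points_comm hK a b
  have hγ : ∀ {X : Over S} (a b : X ⟶ E), (a * b * a⁻¹ * b⁻¹) ≫ p = 1 := fun a b => by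
    simp only [MonObj.mul_comp, GrpObj.inv_comp]
    rw [hKc (a ≫ p) (b ≫ p)]
    group
  let com : E ⊗ E ⟶ H := hker.lift (fst E E * snd E E * (fst E E)⁻¹ * (snd E E)⁻¹) (toUnit _) (by
    rw [hγ, Hom.one_def])
  have hγi : ∀ {X : Over S} (a b : X ⟶ E), (lift a b ≫ com) ≫ i = a * b * a⁻¹ * b⁻¹ := fun a b => by
    rw [Category.assoc, hker.lift_fst, MonObj.comp_mul, MonObj.comp_mul, MonObj.comp_mul, GrpObj.comp_inv,
      GrpObj.comp_inv, lift_fst, lift_snd]
  have hpp : Covers (p ⊗ₘ p).left := by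
    rw [MonoidalCategory.tensorHom_def, Over.comp_left]
    exact (FpqcDescLib.covers_whiskerRight hp E).comp (FpqcDescLib.covers_whiskerLeft hp K)
  obtain ⟨δ, hδ, -⟩ := hpp.over_desc com fun X a b e => by
    have ea : a = lift (a ≫ fst E E) (a ≫ snd E E) := by rw [← comp_lift, lift_fst_snd, Category.comp_id]
    have eb : b = lift (b ≫ fst E E) (b ≫ snd E E) := by rw [← comp_lift, lift_fst_snd, Category.comp_id]
    obtain ⟨h₁, e₁⟩ := (UnipDiag.isCosetMap_of_isKernel hker X (a ≫ fst E E) (b ≫ fst E E)).mp (by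
      simpa using congrArg (· ≫ fst K K) e)
    obtain ⟨h₂, e₂⟩ := (UnipDiag.isCosetMap_of_isKernel hker X (a ≫ snd E E) (b ≫ snd E E)).mp (by
      simpa using congrArg (· ≫ snd K K) e)
    rw [ea, eb, ← cancel_mono i, hγi, hγi, e₁, e₂]
    generalize a ≫ fst E E = u
    generalize a ≫ snd E E = v
    have c1 := hcen h₁
    have c2 := hcen h₂
    calc u * v * u⁻¹ * v⁻¹
        = u * v * u⁻¹ * v⁻¹ * ((h₁ ≫ i) * (h₁ ≫ i)⁻¹) * ((h₂ ≫ i) * (h₂ ≫ i)⁻¹) := by group
      _ = _ := by
        rw [_root_.mul_inv_rev, _root_.mul_inv_rev]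
        simp only [← _root_.mul_assoc]
        rw [_root_.mul_assoc u (h₁ ≫ i) v, (c1 v).eq, ← _root_.mul_assoc, _root_.mul_assoc (u * v) (h₁ ≫ i),
          (c1 (h₂ ≫ i)).eq, ← _root_.mul_assoc, _root_.mul_assoc (u * v * (h₂ ≫ i)) (h₁ ≫ i), mul_inv_cancel,
          _root_.mul_one, _root_.mul_assoc (u * v) (h₂ ≫ i), (c2 u⁻¹).eq, ← _root_.mul_assoc,
          _root_.mul_assoc (u * v * u⁻¹) (h₂ ≫ i), mul_inv_cancel, _root_.mul_one]
        group
  have hδ' : ∀ {X : Over S} (a b : X ⟶ E), lift (a ≫ p) (b ≫ p) ≫ δ ≫ i = a * b * a⁻¹ * b⁻¹ := fun a b => by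
    rw [← hγi a b, ← hδ, ← lift_map_assoc, Category.assoc, Category.assoc]
  have hlin : ∀ (X : Over S) (a a' : X ⟶ K) (b : X ⟶ K), lift (a * a') b ≫ δ = lift a b ≫ δ * lift a' b ≫ δ := by
    intro X a a' b
    obtain ⟨X₁, r₁, hr₁, a₁, ha⟩ := exists_lift hp a
    obtain ⟨X₂, r₂, hr₂, a₂, ha'⟩ := exists_lift hp (r₁ ≫ a')
    obtain ⟨X₃, r₃, hr₃, b₃, hb⟩ := exists_lift hp (r₂ ≫ r₁ ≫ b)
    have ea : ((r₃ ≫ r₂) ≫ a₁) ≫ p = r₃ ≫ r₂ ≫ r₁ ≫ a := by simp [ha]
    have ea' : (r₃ ≫ a₂) ≫ p = r₃ ≫ r₂ ≫ r₁ ≫ a' := by simp [ha']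
    rw [← cancel_epi r₁, ← cancel_epi r₂, ← cancel_epi r₃, ← cancel_mono i]
    simp only [MonObj.comp_mul, comp_lift_assoc, Category.assoc, MonObj.mul_comp]
    rw [← ea, ← ea', ← hb, ← MonObj.mul_comp, hδ', hδ', hδ']
    generalize (r₃ ≫ r₂) ≫ a₁ = u
    have hcn : ∀ z, Commute (r₃ ≫ a₂ * b₃ * (r₃ ≫ a₂)⁻¹ * b₃⁻¹) z := fun z => hγi (r₃ ≫ a₂) b₃ ▸ hcen _ z
    generalize r₃ ≫ a₂ = v at hcn ⊢
    calc u * v * b₃ * (u * v)⁻¹ * b₃⁻¹ = u * (v * b₃ * v⁻¹ * b₃⁻¹) * (b₃ * u⁻¹ * b₃⁻¹) := by group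
      _ = u * ((v * b₃ * v⁻¹ * b₃⁻¹) * (b₃ * u⁻¹ * b₃⁻¹)) := by group
      _ = u * ((b₃ * u⁻¹ * b₃⁻¹) * (v * b₃ * v⁻¹ * b₃⁻¹)) := by rw [(hcn _).eq]
      _ = _ := by group
  haveI : IsAffineHom H.hom := (TransLib.multTypeFT_essFree hH).1
  haveI : LocallyOfFiniteType H.hom := GrpSchLib.MultTypeLft.lft hH
  have h0 : lift (𝟙 K) (toUnit K ≫ η[K]) ≫ δ = 1 := by
    haveI : Epi p := hp.over_epi
    rw [← cancel_epi p, ← cancel_mono i, comp_lift_assoc, Category.comp_id, comp_toUnit_assoc, Category.assoc,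
      MonObj.comp_one, show toUnit E ≫ η[K] = (1 : E ⟶ E) ≫ p by rw [MonObj.one_comp, Hom.one_def],
      show lift p ((1 : E ⟶ E) ≫ p) = lift (𝟙 E ≫ p) ((1 : E ⟶ E) ≫ p) by rw [Category.id_comp], hδ',
      MonObj.one_comp]
    group
  have h1 := Deform.pairing_eq_one_of hK δ hlin η[K] h0 fun s => (hc s).imp_right fun hs X hX a b => by
    obtain ⟨X₁, r₁, hr₁, a₁, ha⟩ := exists_lift hp a
    obtain ⟨X₂, r₂, hr₂, b₂, hb⟩ := exists_lift hp (r₁ ≫ b)
    have ea : (r₂ ≫ a₁) ≫ p = r₂ ≫ r₁ ≫ a := by simp [ha]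
    rw [← cancel_epi r₁, ← cancel_epi r₂, ← cancel_mono i]
    simp only [MonObj.comp_one, MonObj.one_comp, comp_lift_assoc, Category.assoc]
    rw [← ea, ← hb, hδ', hs X₂ (liesOver_comp (r₂ ≫ r₁) hX) (r₂ ≫ a₁) b₂]
    group
  have h2 := hδ' x y
  rw [h1, MonObj.one_comp, MonObj.comp_one] at h2
  rw [← mul_inv_eq_one]
  refine Eq.trans ?_ h2.symm
  group

/-- An extension of a group with connected fibres and of multiplicative type by a group of multiplicative type is
commutative. -/
theorem comm_of_connected {E H K : Over S} [GrpObj E] [GrpObj H] [GrpObj K] (p : E ⟶ K) [IsMonHom p]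
    [Surjective p.left] [Flat p.left] [QuasiCompact p.left] (i : H ⟶ E) [IsMonHom i] (hker : AlgGrp.IsKernel i p)
    (hH : SGA3x.IsMultTypeFT H) (hK : SGA3x.IsMultTypeFT K) (hc : ∀ s : S, _root_.IsConnected (K.hom.base ⁻¹' {s}))
    (T : Over S) (x y : T ⟶ E) : x * y = y * x :=
  comm_of_central p i hker hH hK (fun h e => S5430.result S E H K p i hker hH hc _ h e)
    (fun s => Or.inl (hc s).isPreconnected) T x y

set_option maxHeartbeats 1000000 in
/-- A commutative extension of groups of multiplicative type is of multiplicative type. -/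
theorem isMultTypeFT_of_comm {E H K : Over S} [GrpObj E] [GrpObj H] [GrpObj K] [IsCommMonObj E] (p : E ⟶ K)
    [IsMonHom p] [Surjective p.left] [Flat p.left] [QuasiCompact p.left] (i : H ⟶ E) [IsMonHom i]
    (hker : AlgGrp.IsKernel i p) (hH : SGA3x.IsMultTypeFT H) (hK : SGA3x.IsMultTypeFT K) :
    SGA3x.IsMultTypeFT E := by
  have hp := covers_of_fpqc p
  haveI : MorphismProperty.DescendsAlong (@IsAffineHom : MorphismProperty Scheme.{u}) (@Surjective ⊓ @Flat ⊓ @QuasiCompact) :=
    EtFound.fpqc_isAffineHom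
  haveI hpa : IsAffineHom p.left := property_quot hker hp @IsAffineHom (TransLib.multTypeFT_essFree hH).1
  haveI hplfp : LocallyOfFinitePresentation p.left :=
    property_quot hker hp @LocallyOfFinitePresentation (MultTypeFlat.lfp hH)
  haveI : IsAffineHom K.hom := (TransLib.multTypeFT_essFree hK).1
  haveI := MultTypeFlat.lfp hK
  haveI := MultTypeFlat.flat hK
  haveI hEa : IsAffineHom E.hom := by rw [← Over.w p]; infer_instance
  haveI hEf : Flat E.hom := by rw [← Over.w p]; infer_instance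
  haveI hEp : LocallyOfFinitePresentation E.hom := by rw [← Over.w p]; infer_instance
  refine TorsionOrderScheme.isMultTypeFT_of_etale_split fun s => ?_
  obtain ⟨V, hV, hsV, -⟩ := exists_isAffineOpen_mem_and_subset (show s ∈ (⊤ : S.Opens) from trivial)
  let R : CommRingCat.{u} := Γ(S, V)
  let g : Spec (CommRingCat.of R) ⟶ S := hV.fromSpec
  obtain ⟨P, hP⟩ : s ∈ Set.range g := hV.range_fromSpec.symm ▸ hsV
  haveI : IsAffineHom (pullback.snd E.hom g) := MorphismProperty.pullback_snd (P := @IsAffineHom) _ _ hEa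
  haveI : IsAffine (Red.bc g E).left := isAffine_of_isAffineHom (pullback.snd E.hom g)
  obtain ⟨C, iC, iH, ⟨eC⟩⟩ := exists_hopf (Red.bc g E)
  haveI : IsMonHom eC.hom.hom.hom := eC.hom.hom.isMonHom_hom
  haveI : IsIso eC.hom.hom.hom := ((Grp.forget _).mapIso eC).isIso_hom
  haveI : IsIso eC.hom.hom.hom.left := ((Grp.forget _ ⋙ Over.forget _).mapIso eC).isIso_hom
  haveI : IsCommMonObj (Red.bc g E) := isCommMonObj_of fun T => comm_bc g (fun T => mul_comm_of) T
  haveI : Coalgebra.IsCocomm R C := S14691.isCocomm_of_iso eC.hom.hom.hom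
  have hwC : (sp R C).hom = eC.hom.hom.hom.left ≫ (Red.bc g E).hom := (Over.w eC.hom.hom.hom).symm
  haveI : Flat (Red.bc g E).hom := inferInstanceAs (Flat (pullback.snd E.hom g))
  haveI : LocallyOfFinitePresentation (Red.bc g E).hom :=
    inferInstanceAs (LocallyOfFinitePresentation (pullback.snd E.hom g))
  haveI : Module.Flat R C := by
    have h : Flat (Spec.map (CommRingCat.ofHom (algebraMap R C))) := by
      change Flat (sp R C).hom
      rw [hwC]
      infer_instance
    exact RingHom.flat_algebraMap_iff.mp ((HasRingHomProperty.Spec_iff (P := @Flat)).mp h)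
  haveI : Algebra.FinitePresentation R C := by
    have h : LocallyOfFinitePresentation (Spec.map (CommRingCat.ofHom (algebraMap R C))) := by
      change LocallyOfFinitePresentation (sp R C).hom
      rw [hwC]
      infer_instance
    exact RingHom.finitePresentation_algebraMap.mp ((HasRingHomProperty.Spec_iff (P := @LocallyOfFinitePresentation)).mp h)
  -- the torsion is finite
  have hfin : ∀ n : ℕ, 0 < n → Module.Finite R (C ⧸ SGA3b.torsionIdeal R C n) := fun n hn => by
    have hpowE := isFinite_pow hker hp n (isFinite_pow_multType n hn hH) (isFinite_pow_multType n hn hK)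
    haveI := isFinite_kerHom n (isFinite_pow_of_iso n eC (isFinite_pow_bc n g hpowE))
    obtain ⟨φ, hφ, e⟩ := exists_sp_ker (R := R) (A := C) n
    haveI := hφ
    have h : IsFinite (Spec.map (CommRingCat.ofHom (algebraMap R (C ⧸ SGA3b.torsionIdeal R C n)))) := by
      rw [← e]; infer_instance
    exact RingHom.finite_algebraMap.mp ((IsFinite.SpecMap_iff _).mp h)
  -- the geometric fibre
  obtain ⟨σ, hσ, hker'⟩ := TorsionOrderScheme.exists_lift_residue g P
  let Ω : Type u := AlgebraicClosure (S.residueField (g P))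
  let geo : Spec (CommRingCat.of Ω) ⟶ S := Red.geomPt (g P)
  let F := Over.pullback geo
  haveI : IsMonHom (F.map p) := inferInstanceAs (IsMonHom ((Over.pullback geo).map p))
  haveI : IsMonHom (F.map i) := inferInstanceAs (IsMonHom ((Over.pullback geo).map i))
  have hkerΩ : AlgGrp.IsKernel (F.map i) (F.map p) := by
    have h := (hker.map F).of_iso (Iso.refl _) (Iso.refl _) (asIso (Functor.LaxMonoidal.ε F)).symm (Iso.refl _)
      (fst' := F.map i) (snd' := F.map (toUnit H) ≫ inv (Functor.LaxMonoidal.ε F)) (f' := F.map p)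
      (g' := η[Red.bc geo K]) (by simp) (by simp) (by simp) (by simp [F])
    rwa [show F.map (toUnit H) ≫ inv (Functor.LaxMonoidal.ε F) = toUnit (Red.bc geo H) from toUnit_unique _ _] at h
  have hpΩ : Covers (F.map p).left := hp.pullback _ _ _ (isPullback_map_left geo p)
  haveI : IsCommMonObj (Red.bc geo E) := isCommMonObj_of fun T => comm_bc geo (fun T => mul_comm_of) T
  haveI : IsAffineHom (pullback.snd E.hom geo) := MorphismProperty.pullback_snd (P := @IsAffineHom) _ _ hEa
  haveI : IsAffine (Red.bc geo E).left := isAffine_of_isAffineHom (pullback.snd E.hom geo)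
  haveI : LocallyOfFiniteType (Red.bc geo E).hom := inferInstanceAs (LocallyOfFiniteType (pullback.snd E.hom geo))
  obtain ⟨M, iM, -, ⟨c⟩⟩ := UnipDiag.exists_diag_of_extension (F.map p) hpΩ (F.map i) hkerΩ
    (GrpSchLib.MultTypeBC.isMultTypeFT_bc geo hH) (GrpSchLib.MultTypeBC.isMultTypeFT_bc geo hK)
  letI algΩ : Algebra R Ω := ((algebraMap (S.residueField (g P)) Ω).comp σ).toAlgebra
  obtain ⟨b⟩ := TorsionOrderScheme.nonempty_iso_field g eC Ω geo (by
    show Spec.map (CommRingCat.ofHom ((algebraMap (S.residueField (g P)) Ω).comp σ)) ≫ g = _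
    rw [CommRingCat.ofHom_comp, Spec.map_comp, Category.assoc, hσ])
  obtain ⟨eΩ⟩ := nonempty_bialgEquiv (c ≪≫ b)
  have hkΩ : RingHom.ker (algebraMap R Ω) = P.asIdeal :=
    (RingHom.ker_comp_of_injective σ (algebraMap (S.residueField (g P)) Ω).injective).trans hker'
  let Rp := Localization.AtPrime P.asIdeal
  let ι₀ : P.asIdeal.ResidueField →ₐ[R] Ω := Ideal.ResidueField.liftₐ P.asIdeal (Algebra.ofId R Ω) (fun x hx => by
    have : x ∈ RingHom.ker (algebraMap R Ω) := hkΩ ▸ hx
    exact this) (fun x hx => by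
    have : x ∉ RingHom.ker (algebraMap R Ω) := hkΩ ▸ hx
    exact isUnit_iff_ne_zero.mpr this)
  letI : Algebra P.asIdeal.ResidueField Ω := ι₀.toRingHom.toAlgebra
  haveI : IsScalarTower R P.asIdeal.ResidueField Ω := IsScalarTower.of_algebraMap_eq fun x => (ι₀.commutes x).symm
  have hfib : SGA3b.IsMultType P.asIdeal.ResidueField (P.asIdeal.ResidueField ⊗[R] C) :=
    MultTypeLib.isMultType_of_ff Ω (MultTypeLib.isDiag_congr
      (MultTypeLib.baseChangeTrans (R := R) P.asIdeal.ResidueField Ω C) ⟨M, iM, ⟨eΩ⟩⟩)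
  have hloc : SGA3b.IsMultType Rp (Rp ⊗[R] C) := by
    refine MultTypeLib.isMultType_local_of_torsion (fun q _ _ => Module.Flat.trans Rp (Rp ⊗[R] C) _)
      (MultTypeLib.isMultType_congr (MultTypeLib.baseChangeTrans (R := R) Rp P.asIdeal.ResidueField C) hfib) fun n hn => ?_
    have := hfin n hn
    exact MultTypeLib.finite_torsion_baseChange (R := R) Rp n
  obtain ⟨E', iE, iA, hEt, ⟨q, hq, hqp⟩, M', iM', ⟨e⟩⟩ := MultTypeLib.exists_etale_nhd_diag P.asIdeal hloc
  haveI := hEt
  haveI : Nontrivial E' := PrimeSpectrum.nonempty_iff_nontrivial.mp ⟨⟨q, hq⟩⟩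
  haveI : Algebra.FiniteType E' (MonoidAlgebra E' M') :=
    Algebra.FiniteType.equiv (inferInstance : Algebra.FiniteType E' (E' ⊗[R] C)) (e : _ ≃ₐ[E'] _)
  haveI : Group.FG M' := Group.fg_iff_monoid_fg.mpr ((MonoidAlgebra.finiteType_iff_fg (R := E')).mp inferInstance)
  obtain ⟨N, iN, hN, ⟨cN⟩⟩ := QuasiIsotrivial.exists_small M'
  let t : Spec (CommRingCat.of E') ⟶ Spec (CommRingCat.of R) := Spec.map (CommRingCat.ofHom (algebraMap R E'))
  haveI : Etale t := (HasRingHomProperty.Spec_iff (P := @Etale)).mpr (RingHom.etale_algebraMap.mpr hEt)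
  obtain ⟨b'⟩ := TorsionOrderScheme.nonempty_iso_field g eC E' (t ≫ g) rfl
  obtain ⟨a⟩ := nonempty_DS_iso E' N
  refine ⟨_, t ≫ g, N, iN, inferInstance, ⟨⟨q, hq⟩, ?_⟩, hN,
    ⟨b' ≪≫ spIso ((QuasiIsotrivial.congrEquiv E' cN).trans e.symm) ≪≫ a⟩⟩
  rw [Scheme.Hom.comp_apply, show t ⟨q, hq⟩ = P from PrimeSpectrum.ext hqp, hP]

end Groth.Agent.Deform.Extension
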