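import Groth.Agent.Deform.TorusAlg
import Groth.Agent.GrpSchLib.Cartier
import Groth.Agent.GrpSchLib.MultTypeLft
import Groth.Agent.TransLib.MultEssFree
import Mathlib.Algebra.Group.UniqueProds.Basic

/-!
# Elementary properties of tori over a field
-/

universe u

open CategoryTheory CategoryTheory.Limits MonoidalCategory CartesianMonoidalCategory MonObj GrpObj AlgebraicGeometry

namespace Groth.Agent.Deform.TorusBasic

set_option linter.style.haveILetI false

variable {k : Type u} [Field k] {T : Over (Spec (CommRingCat.of k))} [GrpObj T]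

/-- A torus over a field is affine, smooth, connected and of finite type. -/
theorem props (hT : Red.IsTorus T) :
    IsAffine T.left ∧ LocallyOfFiniteType T.hom ∧ Smooth T.hom ∧ ConnectedSpace ↥T.left := by
  haveI := GrpSchLib.MultTypeLft.lft (Deform.isMultTypeFT_of_isTorus hT)
  haveI : IsAffineHom T.hom := (TransLib.multTypeFT_essFree (Deform.isMultTypeFT_of_isTorus hT)).1
  haveI : IsAffine T.left := isAffine_of_isAffineHom T.hom
  let K := AlgebraicClosure k
  let t : Spec (CommRingCat.of K) ⟶ Spec (CommRingCat.of k) := Spec.map (CommRingCat.ofHom (algebraMap k K))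
  obtain ⟨r, ⟨e⟩⟩ := Deform.exists_split (Red.bc t T) (Deform.isTorus_bc t hT)
  obtain ⟨d⟩ := GrpSchLib.AffineHopf.nonempty_DS_iso K (Fin r → ℤ)
  let i := (d ≪≫ e.symm)
  haveI : IsIso i.hom.hom.hom.left :=
    inferInstanceAs (IsIso ((Over.forget _).map ((Grp.forget _).map i.hom)))
  haveI : IsDomain (MonoidAlgebra K (Multiplicative (Fin r → ℤ))) := NoZeroDivisors.to_isDomain _
  haveI : IsReduced (GrpSchLib.AffineHopf.sp K (MonoidAlgebra K (Multiplicative (Fin r → ℤ)))).left :=
    inferInstanceAs (IsReduced (Spec (CommRingCat.of (MonoidAlgebra K (Multiplicative (Fin r → ℤ))))))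
  haveI : IsReduced (pullback T.hom t) := isReduced_of_isOpenImmersion (inv i.hom.hom.hom.left)
  haveI : ConnectedSpace ↥(GrpSchLib.AffineHopf.sp K (MonoidAlgebra K (Multiplicative (Fin r → ℤ)))).left :=
    inferInstanceAs (ConnectedSpace (PrimeSpectrum (MonoidAlgebra K (Multiplicative (Fin r → ℤ)))))
  haveI : Surjective t := ⟨fun x => ⟨IsLocalRing.closedPoint K, Subsingleton.elim (α := PrimeSpectrum k) _ _⟩⟩
  let f := i.hom.hom.hom.left ≫ pullback.fst T.hom t
  haveI : Surjective f := inferInstanceAs (Surjective (i.hom.hom.hom.left ≫ pullback.fst T.hom t))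
  exact ⟨inferInstance, inferInstance, GrpSchLib.smooth_of_isReduced_baseChange T inferInstance,
    f.surjective.connectedSpace f.continuous⟩

end Groth.Agent.Deform.TorusBasic
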