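import Groth.Agent.Deform.QuotBase

/-!
# Descending a translated affine piece of the quotient along a finite field extension

If right translation by an `L`-valued point moves the preimage of an invariant open `O` into an open
with affine quotient, then the quotient of the preimage carries a finite locally free equivalence
relation with all classes in affines, and its quotient is a quotient of `O`.
-/

set_option backward.isDefEq.respectTransparency false
set_option backward.isDefEq.respectTransparency.types false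
set_option linter.style.haveILetI false
set_option linter.unusedSectionVars false

universe u

open CategoryTheory CategoryTheory.Limits MonoidalCategory CartesianMonoidalCategory MonObj AlgebraicGeometry
open TopologicalSpace Groth.Agent.GrpdLib

attribute [local instance] CategoryTheory.Hom.monoid CategoryTheory.Hom.group

namespace Groth.Agent.Deform.QuotDescent

open QuotBase

noncomputable section

variable {S : Scheme.{u}}

/-- Descent of morphisms along an fppf surjection over the base. -/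
theorem exists_descOver {A B C : Over S} (π : A ⟶ B) [Flat π.left] [Surjective π.left]
    [LocallyOfFinitePresentation π.left] (φ : A ⟶ C)
    (h : ∀ (T : Over S) (x y : T ⟶ A), x ≫ π = y ≫ π → x ≫ φ = y ≫ φ) : ∃ ψ : B ⟶ C, π ≫ ψ = φ := by
  have h' : ∀ {T : Scheme.{u}} (x y : T ⟶ A.left), x ≫ π.left = y ≫ π.left → x ≫ φ.left = y ≫ φ.left := by
    intro T x y e
    have hw : y ≫ A.hom = x ≫ A.hom := by rw [← Over.w π, reassoc_of% e]
    exact congrArg CommaMorphism.left (h (Over.mk (x ≫ A.hom)) (Over.homMk x rfl) (Over.homMk y hw)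
      (Over.OverMorphism.ext e))
  refine ⟨Over.homMk (EffectiveEpi.desc π.left φ.left h') ?_, Over.OverMorphism.ext (EffectiveEpi.fac π.left φ.left h')⟩
  rw [← cancel_epi π.left, ← Category.assoc, EffectiveEpi.fac π.left φ.left h', Over.w φ, Over.w π]

/-- A morphism is epi if it is so on underlying schemes. -/
theorem epi_of_fppf {A B : Over S} (π : A ⟶ B) [Flat π.left] [Surjective π.left]
    [LocallyOfFinitePresentation π.left] : Epi π :=
  (Over.forget S).epi_of_epi_map (inferInstanceAs (Epi π.left))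

theorem fppf_whiskerRight {A B : Over S} (π : A ⟶ B) (C : Over S) [Flat π.left] [Surjective π.left]
    [LocallyOfFinitePresentation π.left] :
    Flat (π ▷ C).left ∧ Surjective (π ▷ C).left ∧ LocallyOfFinitePresentation (π ▷ C).left :=
  ⟨MorphismProperty.of_isPullback (GrpSchLib.isPullback_whiskerRight π C).flip ‹_›,
    MorphismProperty.of_isPullback (GrpSchLib.isPullback_whiskerRight π C).flip ‹_›,
    MorphismProperty.of_isPullback (GrpSchLib.isPullback_whiskerRight π C).flip ‹_›⟩

/-- An open subobject. -/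
abbrev sub (X : Over S) (U : X.left.Opens) : Over S := Over.mk (U.ι ≫ X.hom)

/-- The inclusion of an open subobject. -/
abbrev subι (X : Over S) (U : X.left.Opens) : sub X U ⟶ X := Over.homMk U.ι rfl

theorem exists_lift_sub {T X : Over S} (U : X.left.Opens) (f : T ⟶ X) (h : ∀ z, f.left z ∈ U) :
    ∃ f' : T ⟶ sub X U, f' ≫ subι X U = f :=
  ⟨Over.homMk (IsOpenImmersion.lift U.ι f.left (by
      rintro _ ⟨z, rfl⟩
      exact ⟨⟨f.left z, h z⟩, rfl⟩)) (by
        show _ ≫ U.ι ≫ X.hom = T.hom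
        rw [IsOpenImmersion.lift_fac_assoc, Over.w f]), Over.OverMorphism.ext (IsOpenImmersion.lift_fac _ _ _)⟩

instance mono_subι (X : Over S) (U : X.left.Opens) : Mono (subι X U) :=
  (Over.forget S).mono_of_mono_map (inferInstanceAs (Mono U.ι))

variable {k : Type u} [Field k] {F G L : Over (Spec (CommRingCat.of k))} [GrpObj F] [GrpObj G] (u : F ⟶ G)
  [IsMonHom u] [Mono u] [LocallyOfFiniteType F.hom] [LocallyOfFiniteType G.hom]
  [IsFinite L.hom] [Nonempty L.left] (g : L ⟶ G)
  {P V : Over (Spec (CommRingCat.of k))} (i : P ⟶ G) (q : P ⟶ V) [IsOpenImmersion i.left] [IsAffine V.left]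
  [Surjective q.left] [Flat q.left] [LocallyOfFinitePresentation q.left]
  (hch : ∀ (T : Over (Spec (CommRingCat.of k))) (a b : T ⟶ P), a ≫ q = b ≫ q ↔ Rel u (a ≫ i) (b ≫ i))

include hch in
/-- The descended quotient of an invariant open. -/
theorem exists_quotData (O : G.left.Opens)
    (hO : IsInv (AlgSpDec.ActGroupoid.gpd (leftAct u)) O)
    (hOP : ∀ z : (G ⊗ L).left, (fst G L).left z ∈ O → (fst G L * (snd G L ≫ g)).left z ∈ Set.range i.left) :
    Nonempty (GrpdThick.QuotData (AlgSpDec.ActGroupoid.gpd (leftAct u)) O) := by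
  haveI : Mono i := (Over.forget _).mono_of_mono_map (inferInstanceAs (Mono i.left))
  haveI : Flat L.hom := inferInstance
  haveI : LocallyOfFinitePresentation L.hom := inferInstance
  haveI : Surjective L.hom :=
    ⟨fun x => ⟨Classical.arbitrary _, Subsingleton.elim (α := PrimeSpectrum k) _ _⟩⟩
  -- the chart
  let U' := sub (G ⊗ L) ((fst G L).left ⁻¹ᵁ O)
  let iO : U' ⟶ G ⊗ L := subι _ _
  let aG : U' ⟶ G := iO ≫ fst G L
  let aL : U' ⟶ L := iO ≫ snd G L
  obtain ⟨κ, hκ⟩ : ∃ κ : U' ⟶ P, κ ≫ i = aG * (aL ≫ g) := by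
    have hr : Set.range (aG * (aL ≫ g)).left ⊆ Set.range i.left := by
      rintro _ ⟨z, rfl⟩
      have : aG * (aL ≫ g) = iO ≫ (fst G L * (snd G L ≫ g)) := by
        rw [MonObj.comp_mul]; simp [aG, aL]
      rw [this, Over.comp_left, Scheme.Hom.comp_apply]
      exact hOP _ z.2
    refine ⟨Over.homMk (IsOpenImmersion.lift i.left _ hr) ?_, Over.OverMorphism.ext (IsOpenImmersion.lift_fac _ _ _)⟩
    rw [← Over.w i, IsOpenImmersion.lift_fac_assoc, Over.w (aG * (aL ≫ g))]
  let q₀ : U' ⟶ V ⊗ L := lift (κ ≫ q) aL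
  have hq₀ : ∀ (T : Over (Spec (CommRingCat.of k))) (x y : T ⟶ U'),
      x ≫ q₀ = y ≫ q₀ ↔ Rel u (x ≫ aG) (y ≫ aG) ∧ x ≫ aL = y ≫ aL := by
    intro T x y
    have hi : x ≫ κ ≫ i = (x ≫ aG) * ((x ≫ aL) ≫ g) := by
      rw [hκ, MonObj.comp_mul]; simp only [Category.assoc]
    have hi' : y ≫ κ ≫ i = (y ≫ aG) * ((y ≫ aL) ≫ g) := by
      rw [hκ, MonObj.comp_mul]; simp only [Category.assoc]
    constructor
    · intro h
      have hL : x ≫ aL = y ≫ aL := by simpa [q₀] using congrArg (· ≫ snd V L) h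
      refine ⟨?_, hL⟩
      have h1 : (x ≫ κ) ≫ q = (y ≫ κ) ≫ q := by simpa [q₀] using congrArg (· ≫ fst V L) h
      rw [hch, Category.assoc, Category.assoc, hi, hi', hL] at h1
      exact (rel_mul_right_iff u _).1 h1
    · rintro ⟨h, hL⟩
      apply CartesianMonoidalCategory.hom_ext
      · simp only [q₀, Category.assoc, lift_fst]
        rw [← Category.assoc, ← Category.assoc, hch, Category.assoc, Category.assoc, hi, hi', hL]
        exact rel_mul_right u h _
      · simpa [q₀] using hL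
  -- `q₀` is flat and locally of finite presentation
  let e : U' ⟶ P ⊗ L := lift κ aL
  let shear : G ⊗ L ≅ G ⊗ L :=
    { hom := lift (fst G L * (snd G L ≫ g)) (snd G L)
      inv := lift (fst G L * (snd G L ≫ g)⁻¹) (snd G L)
      hom_inv_id := by
        apply CartesianMonoidalCategory.hom_ext
        · rw [Category.assoc, lift_fst, MonObj.comp_mul, GrpObj.comp_inv, lift_fst, lift_snd_assoc,
            Category.id_comp, mul_inv_cancel_right]
        · rw [Category.assoc, lift_snd, lift_snd, Category.id_comp]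
      inv_hom_id := by
        apply CartesianMonoidalCategory.hom_ext
        · rw [Category.assoc, lift_fst, MonObj.comp_mul, lift_fst, lift_snd_assoc, Category.id_comp,
            inv_mul_cancel_right]
        · rw [Category.assoc, lift_snd, lift_snd, Category.id_comp] }
  haveI : IsOpenImmersion e.left := by
    have he : e ≫ (i ▷ L) = iO ≫ shear.hom := by
      apply CartesianMonoidalCategory.hom_ext
      · rw [Category.assoc, whiskerRight_fst, lift_fst_assoc, hκ]
        simp [shear, aG, aL, MonObj.comp_mul]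
      · simp [e, shear, aL]
    haveI : IsOpenImmersion (i ▷ L).left :=
      MorphismProperty.of_isPullback (GrpSchLib.isPullback_whiskerRight i L).flip ‹IsOpenImmersion i.left›
    haveI : IsIso shear.hom.left := ((Over.forget _).mapIso shear).isIso_hom
    haveI : IsOpenImmersion iO.left := inferInstanceAs (IsOpenImmersion ((fst G L).left ⁻¹ᵁ O).ι)
    haveI : IsOpenImmersion (e.left ≫ (i ▷ L).left) := by
      rw [← Over.comp_left, he, Over.comp_left]; infer_instance
    exact IsOpenImmersion.of_comp e.left (i ▷ L).left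
  have hq₀e : q₀ = e ≫ (q ▷ L) := by
    apply CartesianMonoidalCategory.hom_ext <;> simp [q₀, e]
  obtain ⟨_, _, _⟩ := fppf_whiskerRight q L
  haveI : Flat q₀.left := by rw [hq₀e, Over.comp_left]; infer_instance
  haveI : LocallyOfFinitePresentation q₀.left := by rw [hq₀e, Over.comp_left]; infer_instance
  -- its image
  let Nop : (V ⊗ L).left.Opens := ⟨Set.range q₀.left, q₀.left.isOpenMap.isOpen_range⟩
  let N := sub (V ⊗ L) Nop
  obtain ⟨q', hq'⟩ : ∃ q' : U' ⟶ N, q' ≫ subι (V ⊗ L) Nop = q₀ := exists_lift_sub Nop q₀ fun z => ⟨z, rfl⟩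
  haveI : IsOpenImmersion (subι (V ⊗ L) Nop).left := inferInstanceAs (IsOpenImmersion Nop.ι)
  have hq'l : q'.left ≫ Nop.ι = q₀.left := congrArg CommaMorphism.left hq'
  haveI : Surjective q'.left := ⟨fun y => by
    obtain ⟨z, hz⟩ := y.2
    refine ⟨z, Nop.ι.isOpenEmbedding.injective ?_⟩
    show (q'.left ≫ Nop.ι) z = _
    rw [hq'l]
    exact hz⟩
  haveI : Flat q'.left := by
    haveI : Flat (q'.left ≫ Nop.ι) := by rw [hq'l]; infer_instance
    exact MorphismProperty.of_postcomp (W := @Flat) (W' := @IsOpenImmersion) q'.left Nop.ι inferInstance ‹_›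
  haveI : LocallyOfFinitePresentation q'.left := by
    have sq : IsPullback (𝟙 U'.left) q'.left q₀.left Nop.ι :=
      ⟨⟨by rw [Category.id_comp, hq'l]⟩, ⟨PullbackCone.IsLimit.mk _ (fun c => c.fst) (fun c => Category.comp_id _)
        (fun c => (cancel_mono Nop.ι).1 (by rw [Category.assoc, hq'l, c.condition]))
        fun c m h₁ _ => by rw [← h₁, Category.comp_id]⟩⟩
    exact MorphismProperty.of_isPullback sq ‹LocallyOfFinitePresentation q₀.left›
  have hchN : ∀ (T : Over (Spec (CommRingCat.of k))) (x y : T ⟶ U'),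
      x ≫ q' = y ≫ q' ↔ Rel u (x ≫ aG) (y ≫ aG) ∧ x ≫ aL = y ≫ aL := fun T x y => by
    rw [← hq₀ T x y, ← hq', ← Category.assoc x, ← Category.assoc y]
    exact (cancel_mono _).symm
  let πL : N ⟶ L := subι _ _ ≫ snd V L
  have hπL : q' ≫ πL = aL := by simp [πL, reassoc_of% hq', q₀]
  -- changing the `L`-component
  obtain ⟨s₂, hs₂⟩ : ∃ s₂ : U' ⊗ L ⟶ U', s₂ ≫ iO = lift (fst U' L ≫ aG) (snd U' L) := by
    refine exists_lift_sub ((fst G L).left ⁻¹ᵁ O) (lift (fst U' L ≫ aG) (snd U' L)) fun z => ?_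
    show (fst G L).left _ ∈ O
    rw [← Scheme.Hom.comp_apply, ← Over.comp_left, lift_fst, Over.comp_left, Scheme.Hom.comp_apply,
      Over.comp_left, Scheme.Hom.comp_apply]
    exact ((fst U' L).left z).2
  have hs₂G : s₂ ≫ aG = fst U' L ≫ aG := by simp only [aG, iO, reassoc_of% hs₂, lift_fst]
  have hs₂L : s₂ ≫ aL = snd U' L := by simp only [aL, iO, reassoc_of% hs₂, lift_snd]
  obtain ⟨_, _, _⟩ := fppf_whiskerRight q' L
  haveI := epi_of_fppf (q' ▷ L)
  obtain ⟨θ, hθ⟩ := exists_descOver (q' ▷ L) (s₂ ≫ q') fun T x y h => by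
    have h1 : (x ≫ fst U' L) ≫ q' = (y ≫ fst U' L) ≫ q' := by
      simpa only [Category.assoc, whiskerRight_fst] using congrArg (· ≫ fst N L) h
    have h2 : x ≫ snd U' L = y ≫ snd U' L := by
      simpa only [Category.assoc, whiskerRight_snd] using congrArg (· ≫ snd N L) h
    rw [← Category.assoc, ← Category.assoc, hchN, Category.assoc, Category.assoc, Category.assoc, Category.assoc,
      hs₂G, hs₂L]
    rw [hchN, Category.assoc, Category.assoc] at h1
    exact ⟨h1.1, h2⟩
  have hθL : θ ≫ πL = snd N L := by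
    rw [← cancel_epi (q' ▷ L), reassoc_of% hθ, hπL, hs₂L, whiskerRight_snd]
  have hunit : lift (𝟙 N) πL ≫ θ = 𝟙 N := by
    haveI := epi_of_fppf q'
    rw [← cancel_epi q', Category.comp_id, ← Category.assoc]
    have : q' ≫ lift (𝟙 N) πL = lift (𝟙 U') aL ≫ (q' ▷ L) := by
      apply CartesianMonoidalCategory.hom_ext
      · simp only [Category.assoc, lift_fst, whiskerRight_fst, lift_fst_assoc, Category.comp_id, Category.id_comp]
      · simp only [Category.assoc, lift_snd, whiskerRight_snd, hπL]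
    rw [this, Category.assoc, hθ, ← Category.assoc]
    refine Eq.trans ?_ (Category.id_comp q')
    rw [hchN, Category.id_comp, Category.id_comp]
    refine ⟨⟨1, ?_⟩, ?_⟩
    · rw [Category.assoc, hs₂G, lift_fst_assoc, Category.id_comp, MonObj.one_comp, _root_.one_mul]
    · rw [Category.assoc, hs₂L, lift_snd]
  have hcoc : lift (fst (N ⊗ L) L ≫ θ) (snd (N ⊗ L) L) ≫ θ =
      lift (fst (N ⊗ L) L ≫ fst N L) (snd (N ⊗ L) L) ≫ θ := by
    obtain ⟨_, _, _⟩ := fppf_whiskerRight (q' ▷ L) L
    haveI := epi_of_fppf ((q' ▷ L) ▷ L)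
    rw [← cancel_epi ((q' ▷ L) ▷ L)]
    have h1 : ((q' ▷ L) ▷ L) ≫ lift (fst (N ⊗ L) L ≫ θ) (snd (N ⊗ L) L) =
        lift (fst (U' ⊗ L) L ≫ s₂) (snd (U' ⊗ L) L) ≫ (q' ▷ L) := by
      apply CartesianMonoidalCategory.hom_ext <;> simp [hθ]
    have h2 : ((q' ▷ L) ▷ L) ≫ lift (fst (N ⊗ L) L ≫ fst N L) (snd (N ⊗ L) L) =
        lift (fst (U' ⊗ L) L ≫ fst U' L) (snd (U' ⊗ L) L) ≫ (q' ▷ L) := by
      apply CartesianMonoidalCategory.hom_ext <;> simp
    rw [reassoc_of% h1, reassoc_of% h2, hθ, ← Category.assoc, ← Category.assoc, hchN]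
    refine ⟨⟨1, ?_⟩, ?_⟩
    · simp [hs₂G]
    · simp [hs₂L]
  have comp : ∀ {T : Over (Spec (CommRingCat.of k))} (n : T ⟶ N) (l₁ l₂ : T ⟶ L),
      lift (lift n l₂ ≫ θ) l₁ ≫ θ = lift n l₁ ≫ θ := fun {T} n l₁ l₂ => by
    have h := congrArg (lift (lift n l₂) l₁ ≫ ·) hcoc
    rw [← Category.assoc, ← Category.assoc, comp_lift, comp_lift, lift_fst_assoc, lift_snd,
      lift_fst_assoc, lift_fst] at h
    exact h
  have unit : ∀ {T : Over (Spec (CommRingCat.of k))} (n : T ⟶ N), lift n (n ≫ πL) ≫ θ = n := fun {T} n => by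
    have h := congrArg (n ≫ ·) hunit
    rwa [← Category.assoc, comp_lift, Category.comp_id] at h
  -- the finite equivalence relation on `N`
  have heq : AlgSp.IsEqvRel (fst N L) θ :=
    { injective := fun T r r' ht hs => by
        apply CartesianMonoidalCategory.hom_ext
        · exact hs
        · rw [← hθL, reassoc_of% ht]
      equivalence := fun T => by
        refine ⟨fun x => ⟨lift x (x ≫ πL), unit x, lift_fst _ _⟩, ?_, ?_⟩
        · rintro x y ⟨r, rfl, rfl⟩
          refine ⟨lift (r ≫ θ) ((r ≫ fst N L) ≫ πL), ?_, lift_fst _ _⟩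
          have h := comp (r ≫ fst N L) ((r ≫ fst N L) ≫ πL) (r ≫ snd N L)
          rwa [← comp_lift, lift_fst_snd, Category.comp_id, unit] at h
        · rintro x y z ⟨r, rfl, hr⟩ ⟨r', rfl, rfl⟩
          refine ⟨lift (r' ≫ fst N L) (r ≫ snd N L), ?_, lift_fst _ _⟩
          have h := comp (r' ≫ fst N L) (r ≫ snd N L) (r' ≫ snd N L)
          rw [← comp_lift r', lift_fst_snd, Category.comp_id, ← hr, ← comp_lift, lift_fst_snd,
            Category.comp_id] at h
          exact h.symm }
  obtain ⟨H, hHU, hHR, hHs, hHt, hHpU, hHpR⟩ :=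
    AlgSpDec.exists_groupoid_over (AlgSpPts.isPullback_quotMap heq)
  obtain ⟨HU, HR, pU, pR, gs, gt, ge, gi, gc, h1, h2, h3, h4, h5, h6, h7, h8, h9, h10, h11, h12, h13⟩ := H
  subst hHU hHR
  obtain rfl : gs = (fst N L).left := eq_of_heq hHs
  obtain rfl : gt = θ.left := eq_of_heq hHt
  obtain rfl : pU = N.hom := eq_of_heq hHpU
  obtain rfl : pR = (N ⊗ L).hom := eq_of_heq hHpR
  let H : Grpd.GroupoidScheme (Spec (CommRingCat.of k)) :=
    ⟨_, _, N.hom, (N ⊗ L).hom, _, _, ge, gi, gc, h1, h2, h3, h4, h5, h6, h7, h8, h9, h10, h11, h12, h13⟩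
  haveI : IsFinite (fst N L).left := MorphismProperty.pullback_fst (P := @IsFinite) _ _ ‹_›
  haveI : Flat (fst N L).left := MorphismProperty.pullback_fst (P := @Flat) _ _ ‹_›
  haveI : LocallyOfFinitePresentation (fst N L).left :=
    MorphismProperty.pullback_fst (P := @LocallyOfFinitePresentation) _ _ ‹_›
  have hfl : Mor2.IsFinLocFree H.s := ⟨‹IsFinite (fst N L).left›, ‹Flat (fst N L).left›, ‹LocallyOfFinitePresentation (fst N L).left›⟩
  haveI : IsAffine (V ⊗ L).left := by
    haveI : IsAffineHom (fst V L).left := MorphismProperty.pullback_fst (P := @IsAffineHom) _ _ inferInstance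
    exact isAffine_of_isAffineHom (fst V L).left
  obtain ⟨Y, m, hm, hmsurj, hpb, -⟩ := AlgSpDec.FinLocFreeQuot.exists_quotient H hfl heq fun Z _ hne => by
    obtain ⟨n, hn⟩ := hne
    let C : Set N.left := θ.left '' ((fst N L).left ⁻¹' {n})
    have hC : (Nop.ι '' C).Finite := (((fst N L).left.finite_preimage_singleton n).image _).image _
    obtain ⟨f, hf1, hf2⟩ := exists_basicOpen_of_finite (isAffineOpen_top (V ⊗ L).left) hC Nop
      (fun x _ => trivial) (by rintro _ ⟨c, -, rfl⟩; exact c.2)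
    refine ⟨n, hn, Nop.ι ⁻¹ᵁ (V ⊗ L).left.basicOpen f,
      ((isAffineOpen_top _).basicOpen f).preimage_of_isOpenImmersion Nop.ι
        (fun x hx => ⟨⟨x, hf2 hx⟩, rfl⟩), fun r hr => hf1 ⟨_, ⟨r, hr, rfl⟩, rfl⟩⟩
  haveI : Flat m.left := hm.2.1
  haveI : LocallyOfFinitePresentation m.left := hm.2.2
  haveI : Surjective m.left := hmsurj
  have hpbO : IsPullback θ (fst N L) m m :=
    IsPullback.of_map (Over.forget _) (f := θ) (g := fst N L) (h := m) (i := m)
      (Over.OverMorphism.ext hpb.w) hpb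
  -- the composite chart has the relation as kernel pair
  have key : ∀ (T : Over (Spec (CommRingCat.of k))) (x y : T ⟶ U'),
      x ≫ q' ≫ m = y ≫ q' ≫ m ↔ Rel u (x ≫ aG) (y ≫ aG) := by
    intro T x y
    -- `θ (q' y, l) = q' (y_G, l)`
    have hθy : ∀ l : T ⟶ L, lift (y ≫ q') l ≫ θ = lift y l ≫ s₂ ≫ q' := fun l => by
      have : lift (y ≫ q') l = lift y l ≫ (q' ▷ L) := by apply CartesianMonoidalCategory.hom_ext <;> simp
      rw [this, Category.assoc, hθ]
    constructor
    · intro h
      obtain ⟨r, hr1, hr2⟩ := hpbO.exists_lift (x ≫ q') (y ≫ q') (by simpa using h)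
      have hr : r = lift (y ≫ q') (r ≫ snd N L) := by
        rw [← hr2, ← comp_lift, lift_fst_snd, Category.comp_id]
      rw [hr, hθy, ← Category.assoc, hchN] at hr1
      have := hr1.1
      rw [Category.assoc, hs₂G, lift_fst_assoc] at this
      obtain ⟨f, hf⟩ := this
      exact ⟨f⁻¹, by rw [GrpObj.inv_comp, hf, inv_mul_cancel_left]⟩
    · intro h
      have h1 : lift (y ≫ q') (x ≫ aL) ≫ θ = x ≫ q' := by
        rw [hθy, ← Category.assoc, hchN, Category.assoc, Category.assoc, hs₂G, hs₂L, lift_fst_assoc, lift_snd]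
        obtain ⟨f, hf⟩ := h
        exact ⟨⟨f⁻¹, by rw [GrpObj.inv_comp, hf, inv_mul_cancel_left]⟩, rfl⟩
      rw [← Category.assoc, ← h1, ← Category.assoc y, Category.assoc, hpbO.w, ← Category.assoc, lift_fst]
  let Gr := AlgSpDec.ActGroupoid.gpd (leftAct u)
  haveI : Mono Gr.j := AlgSpDec.FinLocFreeQuot.mono_j Gr (isEqvRel u)
  haveI : Flat Gr.s := flat_snd
  haveI : LocallyOfFinitePresentation Gr.s := lfp_snd
  haveI : Flat Gr.t := flat_act u
  haveI : LocallyOfFinitePresentation Gr.t := lfp_act u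
  haveI : Flat aG.left := by
    haveI : Flat (fst G L).left := MorphismProperty.pullback_fst (P := @Flat) _ _ ‹_›
    rw [show aG = iO ≫ fst G L from rfl, Over.comp_left]
    haveI : IsOpenImmersion iO.left := inferInstanceAs (IsOpenImmersion ((fst G L).left ⁻¹ᵁ O).ι)
    infer_instance
  haveI : LocallyOfFinitePresentation aG.left := by
    haveI : LocallyOfFinitePresentation (fst G L).left :=
      MorphismProperty.pullback_fst (P := @LocallyOfFinitePresentation) _ _ ‹_›
    rw [show aG = iO ≫ fst G L from rfl, Over.comp_left]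
    haveI : IsOpenImmersion iO.left := inferInstanceAs (IsOpenImmersion ((fst G L).left ⁻¹ᵁ O).ι)
    infer_instance
  haveI : Flat (q'.left ≫ m.left) := inferInstance
  haveI : Surjective (q'.left ≫ m.left) := inferInstance
  haveI : LocallyOfFinitePresentation (q'.left ≫ m.left) := inferInstance
  refine GrpdThick.exists_quotData_of_chart Gr O hO (U' := U'.left) aG.left (fun z => ?_) (fun w hw => ?_)
    (Y := Y.left) (q'.left ≫ m.left) ?_
  · rw [show aG = iO ≫ fst G L from rfl, Over.comp_left, Scheme.Hom.comp_apply]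
    exact z.2
  · refine ⟨Gr.e w, ?_, ?_⟩
    · rw [← Scheme.Hom.comp_apply, Gr.e_s]; rfl
    · haveI : Surjective (fst G L).left := MorphismProperty.pullback_fst (P := @Surjective) _ _ ‹_›
      obtain ⟨z, hz⟩ := (fst G L).left.surjective w
      refine ⟨⟨z, show (fst G L).left z ∈ O by rw [hz]; exact hw⟩, ?_⟩
      rw [← Scheme.Hom.comp_apply Gr.e Gr.t, Gr.e_t, show aG = iO ≫ fst G L from rfl, Over.comp_left,
        Scheme.Hom.comp_apply]
      exact hz
  · -- the kernel pair
    have hw : ∀ {T : Scheme.{u}} (ρ : T ⟶ (F ⊗ G).left) (x : T ⟶ U'.left), ρ ≫ (leftAct u).act.left = x ≫ aG.left →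
        x ≫ U'.hom = ρ ≫ (F ⊗ G).hom := fun ρ x e => by
      rw [← Over.w aG, ← Category.assoc, ← e, Category.assoc, Over.w]
    have hw' : ∀ {T : Scheme.{u}} (ρ : T ⟶ (F ⊗ G).left) (x : T ⟶ U'.left), ρ ≫ (snd F G).left = x ≫ aG.left →
        x ≫ U'.hom = ρ ≫ (F ⊗ G).hom := fun ρ x e => by
      rw [← Over.w aG, ← Category.assoc, ← e, Category.assoc, Over.w]
    let Ob : Over (Spec (CommRingCat.of k)) := Over.mk (pbMid Gr aG.left ≫ (F ⊗ G).hom)
    let xT : Ob ⟶ U' := Over.homMk (pbT Gr aG.left) (hw _ _ (pbMid_t Gr aG.left))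
    let xS : Ob ⟶ U' := Over.homMk (pbS Gr aG.left) (hw' _ _ (pbMid_s Gr aG.left))
    let ρ₀ : Ob ⟶ F ⊗ G := Over.homMk (pbMid Gr aG.left) rfl
    have w : xT ≫ q' ≫ m = xS ≫ q' ≫ m := (key _ _ _).2 ((rel_iff u _ _).2
      ⟨ρ₀, Over.OverMorphism.ext (pbMid_t Gr aG.left), Over.OverMorphism.ext (pbMid_s Gr aG.left)⟩)
    refine ⟨⟨congrArg CommaMorphism.left w⟩, ⟨PullbackCone.isLimitAux' _ fun c => ?_⟩⟩
    have hc : c.snd ≫ U'.hom = c.fst ≫ U'.hom := by
      rw [← Over.w (q' ≫ m), ← Category.assoc, ← Category.assoc, Over.comp_left, c.condition]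
    let Tc : Over (Spec (CommRingCat.of k)) := Over.mk (c.fst ≫ U'.hom)
    let cx : Tc ⟶ U' := Over.homMk c.fst rfl
    let cy : Tc ⟶ U' := Over.homMk c.snd hc
    have hex := (rel_iff u _ _).1 ((key Tc cx cy).1 (Over.OverMorphism.ext c.condition))
    let r := hex.choose
    have hr1 := hex.choose_spec.1
    have hr2 := hex.choose_spec.2
    refine ⟨pbMk Gr aG.left r.left c.fst c.snd (congrArg CommaMorphism.left hr1) (congrArg CommaMorphism.left hr2),
      pbMk_t .., pbMk_s .., fun {l} hl1 hl2 => pb_hom_ext Gr aG.left ?_ ?_ ?_⟩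
    · refine (cancel_mono Gr.j).1 (pullback.hom_ext ?_ ?_)
      · simp only [Grpd.GroupoidScheme.j, Category.assoc, pullback.lift_fst]
        rw [pbMid_t, reassoc_of% (show l ≫ pbT Gr aG.left = c.fst from hl1), pbMk_t_assoc]
      · simp only [Grpd.GroupoidScheme.j, Category.assoc, pullback.lift_snd]
        rw [pbMid_s, reassoc_of% (show l ≫ pbS Gr aG.left = c.snd from hl2), pbMk_s_assoc]
    · exact hl1.trans (pbMk_t ..).symm
    · exact hl2.trans (pbMk_s ..).symm

end

end Groth.Agent.Deform.QuotDescent
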