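import Groth.Prelude.Def_AlgGrp
import Groth.Agent.GrpSchLib.ImageFactor
import Groth.Agent.GrpSchLib.MonoSubgroup
import Groth.Agent.GrpSchLib.HomFlat
import Groth.Agent.GrpSchLib.HomFinite
import Groth.Agent.GrpSchLib.AntiAffine
import Groth.Agent.Deform.TorusAlg
import Mathlib.CategoryTheory.Monoidal.CommGrp_
import Mathlib.CategoryTheory.Abelian.Basic
import Mathlib.CategoryTheory.Limits.Constructions.FiniteProductsOfBinaryProducts

/-!
# Categories of commutative algebraic groups over a field are abelian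

A class of commutative algebraic groups over a field stable under products, closed subgroups and
quotients by closed subgroups is an abelian category.
-/

set_option autoImplicit false
set_option linter.style.haveILetI false

universe u

open CategoryTheory CategoryTheory.Limits MonoidalCategory CartesianMonoidalCategory MonObj AlgebraicGeometry

attribute [local instance] CategoryTheory.Hom.monoid CategoryTheory.Hom.group

namespace Groth.Agent.Deform.AbelianCat

variable {k : Type u} [Field k]

/-- The class `P` consists of algebraic groups and is stable under products, closed subgroups, and quotients by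
closed subgroups. -/
structure IsGood (P : ObjectProperty (CommGrp (Over (Spec (CommRingCat.of k))))) : Prop where
  lft : ∀ G, P G → LocallyOfFiniteType G.X.hom
  qc : ∀ G, P G → QuasiCompact G.X.hom
  trivial : P (CommGrp.trivial _)
  prod : ∀ G H : CommGrp (Over (Spec (CommRingCat.of k))), P G → P H → P { X := G.X ⊗ H.X }
  sub : ∀ (G H : CommGrp (Over (Spec (CommRingCat.of k)))) (i : G.X ⟶ H.X) [IsMonHom i] [IsClosedImmersion i.left],
    P H → P G
  quot : ∀ (N G : CommGrp (Over (Spec (CommRingCat.of k)))) (i : N.X ⟶ G.X) [IsMonHom i] [IsClosedImmersion i.left],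
    P G → ∃ (Q : CommGrp (Over (Spec (CommRingCat.of k)))) (q : G.X ⟶ Q.X),
      P Q ∧ IsMonHom q ∧ Flat q.left ∧ Surjective q.left ∧ AlgGrp.IsKernel i q

/-- A faithfully flat homomorphism of algebraic groups is an epimorphism of schemes over the base. -/
theorem epi_of_ff {G Q : Over (Spec (CommRingCat.of k))} (q : G ⟶ Q) [Flat q.left] [Surjective q.left]
    [QuasiCompact q.left] : Epi q :=
  (Over.forget _).epi_of_epi_map (inferInstanceAs (Epi q.left))

theorem quasiCompact_hom {G Q : Over (Spec (CommRingCat.of k))} [GrpObj Q] (q : G ⟶ Q) [QuasiCompact G.hom] :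
    QuasiCompact q.left := by
  haveI := GrpSchLib.AntiAffine.isSeparated_grp Q
  haveI : QuasiCompact (q.left ≫ Q.hom) := by rw [Over.w q]; infer_instance
  exact QuasiCompact.of_comp q.left Q.hom

/-- Homomorphisms killing the kernel of a faithfully flat homomorphism descend. -/
theorem exists_desc {N G Q C : Over (Spec (CommRingCat.of k))} [GrpObj G] [GrpObj Q] [GrpObj C] (i : N ⟶ G)
    (q : G ⟶ Q) [IsMonHom q] [Flat q.left] [Surjective q.left] [QuasiCompact G.hom] (hi : AlgGrp.IsKernel i q)
    (g : G ⟶ C) [IsMonHom g] (hg : i ≫ g = 1) : ∃ e : Q ⟶ C, IsMonHom e ∧ q ≫ e = g := by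
  haveI : QuasiCompact q.left := quasiCompact_hom q
  have h : ∀ {T : Over (Spec (CommRingCat.of k))} (a b : T ⟶ G), a ≫ q = b ≫ q → a ≫ g = b ≫ g := by
    intro T a b hab
    have h1 : (a * b⁻¹) ≫ q = toUnit T ≫ η[Q] := by
      rw [MonObj.mul_comp, GrpObj.inv_comp, hab, mul_inv_cancel]
      rfl
    have h2 : (a * b⁻¹) ≫ g = 1 := by
      rw [← hi.lift_fst (a * b⁻¹) (toUnit T) h1, Category.assoc, hg, MonObj.comp_one]
    rwa [MonObj.mul_comp, GrpObj.inv_comp, mul_inv_eq_one] at h2
  let e₀ := EffectiveEpi.desc q.left g.left fun {W} g₁ g₂ hgg => by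
    let T : Over (Spec (CommRingCat.of k)) := Over.mk (g₁ ≫ G.hom)
    let a : T ⟶ G := Over.homMk g₁ rfl
    let b : T ⟶ G := Over.homMk g₂ (by
      show g₂ ≫ G.hom = g₁ ≫ G.hom
      rw [← Over.w q, reassoc_of% hgg])
    exact congrArg CommaMorphism.left (h a b (Over.OverMorphism.ext hgg))
  have he : q.left ≫ e₀ = g.left := EffectiveEpi.fac _ _ _
  let e : Q ⟶ C := Over.homMk e₀ (by rw [← cancel_epi q.left, reassoc_of% he, Over.w g, Over.w q])
  have hqe : q ≫ e = g := Over.OverMorphism.ext he
  refine ⟨e, ?_, hqe⟩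
  haveI := epi_of_ff q
  haveI : Flat (q ▷ G).left := GrpSchLib.property_whiskerRight q G @Flat inferInstance
  haveI : Surjective (q ▷ G).left := GrpSchLib.property_whiskerRight q G @Surjective inferInstance
  haveI : QuasiCompact (q ▷ G).left := GrpSchLib.property_whiskerRight q G @QuasiCompact inferInstance
  haveI := epi_of_ff (q ▷ G)
  haveI : Flat (q ▷ Q).left := GrpSchLib.property_whiskerRight q Q @Flat inferInstance
  haveI : Surjective (q ▷ Q).left := GrpSchLib.property_whiskerRight q Q @Surjective inferInstance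
  haveI : QuasiCompact (q ▷ Q).left := GrpSchLib.property_whiskerRight q Q @QuasiCompact inferInstance
  haveI := epi_of_ff (q ▷ Q)
  haveI : Epi (q ⊗ₘ q) := by
    rw [show q ⊗ₘ q = (q ▷ G) ≫ (β_ Q G).hom ≫ (q ▷ Q) ≫ (β_ Q Q).hom by ext : 1 <;> simp]
    infer_instance
  exact
    { one_hom := by rw [← IsMonHom.one_hom q, Category.assoc, hqe, IsMonHom.one_hom g]
      mul_hom := by
        rw [← cancel_epi (q ⊗ₘ q), ← IsMonHom.mul_hom_assoc, hqe, IsMonHom.mul_hom g,
          MonoidalCategory.tensorHom_comp_tensorHom_assoc, hqe] }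

/-- The kernel of a homomorphism of commutative algebraic groups. -/
theorem exists_kernel {G H : CommGrp (Over (Spec (CommRingCat.of k)))} (f : G.X ⟶ H.X) [IsMonHom f] :
    ∃ (N : CommGrp (Over (Spec (CommRingCat.of k)))) (i : N.X ⟶ G.X),
      IsMonHom i ∧ IsClosedImmersion i.left ∧ AlgGrp.IsKernel i f := by
  let N := pullback f η[H.X]
  let i : N ⟶ G.X := pullback.fst f η[H.X]
  have hi : AlgGrp.IsKernel i f := by
    have h := IsPullback.of_hasPullback f η[H.X]
    rwa [toUnit_unique (pullback.snd f η[H.X]) (toUnit N)] at h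
  haveI : IsClosedImmersion i.left := by
    haveI := GrpSchLib.AntiAffine.isSeparated_grp H.X
    haveI : IsClosedImmersion (η[H.X]).left := inferInstance
    exact MorphismProperty.of_isPullback (P := @IsClosedImmersion) (hi.map (Over.forget _)).flip ‹_›
  haveI : Mono i := (Over.forget _).mono_of_mono_map (inferInstanceAs (Mono i.left))
  have hc : i ≫ f = 1 := by rw [hi.w]; rfl
  obtain ⟨str, hstr⟩ := GrpSchLib.exists_grpObj_of_mono i
    (hi.lift η[G.X] (toUnit _) (by
      rw [IsMonHom.one_hom f, toUnit_unique (toUnit (𝟙_ (Over (Spec (CommRingCat.of k))))) (𝟙 _), Category.id_comp]))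
    (hi.lift_fst _ _ _)
    (hi.lift ((fst N N ≫ i) * (snd N N ≫ i)) (toUnit _) (by
      simp only [MonObj.mul_comp, Category.assoc, hc, MonObj.comp_one, _root_.mul_one]
      rfl))
    (hi.lift_fst _ _ _)
    (hi.lift i⁻¹ (toUnit _) (by
      simp only [GrpObj.inv_comp, hc, inv_one]
      rfl))
    (hi.lift_fst _ _ _)
  letI := str
  haveI := hstr
  haveI : IsCommMonObj N :=
    ⟨by rw [← cancel_mono i, Category.assoc, IsMonHom.mul_hom i, ← BraidedCategory.braiding_naturality_assoc,
      IsCommMonObj.mul_comm]⟩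
  exact ⟨{ X := N }, i, hstr, inferInstance, hi⟩

variable (P : ObjectProperty (CommGrp (Over (Spec (CommRingCat.of k)))))

/-- The underlying morphism. -/
abbrev un {X Y : P.FullSubcategory} (f : X ⟶ Y) : X.obj.X ⟶ Y.obj.X := f.hom.hom.hom.hom

/-- A homomorphism as a morphism of the category. -/
noncomputable def mkHom {X Y : P.FullSubcategory} (g : X.obj.X ⟶ Y.obj.X) [IsMonHom g] : X ⟶ Y :=
  ObjectProperty.homMk (InducedCategory.homMk (Grp.ofHom (A := X.obj.X) (B := Y.obj.X) g))

theorem un_mkHom {X Y : P.FullSubcategory} (g : X.obj.X ⟶ Y.obj.X) [IsMonHom g] : un P (mkHom P g) = g := rfl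

theorem un_ext {X Y : P.FullSubcategory} {f g : X ⟶ Y} (h : un P f = un P g) : f = g :=
  ObjectProperty.hom_ext _ (CommGrp.hom_ext _ _ h)

theorem un_comp {X Y Z : P.FullSubcategory} (f : X ⟶ Y) (g : Y ⟶ Z) : un P (f ≫ g) = un P f ≫ un P g := rfl

instance isMonHom_un {X Y : P.FullSubcategory} (f : X ⟶ Y) : IsMonHom (un P f) := f.hom.hom.hom.isMonHom_hom

/-- Homomorphisms into a commutative group form a group. -/
noncomputable abbrev addGroupHom (X Y : P.FullSubcategory) : AddCommGroup (X ⟶ Y) :=
  letI : CommGroup (X.obj.toGrp ⟶ Y.obj.toGrp) := inferInstance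
  (show (X ⟶ Y) ≃ Additive (X.obj.toGrp ⟶ Y.obj.toGrp) from
    { toFun := fun f => Additive.ofMul f.hom.hom
      invFun := fun g => ObjectProperty.homMk (InducedCategory.homMk (Additive.toMul g))
      left_inv := fun _ => rfl
      right_inv := fun _ => rfl }).addCommGroup

/-- The category is preadditive. -/
noncomputable abbrev preadditive : Preadditive P.FullSubcategory where
  homGroup := addGroupHom P
  add_comp _ _ _ f f' g := un_ext P (MonObj.mul_comp (un P f) (un P f') (un P g))
  comp_add _ _ _ f g g' := un_ext P (MonObj.comp_mul (un P f) (un P g) (un P g'))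

attribute [local instance] preadditive

theorem un_zero {X Y : P.FullSubcategory} : un P (0 : X ⟶ Y) = 1 := rfl

theorem comp_eq_zero_iff {X Y Z : P.FullSubcategory} (f : X ⟶ Y) (g : Y ⟶ Z) :
    f ≫ g = 0 ↔ un P f ≫ un P g = 1 :=
  ⟨fun h => (un_comp P f g).symm.trans ((congrArg (fun w => un P w) h).trans (un_zero P)),
    fun h => un_ext P ((un_comp P f g).trans (h.trans (un_zero P).symm))⟩

variable {P} (hP : IsGood P)

/-- A kernel square gives a kernel in the category. -/
noncomputable def isLimitFork {N X Y : P.FullSubcategory} (ι₀ : N ⟶ X) (f : X ⟶ Y)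
    (hk : AlgGrp.IsKernel (un P ι₀) (un P f)) (w : ι₀ ≫ f = 0) : IsLimit (KernelFork.ofι ι₀ w) :=
  haveI : Mono (un P ι₀) := ⟨fun a b h => hk.hom_ext h (toUnit_unique _ _)⟩
  KernelFork.IsLimit.ofι ι₀ w
    (fun {W} g hg => haveI : IsMonHom (hk.lift (un P g) (toUnit _) ((comp_eq_zero_iff P g f).mp hg)) :=
        Deform.isMonHom_of_comp _ (un P ι₀) (hk.lift_fst _ _ _)
      mkHom P (hk.lift (un P g) (toUnit _) ((comp_eq_zero_iff P g f).mp hg)))
    (fun {W} g hg => un_ext P (hk.lift_fst _ _ _))
    (fun {W} g hg m hm => un_ext P (by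
      rw [← cancel_mono (un P ι₀), ← un_comp, hm]
      exact (hk.lift_fst _ _ _).symm))

include hP in
theorem hasKernels : HasKernels P.FullSubcategory where
  has_limit {X Y} f := by
    obtain ⟨N, i, hi, hic, hk⟩ := exists_kernel (un P f)
    haveI := hi; haveI := hic
    let NP : P.FullSubcategory := ⟨N, hP.sub N X.obj i X.property⟩
    exact HasLimit.mk ⟨_, isLimitFork (mkHom P (X := NP) i) f hk ((comp_eq_zero_iff P _ f).mpr (by
      rw [un_mkHom, hk.w]; rfl))⟩

/-- A quotient square gives a cokernel in the category. -/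
theorem exists_isColimit_cofork {N X Q : P.FullSubcategory} (hX : QuasiCompact X.obj.X.hom) {W : P.FullSubcategory}
    (f : W ⟶ X) (π : X ⟶ Q) [Flat (un P π).left] [Surjective (un P π).left] (i : N ⟶ X)
    (hk : AlgGrp.IsKernel (un P i) (un P π))
    (hf : ∀ (Z : P.FullSubcategory) (g : X ⟶ Z), f ≫ g = 0 → i ≫ g = 0)
    (w : f ≫ π = 0) : Nonempty (IsColimit (CokernelCofork.ofπ π w)) := by
  haveI := hX
  haveI := quasiCompact_hom (un P π)
  haveI := epi_of_ff (un P π)
  choose e he hπe using fun (Z : P.FullSubcategory) (g : X ⟶ Z) (hg : f ≫ g = 0) =>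
    exists_desc (un P i) (un P π) hk (un P g) ((comp_eq_zero_iff P i g).mp (hf Z g hg))
  exact ⟨CokernelCofork.IsColimit.ofπ π w
    (fun {Z} g hg => haveI := he Z g hg; mkHom P (e Z g hg))
    (fun {Z} g hg => un_ext P (hπe Z g hg))
    (fun {Z} g hg m hm => un_ext P (by
      rw [← cancel_epi (un P π), ← un_comp, hm]
      exact (hπe Z g hg).symm))⟩

include hP in
/-- The image of a morphism, with the quotient by it. -/
theorem exists_image_quot {W X : P.FullSubcategory} (f : W ⟶ X) :
    ∃ (I Q : P.FullSubcategory) (p : W ⟶ I) (i : I ⟶ X) (π : X ⟶ Q),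
      p ≫ i = f ∧ Flat (un P p).left ∧ Surjective (un P p).left ∧ Flat (un P π).left ∧
      Surjective (un P π).left ∧ AlgGrp.IsKernel (un P i) (un P π) := by
  haveI := hP.lft _ W.property; haveI := hP.qc _ W.property
  haveI := hP.lft _ X.property; haveI := hP.qc _ X.property
  obtain ⟨I, gI, p, i, hp, hi, hpi, hic, hfl, hs, -, -⟩ := GrpSchLib.ImageFactor.exists_image (un P f)
  haveI := hp; haveI := hi; haveI := hic
  haveI : Mono i := (Over.forget _).mono_of_mono_map (inferInstanceAs (Mono i.left))
  haveI : IsCommMonObj I :=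
    ⟨by rw [← cancel_mono i, Category.assoc, IsMonHom.mul_hom i, ← BraidedCategory.braiding_naturality_assoc,
      IsCommMonObj.mul_comm]⟩
  let IP : P.FullSubcategory := ⟨{ X := I }, hP.sub { X := I } X.obj i X.property⟩
  obtain ⟨Q, q, hQ, hq, hqf, hqs, hk⟩ := hP.quot { X := I } X.obj i X.property
  haveI := hq
  exact ⟨IP, ⟨Q, hQ⟩, mkHom P (X := W) (Y := IP) p, mkHom P (X := IP) i, mkHom P (Y := ⟨Q, hQ⟩) q,
    un_ext P hpi, hfl, hs, hqf, hqs, hk⟩

include hP in
theorem cancel_ff {W I Z : P.FullSubcategory} (p : W ⟶ I) [Flat (un P p).left] [Surjective (un P p).left]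
    (g : I ⟶ Z) (h : p ≫ g = 0) : g = 0 := by
  haveI := hP.qc _ W.property
  haveI := quasiCompact_hom (un P p)
  haveI := epi_of_ff (un P p)
  refine un_ext P ((cancel_epi (un P p)).mp ?_)
  rw [(comp_eq_zero_iff P p g).mp h, un_zero, MonObj.comp_one]

include hP in
theorem hasCokernels : HasCokernels P.FullSubcategory where
  has_colimit {W X} f := by
    obtain ⟨I, Q, p, i, π, hpi, hpf, hps, hπf, hπs, hk⟩ := exists_image_quot hP f
    haveI := hpf; haveI := hps; haveI := hπf; haveI := hπs
    have w : f ≫ π = 0 := by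
      rw [← hpi, Category.assoc, (comp_eq_zero_iff P i π).mpr (by rw [hk.w]; rfl), comp_zero]
    obtain ⟨h⟩ := exists_isColimit_cofork (hP.qc _ X.property) f π i hk
      (fun Z g hg => cancel_ff hP p (i ≫ g) (by rw [← Category.assoc, hpi, hg])) w
    exact HasColimit.mk ⟨_, h⟩

include hP in
theorem isNormalMonoCategory : IsNormalMonoCategory P.FullSubcategory where
  normalMonoOfMono {W X} f hf := by
    haveI := hP.lft _ W.property; haveI := hP.qc _ W.property
    haveI := hP.lft _ X.property; haveI := hP.qc _ X.property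
    obtain ⟨N, n, hn, hnc, hkn⟩ := exists_kernel (un P f)
    haveI := hn; haveI := hnc
    let NP : P.FullSubcategory := ⟨N, hP.sub N W.obj n W.property⟩
    have hn0 : mkHom P (X := NP) n = 0 := by
      rw [← cancel_mono f, zero_comp]
      exact (comp_eq_zero_iff P _ f).mpr (by rw [un_mkHom, hkn.w]; rfl)
    have hn1 : n = 1 := (congrArg (fun w => un P w) hn0).trans (un_zero P)
    haveI : Mono (un P f) := by
      refine ⟨fun {T} a b hab => ?_⟩
      have h1 : (a * b⁻¹) ≫ un P f = toUnit T ≫ η[X.obj.X] := by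
        rw [MonObj.mul_comp, GrpObj.inv_comp, hab, mul_inv_cancel]
        rfl
      obtain ⟨l, h2, -⟩ := hkn.exists_lift (a * b⁻¹) (toUnit T) h1
      rw [hn1, MonObj.comp_one] at h2
      exact mul_inv_eq_one.mp h2.symm
    haveI : Mono (un P f).left := (Over.forget _).map_mono (un P f)
    haveI := quasiCompact_hom (un P f)
    haveI : LocallyOfFiniteType ((un P f).left ≫ X.obj.X.hom) := by rw [Over.w]; infer_instance
    haveI : LocallyOfFiniteType (un P f).left := locallyOfFiniteType_of_comp (un P f).left X.obj.X.hom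
    haveI := GrpSchLib.AntiAffine.isSeparated_grp W.obj.X
    haveI : IsFinite (un P f).left := GrpSchLib.HomFinite.isFinite (un P f)
    haveI : IsClosedImmersion (un P f).left :=
      (IsClosedImmersion.iff_isFinite_and_mono _).mpr ⟨inferInstance, inferInstance⟩
    obtain ⟨Q, q, hQ, hq, hqf, hqs, hk⟩ := hP.quot W.obj X.obj (un P f) X.property
    haveI := hq
    let π : X ⟶ ⟨Q, hQ⟩ := mkHom P (Y := ⟨Q, hQ⟩) q
    have w : f ≫ π = 0 := (comp_eq_zero_iff P f π).mpr (by rw [un_mkHom, hk.w]; rfl)
    exact ⟨⟨_, π, w, isLimitFork f π hk w⟩⟩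

include hP in
theorem isNormalEpiCategory : IsNormalEpiCategory P.FullSubcategory where
  normalEpiOfEpi {W X} f hf := by
    obtain ⟨I, Q, p, i, π, hpi, hpf, hps, hπf, hπs, hk⟩ := exists_image_quot hP f
    have hπ0 : π = 0 := by
      rw [← cancel_epi f, comp_zero, ← hpi, Category.assoc,
        (comp_eq_zero_iff P i π).mpr (by rw [hk.w]; rfl), comp_zero]
    haveI : IsIso (un P i) := by
      haveI : Mono (un P i) := ⟨fun a b h => hk.hom_ext h (toUnit_unique _ _)⟩
      let s := hk.lift (𝟙 X.obj.X) (toUnit _) (by rw [Category.id_comp, hπ0, un_zero]; rfl)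
      have hs : s ≫ un P i = 𝟙 _ := hk.lift_fst _ _ _
      exact ⟨s, by rw [← cancel_mono (un P i), Category.assoc, hs, Category.comp_id, Category.id_comp], hs⟩
    haveI : IsIso (un P i).left := inferInstanceAs (IsIso ((Over.forget _).map (un P i)))
    haveI := hpf; haveI := hps
    have hfl : (un P f).left = (un P p).left ≫ (un P i).left := by
      rw [← Over.comp_left, ← un_comp, hpi]
    haveI : Flat (un P f).left := by rw [hfl]; infer_instance
    haveI : Surjective (un P f).left := by rw [hfl]; infer_instance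
    obtain ⟨N, n, hn, hnc, hkn⟩ := exists_kernel (un P f)
    haveI := hn; haveI := hnc
    let NP : P.FullSubcategory := ⟨N, hP.sub N W.obj n W.property⟩
    let ι₀ : NP ⟶ W := mkHom P (X := NP) n
    have w : ι₀ ≫ f = 0 := (comp_eq_zero_iff P ι₀ f).mpr (by rw [un_mkHom, hkn.w]; rfl)
    obtain ⟨h⟩ := exists_isColimit_cofork (hP.qc _ W.property) ι₀ f ι₀ hkn (fun _ _ hg => hg) w
    exact ⟨⟨NP, ι₀, w, h⟩⟩

include hP in
theorem hasFiniteProducts : HasFiniteProducts P.FullSubcategory := by
  haveI : HasTerminal P.FullSubcategory := by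
    let Z : P.FullSubcategory := ⟨CommGrp.trivial _, hP.trivial⟩
    haveI : ∀ W : P.FullSubcategory, Unique (W ⟶ Z) := fun W =>
      { default := mkHom P (Y := Z) (1 : W.obj.X ⟶ Z.obj.X)
        uniq := fun g => un_ext P (toUnit_unique _ _) }
    exact hasTerminal_of_unique Z
  haveI : HasBinaryProducts P.FullSubcategory := by
    refine @hasBinaryProducts_of_hasLimit_pair _ _ ?_
    intro X Y
    let XY : P.FullSubcategory := ⟨{ X := X.obj.X ⊗ Y.obj.X }, hP.prod _ _ X.property Y.property⟩
    haveI : IsMonHom (fst X.obj.X Y.obj.X) := inferInstance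
    haveI : IsMonHom (snd X.obj.X Y.obj.X) := inferInstance
    refine HasLimit.mk ⟨BinaryFan.mk (mkHom P (X := XY) (fst X.obj.X Y.obj.X)) (mkHom P (X := XY) (snd X.obj.X Y.obj.X)),
      BinaryFan.IsLimit.mk _ (fun {W} f g => mkHom P (Y := XY) (lift (un P f) (un P g)))
        (fun {W} f g => un_ext P (lift_fst _ _)) (fun {W} f g => un_ext P (lift_snd _ _))
        (fun {W} f g m h1 h2 => un_ext P ?_)⟩
    apply CartesianMonoidalCategory.hom_ext
    · exact (congrArg (fun w => un P w) h1).trans (lift_fst _ _).symm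
    · exact (congrArg (fun w => un P w) h2).trans (lift_snd _ _).symm
  exact hasFiniteProducts_of_has_binary_and_terminal

include hP in
/-- A good class of commutative algebraic groups is an abelian category. -/
theorem nonempty_abelian : Nonempty (Abelian P.FullSubcategory) := by
  haveI := isNormalMonoCategory hP
  haveI := isNormalEpiCategory hP
  exact ⟨{ has_finite_products := hasFiniteProducts hP
           has_kernels := hasKernels hP
           has_cokernels := hasCokernels hP }⟩

end Groth.Agent.Deform.AbelianCat
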