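import Mathlib.AlgebraicGeometry.Noetherian
import Mathlib.AlgebraicGeometry.Limits

/-!
# A dense affine open of a Noetherian scheme
-/

set_option linter.style.haveILetI false

universe u

open CategoryTheory AlgebraicGeometry TopologicalSpace

namespace Groth.Agent.Deform.AffineDense

/-- A Noetherian scheme has a dense affine open. -/
theorem exists_affine_dense (Z : Scheme.{u}) [IsNoetherian Z] :
    ∃ V : Z.Opens, IsAffineOpen V ∧ Dense (V : Set Z) := by
  classical
  have hfin : (irreducibleComponents Z).Finite := NoetherianSpace.finite_irreducibleComponents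
  have := hfin.to_subtype
  let O : irreducibleComponents Z → Set Z := fun C => (⋃ D ∈ irreducibleComponents Z \ {C.1}, D)ᶜ
  have hO : ∀ C, IsOpen (O C) := fun C =>
    (hfin.sdiff.isClosed_biUnion fun D hD => isClosed_of_mem_irreducibleComponents D hD.1).isOpen_compl
  have hne : ∀ C : irreducibleComponents Z, (C.1 ∩ O C).Nonempty := fun C => by
    by_contra hc
    have hsub : C.1 ⊆ ⋃ D ∈ irreducibleComponents Z \ {C.1}, D := fun x hx => by
      by_contra hx'
      exact hc ⟨x, hx, hx'⟩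
    obtain ⟨D, hD, hCD⟩ := isIrreducible_iff_sUnion_isClosed.1 C.2.1
      (hfin.sdiff (t := {C.1})).toFinset
      (fun D hD => isClosed_of_mem_irreducibleComponents D ((hfin.sdiff).mem_toFinset.1 hD).1)
      (by
        intro x hx
        obtain ⟨D, hD, hxD⟩ := Set.mem_iUnion₂.1 (hsub hx)
        exact Set.mem_sUnion.2 ⟨D, (hfin.sdiff).mem_toFinset.2 hD, hxD⟩)
    obtain ⟨hD1, hD2⟩ := (hfin.sdiff).mem_toFinset.1 hD
    exact hD2 (Set.mem_singleton_iff.2 (subset_antisymm (C.2.2 hD1.1 hCD) hCD))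
  choose x hxC hxO using hne
  have hA : ∀ C, ∃ A : Z.Opens, IsAffineOpen A ∧ x C ∈ A ∧ (A : Set Z) ⊆ O C := fun C => by
    obtain ⟨_, ⟨A, hA, rfl⟩, hxA, hAO⟩ :=
      Z.isBasis_affineOpens.exists_subset_of_mem_open (hxO C) (hO C)
    exact ⟨A, hA, hxA, hAO⟩
  choose A hA hxA hAO using hA
  have hdisj : Pairwise (Function.onFun Disjoint A) := fun C D hCD => by
    show Disjoint (A C) (A D)
    rw [← Opens.coe_disjoint, Set.disjoint_left]
    intro y hyC hyD
    obtain ⟨E, hE, hyE⟩ : ∃ E ∈ irreducibleComponents Z, y ∈ E :=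
      ⟨_, irreducibleComponent_mem_irreducibleComponents y, mem_irreducibleComponent⟩
    have h1 : E = C.1 := by
      by_contra h
      exact hAO C hyC (Set.mem_biUnion (x := E) ⟨hE, h⟩ hyE)
    have h2 : E = D.1 := by
      by_contra h
      exact hAO D hyD (Set.mem_biUnion (x := E) ⟨hE, h⟩ hyE)
    exact hCD (Subtype.ext (h1.symm.trans h2))
  refine ⟨⨆ C, A C, IsAffineOpen.iSup_of_disjoint hA hdisj, dense_iff_inter_open.2 fun Ω hΩ ⟨y, hy⟩ => ?_⟩
  let C : irreducibleComponents Z :=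
    ⟨irreducibleComponent y, irreducibleComponent_mem_irreducibleComponents y⟩
  obtain ⟨z, hzC, hzΩ, hzA⟩ :=
    C.2.1.2 Ω (A C) hΩ (A C).2 ⟨y, mem_irreducibleComponent, hy⟩ ⟨x C, hxC C, hxA C⟩
  exact ⟨z, hzΩ, Opens.mem_iSup.2 ⟨C, hzA⟩⟩

end Groth.Agent.Deform.AffineDense
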