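import Groth.Agent.GrpSchLib.AffineHopf
import Groth.Agent.MultTypeLib.SmoothLift
import Groth.Agent.RingPO.Affine
import Groth.Agent.Deform.MultHopf

/-!
# Averaging deformations of homomorphisms into an arbitrary group scheme

Points congruent to one modulo a square-zero ideal are values, under an evaluation map, of points over a fibre product
ring; linear maps act on the latter, so an invariant mean averages cocycles.
-/

set_option autoImplicit false
set_option linter.style.haveILetI false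
set_option linter.unusedSectionVars false
set_option backward.isDefEq.respectTransparency false
set_option backward.isDefEq.respectTransparency.types false

universe u

open CategoryTheory CategoryTheory.Limits MonoidalCategory CartesianMonoidalCategory AlgebraicGeometry
open TensorProduct WithConv

attribute [local instance] CategoryTheory.Hom.monoid CategoryTheory.Hom.group

namespace Groth.Agent.Deform

open GrpSchLib.AffineHopf (sp spMap spMap_comp spMap_id spMap_mul)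

section Ext

variable {R : Type u} [CommRing R] (J : Ideal R) {T T' T'' U U' : Type u} [CommRing T] [CommRing T'] [CommRing T'']
  [CommRing U] [CommRing U'] [Algebra R T] [Algebra R T'] [Algebra R T''] [Algebra R U] [Algebra R U']

/-- Reduction. -/
noncomputable abbrev red (T' : Type u) [CommRing T'] [Algebra R T'] :
    T' →ₐ[R] T' ⧸ J.map (algebraMap R T') := Ideal.Quotient.mkₐ R _

/-- The infinitesimal neighbourhood of a map of algebras. -/
noncomputable def E (ι : T →ₐ[R] T') : Subalgebra R (T × T') :=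
  AlgHom.equalizer ((red J T').comp (AlgHom.snd R T T')) ((red J T').comp (ι.comp (AlgHom.fst R T T')))

variable {J}

theorem mem_E {ι : T →ₐ[R] T'} {z : T × T'} :
    z ∈ E J ι ↔ z.2 - ι z.1 ∈ J.map (algebraMap R T') :=
  Ideal.Quotient.eq

/-- The two projections. -/
noncomputable def pFst (ι : T →ₐ[R] T') : E J ι →ₐ[R] T := (AlgHom.fst R T T').comp (E J ι).val

/-- The two projections. -/
noncomputable def pSnd (ι : T →ₐ[R] T') : E J ι →ₐ[R] T' := (AlgHom.snd R T T').comp (E J ι).val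

/-- The canonical section. -/
noncomputable def sect (ι : T →ₐ[R] T') : T →ₐ[R] E J ι :=
  ((AlgHom.id R T).prod ι).codRestrict _ fun t => mem_E.mpr (by simp)

theorem pFst_sect (ι : T →ₐ[R] T') : (pFst ι).comp (sect (J := J) ι) = AlgHom.id R T := rfl

theorem pSnd_sect (ι : T →ₐ[R] T') : (pSnd ι).comp (sect (J := J) ι) = ι := rfl

/-- Functoriality. -/
noncomputable def mapE (ι : T →ₐ[R] T') (ι' : U →ₐ[R] U') (ψ : T →ₐ[R] U) (φ : T' →ₐ[R] U')
    (h : φ.comp ι = ι'.comp ψ) : E J ι →ₐ[R] E J ι' :=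
  ((ψ.comp (pFst ι)).prod (φ.comp (pSnd ι))).codRestrict _ fun z => mem_E.mpr (by
    show φ z.1.2 - ι' (ψ z.1.1) ∈ _
    rw [← show φ (ι z.1.1) = ι' (ψ z.1.1) from AlgHom.congr_fun h _, ← map_sub, ← Ideal.mem_comap]
    refine (Ideal.map_le_iff_le_comap.mpr fun r hr => ?_) (mem_E.mp z.2)
    show φ (algebraMap R T' r) ∈ J.map (algebraMap R U')
    rw [φ.commutes]
    exact Ideal.mem_map_of_mem _ hr)

theorem map_mem {M N : Type u} [CommRing M] [CommRing N] [Algebra R M] [Algebra R N] (L : M →ₗ[R] N) {x : M}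
    (hx : x ∈ J.map (algebraMap R M)) : L x ∈ J.map (algebraMap R N) := by
  have h : x ∈ (J • ⊤ : Submodule R M) := by rw [Ideal.smul_top_eq_map]; exact hx
  have h2 := MultTypeLib.map_smul_top L h
  rwa [Ideal.smul_top_eq_map] at h2

/-- A semilinear map becomes an algebra map on the neighbourhood. -/
noncomputable def lMap (hJ : J ^ 2 = ⊥) (ι : T →ₐ[R] T') (ι'' : T →ₐ[R] T'') (L : T' →ₗ[R] T'')
    (hL : ∀ t a, L (ι t * a) = ι'' t * L a) (hL1 : L 1 = 1) : E J ι →ₐ[R] T'' :=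
  AlgHom.ofLinearMap (L ∘ₗ (pSnd ι).toLinearMap) hL1 fun z w => by
    have hi : ∀ t, L (ι t) = ι'' t := fun t => by simpa [hL1] using hL t 1
    have h0 : ∀ {M : Type u} [CommRing M] [Algebra R M] {x y : M}, x ∈ J.map (algebraMap R M) →
        y ∈ J.map (algebraMap R M) → x * y = 0 := fun {M} _ _ {x y} hx hy => by
      have h := Ideal.mul_mem_mul hx hy
      rw [← Ideal.map_mul, ← pow_two, hJ, Ideal.map_bot, Submodule.mem_bot] at h
      exact h
    obtain ⟨δ, hδ, ez⟩ : ∃ δ, δ ∈ J.map (algebraMap R T') ∧ z.1.2 = ι z.1.1 + δ :=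
      ⟨_, mem_E.mp z.2, (add_sub_cancel _ _).symm⟩
    obtain ⟨ε, hε, ew⟩ : ∃ ε, ε ∈ J.map (algebraMap R T') ∧ w.1.2 = ι w.1.1 + ε :=
      ⟨_, mem_E.mp w.2, (add_sub_cancel _ _).symm⟩
    show L (z.1.2 * w.1.2) = L z.1.2 * L w.1.2
    have e1 : (ι z.1.1 + δ) * (ι w.1.1 + ε) = ι (z.1.1 * w.1.1) + ι z.1.1 * ε + ι w.1.1 * δ + δ * ε := by
      rw [map_mul]; ring
    rw [ez, ew, e1, h0 hδ hε, add_zero, map_add, map_add, hi, hL, hL, map_mul, map_add, map_add, hi, hi]
    linear_combination -(h0 (map_mem L hδ) (map_mem L hε))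

theorem lMap_apply (hJ : J ^ 2 = ⊥) (ι : T →ₐ[R] T') (ι'' : T →ₐ[R] T'') (L : T' →ₗ[R] T'')
    (hL : ∀ t a, L (ι t * a) = ι'' t * L a) (hL1 : L 1 = 1) (z : E J ι) :
    lMap hJ ι ι'' L hL hL1 z = L z.1.2 := rfl

theorem isFibreProd (ι : T →ₐ[R] T') :
    RingPO.IsFibreProd (red J T').toRingHom ((red J T').comp ι).toRingHom (pSnd (J := J) ι).toRingHom
      (pFst (J := J) ι).toRingHom where
  surj := Ideal.Quotient.mk_surjective
  comm z := z.2
  ext z z' h1 h2 := Subtype.ext (Prod.ext h2 h1)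
  exists_of_eq b a h := ⟨⟨(b, a), h⟩, rfl, rfl⟩

variable {G : Over (Spec (CommRingCat.of R))}

/-- Points over the neighbourhood are pairs of congruent points. -/
theorem existsUnique_ext (ι : T →ₐ[R] T') (x : sp R T' ⟶ G) (y : sp R T ⟶ G)
    (h : spMap (red J T') ≫ x = spMap ((red J T').comp ι) ≫ y) :
    ∃! z : sp R (E J ι) ⟶ G, spMap (pSnd ι) ≫ z = x ∧ spMap (pFst ι) ≫ z = y := by
  have hp := (isFibreProd (J := J) ι).isPushout
  let z₀ : Spec (CommRingCat.of (E J ι)) ⟶ G.left := hp.desc x.left y.left (congrArg CommaMorphism.left h)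
  have h1 : Spec.map (CommRingCat.ofHom (pSnd (J := J) ι).toRingHom) ≫ z₀ = x.left := hp.inl_desc _ _ _
  have h2 : Spec.map (CommRingCat.ofHom (pFst (J := J) ι).toRingHom) ≫ z₀ = y.left := hp.inr_desc _ _ _
  refine ⟨Over.homMk z₀ (hp.hom_ext ?_ ?_), ⟨Over.OverMorphism.ext h1, Over.OverMorphism.ext h2⟩, fun z' hz' => ?_⟩
  · rw [← Category.assoc, h1, Over.w]
    exact (Over.w (spMap (pSnd (J := J) ι))).symm
  · rw [← Category.assoc, h2, Over.w]
    exact (Over.w (spMap (pFst (J := J) ι))).symm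
  · exact Over.OverMorphism.ext (hp.hom_ext ((congrArg CommaMorphism.left hz'.1).trans h1.symm)
      ((congrArg CommaMorphism.left hz'.2).trans h2.symm))

theorem hom_ext (ι : T →ₐ[R] T') {z z' : sp R (E J ι) ⟶ G} (h1 : spMap (pSnd ι) ≫ z = spMap (pSnd ι) ≫ z')
    (h2 : spMap (pFst ι) ≫ z = spMap (pFst ι) ≫ z') : z = z' :=
  Over.OverMorphism.ext ((isFibreProd (J := J) ι).isPushout.hom_ext (congrArg CommaMorphism.left h1)
    (congrArg CommaMorphism.left h2))

end Ext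

section Conj

variable {R : Type u} [CommRing R] {J : Ideal R} {B : Type u} [CommRing B] [HopfAlgebra R B]
  {G : Over (Spec (CommRingCat.of R))} [GrpObj G]

theorem comp_spMap {A A' : Type u} [CommRing A] [CommRing A'] [Algebra R A] [Algebra R A'] {C : Type u} [CommRing C]
    [Algebra R C] (f : C →ₐ[R] A') (g : A' →ₐ[R] A) (x : sp R C ⟶ G) :
    spMap g ≫ spMap f ≫ x = spMap (g.comp f) ≫ x := by
  rw [← Category.assoc, spMap_comp]

theorem comul_eq_mul : spMap (Algebra.TensorProduct.includeLeft : B →ₐ[R] B ⊗[R] B) *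
    spMap (Algebra.TensorProduct.includeRight : B →ₐ[R] B ⊗[R] B) = spMap (Bialgebra.comulAlgHom R B) := by
  rw [spMap_mul]
  congr 1
  refine AlgHom.ext fun c => ?_
  rw [AlgHom.convMul_apply]
  show _ = Coalgebra.comul (R := R) c
  generalize Coalgebra.comul (R := R) c = z
  induction z using TensorProduct.induction_on with
  | zero => simp
  | add p q hp hq => simp only [map_add, hp, hq]
  | tmul p q => simp

/-- Congruent homomorphisms out of a group with an invariant mean are conjugate by a point congruent to one. -/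
theorem exists_conj_point (hJ : J ^ 2 = ⊥) (μ : MultTypeLib.Mean R B) (u v : sp R B ⟶ G) [IsMonHom u] [IsMonHom v]
    (h0 : spMap (red J B) ≫ u = spMap (red J B) ≫ v) :
    ∃ c : sp R R ⟶ G, spMap (Ideal.Quotient.mkₐ R J) ≫ c = 1 ∧
      v = (spMap (Algebra.ofId R B) ≫ c) * u * (spMap (Algebra.ofId R B) ≫ c)⁻¹ := by
  let B2 : Type u := B ⊗[R] B
  let iL : B →ₐ[R] B2 := Algebra.TensorProduct.includeLeft
  let iR : B →ₐ[R] B2 := Algebra.TensorProduct.includeRight
  let Δ : B →ₐ[R] B2 := Bialgebra.comulAlgHom R B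
  let ι₀ : R →ₐ[R] B := Algebra.ofId R B
  let γ : sp R B ⟶ G := v * u⁻¹
  have hγ : spMap (red J B) ≫ γ = 1 := by
    rw [MonObj.comp_mul, GrpObj.comp_inv, h0, mul_inv_cancel]
  obtain ⟨y, ⟨hy1, hy2⟩, -⟩ := existsUnique_ext (J := J) ι₀ γ 1 (by rw [hγ, MonObj.comp_one])
  have hμ : ∀ t a, μ.μ (ι₀ t * a) = (AlgHom.id R R) t * μ.μ a := fun t a => by
    simp [ι₀, Algebra.ofId_apply, ← Algebra.smul_def]
  let m : E J ι₀ →ₐ[R] R := lMap hJ ι₀ (AlgHom.id R R) μ.μ hμ μ.map_one'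
  let c : sp R R ⟶ G := spMap m ≫ y
  have hc : spMap (Ideal.Quotient.mkₐ R J) ≫ c = 1 := by
    have e : (Ideal.Quotient.mkₐ R J).comp m = (Ideal.Quotient.mkₐ R J).comp (pFst ι₀) := by
      refine AlgHom.ext fun z => (Ideal.Quotient.eq (I := J)).mpr ?_
      show μ.μ z.1.2 - z.1.1 ∈ J
      have h := map_mem μ.μ (mem_E.mp z.2)
      rw [map_sub, show μ.μ (ι₀ z.1.1) = z.1.1 by simpa [μ.map_one'] using hμ z.1.1 1] at h
      simpa using h
    show spMap (Ideal.Quotient.mkₐ R J) ≫ spMap m ≫ y = 1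
    rw [comp_spMap, e, ← comp_spMap, hy2, MonObj.comp_one]
  refine ⟨c, hc, ?_⟩
  have hL : ∀ t a, μ.L (iL t * a) = (AlgHom.id R B) t * μ.L a := fun t a => by
    rw [mul_comm, AlgHom.id_apply, mul_comm t]
    exact μ.L_mul a t
  let Λ : E J iL →ₐ[R] B := lMap hJ iL (AlgHom.id R B) μ.L hL μ.L_one
  let mΔ : E J ι₀ →ₐ[R] E J iL := mapE ι₀ iL ι₀ Δ (by ext)
  let mR : E J ι₀ →ₐ[R] E J iL := mapE ι₀ iL ι₀ iR (by ext)
  let mL : E J ι₀ →ₐ[R] E J iL := mapE ι₀ iL ι₀ iL rfl
  let cB : sp R B ⟶ G := spMap ι₀ ≫ c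
  have eΔ : Λ.comp mΔ = ι₀.comp m := AlgHom.ext fun z => by
    show μ.L (Coalgebra.comul (R := R) z.1.2) = algebraMap R B (μ.μ z.1.2)
    rw [Algebra.algebraMap_eq_smul_one]
    exact μ.inv _
  have eR : Λ.comp mR = ι₀.comp m := AlgHom.ext fun z => by
    show μ.L ((1 : B) ⊗ₜ[R] z.1.2) = algebraMap R B (μ.μ z.1.2)
    rw [μ.L_tmul, Algebra.algebraMap_eq_smul_one]
  have eL : Λ.comp mL = pSnd ι₀ := AlgHom.ext fun z => by
    show μ.L (z.1.2 ⊗ₜ[R] (1 : B)) = z.1.2
    rw [μ.L_tmul, μ.map_one', one_smul]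
  have eS : Λ.comp (sect iL) = AlgHom.id R B := AlgHom.ext fun z => by
    show μ.L (z ⊗ₜ[R] (1 : B)) = z
    rw [μ.L_tmul, μ.map_one', one_smul]
  have lin : ∀ (φ : B →ₐ[R] B2) (mφ : E J ι₀ →ₐ[R] E J iL), (pSnd iL).comp mφ = φ.comp (pSnd ι₀) →
      (pFst iL).comp mφ = ι₀.comp (pFst ι₀) →
      spMap (pSnd iL) ≫ spMap mφ ≫ y = spMap φ ≫ γ ∧ spMap (pFst iL) ≫ spMap mφ ≫ y = 1 := fun φ mφ h1 h2 => by
    rw [comp_spMap, h1, ← comp_spMap, hy1, comp_spMap, h2, ← comp_spMap, hy2, MonObj.comp_one]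
    exact ⟨rfl, rfl⟩
  obtain ⟨dΔ, fΔ⟩ := lin Δ mΔ rfl rfl
  obtain ⟨dR, fR⟩ := lin iR mR rfl rfl
  obtain ⟨dL, fL⟩ := lin iL mL rfl rfl
  have hu : spMap Δ ≫ u = (spMap iL ≫ u) * (spMap iR ≫ u) := by
    rw [← MonObj.mul_comp, comul_eq_mul]
  have hv : spMap Δ ≫ v = (spMap iL ≫ v) * (spMap iR ≫ v) := by
    rw [← MonObj.mul_comp, comul_eq_mul]
  have cocycle : spMap mΔ ≫ y =
      (spMap mL ≫ y) * ((spMap (sect iL) ≫ u) * (spMap mR ≫ y) * (spMap (sect iL) ≫ u)⁻¹) := by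
    refine hom_ext iL ?_ ?_
    · simp only [MonObj.comp_mul, GrpObj.comp_inv, dΔ, dL, dR]
      simp only [comp_spMap, pSnd_sect]
      simp only [γ, MonObj.comp_mul, GrpObj.comp_inv, hu, hv]
      group
    · simp only [MonObj.comp_mul, GrpObj.comp_inv, fΔ, fL, fR]
      simp only [comp_spMap, pFst_sect]
      group
  have key := congrArg (spMap Λ ≫ ·) cocycle
  simp only [MonObj.comp_mul, GrpObj.comp_inv, comp_spMap, eΔ, eR, eL, eS, spMap_id, Category.id_comp, hy1] at key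
  rw [← comp_spMap, show spMap ι₀ ≫ spMap m ≫ y = cB from rfl] at key
  have e2 : γ = cB * (u * cB⁻¹ * u⁻¹) :=
    calc γ = γ * (u * cB * u⁻¹) * (u * cB⁻¹ * u⁻¹) := by group
      _ = cB * (u * cB⁻¹ * u⁻¹) := by rw [← key]
  calc v = γ * u := by simp [γ]
    _ = cB * u * cB⁻¹ := by rw [e2]; group

end Conj

section Scheme

variable {R : Type u} [CommRing R] {J : Ideal R}

/-- The base as an affine scheme over itself. -/
noncomputable def unitIso (R : Type u) [CommRing R] : 𝟙_ (Over (Spec (CommRingCat.of R))) ⟶ sp R R :=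
  Over.homMk (𝟙 _) (by
    show 𝟙 _ ≫ Spec.map (CommRingCat.ofHom (RingHom.id R)) = 𝟙 _
    rw [Category.id_comp, CommRingCat.ofHom_id, Spec.map_id])

/-- Homomorphisms out of a group of multiplicative type which agree modulo a square-zero ideal are conjugate. -/
theorem exists_conj_sqZero (hJ : J ^ 2 = ⊥) (H G : Over (Spec (CommRingCat.of R))) [GrpObj H] [GrpObj G]
    (hH : TwC.Locally (Spec (CommRingCat.of R)) TwC.Topology.fpqc (fun S' f => ∃ (M : Type) (_ : AddCommGroup M),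
      Nonempty (Grp.mk (Red.bc f H) ≅ Grp.mk (Red.DS S' M))))
    (u v : H ⟶ G) [IsMonHom u] [IsMonHom v]
    (h0 : ∀ (X : Over (Spec (CommRingCat.of R))) (_ : X ⟶ (Over.mk (Spec.map (CommRingCat.ofHom (Ideal.Quotient.mk J))) :
      Over (Spec (CommRingCat.of R)))) (h : X ⟶ H), h ≫ u = h ≫ v) :
    ∃ g : 𝟙_ (Over (Spec (CommRingCat.of R))) ⟶ G,
      toUnit (Over.mk (Spec.map (CommRingCat.ofHom (Ideal.Quotient.mk J))) : Over (Spec (CommRingCat.of R))) ≫ g = 1 ∧
      ∀ (X : Over (Spec (CommRingCat.of R))) (h : X ⟶ H),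
        h ≫ v = (toUnit X ≫ g) * (h ≫ u) * (toUnit X ≫ g)⁻¹ := by
  obtain ⟨B, _, _, hB, ⟨e⟩⟩ := exists_hopf_multType H hH
  obtain ⟨μ⟩ := MultTypeLib.exists_mean hB
  haveI : IsMonHom e.hom.hom.hom := e.hom.hom.isMonHom_hom
  let e' : sp R B ⟶ H := e.hom.hom.hom
  let e'' : H ⟶ sp R B := e.inv.hom.hom
  have he : e'' ≫ e' = 𝟙 H := congrArg (fun m : Grp.mk H ⟶ Grp.mk H => m.hom.hom) e.inv_hom_id
  have hq : (Ideal.Quotient.lift J ((Ideal.Quotient.mk (J.map (algebraMap R B))).comp (algebraMap R B))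
      fun r hr => Ideal.Quotient.eq_zero_iff_mem.mpr (Ideal.mem_map_of_mem _ hr)).comp (Ideal.Quotient.mk J) =
      algebraMap R (B ⧸ J.map (algebraMap R B)) := rfl
  obtain ⟨c, hc, hv⟩ := exists_conj_point hJ μ (e' ≫ u) (e' ≫ v) (by
    rw [← Category.assoc, ← Category.assoc]
    refine h0 _ (Over.homMk (Spec.map (CommRingCat.ofHom (Ideal.Quotient.lift J
      ((Ideal.Quotient.mk (J.map (algebraMap R B))).comp (algebraMap R B))
      fun r hr => Ideal.Quotient.eq_zero_iff_mem.mpr (Ideal.mem_map_of_mem _ hr)))) ?_) _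
    show Spec.map _ ≫ Spec.map _ = Spec.map (CommRingCat.ofHom (algebraMap R _))
    rw [← Spec.map_comp, ← CommRingCat.ofHom_comp, hq])
  refine ⟨unitIso R ≫ c, ?_, fun X h => ?_⟩
  · let k : (Over.mk (Spec.map (CommRingCat.ofHom (Ideal.Quotient.mk J))) : Over (Spec (CommRingCat.of R))) ⟶
        sp R (R ⧸ J) := Over.homMk (𝟙 _) (Category.id_comp _)
    rw [← Category.assoc, show toUnit _ ≫ unitIso R = k ≫ spMap (Ideal.Quotient.mkₐ R J) from Over.OverMorphism.ext (by
      show Spec.map _ ≫ 𝟙 _ = 𝟙 _ ≫ Spec.map _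
      rw [Category.id_comp, Category.comp_id]
      rfl), Category.assoc, hc, MonObj.comp_one]
  · have hι : toUnit (sp R B) ≫ unitIso R = spMap (Algebra.ofId R B) := Over.OverMorphism.ext (by
      show Spec.map _ ≫ 𝟙 _ = Spec.map _
      rw [Category.comp_id]
      rfl)
    have h1 : h = (h ≫ e'') ≫ e' := by rw [Category.assoc, he, Category.comp_id]
    conv_lhs => rw [h1, Category.assoc, hv]
    rw [← hι]
    simp only [MonObj.comp_mul, GrpObj.comp_inv, Category.assoc, comp_toUnit_assoc]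
    rw [reassoc_of% he]

end Scheme

end Groth.Agent.Deform
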