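import Groth.Agent.Deform.PowTorus
import Groth.Agent.IsogLib.Kernel
import Groth.Prelude.Def_SGA7IX
import Groth.Agent.GrpSchLib.HomFlat
import Groth.Agent.CurveCohLib.SmoothCurve
import Groth.Agent.EGA41Lib.IntDim
import Groth.Agent.KFlatLib.Ring.DualizingFibreRows
import Mathlib.RingTheory.KrullDimension.NonZeroDivisors

/-!
# Tori and isogenies

The image of a torus in a smooth commutative affine group is a torus, and a smooth connected commutative affine
group isogenous to a torus is a torus.
-/

set_option autoImplicit false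
set_option linter.style.haveILetI false

universe u

open CategoryTheory CategoryTheory.Limits MonoidalCategory CartesianMonoidalCategory MonObj GrpObj AlgebraicGeometry
open WithConv

attribute [local instance] CategoryTheory.Hom.monoid CategoryTheory.Hom.group

namespace Groth.Agent.Deform.TorusIsogeny

open GrpSchLib.AffineHopf (sp spIso spMap exists_hopf exists_bialgHom nonempty_DS_iso)

variable {k : Type u} [Field k]

set_option maxHeartbeats 1000000 in
/-- A smooth commutative affine group receiving a surjection from a split torus is a split torus. -/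
theorem split_of_surjective [IsAlgClosed k] {E T : Over (Spec (CommRingCat.of k))} [GrpObj E] [GrpObj T]
    [IsCommMonObj E] [IsAffine E.left] [LocallyOfFiniteType E.hom] [IsReduced E.left]
    (hT : Red.IsTorus T) (f : T ⟶ E) [IsMonHom f] [Surjective f.left] :
    ∃ r : ℕ, Red.IsSplitTorusWith (Fin r → ℤ) E := by
  classical
  obtain ⟨A, _, _, ⟨eA⟩⟩ := exists_hopf E
  haveI : IsMonHom eA.hom.hom.hom := eA.hom.hom.isMonHom_hom
  haveI : IsIso eA.hom.hom.hom := ((Grp.forget _).mapIso eA).isIso_hom
  haveI : IsIso eA.inv.hom.hom := ((Grp.forget _).mapIso eA).isIso_inv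
  haveI : IsIso eA.inv.hom.hom.left := ((Grp.forget _ ⋙ Over.forget _).mapIso eA).isIso_inv
  haveI : IsIso eA.hom.hom.hom.left := ((Grp.forget _ ⋙ Over.forget _).mapIso eA).isIso_hom
  haveI : IsMonHom eA.inv.hom.hom := eA.inv.hom.isMonHom_hom
  haveI : Coalgebra.IsCocomm k A := S14691.isCocomm_of_iso eA.hom.hom.hom
  haveI hft : Algebra.FiniteType k A := QuasiIsotrivial.finiteType_sp eA
  haveI : IsOpenImmersion eA.hom.hom.hom.left := IsOpenImmersion.of_isIso eA.hom.hom.hom.left
  have hred := @isReduced_of_isOpenImmersion _ _ eA.hom.hom.hom.left (IsOpenImmersion.of_isIso _) _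
  haveI : IsReduced (Spec (CommRingCat.of A)) := hred
  haveI : _root_.IsReduced A := (affine_isReduced_iff (CommRingCat.of A)).mp inferInstance
  obtain ⟨r, ⟨eT⟩⟩ := Deform.exists_split T hT
  obtain ⟨e0⟩ := nonempty_DS_iso k (Fin r → ℤ)
  let e1 := e0 ≪≫ eT.symm
  let g : sp k (MonoidAlgebra k (Multiplicative (Fin r → ℤ))) ⟶ T := e1.hom.hom.hom
  haveI : IsMonHom g := e1.hom.hom.isMonHom_hom
  haveI : IsIso g.left := ((Grp.forget _ ⋙ Over.forget _).mapIso e1).isIso_hom
  obtain ⟨ψ, hψ⟩ := exists_bialgHom (g ≫ f ≫ eA.inv.hom.hom)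
  have hinj : Function.Injective ψ := by
    have hs : Surjective (spMap (ψ : A →ₐ[k] MonoidAlgebra k (Multiplicative (Fin r → ℤ)))).left := by
      rw [← hψ, Over.comp_left, Over.comp_left]
      infer_instance
    have hd : DenseRange (Spec.map (CommRingCat.ofHom (ψ : A →ₐ[k] MonoidAlgebra k (Multiplicative (Fin r → ℤ))).toRingHom)) :=
      hs.surj.denseRange
    change DenseRange (PrimeSpectrum.comap _) at hd
    rw [PrimeSpectrum.denseRange_comap_iff_ker_le_nilRadical, nilradical_eq_zero, Ideal.zero_eq_bot, le_bot_iff] at hd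
    exact (RingHom.injective_iff_ker_eq_bot _).mpr hd
  obtain ⟨J, hJ, hJm, -, B, _, _, φ, hφ, hJeq, hU⟩ := S4130.result k A
  have hφ1 : ∀ b, φ b = algebraMap k A (Coalgebra.counit (R := k) b) := fun b => hinj <| by
    let c := QuasiIsotrivial.congrEquiv k (MulEquiv.ulift : ULift.{u} (Multiplicative (Fin r → ℤ)) ≃* Multiplicative (Fin r → ℤ)).symm
    let ψ' : A →ₐc[k] MonoidAlgebra k (ULift.{u} (Multiplicative (Fin r → ℤ))) :=
      (c : MonoidAlgebra k (Multiplicative (Fin r → ℤ)) →ₐc[k] MonoidAlgebra k (ULift.{u} (Multiplicative (Fin r → ℤ)))).comp ψ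
    have h := UnipDiag.eq_counit hU (ψ'.comp φ) b
    have hc : Function.Injective c := EquivLike.injective c
    refine hc ?_
    show ψ'.comp φ b = ψ' (algebraMap k A _)
    rw [h]
    exact ((ψ' : A →ₐ[k] MonoidAlgebra k (ULift.{u} (Multiplicative (Fin r → ℤ)))).commutes _).symm
  have hJbot : J = ⊥ := by
    rw [hJeq, eq_bot_iff, Ideal.map_le_iff_le_comap]
    intro b hb
    show φ b ∈ (⊥ : Ideal A)
    rw [hφ1, show Coalgebra.counit (R := k) b = 0 from hb, map_zero]
    exact zero_mem _
  haveI := hJ
  let e : A ≃ₐc[k] A ⧸ J :=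
    BialgEquiv.ofBijective (Bialgebra.Quotient.mkBialgHom (R := k) J)
      ⟨(injective_iff_map_eq_zero _).mpr fun a ha => by
        have : a ∈ J := Ideal.Quotient.eq_zero_iff_mem.mp ha
        rwa [hJbot, Ideal.mem_bot] at this, Ideal.Quotient.mk_surjective⟩
  obtain ⟨R', iR', iA', hff, hd⟩ := hJm
  have hmt : SGA3b.IsMultType k A := MultTypeLib.isMultType_congr e.symm (MultTypeLib.isMultType_of_ff R' hd)
  obtain ⟨K', _, _, _, _, M, _, hfg, ⟨qq⟩⟩ := MultTypeLib.isotrivial_of_field k A hft hmt
  let σ : k ≃+* K' := RingEquiv.ofBijective (algebraMap k K') IsAlgClosed.algebraMap_bijective_of_isIntegral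
  letI : Algebra K' k := σ.symm.toRingHom.toAlgebra
  haveI : IsScalarTower k K' k := IsScalarTower.of_algebraMap_eq fun x => (σ.symm_apply_apply x).symm
  have q' : A ≃ₐc[k] MonoidAlgebra k M :=
    (((Bialgebra.TensorProduct.lid k A).symm.trans
      (MultTypeLib.baseChangeTrans (R := k) K' k A)).trans
      (MultTypeLib.congrBase k qq)).trans (GrpSchLib.AffineHopf.scalarBialgEquiv K' k M).symm
  obtain ⟨N, iN, hN, ⟨cN⟩⟩ := QuasiIsotrivial.exists_small M
  -- the character group is torsion-free
  have htf : ∀ (x : N) (n : ℕ), n ≠ 0 → n • x = 0 → x = 0 := fun x n hn hx => by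
    let s : A := q'.symm (MonoidAlgebra.single (cN (Multiplicative.ofAdd x)) 1)
    have hs : IsGroupLikeElem k (ψ s) :=
      ((MonoidAlgebra.isGroupLikeElem_single_one _).map q'.symm).map ψ
    obtain ⟨m, hm⟩ := MonoidAlgebra.isGroupLikeElem_iff_mem_range_single_one.mp hs
    have hpow : ψ s ^ n = 1 := by
      rw [← map_pow, ← map_pow, MonoidAlgebra.single_pow, _root_.one_pow, ← map_pow, ← ofAdd_nsmul, hx, ofAdd_zero,
        map_one, ← MonoidAlgebra.one_def, map_one, map_one]
    rw [← hm, MonoidAlgebra.single_pow, _root_.one_pow, MonoidAlgebra.one_def] at hpow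
    have hm1 : m ^ n = 1 := MonoidAlgebra.single_left_injective (one_ne_zero (α := k)) hpow
    have hm0 : m = 1 := by
      apply Multiplicative.toAdd.injective
      funext i
      have := congrFun (congrArg Multiplicative.toAdd hm1) i
      simpa [toAdd_pow, hn] using this
    have : s = 1 := hinj (by rw [← hm, hm0, map_one, MonoidAlgebra.one_def])
    have h2 := congrArg q' this
    rw [map_one] at h2
    simp only [s, BialgEquiv.apply_symm_apply, MonoidAlgebra.one_def] at h2
    exact Multiplicative.ofAdd.injective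
      (cN.injective ((MonoidAlgebra.single_left_injective (one_ne_zero (α := k)) h2).trans (map_one cN).symm))
  haveI : Module.Finite ℤ N := Module.Finite.iff_addGroup_fg.mpr hN
  haveI : IsAddTorsionFree N := ⟨fun n hn x y h => sub_eq_zero.mp (htf _ n hn (by
    rw [nsmul_sub, sub_eq_zero]; exact h))⟩
  haveI : Module.Free ℤ N := inferInstance
  let b := (Module.finBasis ℤ N).equivFun.toAddEquiv
  obtain ⟨a⟩ := nonempty_DS_iso k (Fin (Module.finrank ℤ N) → ℤ)
  exact ⟨Module.finrank ℤ N, ⟨eA.symm ≪≫
    spIso (((QuasiIsotrivial.congrEquiv k ((b.toMultiplicative).symm.trans cN)).trans q'.symm)) ≪≫ a⟩⟩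

/-- A group which becomes a split torus over an algebraically closed extension is a torus. -/
theorem isTorus_of_geometric {E : Over (Spec (CommRingCat.of k))} [GrpObj E] (K : Type u) [Field K] [Algebra k K]
    {r : ℕ} (h : Red.IsSplitTorusWith (Fin r → ℤ)
      (Red.bc (Spec.map (CommRingCat.ofHom (algebraMap k K))) E)) : Red.IsTorus E := by
  let g : Spec (CommRingCat.of K) ⟶ Spec (CommRingCat.of k) := Spec.map (CommRingCat.ofHom (algebraMap k K))
  haveI : Flat g := (HasRingHomProperty.Spec_iff (P := @Flat)).mpr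
    (RingHom.flat_algebraMap_iff.mpr (inferInstance : Module.Flat k K))
  haveI : Surjective g := ⟨fun s => ⟨IsLocalRing.closedPoint K, Subsingleton.elim (α := PrimeSpectrum k) _ _⟩⟩
  obtain ⟨e⟩ := h
  refine ⟨_, g, inferInstance, inferInstance, fun V hV => ⟨g ⁻¹ᵁ V, (hV.preimage g).isCompact, ?_⟩,
    fun s => ⟨⊤, trivial, r, ?_⟩⟩
  · exact Set.image_preimage_eq _ g.surjective
  · obtain ⟨a⟩ := GrpSchLib.MultTypeBC.bc_bc (⊤ : (Spec (CommRingCat.of K)).Opens).ι g E
    obtain ⟨a'⟩ := GrpSchLib.MultTypeBC.bc_iso (⊤ : (Spec (CommRingCat.of K)).Opens).ι e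
    obtain ⟨b⟩ := GrpSchLib.MultTypeBC.bc_DS (⊤ : (Spec (CommRingCat.of K)).Opens).ι (Fin r → ℤ)
    exact ⟨a.symm ≪≫ a' ≪≫ b⟩

/-- A smooth commutative affine group receiving a surjection from a torus is a torus. -/
theorem isTorus_of_surjective {E T : Over (Spec (CommRingCat.of k))} [GrpObj E] [GrpObj T] [IsCommMonObj E]
    [IsAffine E.left] [Smooth E.hom] (hT : Red.IsTorus T) (f : T ⟶ E) [IsMonHom f] [Surjective f.left] :
    Red.IsTorus E := by
  let K : Type u := AlgebraicClosure k
  let g : Spec (CommRingCat.of K) ⟶ Spec (CommRingCat.of k) := Spec.map (CommRingCat.ofHom (algebraMap k K))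
  haveI : IsMonHom ((Over.pullback g).map f) := inferInstanceAs (IsMonHom ((Over.pullback g).map f))
  haveI : Surjective ((Over.pullback g).map f).left :=
    MorphismProperty.of_isPullback (Extension.isPullback_map_left g f).flip ‹Surjective f.left›
  haveI : IsAffineHom E.hom := isAffineHom_of_isAffine _
  haveI : IsAffineHom (pullback.snd E.hom g) := MorphismProperty.pullback_snd (P := @IsAffineHom) _ _ ‹_›
  haveI : IsAffine (Red.bc g E).left := isAffine_of_isAffineHom (pullback.snd E.hom g)
  haveI : Smooth (Red.bc g E).hom := inferInstanceAs (Smooth (pullback.snd E.hom g))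
  haveI : IsReduced (Red.bc g E).left := GrpSchLib.isReduced_of_smooth_field (Red.bc g E).hom
  haveI : IsCommMonObj (Red.bc g E) :=
    Extension.isCommMonObj_of fun Y => Extension.comm_bc g (fun Y => Extension.mul_comm_of) Y
  obtain ⟨r, h⟩ := split_of_surjective (Deform.isTorus_bc g hT) ((Over.pullback g).map f)
  exact isTorus_of_geometric K h

theorem injective_of_finite {A : Type u} [CommRing A] [IsDomain A] [Algebra k A] [Algebra.FiniteType k A]
    (φ : A →+* A) (h : φ.Finite) : Function.Injective φ := by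
  rw [RingHom.injective_iff_ker_eq_bot]
  by_contra hne
  obtain ⟨a, ha, ha0⟩ := Submodule.exists_mem_ne_zero_of_ne_bot hne
  haveI : IsNoetherianRing A := Algebra.FiniteType.isNoetherianRing k A
  haveI := h
  let φ' : A ⧸ RingHom.ker φ →+* A := RingHom.kerLift φ
  letI := φ'.toAlgebra
  haveI : Module.Finite (A ⧸ RingHom.ker φ) A :=
    RingHom.Finite.of_comp_finite (f := Ideal.Quotient.mk (RingHom.ker φ)) (g := φ') (by
      rwa [show φ'.comp (Ideal.Quotient.mk (RingHom.ker φ)) = φ from RingHom.ext fun x => rfl])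
  have h1 := EGA41Lib.ringKrullDim_eq_of_integral (A := A ⧸ RingHom.ker φ) (B := A) (RingHom.kerLift_injective φ)
  have h2 : ringKrullDim (A ⧸ RingHom.ker φ) ≤ ringKrullDim (A ⧸ Ideal.span {a}) :=
    ringKrullDim_le_of_surjective (Ideal.Quotient.factor (by simpa [Ideal.span_le] using ha))
      (Ideal.Quotient.factor_surjective _)
  have h3 := ringKrullDim_quotient_succ_le_of_nonZeroDivisor (mem_nonZeroDivisors_of_ne_zero ha0)
  have h4 : ringKrullDim A < ⊤ := KFlatLib.ringKrullDim_lt_top_of_finiteType (A := k) (by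
    rw [ringKrullDim_eq_zero_of_field]
    exact WithBot.coe_lt_coe.mpr (WithTop.coe_lt_top 0))
  have h5 : ringKrullDim A ≠ ⊥ := ne_of_gt (lt_of_lt_of_le (WithBot.bot_lt_coe 0) ringKrullDim_nonneg_of_nontrivial)
  have h6 := (add_le_add_left (h1.le.trans h2) 1).trans h3
  generalize ringKrullDim A = d at h4 h5 h6
  induction d with
  | bot => exact h5 rfl
  | coe d =>
    induction d with
    | top => exact absurd h4 (lt_irrefl _)
    | coe d =>
      norm_cast at h6
      omega

set_option maxHeartbeats 1000000 in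
/-- A smooth connected commutative affine group which maps onto a torus with finite kernel is a torus. -/
theorem isTorus_of_isogeny {E T : Over (Spec (CommRingCat.of k))} [GrpObj E] [GrpObj T] [IsCommMonObj E]
    [IsAffine E.left] [Smooth E.hom] [ConnectedSpace ↥E.left] (f : E ⟶ T) [IsMonHom f]
    (hf : SGA7.IsIsogenyOver f) (hT : Red.IsTorus T) [Smooth T.hom] : Red.IsTorus E := by
  haveI : Surjective f.left := hf.1
  haveI : IsAffineHom T.hom := (TransLib.multTypeFT_essFree (Deform.isMultTypeFT_of_isTorus hT)).1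
  haveI : QuasiCompact (f.left ≫ T.hom) := by rw [Over.w]; infer_instance
  haveI : QuasiCompact f.left := QuasiCompact.of_comp f.left T.hom
  haveI : IsReduced T.left := GrpSchLib.isReduced_of_smooth_field T.hom
  haveI : Flat f.left := GrpSchLib.flat_of_surjective_hom f
  let N : Over (Spec (CommRingCat.of k)) := pullback f η[T]
  let i : N ⟶ E := pullback.fst f η[T]
  have hker : AlgGrp.IsKernel i f := by
    show IsPullback i (toUnit N) f η[T]
    rw [toUnit_unique (toUnit N) (pullback.snd f η[T])]
    exact IsPullback.of_hasPullback _ _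
  obtain ⟨gN, hi⟩ := IsogLib.exists_grpObj_kernel f hker
  haveI := hf.2 N i hker
  obtain ⟨n, hn, hN⟩ := PowTorus.exists_pow_eq_one N
  let pn : E ⟶ E := 𝟙 E ^ n
  haveI : IsMonHom pn := by
    haveI hmul : ∀ (Z : Over (Spec (CommRingCat.of k))) (a b : Z ⟶ E), (a * b) ≫ pn = a ≫ pn * b ≫ pn := fun Z a b => by
      simp only [pn, MonObj.comp_pow, Category.comp_id]
      exact Commute.mul_pow (Extension.mul_comm_of a b) n
    constructor
    · have h1 := hmul (𝟙_ _) 1 1
      rw [_root_.one_mul, left_eq_mul] at h1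
      rwa [Hom.one_def, toUnit_unique (toUnit _) (𝟙 _), Category.id_comp] at h1
    · have h1 := hmul (E ⊗ E) (fst E E) (snd E E)
      rw [Hom.mul_def, Hom.mul_def, lift_fst_snd, Category.id_comp] at h1
      rw [h1, ← lift_map, lift_fst_snd, Category.id_comp]
  have hfin : IsFinite pn.left :=
    Extension.isFinite_pow hker (Extension.covers_of_fpqc f) n (by
      haveI : IsFinite ((𝟙 N ^ n : N ⟶ N).left ≫ N.hom) := by rw [Over.w]; infer_instance
      exact IsFinite.of_comp (𝟙 N ^ n : N ⟶ N).left N.hom)
      (Extension.isFinite_pow_multType n hn (Deform.isMultTypeFT_of_isTorus hT))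
  have hsurj : Surjective pn.left := by
    haveI : CompactSpace ↥E.left := inferInstance
    haveI := CurveCohLib.isIntegral_of_smooth_connected E.hom
    obtain ⟨A, _, _, ⟨eA⟩⟩ := exists_hopf E
    let e : sp k A ⟶ E := eA.hom.hom.hom
    haveI : IsMonHom e := eA.hom.hom.isMonHom_hom
    haveI : IsIso e.left := ((Grp.forget _ ⋙ Over.forget _).mapIso eA).isIso_hom
    haveI : Nonempty (sp k A).left := ⟨(η[sp k A] : 𝟙_ _ ⟶ sp k A).left (IsLocalRing.closedPoint k)⟩
    have hint := @isIntegral_of_isOpenImmersion _ _ e.left (IsOpenImmersion.of_isIso _) _ _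
    haveI : IsIntegral (Spec (CommRingCat.of A)) := hint
    haveI : IsDomain A := (affine_isIntegral_iff (CommRingCat.of A)).mp inferInstance
    haveI : Algebra.FiniteType k A := QuasiIsotrivial.finiteType_sp eA
    have h1 := congrArg CommaMorphism.left (TorsionOrderScheme.pow_comm e n)
    rw [TorsionOrderScheme.spMap_powConv] at h1
    change (spMap (SGA3b.powConv k A n)).left ≫ e.left = e.left ≫ pn.left at h1
    have hfinA : IsFinite (spMap (SGA3b.powConv k A n)).left :=
      (MorphismProperty.cancel_right_of_respectsIso @IsFinite _ e.left).mp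
        (h1 ▸ (MorphismProperty.cancel_left_of_respectsIso @IsFinite e.left _).mpr hfin)
    have hφ := (IsFinite.SpecMap_iff (CommRingCat.ofHom _)).mp hfinA
    have hinj := injective_of_finite (k := k) _ hφ
    have hs : Surjective (spMap (SGA3b.powConv k A n)).left :=
      ⟨(RingHom.IsIntegral.comap_surjective hφ.to_isIntegral hinj)⟩
    exact (MorphismProperty.cancel_left_of_respectsIso @Surjective e.left _).mp
      (h1 ▸ (MorphismProperty.cancel_right_of_respectsIso @Surjective _ e.left).mpr hs)
  have hipn : i ≫ pn = 1 := by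
    rw [← TorsionOrderScheme.pow_comm i n, hN, MonObj.one_comp]
  obtain ⟨v, ⟨hv, hvm⟩, -⟩ := FpqcDescLib.exists_unique_hom (Extension.covers_of_fpqc f)
    (UnipDiag.isCosetMap_of_isKernel hker) pn hipn
  haveI := hvm
  haveI : Surjective v.left := by
    haveI : Surjective (f.left ≫ v.left) := by rw [← Over.comp_left, hv]; exact hsurj
    exact Surjective.of_comp f.left v.left
  exact isTorus_of_surjective hT v

end Groth.Agent.Deform.TorusIsogeny
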