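import Groth.Agent.Deform.Transporter
import Groth.Agent.H23.AMonExt

/-!
# Fixed points of groups of multiplicative type acting on smooth separated schemes

An infinitesimal lift of a fixed point, averaged over the group, is again fixed.
-/

set_option autoImplicit false
set_option linter.style.haveILetI false
set_option linter.unusedSectionVars false
set_option backward.isDefEq.respectTransparency false
set_option backward.isDefEq.respectTransparency.types false

universe u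

open CategoryTheory CategoryTheory.Limits MonoidalCategory CartesianMonoidalCategory AlgebraicGeometry
open TensorProduct

attribute [local instance] CategoryTheory.Hom.monoid CategoryTheory.Hom.group

namespace Groth.Agent.Deform

open GrpSchLib.AffineHopf (sp spMap spMap_comp spMap_id spMap_mul)

section Ring

variable {R : Type u} [CommRing R] {J : Ideal R} {B : Type u} [CommRing B] [HopfAlgebra R B]
  {X : Over (Spec (CommRingCat.of R))}

theorem comp_sp {A A' : Type u} [CommRing A] [CommRing A'] [Algebra R A] [Algebra R A'] {C : Type u} [CommRing C]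
    [Algebra R C] (f : C →ₐ[R] A') (g : A' →ₐ[R] A) (x : sp R C ⟶ X) :
    spMap g ≫ spMap f ≫ x = spMap (g.comp f) ≫ x := by
  rw [← Category.assoc, spMap_comp]

/-- Points of a separated scheme are determined on a larger ring. -/
theorem hom_ext_of_injective [IsSeparated X.hom] {A A' : Type u} [CommRing A] [CommRing A'] [Algebra R A]
    [Algebra R A'] (f : A →ₐ[R] A') (hf : Function.Injective f) {z z' : sp R A ⟶ X}
    (h : spMap f ≫ z = spMap f ≫ z') : z = z' := by
  haveI : IsSchemeTheoreticallyDominant (spMap f).left := by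
    refine ⟨?_⟩
    show (Spec.map (CommRingCat.ofHom f.toRingHom)).ker = ⊥
    rw [Scheme.ker_of_isAffine, (RingHom.injective_iff_ker_eq_bot _).mp ?_]
    · exact le_bot_iff.mp (Scheme.IdealSheafData.le_of_isAffine (by simp))
    · intro a b hab
      apply (ConcreteCategory.bijective_of_isIso (Scheme.ΓSpecIso (CommRingCat.of A)).hom).1
      apply hf
      have hn := Scheme.ΓSpecIso_naturality (CommRingCat.ofHom f.toRingHom)
      have ha := congrArg (fun q => q.hom a) hn
      have hb := congrArg (fun q => q.hom b) hn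
      simp only [CommRingCat.hom_comp, RingHom.comp_apply] at ha hb
      exact ha.symm.trans ((congrArg _ hab).trans hb)
  haveI : IsClosedImmersion (lift (𝟙 X) (𝟙 X) : X ⟶ X ⊗ X).left := by
    rw [show (lift (𝟙 X) (𝟙 X) : X ⟶ X ⊗ X).left = pullback.diagonal X.hom from pullback.hom_ext
      ((congrArg CommaMorphism.left (lift_fst (𝟙 X) (𝟙 X))).trans (pullback.diagonal_fst _).symm)
      ((congrArg CommaMorphism.left (lift_snd (𝟙 X) (𝟙 X))).trans (pullback.diagonal_snd _).symm)]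
    exact IsSeparated.isClosedImmersion_diagonal
  obtain ⟨l, hl⟩ := H23.AMonExt.exists_lift_over (spMap f) (lift (𝟙 X) (𝟙 X)) (lift z z') (spMap f ≫ z) (by
    rw [comp_lift, comp_lift, Category.comp_id, ← h])
  have h1 := congrArg (· ≫ fst X X) hl
  have h2 := congrArg (· ≫ snd X X) hl
  simp only [Category.assoc, lift_fst, lift_snd, Category.comp_id] at h1 h2
  rw [← h1, ← h2]

/-- Averaging a point which is fixed modulo a square-zero ideal gives a fixed point. -/
theorem exists_fixed_pt [IsSeparated X.hom] (hJ : J ^ 2 = ⊥) (m₀ : MultTypeLib.Mean R B)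
    (act : sp R B ⊗ X ⟶ X)
    (hact : ∀ (T : Over (Spec (CommRingCat.of R))) (p q : T ⟶ sp R B) (x : T ⟶ X),
      lift (p * q) x ≫ act = lift p (lift q x ≫ act) ≫ act)
    (x : sp R R ⟶ X)
    (h0 : spMap (red J B) ≫ lift (𝟙 _) (spMap (Algebra.ofId R B) ≫ x) ≫ act =
      spMap (red J B) ≫ spMap (Algebra.ofId R B) ≫ x) :
    ∃ c : sp R R ⟶ X, spMap (Ideal.Quotient.mkₐ R J) ≫ c = spMap (Ideal.Quotient.mkₐ R J) ≫ x ∧
      lift (𝟙 _) (spMap (Algebra.ofId R B) ≫ c) ≫ act = spMap (Algebra.ofId R B) ≫ c := by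
  let B2 : Type u := B ⊗[R] B
  let iL : B →ₐ[R] B2 := Algebra.TensorProduct.includeLeft
  let iR : B →ₐ[R] B2 := Algebra.TensorProduct.includeRight
  let Δ : B →ₐ[R] B2 := Bialgebra.comulAlgHom R B
  let ι₀ : R →ₐ[R] B := Algebra.ofId R B
  let γ : sp R B ⟶ X := lift (𝟙 _) (spMap ι₀ ≫ x) ≫ act
  obtain ⟨y, ⟨hy1, hy2⟩, -⟩ := existsUnique_ext (J := J) ι₀ γ x (by
    show spMap (red J B) ≫ γ = _
    rw [h0, comp_sp])
  have hμ : ∀ t a, m₀.μ (ι₀ t * a) = (AlgHom.id R R) t * m₀.μ a := fun t a => by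
    simp [ι₀, Algebra.ofId_apply, ← Algebra.smul_def]
  let m : E J ι₀ →ₐ[R] R := lMap hJ ι₀ (AlgHom.id R R) m₀.μ hμ m₀.map_one'
  refine ⟨spMap m ≫ y, ?_, ?_⟩
  · have e : (Ideal.Quotient.mkₐ R J).comp m = (Ideal.Quotient.mkₐ R J).comp (pFst ι₀) := by
      refine AlgHom.ext fun z => (Ideal.Quotient.eq (I := J)).mpr ?_
      show m₀.μ z.1.2 - z.1.1 ∈ J
      have h := map_mem m₀.μ (mem_E.mp z.2)
      rw [map_sub, show m₀.μ (ι₀ z.1.1) = z.1.1 by simpa [m₀.map_one'] using hμ z.1.1 1] at h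
      simpa using h
    rw [comp_sp, e, ← comp_sp, hy2]
  have hL : ∀ t a, m₀.L (iL t * a) = (AlgHom.id R B) t * m₀.L a := fun t a => by
    rw [mul_comm, AlgHom.id_apply, mul_comm t]
    exact m₀.L_mul a t
  let Λ : E J iL →ₐ[R] B := lMap hJ iL (AlgHom.id R B) m₀.L hL m₀.L_one
  let mΔ : E J ι₀ →ₐ[R] E J iL := mapE ι₀ iL ι₀ Δ (by ext)
  let mR : E J ι₀ →ₐ[R] E J iL := mapE ι₀ iL ι₀ iR (by ext)
  have eΔ : Λ.comp mΔ = ι₀.comp m := AlgHom.ext fun z => by
    show m₀.L (Coalgebra.comul (R := R) z.1.2) = algebraMap R B (m₀.μ z.1.2)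
    rw [Algebra.algebraMap_eq_smul_one]
    exact m₀.inv _
  have eR : Λ.comp mR = ι₀.comp m := AlgHom.ext fun z => by
    show m₀.L ((1 : B) ⊗ₜ[R] z.1.2) = algebraMap R B (m₀.μ z.1.2)
    rw [m₀.L_tmul, Algebra.algebraMap_eq_smul_one]
  have eS : Λ.comp (sect iL) = AlgHom.id R B := AlgHom.ext fun z => by
    show m₀.L (z ⊗ₜ[R] (1 : B)) = z
    rw [m₀.L_tmul, m₀.map_one', one_smul]
  -- the part of the neighbourhood seen by the second projection
  let F : Subalgebra R B2 := (pSnd (J := J) iL).range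
  let q : E J iL →ₐ[R] F := (pSnd (J := J) iL).rangeRestrict
  let Λ' : F →ₐ[R] B := AlgHom.ofLinearMap (m₀.L ∘ₗ F.val.toLinearMap) m₀.L_one fun v w => by
    obtain ⟨v', rfl⟩ := (pSnd (J := J) iL).rangeRestrict_surjective v
    obtain ⟨w', rfl⟩ := (pSnd (J := J) iL).rangeRestrict_surjective w
    exact map_mul Λ v' w'
  have key : ∀ z z' : sp R (E J iL) ⟶ X, spMap (pSnd iL) ≫ z = spMap (pSnd iL) ≫ z' →
      spMap Λ ≫ z = spMap Λ ≫ z' := fun z z' hz => by
    rw [show Λ = Λ'.comp q from rfl, ← comp_sp, ← comp_sp]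
    congr 1
    refine hom_ext_of_injective F.val Subtype.val_injective ?_
    rw [comp_sp, comp_sp]
    exact hz
  have hu : spMap Δ ≫ γ = lift (spMap iL) (spMap iR ≫ γ) ≫ act := by
    rw [show spMap iR ≫ γ = lift (spMap iR) (spMap (iR.comp ι₀) ≫ x) ≫ act by
      show spMap iR ≫ lift (𝟙 _) (spMap ι₀ ≫ x) ≫ act = _
      rw [comp_lift_assoc, Category.comp_id, comp_sp]]
    rw [← hact, comul_eq_mul]
    show spMap Δ ≫ lift (𝟙 _) (spMap ι₀ ≫ x) ≫ act = _
    rw [comp_lift_assoc, Category.comp_id, comp_sp]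
    congr 3
    exact congrArg spMap (by ext)
  have h1 := key (lift (spMap (sect iL)) (spMap mR ≫ y) ≫ act) (spMap mΔ ≫ y) (by
    rw [comp_lift_assoc, spMap_comp, pSnd_sect, comp_sp, comp_sp,
      show (pSnd iL).comp mR = iR.comp (pSnd (J := J) ι₀) from rfl,
      show (pSnd iL).comp mΔ = Δ.comp (pSnd (J := J) ι₀) from rfl, ← comp_sp, ← comp_sp, hy1, hu])
  rw [comp_lift_assoc, spMap_comp, eS, spMap_id, comp_sp, eR, comp_sp, eΔ, ← comp_sp] at h1
  exact h1

end Ring

end Groth.Agent.Deform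

namespace Groth.Agent.Deform

open GrpSchLib.AffineHopf (sp spMap spMap_comp spMap_id spMap_mul)

/-- The fixed points of a group of multiplicative type on a smooth separated scheme form a smooth closed subscheme. -/
theorem exists_fixedPoints {S : Scheme.{u}} {H X : Over S} [GrpObj H]
    (hH : TwC.Locally S TwC.Topology.fpqc (fun S' f => ∃ (M : Type) (_ : AddCommGroup M),
      Nonempty (Grp.mk (Red.bc f H) ≅ Grp.mk (Red.DS S' M))))
    [Smooth X.hom] [IsSeparated X.hom] (a : AlgGrp.Action H X) :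
    ∃ (T : Over S) (j : T ⟶ X), IsClosedImmersion j.left ∧ Smooth T.hom ∧
      ∀ (Y : Over S) (x : Y ⟶ X), (∃ t : Y ⟶ T, t ≫ j = x) ↔
        ∀ (Y' : Over S) (y : Y' ⟶ Y) (h : Y' ⟶ H), lift h (y ≫ x) ≫ a.act = y ≫ x := by
  obtain ⟨haff, hfree⟩ := TransLib.multType_essFree hH
  let dg : X ⟶ X ⊗ X := lift (𝟙 X) (𝟙 X)
  have hdg : dg.left = pullback.diagonal X.hom := pullback.hom_ext
    ((congrArg CommaMorphism.left (lift_fst (𝟙 X) (𝟙 X))).trans (pullback.diagonal_fst _).symm)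
    ((congrArg CommaMorphism.left (lift_snd (𝟙 X) (𝟙 X))).trans (pullback.diagonal_snd _).symm)
  haveI : IsClosedImmersion dg.left := by rw [hdg]; exact IsSeparated.isClosedImmersion_diagonal
  have hdfp : LocallyOfFinitePresentation dg.left := by rw [hdg]; exact S4599.result X.hom
  obtain ⟨T, j, hj, hjfp, hT⟩ := TransLib.exists_closed_universal_essFree (X := X) hfree
    (lift a.act (snd H X)) dg
  haveI := hj
  haveI : Mono j := (Over.forget _).mono_of_mono_map (inferInstanceAs (Mono j.left))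
  haveI := hjfp inferInstance hdfp
  haveI : LocallyOfFinitePresentation T.hom := by rw [← Over.w j]; infer_instance
  have key : ∀ (Y : Over S) (x : Y ⟶ X), (∃ t : Y ⟶ T, t ≫ j = x) ↔
      ∀ (Y' : Over S) (y : Y' ⟶ Y) (h : Y' ⟶ H), lift h (y ≫ x) ≫ a.act = y ≫ x := fun Y x => by
    refine (hT x).trans ⟨fun ⟨l, hl⟩ Y' y h => ?_, fun hall => ?_⟩
    · have e1 := congrArg (fun m => lift h y ≫ m ≫ fst X X) hl
      have e2 := congrArg (fun m => lift h y ≫ m ≫ snd X X) hl
      simp only [dg, Category.assoc, lift_fst, lift_snd, Category.comp_id, lift_whiskerLeft_assoc] at e1 e2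
      rw [← e1, e2]
    · refine ⟨snd H Y ≫ x, CartesianMonoidalCategory.hom_ext _ _ ?_ ?_⟩
      · simp only [dg, Category.assoc, lift_fst, Category.comp_id]
        rw [← hall (H ⊗ Y) (snd H Y) (fst H Y)]
        congr 1
      · simp only [dg, Category.assoc, lift_snd, Category.comp_id, whiskerLeft_snd]
  refine ⟨T, j, hj, smooth_of_points j fun R _ J hJ b g₀ hz₀ => ?_, key⟩
  haveI : Smooth (Red.bc b X).hom := inferInstanceAs (Smooth (pullback.snd X.hom b))
  haveI : IsSeparated (Red.bc b X).hom := inferInstanceAs (IsSeparated (pullback.snd X.hom b))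
  obtain ⟨act', hact'⟩ := (DSPtsLib.theta_bijective b).surjective
    (lift (DSPtsLib.theta b (fst (Red.bc b H) (Red.bc b X))) (DSPtsLib.theta b (snd (Red.bc b H) (Red.bc b X))) ≫ a.act)
  have hth : ∀ {Y : Over (Spec (CommRingCat.of R))} (p : Y ⟶ Red.bc b H) (x : Y ⟶ Red.bc b X),
      DSPtsLib.theta b (lift p x ≫ act') = lift (DSPtsLib.theta b p) (DSPtsLib.theta b x) ≫ a.act := fun p x => by
    rw [DSPtsLib.theta_comp, hact', comp_lift_assoc, ← DSPtsLib.theta_comp, ← DSPtsLib.theta_comp, lift_fst, lift_snd]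
  obtain ⟨B, _, _, hB, ⟨e⟩⟩ := exists_hopf_multType _ (locally_bc b hH)
  obtain ⟨m₀⟩ := MultTypeLib.exists_mean hB
  haveI : IsMonHom e.hom.hom.hom := e.hom.hom.isMonHom_hom
  let e' : sp R B ⟶ Red.bc b H := e.hom.hom.hom
  let e'' : Red.bc b H ⟶ sp R B := e.inv.hom.hom
  have he : e'' ≫ e' = 𝟙 _ := congrArg (fun m : Grp.mk (Red.bc b H) ⟶ Grp.mk (Red.bc b H) => m.hom.hom) e.inv_hom_id
  let act'' : sp R B ⊗ Red.bc b X ⟶ Red.bc b X := lift (fst _ _ ≫ e') (snd _ _) ≫ act'
  have h'' : ∀ {Y : Over (Spec (CommRingCat.of R))} (p : Y ⟶ sp R B) (x : Y ⟶ Red.bc b X),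
      lift p x ≫ act'' = lift (p ≫ e') x ≫ act' := fun p x => by
    rw [comp_lift_assoc, lift_fst_assoc, lift_snd]
  obtain ⟨g₁, hg₁⟩ := exists_lift_pt ⟨2, hJ⟩ g₀
  let x : sp R R ⟶ Red.bc b X := toUnit _ ≫ g₁
  have hmk : (Ideal.Quotient.lift J ((Ideal.Quotient.mk (J.map (algebraMap R B))).comp (algebraMap R B))
      fun r hr => Ideal.Quotient.eq_zero_iff_mem.mpr (Ideal.mem_map_of_mem _ hr)).comp (Ideal.Quotient.mk J) =
      algebraMap R (B ⧸ J.map (algebraMap R B)) := rfl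
  let p : sp R (B ⧸ J.map (algebraMap R B)) ⟶ closedPt J :=
    Over.homMk (Spec.map (CommRingCat.ofHom (Ideal.Quotient.lift J
      ((Ideal.Quotient.mk (J.map (algebraMap R B))).comp (algebraMap R B))
      fun r hr => Ideal.Quotient.eq_zero_iff_mem.mpr (Ideal.mem_map_of_mem _ hr)))) (by
    show Spec.map _ ≫ Spec.map _ = Spec.map (CommRingCat.ofHom (algebraMap R _))
    rw [← Spec.map_comp, ← CommRingCat.ofHom_comp, hmk])
  obtain ⟨c, hc, hc'⟩ := exists_fixed_pt hJ m₀ act'' (fun Y p q x => by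
      apply (DSPtsLib.theta_bijective b).injective
      rw [h'', h'', h'', hth, hth, hth, MonObj.mul_comp, DSPtsLib.theta_mul]
      have := congrArg (fun f => lift (lift (DSPtsLib.theta b (p ≫ e')) (DSPtsLib.theta b (q ≫ e')))
        (DSPtsLib.theta b x) ≫ f) a.mul_act
      simpa only [Hom.mul_def, lift_whiskerRight_assoc, lift_lift_associator_hom_assoc, lift_whiskerLeft_assoc]
        using this) x (by
      have h := (key _ _).mp hz₀ _ ((Over.map b).map p) (DSPtsLib.theta b (spMap (red J B) ≫ e'))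
      rw [← DSPtsLib.theta_comp, ← hth] at h
      have h1 := (DSPtsLib.theta_bijective b).injective h
      simp only [x, comp_toUnit_assoc]
      rw [comp_lift_assoc, Category.comp_id, comp_toUnit_assoc, h'',
        show toUnit (sp R (B ⧸ J.map (algebraMap R B))) ≫ g₁ = p ≫ g₀ by rw [← hg₁, comp_toUnit_assoc]]
      exact h1)
  let k : closedPt J ⟶ sp R (R ⧸ J) := Over.homMk (𝟙 _) (Category.id_comp _)
  have hk : toUnit (closedPt J) ≫ unitIso R = k ≫ spMap (Ideal.Quotient.mkₐ R J) := Over.OverMorphism.ext (by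
    show Spec.map _ ≫ 𝟙 _ = 𝟙 _ ≫ Spec.map _
    rw [Category.id_comp, Category.comp_id]
    rfl)
  refine ⟨unitIso R ≫ c, ?_, (key _ _).mpr fun Y' y h => ?_⟩
  · rw [← Category.assoc, hk, Category.assoc, hc]
    simp only [x, comp_toUnit_assoc]
    exact hg₁
  obtain ⟨Y, y', ey, rfl⟩ := exists_pullPoint b Y' y
  obtain ⟨h', hh⟩ := (DSPtsLib.theta_bijective b).surjective (ey.inv ≫ h)
  have hh' : h = ey.hom ≫ DSPtsLib.theta b h' := by rw [hh, Iso.hom_inv_id_assoc]
  have hι : spMap (Algebra.ofId R B) = toUnit (sp R B) ≫ unitIso R := Over.OverMorphism.ext (by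
    show Spec.map _ = Spec.map _ ≫ 𝟙 _
    rw [Category.comp_id]
    rfl)
  rw [hι, Category.assoc] at hc'
  have h1 := congrArg ((h' ≫ e'') ≫ ·) hc'
  simp only [comp_lift_assoc, Category.comp_id, comp_toUnit_assoc] at h1
  rw [h'', Category.assoc h' e'' e', he, Category.comp_id] at h1
  rw [Category.assoc, ← DSPtsLib.theta_comp, Subsingleton.elim y' (toUnit Y), hh', ← comp_lift_assoc, ← hth, h1]

end Groth.Agent.Deform

namespace Groth.Agent.Deform

open scoped MonObj

/-- Any subscheme with the universal property of the fixed points is smooth. -/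
theorem smooth_of_isFixedPoints {S : Scheme.{u}} {H X : Over S} [GrpObj H]
    (hH : TwC.Locally S TwC.Topology.fpqc (fun S' f => ∃ (M : Type) (_ : AddCommGroup M),
      Nonempty (Grp.mk (Red.bc f H) ≅ Grp.mk (Red.DS S' M))))
    [Smooth X.hom] [IsSeparated X.hom] (a : AlgGrp.Action H X) {F : Scheme.{u}} (f : F ⟶ X.left) [Mono f]
    (hF : ∀ (T : Over S) (x : T ⟶ X), (∃ y : T.left ⟶ F, y ≫ f = x.left) ↔
      ∀ (T' : Over S) (t : T' ⟶ T) (g : T' ⟶ H), lift g (t ≫ x) ≫ a.act = t ≫ x) : Smooth (f ≫ X.hom) := by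
  obtain ⟨T, j, hj, hTs, key⟩ := exists_fixedPoints hH a
  haveI := hj
  obtain ⟨y, hy⟩ := (hF T j).mpr ((key T j).mp ⟨𝟙 T, Category.id_comp j⟩)
  let f' : Over.mk (f ≫ X.hom) ⟶ X := Over.homMk f rfl
  obtain ⟨z, hz⟩ := (key _ f').mpr ((hF _ f').mp ⟨𝟙 F, Category.id_comp f⟩)
  have hz' : z.left ≫ j.left = f := congrArg CommaMorphism.left hz
  haveI : IsIso z.left := ⟨y, by rw [← cancel_mono f, Category.assoc, hy]; exact hz'.trans (Category.id_comp f).symm,
    by rw [← cancel_mono j.left, Category.assoc, hz', hy, Category.id_comp]⟩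
  rw [show f ≫ X.hom = z.left ≫ T.hom from (Over.w z).symm]
  haveI := hTs
  infer_instance

/-- The invariants of an action by automorphisms of groups form a smooth closed subgroup. -/
theorem exists_invariants {S : Scheme.{u}} {H G : Over S} [GrpObj H] [GrpObj G]
    (hH : TwC.Locally S TwC.Topology.fpqc (fun S' f => ∃ (M : Type) (_ : AddCommGroup M),
      Nonempty (Grp.mk (Red.bc f H) ≅ Grp.mk (Red.DS S' M))))
    [Smooth G.hom] [IsSeparated G.hom] (a : AlgGrp.Action H G)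
    (hmul : ∀ (X : Over S) (h : X ⟶ H) (g g' : X ⟶ G),
      lift h (g * g') ≫ a.act = (lift h g ≫ a.act) * (lift h g' ≫ a.act)) :
    ∃ (Z : Over S) (_ : GrpObj Z) (z : Z ⟶ G) (_ : IsMonHom z), IsClosedImmersion z.left ∧ Smooth Z.hom ∧
      ∀ (X : Over S) (g : X ⟶ G), (∃ x : X ⟶ Z, x ≫ z = g) ↔
        ∀ (X' : Over S) (f : X' ⟶ X) (h : X' ⟶ H), lift h (f ≫ g) ≫ a.act = f ≫ g := by
  obtain ⟨Z, j, hj, hZs, key⟩ := exists_fixedPoints hH a
  haveI := hj
  haveI : Mono j := (Over.forget _).mono_of_mono_map (inferInstanceAs (Mono j.left))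
  let φ : ∀ (X : Over S) (h : X ⟶ H), (X ⟶ G) →* (X ⟶ G) := fun X h =>
    MonoidHom.mk' (fun g => lift h g ≫ a.act) (hmul X h)
  obtain ⟨e, he⟩ := (key _ η[G]).mpr fun X' x h => by
    rw [show x ≫ η[G] = (1 : X' ⟶ G) by rw [Hom.one_def, toUnit_unique x (toUnit _)]]
    exact map_one (φ X' h)
  obtain ⟨m, hm⟩ := (key _ ((fst Z Z ≫ j) * (snd Z Z ≫ j))).mpr fun X' x h => by
    rw [MonObj.comp_mul, ← Category.assoc, ← Category.assoc]
    have h1 := (key _ ((x ≫ fst Z Z) ≫ j)).mp ⟨_, rfl⟩ X' (𝟙 _) h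
    have h2 := (key _ ((x ≫ snd Z Z) ≫ j)).mp ⟨_, rfl⟩ X' (𝟙 _) h
    simp only [Category.id_comp] at h1 h2
    rw [hmul, h1, h2]
  obtain ⟨v, hv⟩ := (key _ j⁻¹).mpr fun X' x h => by
    have h1 := (key _ (x ≫ j)).mp ⟨x, rfl⟩ X' (𝟙 _) h
    simp only [Category.id_comp] at h1
    rw [GrpObj.comp_inv]
    exact (map_inv (φ X' h) (x ≫ j)).trans (congrArg (·⁻¹) h1)
  obtain ⟨str, hmon⟩ := GrpSchLib.exists_grpObj_of_mono j e he m hm v hv
  exact ⟨Z, str, j, hmon, hj, hZs, key⟩

end Groth.Agent.Deform
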