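import Groth.Agent.MultTypeLib.Diag
import Groth.Agent.MultTypeLib.DiagSub
import Groth.Agent.MultTypeLib.FiniteSub
import Groth.Agent.MultTypeLib.HopfKer
import Groth.Agent.MultTypeLib.TorsionCrit
import Groth.Agent.MultTypeLib.Sub
import Mathlib.RingTheory.Bialgebra.GroupLike
import Mathlib.RingTheory.Coalgebra.GroupLike

/-!
# Flat closed subgroups of finitely presented diagonalisable groups are diagonalisable locally on the base

Algebraic form: a surjection of Hopf algebras `R[M] → C` with `C` flat and of finite presentation.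
-/

universe u

open WithConv TensorProduct Coalgebra Bialgebra IsLocalRing

set_option linter.style.haveILetI false
set_option linter.deprecated false

noncomputable section

namespace Groth.Agent.Deform.MultSub

open MultTypeLib

variable {R : Type u} [CommRing R] {C : Type u} [CommRing C] [HopfAlgebra R C] {M : Type u} [CommGroup M]
  (f : MonoidAlgebra R M →ₐc[R] C)

/-- Over a field, a closed subgroup of a diagonalisable group is diagonalisable. -/
theorem isDiag_of_field {k : Type u} [Field k] {B : Type u} [CommRing B] [HopfAlgebra k B]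
    (g : MonoidAlgebra k M →ₐc[k] B) (hg : Function.Surjective g) : SGA3b.IsDiag k B := by
  let Φ := MonoidAlgebra.liftGroupLikeBialgHom (R := k) (A := B)
  have hspan : Function.Surjective Φ := fun y => by
    obtain ⟨x, rfl⟩ := hg y
    induction x using MonoidAlgebra.induction_linear with
    | zero => exact ⟨0, by simp⟩
    | add a b ha hb =>
      obtain ⟨a', ha'⟩ := ha
      obtain ⟨b', hb'⟩ := hb
      exact ⟨a' + b', by rw [map_add, ha', hb', map_add]⟩
    | single m r =>
      refine ⟨MonoidAlgebra.single (⟨g (MonoidAlgebra.single m 1),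
        (MonoidAlgebra.isGroupLikeElem_single_one m).map g⟩ : GroupLike k B) r, ?_⟩
      rw [show MonoidAlgebra.single m r = r • MonoidAlgebra.single m (1 : k) by simp, map_smul]
      simp [Φ, MonoidAlgebra.liftGroupLikeBialgHom]
  have hinj : Function.Injective Φ := by
    have hli : LinearIndependent k (GroupLike.val : GroupLike k B → B) := by
      have h := linearIndepOn_isGroupLikeElem (R := k) (A := B)
      exact h.comp (fun g : GroupLike k B => (⟨g.1, g.2⟩ : {a : B // IsGroupLikeElem k a}))
        fun a b hab => GroupLike.val_injective (congrArg Subtype.val hab)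
    rw [injective_iff_map_eq_zero]
    intro x hx
    have e : Φ x = Finsupp.linearCombination k GroupLike.val x.coeff := by
      conv_lhs => rw [← MonoidAlgebra.sum_coeff_single x]
      rw [Finsupp.linearCombination_apply, Finsupp.sum, Finsupp.sum, map_sum]
      refine Finset.sum_congr rfl fun m _ => ?_
      simp [Φ, MonoidAlgebra.liftGroupLikeBialgHom]
    rw [e] at hx
    exact MonoidAlgebra.coeff_injective (linearIndependent_iff.mp hli _ hx)
  exact ⟨GroupLike k B, inferInstance, ⟨(BialgEquiv.ofBijective Φ ⟨hinj, hspan⟩).symm⟩⟩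

/-- A quotient of a group algebra is cocommutative. -/
theorem isCocomm (hf : Function.Surjective f) : Coalgebra.IsCocomm R C := by
  refine ⟨LinearMap.ext fun c => ?_⟩
  obtain ⟨y, rfl⟩ := hf c
  induction y using MonoidAlgebra.induction_linear with
  | zero => simp
  | add a b ha hb => simp only [map_add, ha, hb]
  | single m r =>
    rw [show MonoidAlgebra.single m r = r • MonoidAlgebra.single m (1 : R) by simp, map_smul, ← hchar_apply,
      map_smul, map_smul, LinearMap.comp_apply, (hchar_groupLike f m).comul_eq_tmul_self]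
    simp

/-- The torsion kernels of a closed subgroup of a finitely generated diagonalisable group are finite. -/
theorem finite_torsion [Group.FG M] (hf : Function.Surjective f) {n : ℕ} (hn : 0 < n) :
    Module.Finite R (C ⧸ SGA3b.torsionIdeal R C n) := by
  let T := SGA3b.torsionIdeal R C n
  let g : M →* C ⧸ T := (Ideal.Quotient.mk T).toMonoidHom.comp (hchar f)
  have hgn : ∀ m, g (m ^ n) = 1 := fun m => by
    show Ideal.Quotient.mk T (hchar f (m ^ n)) = 1
    rw [← map_one (Ideal.Quotient.mk T), Ideal.Quotient.eq]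
    refine Ideal.subset_span ⟨hchar f m - 1, ?_, ?_⟩
    · show counit (R := R) (hchar f m - 1) = 0
      rw [map_sub, (hchar_groupLike f m).counit_eq_one, Bialgebra.counit_one, sub_self]
    · rw [map_sub, map_one, map_pow]
      congr 1
      exact point_pow_hchar f (toConv (AlgHom.id R C)) n m
  let N : Subgroup M := (powMonoidHom n).range
  have hN : N ≤ g.ker := by
    rintro _ ⟨m, rfl⟩
    exact hgn m
  haveI : Finite (M ⧸ N) := by
    refine CommGroup.finite_of_fg_torsion (M ⧸ N) fun x => ?_
    obtain ⟨m, rfl⟩ := QuotientGroup.mk'_surjective N x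
    refine isOfFinOrder_iff_pow_eq_one.mpr ⟨n, hn, ?_⟩
    rw [← map_pow]
    exact (QuotientGroup.eq_one_iff _).mpr ⟨m, rfl⟩
  let φ : MonoidAlgebra R (M ⧸ N) →ₐ[R] C ⧸ T := MonoidAlgebra.lift R (C ⧸ T) (M ⧸ N) (QuotientGroup.lift N g hN)
  refine Module.Finite.of_surjective φ.toLinearMap fun y => ?_
  obtain ⟨c, rfl⟩ := Ideal.Quotient.mk_surjective y
  obtain ⟨x, rfl⟩ := hf c
  induction x using MonoidAlgebra.induction_linear with
  | zero => exact ⟨0, by simp⟩
  | add a b ha hb =>
    obtain ⟨a', ha'⟩ := ha
    obtain ⟨b', hb'⟩ := hb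
    exact ⟨a' + b', by rw [map_add, ha', hb', map_add, map_add]⟩
  | single m r =>
    refine ⟨MonoidAlgebra.single (QuotientGroup.mk' N m) r, ?_⟩
    show φ _ = _
    rw [MonoidAlgebra.lift_single, show MonoidAlgebra.single m r = r • MonoidAlgebra.single m (1 : R) by simp, map_smul]
    show r • g m = Ideal.Quotient.mkₐ R T (r • hchar f m)
    rw [map_smul]
    rfl

/-- Over a local ring, a flat finitely presented closed subgroup of a diagonalisable group is the subgroup of the
characters trivial on it. -/
theorem injective_local [IsLocalRing R] [Group.FG M] [Module.Flat R C] [Algebra.FinitePresentation R C]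
    (hf : Function.Surjective f) (N : Subgroup M) (hN : ∀ m, m ∈ N ↔ hchar f m = 1) (z : MonoidAlgebra R M)
    (hz : f z = 0) : MonoidAlgebra.mapDomain (QuotientGroup.mk' N) z = 0 := by
  haveI := isCocomm f hf
  have hs : SGA3b.IsMultType (ResidueField R) (ResidueField R ⊗[R] C) :=
    isMultType_of_ff (R := ResidueField R) (ResidueField R) (isDiag_of_field
      (bcDiag (bcDiag f (ResidueField R)) (ResidueField R))
      (bcDiag_surjective _ (bcDiag_surjective f hf _) _))
  have hM : SGA3b.IsMultType R C :=
    isMultType_local_of_torsion (fun q _ _ => inferInstance) hs fun n hn => finite_torsion f hf hn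
  -- the characters of the quotient
  classical
  obtain ⟨c⟩ := exists_cover hM
  have hconn : ∀ e : R, IsIdempotentElem e → e = 0 ∨ e = 1 := fun e he => by
    have h0 : e * e = e := he
    rcases IsLocalRing.isUnit_or_isUnit_one_sub_self e with hu | hu
    · exact Or.inr (hu.mul_left_cancel (by rw [mul_one]; exact h0))
    · exact Or.inl (hu.mul_left_cancel (by rw [mul_zero, sub_mul, one_mul, h0, sub_self]))
  let g : M →* GroupLike R C :=
    { toFun := fun m => ⟨hchar f m, hchar_groupLike f m⟩
      map_one' := GroupLike.val_injective (map_one (hchar f))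
      map_mul' := fun a b => GroupLike.val_injective (map_mul (hchar f) a b) }
  have hNg : N = g.ker := by
    ext m
    rw [hN, MonoidHom.mem_ker]
    exact ⟨fun h => GroupLike.val_injective h, fun h => congrArg GroupLike.val h⟩
  subst hNg
  let gbar : M ⧸ g.ker →* GroupLike R C := QuotientGroup.kerLift g
  have hgbar : Function.Injective gbar := QuotientGroup.kerLift_injective g
  let Φ : MonoidAlgebra R (M ⧸ g.ker) →ₐc[R] C :=
    (MonoidAlgebra.liftGroupLikeBialgHom (R := R) (A := C)).comp (MonoidAlgebra.mapDomainBialgHom R gbar)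
  have hΦ : ∀ (x : M ⧸ g.ker) (r : R), Φ (MonoidAlgebra.single x r) = r • (gbar x).val := fun x r => by
    simp [Φ, MonoidAlgebra.liftGroupLikeBialgHom]
  have hcomm : ∀ y, Φ (MonoidAlgebra.mapDomain (QuotientGroup.mk' g.ker) y) = f y := fun y => by
    induction y using MonoidAlgebra.induction_linear with
    | zero => simp
    | add a b ha hb => simp only [MonoidAlgebra.mapDomain_add, map_add, ha, hb]
    | single m r =>
      rw [MonoidAlgebra.mapDomain_single, hΦ,
        show MonoidAlgebra.single m r = r • MonoidAlgebra.single m (1 : R) by simp, map_smul]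
      rfl
  suffices hinj : Function.Injective Φ from hinj (by rw [hcomm, hz, map_zero])
  rw [injective_iff_map_eq_zero]
  intro w hw
  ext x'
  refine c.module_ext _ fun i => ?_
  let h := (c.split i).hom
  suffices hs' : algebraMap R (c.split i).S (w.coeff x') = 0 by
    apply (TensorProduct.rid R (c.split i).S).injective
    rw [map_zero, TensorProduct.rid_tmul, ← Algebra.algebraMap_eq_smul_one]
    exact hs'
  refine h.groupLike_sum (gbar x').2 _ fun n => ?_
  have h1 := congrArg (fun y => (h.toAlgHom y).coeff n * (h.toAlgHom (gbar x').val).coeff n) hw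
  simp only [map_zero, MonoidAlgebra.coeff_zero, Finsupp.coe_zero, Pi.zero_apply, zero_mul] at h1
  rw [← MonoidAlgebra.sum_coeff_single w, Finsupp.sum, map_sum, map_sum, MonoidAlgebra.coeff_sum,
    Finsupp.finsetSum_apply, Finset.sum_mul, Finset.sum_eq_single x'] at h1
  · rw [hΦ, map_smul, MonoidAlgebra.coeff_smul, Finsupp.smul_apply, Algebra.smul_def, mul_assoc,
      h.groupLike_orth (gbar x').2, if_pos rfl] at h1
    exact h1
  · intro x _ hx
    rw [hΦ, map_smul, MonoidAlgebra.coeff_smul, Finsupp.smul_apply, Algebra.smul_def, mul_assoc]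
    have hmul : (gbar x').val * (gbar (x'⁻¹ * x)).val = (gbar x).val := by
      rw [← GroupLike.val_mul, ← map_mul, mul_inv_cancel_left]
    have hne : (gbar (x'⁻¹ * x)).val ≠ 1 := fun h => hx (by
      have h2 : gbar (x'⁻¹ * x) = 1 := GroupLike.val_injective h
      rw [← map_one gbar] at h2
      exact (inv_mul_eq_one.mp (hgbar h2)).symm)
    rw [← hmul, mul_comm ((h.toAlgHom _).coeff n), h.groupLike_mul_coeff (gbar x').2,
      coeff_one_eq_zero c hconn (gbar (x'⁻¹ * x)).2 hne i, mul_zero, mul_zero]
  · intro hx
    rw [Finsupp.notMem_support_iff] at hx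
    simp [hx]

/-- A flat finitely presented closed subgroup of a diagonalisable group is diagonalisable near every prime. -/
theorem exists_diag_near [Group.FG M] [Module.Flat R C] [Algebra.FinitePresentation R C]
    (hf : Function.Surjective f) (p : Ideal R) [p.IsPrime] :
    ∃ t ∉ p, ∃ (P : Type u) (_ : CommGroup P), Group.FG P ∧
      Nonempty (MonoidAlgebra (Localization.Away t) P ≃ₐc[Localization.Away t] (Localization.Away t) ⊗[R] C) := by
  classical
  let L := Localization.AtPrime p
  let N : Subgroup M := (bcChar f L).ker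
  have hN : ∀ m, m ∈ N ↔ hchar (bcDiag f L) m = 1 := fun m => by
    rw [hchar_bcDiag, MonoidHom.mem_ker]
    exact ⟨fun h => congrArg GroupLike.val h, fun h => GroupLike.val_injective h⟩
  haveI : Monoid.FG M := Group.fg_iff_monoid_fg.mp inferInstance
  haveI hfp : Algebra.FinitePresentation R (MonoidAlgebra R M) := by
    haveI : Algebra.FinitePresentation ℤ (MonoidAlgebra ℤ M) :=
      Algebra.FinitePresentation.of_finiteType.mp inferInstance
    exact Algebra.FinitePresentation.equiv (MonoidAlgebra.scalarTensorEquiv ℤ R (M := M))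
  obtain ⟨G, hG⟩ := Algebra.FinitePresentation.ker_fG_of_surjective (f : MonoidAlgebra R M →ₐ[R] C) hf
  haveI : Module.Finite ℤ (Additive M) := Module.Finite.iff_addGroup_fg.mpr inferInstance
  obtain ⟨K, hK⟩ := IsNoetherian.noetherian (R := ℤ) (M := Additive M) (AddSubgroup.toIntSubmodule N.toAddSubgroup)
  let π := QuotientGroup.mk' N
  have hcoef : ∀ z ∈ G, ∀ x, ∃ t : p.primeCompl, (t : R) * (MonoidAlgebra.mapDomain π z).coeff x = 0 := by
    intro z hz x
    have h0 : f z = 0 := by
      have : z ∈ RingHom.ker (f : MonoidAlgebra R M →ₐ[R] C) := hG ▸ Ideal.subset_span hz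
      exact this
    have h1 : bcDiag f L (MonoidAlgebra.mapRingHom M (algebraMap R L) z) = (1 : L) ⊗ₜ f z := by
      clear h0 hz
      induction z using MonoidAlgebra.induction_linear with
      | zero => simp
      | add a b ha hb => simp only [map_add, ha, hb, TensorProduct.tmul_add]
      | single m r =>
        rw [MonoidAlgebra.mapRingHom_single,
          show MonoidAlgebra.single m (algebraMap R L r) = algebraMap R L r • MonoidAlgebra.single m (1 : L) by
            rw [MonoidAlgebra.smul_single', mul_one],
          map_smul, ← hchar_apply, hchar_bcDiag, show MonoidAlgebra.single m r = r • MonoidAlgebra.single m (1 : R) by simp,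
          map_smul, ← hchar_apply, TensorProduct.tmul_smul, algebraMap_smul]
    rw [h0, TensorProduct.tmul_zero] at h1
    have h2 := injective_local (bcDiag f L) (bcDiag_surjective f hf L) N hN _ h1
    have h3 : MonoidAlgebra.mapDomain π (MonoidAlgebra.mapRingHom M (algebraMap R L) z) =
        MonoidAlgebra.mapRingHom (M ⧸ N) (algebraMap R L) (MonoidAlgebra.mapDomain π z) := by
      clear h1 h2 h0 hz
      induction z using MonoidAlgebra.induction_linear with
      | zero => simp
      | add a b ha hb => simp only [map_add, MonoidAlgebra.mapDomain_add, ha, hb]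
      | single m r => simp [MonoidAlgebra.mapDomain_single]
    have h4 : algebraMap R L ((MonoidAlgebra.mapDomain π z).coeff x) = 0 := by
      have := congrArg (fun y : MonoidAlgebra L (M ⧸ N) => y.coeff x) (h3.symm.trans h2)
      simpa using this
    obtain ⟨t, ht⟩ := (IsLocalization.map_eq_zero_iff p.primeCompl L _).mp h4
    exact ⟨t, ht⟩
  have hgen : ∀ a : Additive M, a ∈ K → ∃ t : p.primeCompl, (t : R) • (hchar f a.toMul - 1) = 0 := by
    intro a ha
    have haN : a.toMul ∈ N := by
      have : a ∈ AddSubgroup.toIntSubmodule N.toAddSubgroup := hK ▸ Submodule.subset_span ha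
      exact this
    have h1 : TensorProduct.mk R L C 1 (hchar f a.toMul - 1) = 0 := by
      show (1 : L) ⊗ₜ[R] (hchar f a.toMul - 1) = 0
      rw [TensorProduct.tmul_sub, ← hchar_bcDiag, (hN _).mp haN, Algebra.TensorProduct.one_def, sub_self]
    obtain ⟨t, ht⟩ := (IsLocalizedModule.eq_zero_iff p.primeCompl (TensorProduct.mk R L C 1)).mp h1
    exact ⟨t, ht⟩
  choose tc htc using hcoef
  choose tg htg using hgen
  let t : R := (∏ z ∈ G.attach, ∏ x ∈ (MonoidAlgebra.mapDomain π z.1).coeff.support, (tc z.1 z.2 x : R)) *
    ∏ a ∈ K.attach, (tg a.1 a.2 : R)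
  have htp : t ∈ p.primeCompl :=
    mul_mem (prod_mem fun z _ => prod_mem fun x _ => (tc z.1 z.2 x).2) (prod_mem fun a _ => (tg a.1 a.2).2)
  let R' := Localization.Away t
  have ht : IsUnit (algebraMap R R' t) := IsLocalization.Away.algebraMap_isUnit t
  have hz : ∀ z ∈ G, MonoidAlgebra.mapRingHom (M ⧸ N) (algebraMap R R') (MonoidAlgebra.mapDomain π z) = 0 := by
    intro z hz
    ext x
    rw [MonoidAlgebra.coeff_zero, Finsupp.coe_zero, Pi.zero_apply]
    by_cases hx : x ∈ (MonoidAlgebra.mapDomain π z).coeff.support
    · obtain ⟨b, hb⟩ : (tc z hz x : R) ∣ t :=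
        Dvd.dvd.mul_right ((Finset.dvd_prod_of_mem (fun x => (tc z hz x : R)) hx).trans (Finset.dvd_prod_of_mem
          (fun z : {z // z ∈ G} => ∏ x ∈ (MonoidAlgebra.mapDomain π z.1).coeff.support, (tc z.1 z.2 x : R))
          (Finset.mem_attach G ⟨z, hz⟩))) _
      have h0 : algebraMap R R' t * algebraMap R R' ((MonoidAlgebra.mapDomain π z).coeff x) = 0 := by
        have h5 : t * (MonoidAlgebra.mapDomain π z).coeff x = 0 := by rw [hb, mul_right_comm, htc z hz x, zero_mul]
        rw [← map_mul, h5, map_zero]
      simpa using ht.mul_right_eq_zero.mp h0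
    · rw [Finsupp.notMem_support_iff] at hx
      simp only [MonoidAlgebra.coeff_mapDomain] at hx ⊢
      simp [hx]
  have hNR : N ≤ (bcChar f R').ker := by
    intro m hm
    have hm' : Additive.ofMul m ∈ Submodule.span ℤ (K : Set (Additive M)) := by
      show Additive.ofMul m ∈ Submodule.span ℤ _
      rw [hK]
      exact hm
    have key : ∀ a ∈ Submodule.span ℤ (K : Set (Additive M)), a.toMul ∈ (bcChar f R').ker := by
      intro a ha
      have hle : Submodule.span ℤ (K : Set (Additive M)) ≤
          AddSubgroup.toIntSubmodule (bcChar f R').ker.toAddSubgroup := Submodule.span_le.mpr fun a ha => by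
        show a.toMul ∈ (bcChar f R').ker
        refine GroupLike.val_injective ?_
        show (1 : R') ⊗ₜ[R] hchar f a.toMul = 1
        obtain ⟨b, hb⟩ : (tg a ha : R) ∣ t := Dvd.dvd.mul_left (Finset.dvd_prod_of_mem
          (fun a : {a // a ∈ K} => (tg a.1 a.2 : R)) (Finset.mem_attach K ⟨a, ha⟩)) _
        have h0 : algebraMap R R' t • ((1 : R') ⊗ₜ[R] (hchar f a.toMul - 1)) = 0 := by
          have h5 : t • (hchar f a.toMul - 1) = 0 := by rw [hb, mul_comm, mul_smul, htg a ha, smul_zero]
          rw [algebraMap_smul, ← TensorProduct.tmul_smul, h5, TensorProduct.tmul_zero]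
        have h1 := ht.smul_eq_zero.mp h0
        rwa [TensorProduct.tmul_sub, sub_eq_zero] at h1
      exact hle ha
    exact key _ hm'
  let gbar : M ⧸ N →* GroupLike R' (R' ⊗[R] C) := QuotientGroup.lift N (bcChar f R') hNR
  let Φ : MonoidAlgebra R' (M ⧸ N) →ₐc[R'] R' ⊗[R] C :=
    (MonoidAlgebra.liftGroupLikeBialgHom (R := R') (A := R' ⊗[R] C)).comp (MonoidAlgebra.mapDomainBialgHom R' gbar)
  have hΦ : ∀ m, Φ (MonoidAlgebra.single (π m) 1) = (1 : R') ⊗ₜ hchar f m := fun m => by
    simp [Φ, MonoidAlgebra.liftGroupLikeBialgHom, gbar, π, bcChar]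
  let π' : MonoidAlgebra R M →ₐ[R] MonoidAlgebra R' (M ⧸ N) :=
    MonoidAlgebra.lift R (MonoidAlgebra R' (M ⧸ N)) M ((MonoidAlgebra.of R' (M ⧸ N)).comp π)
  have hπ' : ∀ y, π' y = MonoidAlgebra.mapRingHom (M ⧸ N) (algebraMap R R') (MonoidAlgebra.mapDomain π y) := fun y => by
    induction y using MonoidAlgebra.induction_linear with
    | zero => simp
    | add a b ha hb => simp only [MonoidAlgebra.mapDomain_add, map_add, ha, hb]
    | single m r => simp [π', MonoidAlgebra.mapDomain_single, Algebra.smul_def]
  have hkerle : ∀ y, f y = 0 → π' y = 0 := fun y hy => by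
    have h1 : y ∈ Ideal.span (G : Set (MonoidAlgebra R M)) := by
      rw [hG]
      exact hy
    have h2 : Ideal.span (G : Set (MonoidAlgebra R M)) ≤ RingHom.ker π' :=
      Ideal.span_le.mpr fun z hzG => (hπ' z).trans (hz z hzG)
    exact h2 h1
  let eC := Ideal.quotientKerAlgEquivOfSurjective (f := (f : MonoidAlgebra R M →ₐ[R] C)) hf
  let ψ₀ : C →ₐ[R] MonoidAlgebra R' (M ⧸ N) :=
    (Ideal.Quotient.liftₐ _ π' fun y hy => hkerle y hy).comp eC.symm.toAlgHom
  have hψ₀ : ∀ y, ψ₀ (f y) = π' y := fun y => by
    show Ideal.Quotient.liftₐ _ π' (fun a ha => hkerle a ha) (eC.symm (f y)) = π' y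
    rw [show eC.symm (f y) = Ideal.Quotient.mk _ y from eC.symm_apply_eq.mpr rfl]
    rfl
  let ψ : R' ⊗[R] C →ₐ[R'] MonoidAlgebra R' (M ⧸ N) :=
    Algebra.TensorProduct.lift (Algebra.ofId R' _) ψ₀ fun _ _ => Commute.all _ _
  have hψΦ : ∀ w, ψ (Φ w) = w := fun w => by
    induction w using MonoidAlgebra.induction_linear with
    | zero => simp
    | add a b ha hb => simp only [map_add, ha, hb]
    | single x r =>
      obtain ⟨m, rfl⟩ := QuotientGroup.mk'_surjective N x
      rw [show MonoidAlgebra.single (π m) r = r • MonoidAlgebra.single (π m) (1 : R') by simp, map_smul, map_smul, hΦ]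
      simp [ψ, hchar_apply, hψ₀, π']
  have hsurj : Function.Surjective Φ := fun y => by
    obtain ⟨x, rfl⟩ := bcDiag_surjective f hf R' y
    refine ⟨MonoidAlgebra.mapDomain π x, ?_⟩
    induction x using MonoidAlgebra.induction_linear with
    | zero => simp
    | add a b ha hb => simp only [MonoidAlgebra.mapDomain_add, map_add, ha, hb]
    | single m r =>
      rw [MonoidAlgebra.mapDomain_single, show MonoidAlgebra.single (π m) r = r • MonoidAlgebra.single (π m) (1 : R') by simp,
        map_smul, hΦ, show MonoidAlgebra.single m r = r • MonoidAlgebra.single m (1 : R') by simp, map_smul,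
        ← hchar_apply, hchar_bcDiag]
  exact ⟨t, htp, M ⧸ N, inferInstance, inferInstance,
    ⟨BialgEquiv.ofBijective Φ ⟨Function.LeftInverse.injective hψΦ, hsurj⟩⟩⟩

end Groth.Agent.Deform.MultSub
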