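import Groth.Agent.Deform.MultHopf
import Groth.Agent.Deform.Transporter
import Groth.Agent.MultTypeFlat.Basic
import Groth.Agent.S2973
import Mathlib.GroupTheory.Finiteness

/-!
# Groups of multiplicative type and of finite type are quasi-isotrivial

The affine statement, over the members of an affine covering of the base.
-/

set_option autoImplicit false
set_option linter.style.haveILetI false

universe u

open CategoryTheory CategoryTheory.Limits MonoidalCategory CartesianMonoidalCategory MonObj GrpObj AlgebraicGeometry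
open scoped TensorProduct

namespace Groth.Agent.Deform.QuasiIsotrivial

open GrpSchLib.AffineHopf (sp spIso nonempty_DS_iso nonempty_bc_sp)

/-- A finitely generated commutative group is isomorphic to one in the lowest universe. -/
theorem exists_small (M : Type u) [CommGroup M] [Group.FG M] :
    ∃ (N : Type) (_ : AddCommGroup N), AddGroup.FG N ∧ Nonempty (Multiplicative N ≃* M) := by
  haveI : Module.Finite ℤ (Additive M) := Module.Finite.iff_addGroup_fg.mpr inferInstance
  obtain ⟨n, f, hf⟩ := Module.Finite.exists_fin' ℤ (Additive M)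
  let e : ((Fin n → ℤ) ⧸ f.toAddMonoidHom.ker) ≃+ Additive M :=
    QuotientAddGroup.quotientKerEquivOfSurjective f.toAddMonoidHom hf
  haveI : AddGroup.FG (Fin n → ℤ) := Module.Finite.iff_addGroup_fg.mp inferInstance
  exact ⟨_, inferInstance, inferInstance, ⟨AddEquiv.toMultiplicativeLeft e⟩⟩

/-- An isomorphism of groups of characters gives one of group algebras. -/
noncomputable def congrEquiv (S : Type u) [CommRing S] {M N : Type*} [CommGroup M] [CommGroup N] (e : M ≃* N) :
    MonoidAlgebra S M ≃ₐc[S] MonoidAlgebra S N :=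
  BialgEquiv.ofBialgHom (MonoidAlgebra.mapDomainBialgHom S e.toMonoidHom)
    (MonoidAlgebra.mapDomainBialgHom S e.symm.toMonoidHom)
    (BialgHom.ext fun x => by
      induction x using MonoidAlgebra.induction_linear with
      | zero => simp
      | add a b ha hb => simp only [map_add, ha, hb]
      | single m r => simp)
    (BialgHom.ext fun x => by
      induction x using MonoidAlgebra.induction_linear with
      | zero => simp
      | add a b ha hb => simp only [map_add, ha, hb]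
      | single m r => simp)

theorem finiteType_sp {R : Type u} [CommRing R] {B : Type u} [CommRing B] [HopfAlgebra R B]
    {H : Over (Spec (CommRingCat.of R))} [GrpObj H] [LocallyOfFiniteType H.hom]
    (e : Grp.mk (sp R B) ≅ Grp.mk H) : Algebra.FiniteType R B := by
  haveI : IsIso e.hom.hom.hom.left :=
    ((Grp.forget _ ⋙ Over.forget _).mapIso e).isIso_hom
  have hw : (sp R B).hom = e.hom.hom.hom.left ≫ H.hom := (Over.w e.hom.hom.hom).symm
  have h : LocallyOfFiniteType (Spec.map (CommRingCat.ofHom (algebraMap R B))) := by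
    change LocallyOfFiniteType (sp R B).hom
    rw [hw]
    infer_instance
  exact RingHom.finiteType_algebraMap.mp ((HasRingHomProperty.Spec_iff (P := @LocallyOfFiniteType)).mp h)

/-- A group of multiplicative type and of finite type is diagonalisable over an etale neighbourhood of each point. -/
theorem exists_etale_split {S : Scheme.{u}} {H : Over S} [GrpObj H] (hH : SGA3x.IsMultTypeFT H) (s : S) :
    ∃ (S' : Scheme.{u}) (f : S' ⟶ S) (M : Type) (_ : AddCommGroup M), Etale f ∧ s ∈ Set.range f ∧ AddGroup.FG M ∧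
      Nonempty (Grp.mk (Red.bc f H) ≅ Grp.mk (Red.DS S' M)) := by
  obtain ⟨V, hV, hsV, -⟩ := exists_isAffineOpen_mem_and_subset (show s ∈ (⊤ : S.Opens) from trivial)
  let R : CommRingCat.{u} := Γ(S, V)
  let g : Spec (CommRingCat.of R) ⟶ S := hV.fromSpec
  obtain ⟨p, hp⟩ : s ∈ Set.range g := hV.range_fromSpec.symm ▸ hsV
  have hH' := GrpSchLib.MultTypeBC.isMultTypeFT_bc g hH
  obtain ⟨B, iB, iH, hB, ⟨e⟩⟩ := exists_hopf_multType (Red.bc g H) (isMultType_of_ft hH')
  haveI : LocallyOfFinitePresentation (Red.bc g H).hom := MultTypeFlat.lfp hH'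
  obtain ⟨t, ht, hloc⟩ := S2973.result R B (finiteType_sp e) hB
  obtain ⟨x, hxt, hxp⟩ : ∃ x ∈ t, x ∉ p.asIdeal := by
    by_contra! hcon
    exact p.2.ne_top (top_le_iff.mp (ht ▸ Ideal.span_le.mpr fun x hx => hcon x hx))
  obtain ⟨R', iR', iA, hEt, hFF, M, iM, ⟨q⟩⟩ := hloc x hxt
  haveI := hEt
  haveI := hFF
  let Rx := Localization.Away x
  let g₁ : Spec (CommRingCat.of Rx) ⟶ Spec (CommRingCat.of R) := Spec.map (CommRingCat.ofHom (algebraMap R Rx))
  let g₂ : Spec (CommRingCat.of R') ⟶ Spec (CommRingCat.of Rx) := Spec.map (CommRingCat.ofHom (algebraMap Rx R'))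
  haveI : IsOpenImmersion g₁ := IsOpenImmersion.of_isLocalization x
  haveI : Etale g₂ := (HasRingHomProperty.Spec_iff (P := @Etale)).mpr (RingHom.etale_algebraMap.mpr hEt)
  have hf : Etale (g₂ ≫ g₁ ≫ g) := inferInstance
  obtain ⟨p₁, hp₁⟩ : ∃ p₁, g₁ p₁ = p := by
    have : p ∈ Set.range (PrimeSpectrum.comap (algebraMap R Rx)) := by
      rw [PrimeSpectrum.localization_away_comap_range Rx x]
      exact hxp
    exact this
  obtain ⟨p₂, hp₂⟩ : ∃ p₂, g₂ p₂ = p₁ := PrimeSpectrum.comap_surjective_of_faithfullyFlat p₁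
  haveI : Nontrivial R' := PrimeSpectrum.nonempty_iff_nontrivial.mp ⟨p₂⟩
  haveI hft : Algebra.FiniteType R B := finiteType_sp e
  haveI : Algebra.FiniteType R' (MonoidAlgebra R' M) :=
    Algebra.FiniteType.equiv (inferInstance : Algebra.FiniteType R' (R' ⊗[Rx] (Rx ⊗[R] B)))
      (q : R' ⊗[Rx] (Rx ⊗[R] B) ≃ₐ[R'] MonoidAlgebra R' M)
  haveI : Group.FG M := Group.fg_iff_monoid_fg.mpr ((MonoidAlgebra.finiteType_iff_fg (R := R')).mp inferInstance)
  obtain ⟨N, iN, hN, ⟨c⟩⟩ := exists_small M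
  obtain ⟨a₁⟩ := GrpSchLib.MultTypeBC.bc_bc (g₂ ≫ g₁) g H
  obtain ⟨a₂⟩ := GrpSchLib.MultTypeBC.bc_congr (Category.assoc g₂ g₁ g) H
  obtain ⟨a₃⟩ := GrpSchLib.MultTypeBC.bc_iso (g₂ ≫ g₁) e
  obtain ⟨a₄⟩ := GrpSchLib.MultTypeBC.bc_bc g₂ g₁ (sp R B)
  obtain ⟨a₅⟩ := nonempty_bc_sp (R := R) Rx B
  obtain ⟨a₆⟩ := GrpSchLib.MultTypeBC.bc_iso g₂ a₅
  obtain ⟨a₇⟩ := nonempty_bc_sp (R := Rx) R' (Rx ⊗[R] B)
  obtain ⟨a₈⟩ := nonempty_DS_iso R' N
  refine ⟨_, g₂ ≫ g₁ ≫ g, N, iN, hf, ⟨p₂, ?_⟩, hN, ⟨?_⟩⟩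
  · rw [Scheme.Hom.comp_apply, Scheme.Hom.comp_apply, hp₂, hp₁, hp]
  · exact (a₁ ≪≫ a₂).symm ≪≫ a₃.symm ≪≫ a₄.symm ≪≫ a₆ ≪≫ a₇ ≪≫
      (spIso ((congrEquiv R' c).trans q.symm)) ≪≫ a₈

/-- The same, as a local property for the etale topology. -/
theorem locally_etale {S : Scheme.{u}} {H : Over S} [GrpObj H] (hH : SGA3x.IsMultTypeFT H) :
    TwC.Locally S TwC.Topology.etale (fun S' f => ∃ (M : Type) (_ : AddCommGroup M),
      AddGroup.FG M ∧ Nonempty (Grp.mk (Red.bc f H) ≅ Grp.mk (Red.DS S' M))) := by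
  intro s
  obtain ⟨S', f, M, iM, hf, hs, hM, e⟩ := exists_etale_split hH s
  exact ⟨S', f, hf, hs, M, iM, hM, e⟩

end Groth.Agent.Deform.QuasiIsotrivial
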