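import Groth.Agent.S7966
import Groth.Agent.S4130
import Groth.Agent.S14691
import Groth.Agent.Deform.MultSub
import Groth.Agent.Deform.QuasiIsotrivial
import Groth.Agent.Deform.TorusAlg
import Groth.Agent.FpqcDescLib.Group
import Groth.Agent.MultTypeLib.Field

/-!
# Commutative extensions of diagonalisable groups over algebraically closed fields

A commutative affine algebraic group whose largest subgroup of multiplicative type has a unipotent quotient is
diagonalisable as soon as it is an extension of groups of multiplicative type.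
-/

set_option autoImplicit false
set_option linter.style.haveILetI false

universe u

open CategoryTheory CategoryTheory.Limits MonoidalCategory CartesianMonoidalCategory MonObj GrpObj AlgebraicGeometry
open TensorProduct WithConv

attribute [local instance] CategoryTheory.Hom.monoid CategoryTheory.Hom.group

namespace Groth.Agent.Deform.UnipDiag

open GrpSchLib.AffineHopf (sp spIso spMap spMap_comp spMap_injective exists_hopf exists_bialgHom)

set_option maxHeartbeats 1000000 in
/-- A homomorphism from a diagonalisable group to a unipotent one is trivial. -/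
theorem eq_counit {k : Type u} [Field k] {B : Type u} [CommRing B] [HopfAlgebra k B] (hB : HopfRep.IsUnipotent k B)
    {M : Type u} [CommGroup M] (f : B →ₐc[k] MonoidAlgebra k M) (b : B) :
    f b = algebraMap k (MonoidAlgebra k M) (Coalgebra.counit (R := k) b) := by
  classical
  let A := MonoidAlgebra k M
  have hspan : Submodule.span k {g : A | IsGroupLikeElem k g} = ⊤ := by
    refine eq_top_iff.mpr fun x _ => ?_
    induction x using MonoidAlgebra.induction_linear with
    | zero => exact zero_mem _
    | add p q hp hq => exact add_mem (hp trivial) (hq trivial)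
    | single m r =>
      rw [show MonoidAlgebra.single m r = r • MonoidAlgebra.single m (1 : k) by simp]
      exact Submodule.smul_mem _ _ (Submodule.subset_span (MonoidAlgebra.isGroupLikeElem_single_one m))
  let φ : k ⊗[k] B →ₐc[k] k ⊗[k] A := Bialgebra.TensorProduct.map (BialgHom.id k k) f
  have hf : Function.Injective (S7966.defect k A) := S7966.defect_injective_of_span hspan
  have hlev : ∀ (r : ℕ), ∀ a ∈ ComodLib.uniLevel k B r, S7966.triv φ a = 0 := by
    intro r
    induction r using Nat.strong_induction_on with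
    | _ r ih =>
      intro a ha
      rcases Nat.eq_zero_or_pos r with rfl | hr
      · rw [ComodLib.uniLevel_zero, Submodule.mem_span_singleton] at ha
        obtain ⟨c, rfl⟩ := ha
        rw [map_smul, S7966.triv_one, smul_zero]
      · refine S7966.eq_zero_of_defect hf _ ?_
        rw [S7966.defect_triv]
        have h1 := ComodLib.map_comul_uniLevel r (Submodule.mem_map_of_mem ha)
        have h2 : (⨆ i ∈ Finset.range (r + 1), LinearMap.range
            (TensorProduct.mapIncl (ComodLib.uniLevel k B i) (ComodLib.uniLevel k B (r - i)))) ≤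
            LinearMap.ker (S7966.TT φ) := by
          refine iSup₂_le fun i hi => ?_
          rintro _ ⟨z, rfl⟩
          induction z using TensorProduct.induction_on with
          | zero => simp
          | add u w hu hw => rw [map_add]; exact add_mem hu hw
          | tmul u w =>
            rw [LinearMap.mem_ker]
            show (S7966.triv φ u.1) ⊗ₜ[k] (S7966.triv φ w.1) = 0
            rcases Nat.lt_or_ge i r with h | h
            · rw [ih i h u.1 u.2, TensorProduct.zero_tmul]
            · rw [ih (r - i) (by omega) w.1 w.2, TensorProduct.tmul_zero]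
        exact h2 h1
  have hmem : b ∈ ⨆ r, ComodLib.uniLevel k B r := by rw [ComodLib.iSup_uniLevel_eq_top hB]; trivial
  obtain ⟨r, hr⟩ := (Submodule.mem_iSup_of_directed _ ComodLib.uniLevel_mono.directed_le).mp hmem
  have h0 := hlev r b hr
  rw [S7966.triv_apply, sub_eq_zero] at h0
  refine (Algebra.TensorProduct.lid k A).symm.injective ?_
  show (1 : k) ⊗ₜ[k] f b = (1 : k) ⊗ₜ[k] _
  rw [Algebra.algebraMap_eq_smul_one, TensorProduct.tmul_smul, ← Algebra.TensorProduct.one_def]
  exact h0

variable {S : Scheme.{u}}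

/-- The kernel inclusion is a monomorphism. -/
theorem mono_of_isKernel {H E K : Over S} [GrpObj K] {i : H ⟶ E} {p : E ⟶ K} (hker : AlgGrp.IsKernel i p) : Mono i := by
  refine ⟨fun {Z} a b h => hker.hom_ext h (toUnit_unique _ _)⟩

/-- Two points with the same image differ by a point of the kernel. -/
theorem isCosetMap_of_isKernel {H E K : Over S} [GrpObj H] [GrpObj E] [GrpObj K] {i : H ⟶ E} [IsMonHom i]
    {p : E ⟶ K} [IsMonHom p] (hker : AlgGrp.IsKernel i p) : FpqcDescLib.IsCosetMap i p := fun T a b => by
  constructor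
  · intro e
    refine ⟨hker.lift (a⁻¹ * b) (toUnit T) ?_, ?_⟩
    · rw [MonObj.mul_comp, GrpObj.inv_comp, e, inv_mul_cancel, Hom.one_def]
    · rw [hker.lift_fst, mul_inv_cancel_left]
  · rintro ⟨h, rfl⟩
    rw [MonObj.mul_comp, Category.assoc, hker.w, ← Category.assoc, comp_toUnit, ← Hom.one_def, _root_.mul_one]

set_option maxHeartbeats 2000000 in
/-- Over an algebraically closed field a commutative affine extension of groups of multiplicative type is of
multiplicative type. -/
theorem exists_diag_of_extension {k : Type u} [Field k] [IsAlgClosed k] {E H K : Over (Spec (CommRingCat.of k))}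
    [GrpObj E] [GrpObj H] [GrpObj K] [IsCommMonObj E] [IsAffine E.left] [LocallyOfFiniteType E.hom]
    (p : E ⟶ K) [IsMonHom p] (hp : FpqcDescLib.Covers p.left) (i : H ⟶ E) [IsMonHom i]
    (hker : AlgGrp.IsKernel i p) (hH : SGA3x.IsMultTypeFT H) (hK : SGA3x.IsMultTypeFT K) :
    ∃ (M : Type u) (_ : CommGroup M), Group.FG M ∧
      Nonempty (Grp.mk (sp k (MonoidAlgebra k M)) ≅ Grp.mk E) := by
  obtain ⟨A, _, _, ⟨eA⟩⟩ := exists_hopf E
  haveI : IsMonHom eA.hom.hom.hom := eA.hom.hom.isMonHom_hom
  haveI : IsIso eA.hom.hom.hom := ((Grp.forget _).mapIso eA).isIso_hom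
  haveI : Coalgebra.IsCocomm k A := S14691.isCocomm_of_iso eA.hom.hom.hom
  haveI hft : Algebra.FiniteType k A := QuasiIsotrivial.finiteType_sp eA
  obtain ⟨J, hJ, hJm, -, B, _, _, φ, hφ, hJeq, hU⟩ := S4130.result k A
  obtain ⟨α, _, -, ⟨eH⟩⟩ := exists_diag H hH
  obtain ⟨β, _, -, ⟨eK⟩⟩ := exists_diag K hK
  haveI : IsMonHom eH.hom.hom.hom := eH.hom.hom.isMonHom_hom
  haveI : IsIso eH.hom.hom.hom := ((Grp.forget _).mapIso eH).isIso_hom
  haveI : IsMonHom eK.hom.hom.hom := eK.hom.hom.isMonHom_hom
  haveI : IsMonHom eA.inv.hom.hom := eA.inv.hom.isMonHom_hom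
  let q : E ⟶ sp k B := eA.inv.hom.hom ≫ spMap (φ : B →ₐ[k] A)
  -- the composite with the kernel is trivial
  have hiq : i ≫ q = 1 := by
    obtain ⟨f, hf⟩ := exists_bialgHom (eH.hom.hom.hom ≫ i ≫ q)
    have h1 : spMap (f : B →ₐ[k] MonoidAlgebra k α) = 1 := by
      rw [show (1 : sp k (MonoidAlgebra k α) ⟶ sp k B) = Spec.mapMulEquiv (1 : WithConv (B →ₐ[k] MonoidAlgebra k α)) from
        (map_one Spec.mapMulEquiv).symm, GrpSchLib.AffineHopf.spMap_eq_mapMulEquiv]
      refine congrArg _ (WithConv.ext (AlgHom.ext fun b => ?_))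
      simpa [AlgHom.convOne_def] using eq_counit hU f b
    rw [← cancel_epi eH.hom.hom.hom, hf, h1, MonObj.comp_one]
  -- hence it factors through the quotient, where it is trivial
  obtain ⟨g, ⟨hg, hgm⟩, -⟩ := FpqcDescLib.exists_unique_hom hp (isCosetMap_of_isKernel hker) q hiq
  haveI := hgm
  have hg1 : g = 1 := by
    obtain ⟨f, hf⟩ := exists_bialgHom (eK.hom.hom.hom ≫ g)
    haveI : IsIso eK.hom.hom.hom := ((Grp.forget _).mapIso eK).isIso_hom
    rw [← cancel_epi eK.hom.hom.hom, hf, MonObj.comp_one,
      show (1 : sp k (MonoidAlgebra k β) ⟶ sp k B) = Spec.mapMulEquiv (1 : WithConv (B →ₐ[k] MonoidAlgebra k β)) from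
        (map_one Spec.mapMulEquiv).symm, GrpSchLib.AffineHopf.spMap_eq_mapMulEquiv]
    refine congrArg _ (WithConv.ext (AlgHom.ext fun b => ?_))
    simpa [AlgHom.convOne_def] using eq_counit hU f b
  have hq1 : spMap (φ : B →ₐ[k] A) = 1 := by
    have h : q = 1 := by rw [← hg, hg1, MonObj.comp_one]
    haveI : IsIso eA.inv.hom.hom := ((Grp.forget _).mapIso eA).isIso_inv
    rw [← cancel_epi eA.inv.hom.hom, MonObj.comp_one]
    exact h
  have hφ1 : ∀ b, φ b = algebraMap k A (Coalgebra.counit (R := k) b) := fun b => by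
    rw [GrpSchLib.AffineHopf.spMap_eq_mapMulEquiv, ← map_one (Spec.mapMulEquiv (R := k) (S := B) (T := A))] at hq1
    have h := congrArg (fun w : WithConv (B →ₐ[k] A) => w.ofConv b) (Spec.mapMulEquiv.injective hq1)
    simpa [AlgHom.convOne_def] using h
  have hJbot : J = ⊥ := by
    rw [hJeq, eq_bot_iff, Ideal.map_le_iff_le_comap]
    intro b hb
    show φ b ∈ (⊥ : Ideal A)
    rw [hφ1, show Coalgebra.counit (R := k) b = 0 from hb, map_zero]
    exact zero_mem _
  -- so it is of multiplicative type
  haveI := hJ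
  let e : A ≃ₐc[k] A ⧸ J :=
    BialgEquiv.ofBijective (Bialgebra.Quotient.mkBialgHom (R := k) J)
      ⟨(injective_iff_map_eq_zero _).mpr fun a ha => by
        have : a ∈ J := Ideal.Quotient.eq_zero_iff_mem.mp ha
        rwa [hJbot, Ideal.mem_bot] at this, Ideal.Quotient.mk_surjective⟩
  obtain ⟨R', iR', iA', hff, hd⟩ := hJm
  have hmt : SGA3b.IsMultType k A := MultTypeLib.isMultType_congr e.symm (MultTypeLib.isMultType_of_ff R' hd)
  obtain ⟨K', _, _, _, _, M, _, hfg, ⟨qq⟩⟩ := MultTypeLib.isotrivial_of_field k A hft hmt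
  let σ : k ≃+* K' := RingEquiv.ofBijective (algebraMap k K') IsAlgClosed.algebraMap_bijective_of_isIntegral
  letI : Algebra K' k := σ.symm.toRingHom.toAlgebra
  haveI : IsScalarTower k K' k := IsScalarTower.of_algebraMap_eq fun x => (σ.symm_apply_apply x).symm
  have q' : A ≃ₐc[k] MonoidAlgebra k M :=
    (((Bialgebra.TensorProduct.lid k A).symm.trans (MultTypeLib.baseChangeTrans (R := k) K' k A)).trans
      (MultTypeLib.congrBase k qq)).trans (GrpSchLib.AffineHopf.scalarBialgEquiv K' k M).symm
  exact ⟨M, inferInstance, hfg, ⟨spIso q' ≪≫ eA⟩⟩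

end Groth.Agent.Deform.UnipDiag
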