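import Groth.Agent.Deform.Transporter
import Groth.Agent.SmoothSecLib.Basic

/-!
# Conjugacy on geometric fibres gives conjugacy locally for the etale topology
-/

set_option autoImplicit false
set_option linter.style.haveILetI false
set_option linter.unusedSectionVars false
set_option backward.isDefEq.respectTransparency false
set_option backward.isDefEq.respectTransparency.types false

universe u

open CategoryTheory CategoryTheory.Limits MonoidalCategory CartesianMonoidalCategory AlgebraicGeometry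

open scoped MonObj

namespace Groth.Agent.Deform

variable {S : Scheme.{u}}

/-- A smooth scheme has a point over an etale neighbourhood of each point of its image. -/
theorem exists_etale_point {T G : Over S} (j : T ⟶ G) [Smooth T.hom] (s : S)
    (t : Over.mk (Red.geomPt s) ⟶ T) :
    ∃ (S' : Scheme.{u}) (f : S' ⟶ S), Etale f ∧ s ∈ Set.range f.base ∧
      ∃ g : 𝟙_ (Over S') ⟶ Red.bc f G, ∃ z : (Over.map f).obj (𝟙_ (Over S')) ⟶ T,
        z ≫ j = DSPtsLib.theta f g := by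
  have x₀ := IsLocalRing.closedPoint (AlgebraicClosure (S.residueField s))
  obtain ⟨S', f, s', -, hf, hs', h, hh⟩ := SmoothSecLib.exists_etale_section_scheme T.hom (t.left x₀)
  let z : (Over.map f).obj (𝟙_ (Over S')) ⟶ T := Over.homMk h (hh.trans (Category.id_comp f).symm)
  obtain ⟨g, hg⟩ := (DSPtsLib.theta_bijective f).surjective (z ≫ j)
  refine ⟨S', f, hf, ⟨s', ?_⟩, g, z, hg.symm⟩
  rw [hs', ← Scheme.Hom.comp_apply]
  erw [Over.w t]
  exact Scheme.fromSpecResidueField_apply s _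

/-- A point conjugating a subgroup onto another one gives an isomorphism between them. -/
theorem conjBy_of_points {H₁ H₂ G : Over S} [GrpObj G] (i₁ : H₁ ⟶ G) [Mono i₁] (i₂ : H₂ ⟶ G) [Mono i₂]
    (g : 𝟙_ (Over S) ⟶ G)
    (h : ∀ X : Over S, (∀ a : X ⟶ H₁, ∃ b : X ⟶ H₂, (toUnit X ≫ g) * (a ≫ i₁) * (toUnit X ≫ g)⁻¹ = b ≫ i₂) ∧
      (∀ b : X ⟶ H₂, ∃ a : X ⟶ H₁, (toUnit X ≫ g)⁻¹ * (b ≫ i₂) * (toUnit X ≫ g) = a ≫ i₁)) :
    SGA3x.ConjBy i₁ i₂ g := by
  obtain ⟨φ, hφ⟩ := (h H₁).1 (𝟙 _)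
  obtain ⟨ψ, hψ⟩ := (h H₂).2 (𝟙 _)
  rw [Category.id_comp] at hφ hψ
  have c : ∀ {X Y : Over S} (a : X ⟶ Y) (v : Y ⟶ G),
      a ≫ ((toUnit Y ≫ g) * v * (toUnit Y ≫ g)⁻¹) = (toUnit X ≫ g) * (a ≫ v) * (toUnit X ≫ g)⁻¹ :=
    fun a v => by simp only [MonObj.comp_mul, GrpObj.comp_inv, comp_toUnit_assoc]
  refine ⟨⟨φ, ψ, ?_, ?_⟩, hφ⟩
  · rw [← cancel_mono i₁, Category.id_comp, Category.assoc, ← hψ]
    simp only [MonObj.comp_mul, GrpObj.comp_inv, comp_toUnit_assoc, ← hφ]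
    group
  · rw [← cancel_mono i₂, Category.id_comp, Category.assoc, ← hφ, c, ← hψ]
    group

/-- Homomorphisms conjugate at the geometric points are conjugate locally for the etale topology. -/
theorem locally_conj {H G : Over S} [GrpObj H] [GrpObj G] (hH : SGA3x.IsMultTypeFT H) [Smooth G.hom]
    [IsAffineHom G.hom] (u₁ u₂ : H ⟶ G) [IsMonHom u₁] [IsMonHom u₂]
    (hgeom : ∀ s : S, ∃ g : Over.mk (Red.geomPt s) ⟶ G, ∀ (X : Over S) (p : X ⟶ Over.mk (Red.geomPt s))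
      (h : X ⟶ H), h ≫ u₂ = (p ≫ g) * (h ≫ u₁) * (p ≫ g)⁻¹) :
    TwC.Locally S TwC.Topology.etale (fun S' f => ∃ g : 𝟙_ (Over S') ⟶ Red.bc f G,
      ∀ (X : Over S') (h : X ⟶ Red.bc f H), h ≫ (Over.pullback f).map u₂ =
        (toUnit X ≫ g) * (h ≫ (Over.pullback f).map u₁) * (toUnit X ≫ g)⁻¹) := by
  intro s
  obtain ⟨T, j, -, hT, key⟩ := exists_transporter (isMultType_of_ft hH) u₁ u₂
  obtain ⟨g₀, hg₀⟩ := hgeom s
  obtain ⟨t, -⟩ := (key _ g₀).mpr fun X' x h => (hg₀ X' x h).symm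
  haveI := hT
  obtain ⟨S', f, hf, hs, g, hz⟩ := exists_etale_point j s t
  refine ⟨S', f, hf, hs, g, fun X h => ?_⟩
  apply (DSPtsLib.theta_bijective f).injective
  rw [DSPtsLib.theta_mul, DSPtsLib.theta_mul, theta_inv, theta_map', theta_map', DSPtsLib.theta_comp]
  exact ((key _ _).mp hz _ ((Over.map f).map (toUnit X)) (DSPtsLib.theta f h)).symm

/-- Subgroups conjugate at a geometric point are conjugate on an etale neighbourhood. -/
theorem exists_etale_conjBy {H₁ H₂ G : Over S} [GrpObj H₁] [GrpObj H₂] [GrpObj G] (h₁ : SGA3x.IsMultTypeFT H₁)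
    (h₂ : SGA3x.IsMultTypeFT H₂) [Smooth G.hom] [IsAffineHom G.hom] (i₁ : H₁ ⟶ G) [IsMonHom i₁] [Mono i₁]
    (i₂ : H₂ ⟶ G) [IsMonHom i₂] [Mono i₂] (s : S)
    (hs : ∃ g : Over.mk (Red.geomPt s) ⟶ G, ∀ (X : Over S) (p : X ⟶ Over.mk (Red.geomPt s)),
      (∀ a : X ⟶ H₁, ∃ b : X ⟶ H₂, (p ≫ g) * (a ≫ i₁) * (p ≫ g)⁻¹ = b ≫ i₂) ∧
      (∀ b : X ⟶ H₂, ∃ a : X ⟶ H₁, (p ≫ g)⁻¹ * (b ≫ i₂) * (p ≫ g) = a ≫ i₁)) :
    ∃ (S' : Scheme.{u}) (e : S' ⟶ S), Etale e ∧ s ∈ Set.range e.base ∧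
      ∃ g : 𝟙_ (Over S') ⟶ Red.bc e G, SGA3x.ConjBy ((Over.pullback e).map i₁) ((Over.pullback e).map i₂) g := by
  obtain ⟨T, j, -, hT, key⟩ := exists_transporter_eq h₁ h₂ i₁ i₂
  obtain ⟨g₀, hg₀⟩ := hs
  obtain ⟨t, -⟩ := (key _ g₀).mpr fun X' x => hg₀ X' x
  haveI := hT
  obtain ⟨S', f, hf, hs, g, hz⟩ := exists_etale_point j s t
  refine ⟨S', f, hf, hs, g, conjBy_of_points _ _ g fun X => ?_⟩
  have hp := (key _ _).mp hz _ ((Over.map f).map (toUnit X))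
  rw [← DSPtsLib.theta_comp] at hp
  constructor
  · intro h
    obtain ⟨h', hh'⟩ := hp.1 (DSPtsLib.theta f h)
    obtain ⟨k, rfl⟩ := (DSPtsLib.theta_bijective f).surjective h'
    exact ⟨k, (DSPtsLib.theta_bijective f).injective (by
      rw [DSPtsLib.theta_mul, DSPtsLib.theta_mul, theta_inv, theta_map', theta_map', hh'])⟩
  · intro h
    obtain ⟨h', hh'⟩ := hp.2 (DSPtsLib.theta f h)
    obtain ⟨k, rfl⟩ := (DSPtsLib.theta_bijective f).surjective h'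
    exact ⟨k, (DSPtsLib.theta_bijective f).injective (by
      rw [DSPtsLib.theta_mul, DSPtsLib.theta_mul, theta_inv, theta_map', theta_map', hh'])⟩

end Groth.Agent.Deform
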