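import Groth.Agent.Deform.Average
import Groth.Agent.MorLib.FSmoothSection
import Groth.Agent.DSPtsLib.Basic
import Groth.Agent.GrpSchLib.MultTypeBC
import Groth.Agent.GrpSchLib.SubgroupEqLocus
import Groth.Agent.WittEndoLib.Basic
import Mathlib.RingTheory.Ideal.Quotient.Nilpotent

/-!
# Conjugations lift along nilpotent thickenings
-/

set_option autoImplicit false
set_option linter.style.haveILetI false
set_option backward.isDefEq.respectTransparency false
set_option backward.isDefEq.respectTransparency.types false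

universe u

open CategoryTheory CategoryTheory.Limits MonoidalCategory CartesianMonoidalCategory AlgebraicGeometry

attribute [local instance] CategoryTheory.Hom.monoid CategoryTheory.Hom.group

namespace Groth.Agent.Deform

/-- The affine scheme of a quotient, over the base. -/
noncomputable abbrev closedPt {R : Type u} [CommRing R] (J : Ideal R) : Over (Spec (CommRingCat.of R)) :=
  Over.mk (Spec.map (CommRingCat.ofHom (Ideal.Quotient.mk J)))

/-- Groups of multiplicative type stay so after base change. -/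
theorem locally_bc {S T : Scheme.{u}} (g : T ⟶ S) {H : Over S} [GrpObj H]
    (hH : TwC.Locally S TwC.Topology.fpqc (fun S' f => ∃ (M : Type) (_ : AddCommGroup M),
      Nonempty (Grp.mk (Red.bc f H) ≅ Grp.mk (Red.DS S' M)))) :
    TwC.Locally T TwC.Topology.fpqc (fun S' f => ∃ (M : Type) (_ : AddCommGroup M),
      Nonempty (Grp.mk (Red.bc f (Red.bc g H)) ≅ Grp.mk (Red.DS S' M))) := by
  obtain ⟨S', f, hflat, hsurj, hqc, hloc⟩ := hH
  have hcf : FpqcDescLib.Covers f :=
    FpqcDescLib.covers_of_hcov f ⟨S', f, 𝟙 _, Category.id_comp _, hsurj, hflat, hqc⟩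
  obtain ⟨Z, r, hr⟩ := hcf.pullback g (pullback.fst g f) (pullback.snd g f) (IsPullback.of_hasPullback g f)
  obtain ⟨hfl, hcov⟩ := GrpSchLib.SubgroupEqLocus.flat_hcov_of_isCovering hr
  refine ⟨Z, r ≫ pullback.fst g f, hfl, ⟨fun x => ?_⟩, hcov, fun z => ?_⟩
  · obtain ⟨V, hV, hxV, -⟩ := exists_isAffineOpen_mem_and_subset (show x ∈ (⊤ : T.Opens) from trivial)
    obtain ⟨W, -, hW⟩ := hcov V hV
    have hx : x ∈ (V : Set T) := hxV
    rw [← hW] at hx
    obtain ⟨w, -, hw⟩ := hx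
    exact ⟨w, hw⟩
  · obtain ⟨U, hzU, M, iM, ⟨e⟩⟩ := hloc ((r ≫ pullback.snd g f) z)
    let U' : Z.Opens := (r ≫ pullback.snd g f) ⁻¹ᵁ U
    let l : (U' : Scheme.{u}) ⟶ U := (r ≫ pullback.snd g f) ∣_ U
    have hl : (U'.ι ≫ r ≫ pullback.fst g f) ≫ g = l ≫ U.ι ≫ f := by
      rw [← Category.assoc l, morphismRestrict_ι, Category.assoc, Category.assoc, Category.assoc, Category.assoc,
        pullback.condition]
    obtain ⟨e₁⟩ := GrpSchLib.MultTypeBC.bc_bc (U'.ι ≫ r ≫ pullback.fst g f) g H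
    obtain ⟨e₂⟩ := GrpSchLib.MultTypeBC.bc_congr hl H
    obtain ⟨e₃⟩ := GrpSchLib.MultTypeBC.bc_bc l (U.ι ≫ f) H
    obtain ⟨e₄⟩ := GrpSchLib.MultTypeBC.bc_iso l e
    obtain ⟨e₅⟩ := GrpSchLib.MultTypeBC.bc_DS l M
    exact ⟨U', hzU, M, iM, ⟨e₁ ≪≫ e₂ ≪≫ e₃.symm ≪≫ e₄ ≪≫ e₅⟩⟩

/-- Smooth morphisms have the lifting property along nilpotent thickenings of affine schemes. -/
theorem exists_lift_nilpotent {X Y : Scheme.{u}} (π : X ⟶ Y) [Smooth π] {R : Type u} [CommRing R] {J : Ideal R}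
    (hJ : IsNilpotent J) (a : Spec (CommRingCat.of (R ⧸ J)) ⟶ X) (b : Spec (CommRingCat.of R) ⟶ Y)
    (w : Spec.map (CommRingCat.ofHom (Ideal.Quotient.mk J)) ≫ b = a ≫ π) :
    ∃ l : Spec (CommRingCat.of R) ⟶ X,
      Spec.map (CommRingCat.ofHom (Ideal.Quotient.mk J)) ≫ l = a ∧ l ≫ π = b := by
  have hfs : MoreMor.IsFormallySmoothHom π := MorLib.isFormallySmoothHom_of_appLE _ fun U V hU hV hUV => by
    have := HasRingHomProperty.appLE @Smooth π inferInstance ⟨V, hV⟩ ⟨U, hU⟩ hUV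
    exact @Algebra.Smooth.formallySmooth _ _ _ _ _ this
  revert a b
  apply Ideal.IsNilpotent.induction_on (S := R) (I := J) hJ (P := fun {S} _ K =>
    ∀ (a : Spec (CommRingCat.of (S ⧸ K)) ⟶ X) (b : Spec (CommRingCat.of S) ⟶ Y),
      Spec.map (CommRingCat.ofHom (Ideal.Quotient.mk K)) ≫ b = a ≫ π →
      ∃ l : Spec (CommRingCat.of S) ⟶ X,
        Spec.map (CommRingCat.ofHom (Ideal.Quotient.mk K)) ≫ l = a ∧ l ≫ π = b)
  · intro S _ I hI a b w
    exact hfs S I hI a b w
  · intro S _ I K hIK hI hK a b w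
    let e : (S ⧸ I) ⧸ K.map (Ideal.Quotient.mk I) ≃+* S ⧸ K := DoubleQuot.quotQuotEquivQuotOfLE hIK
    have he : e.toRingHom.comp ((Ideal.Quotient.mk (K.map (Ideal.Quotient.mk I))).comp (Ideal.Quotient.mk I)) =
        Ideal.Quotient.mk K := RingHom.ext fun x => rfl
    have he' : e.symm.toRingHom.comp (Ideal.Quotient.mk K) =
        (Ideal.Quotient.mk (K.map (Ideal.Quotient.mk I))).comp (Ideal.Quotient.mk I) := RingHom.ext fun x =>
      e.injective (e.apply_symm_apply _)
    obtain ⟨l₁, hl₁, hl₁'⟩ := hK (Spec.map (CommRingCat.ofHom e.symm.toRingHom) ≫ a)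
      (Spec.map (CommRingCat.ofHom (Ideal.Quotient.mk I)) ≫ b) (by
        rw [Category.assoc, ← w, ← Category.assoc, ← Category.assoc, ← Spec.map_comp, ← Spec.map_comp,
          ← CommRingCat.ofHom_comp, ← CommRingCat.ofHom_comp, he'])
    obtain ⟨l, hl, hl'⟩ := hI l₁ b hl₁'.symm
    refine ⟨l, ?_, hl'⟩
    rw [← he, CommRingCat.ofHom_comp, CommRingCat.ofHom_comp, Spec.map_comp, Spec.map_comp, Category.assoc,
      Category.assoc, hl, hl₁, ← Category.assoc, ← Spec.map_comp, ← CommRingCat.ofHom_comp,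
      show e.toRingHom.comp e.symm.toRingHom = RingHom.id _ from RingHom.ext e.apply_symm_apply,
      CommRingCat.ofHom_id, Spec.map_id, Category.id_comp]

variable {R : Type u} [CommRing R]

/-- A point over a closed subscheme of a smooth scheme lifts to the base. -/
theorem exists_lift_pt {J : Ideal R} (hJ : IsNilpotent J) {G : Over (Spec (CommRingCat.of R))} [Smooth G.hom]
    (g₀ : closedPt J ⟶ G) : ∃ g : 𝟙_ (Over (Spec (CommRingCat.of R))) ⟶ G, toUnit (closedPt J) ≫ g = g₀ := by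
  obtain ⟨l, hl, hl'⟩ := exists_lift_nilpotent G.hom hJ g₀.left (𝟙 _) (by
    rw [Category.comp_id]
    exact (Over.w g₀).symm)
  exact ⟨Over.homMk l hl', Over.OverMorphism.ext hl⟩

/-- A factorisation through a finer closed subscheme gives one through a coarser one. -/
noncomputable def closedIncl {J K : Ideal R} (h : K ≤ J) : closedPt J ⟶ closedPt K :=
  Over.homMk (Spec.map (CommRingCat.ofHom (Ideal.Quotient.factor h))) (by
    show Spec.map _ ≫ Spec.map _ = Spec.map _
    rw [← Spec.map_comp, ← CommRingCat.ofHom_comp, Ideal.Quotient.factor_comp_mk])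

section Step

variable {H G : Over (Spec (CommRingCat.of R))} [GrpObj H] [GrpObj G]

/-- Conjugation of a homomorphism by a point of the base. -/
theorem isMonHom_conj (u : H ⟶ G) [IsMonHom u] (g : 𝟙_ (Over (Spec (CommRingCat.of R))) ⟶ G) :
    IsMonHom ((toUnit H ≫ g) * u * (toUnit H ≫ g)⁻¹) :=
  WittEndoLib.isMonHom_of_mul _ fun T x y => by
    simp only [MonObj.comp_mul, GrpObj.comp_inv, comp_toUnit_assoc, MonObj.mul_comp]
    group

/-- One step: homomorphisms congruent modulo `K` are conjugate modulo `K'` by a point congruent to one modulo `K`. -/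
theorem exists_conj_step {K K' J : Ideal R} (hle : K' ≤ K) (hsq : K * K ≤ K') (hKJ : K ≤ J)
    (hlift : ∀ g₀ : closedPt K' ⟶ G, ∃ g : 𝟙_ (Over (Spec (CommRingCat.of R))) ⟶ G, toUnit (closedPt K') ≫ g = g₀)
    (hH : TwC.Locally (Spec (CommRingCat.of R)) TwC.Topology.fpqc (fun S' f => ∃ (M : Type) (_ : AddCommGroup M),
      Nonempty (Grp.mk (Red.bc f H) ≅ Grp.mk (Red.DS S' M))))
    (u v : H ⟶ G) [IsMonHom u] [IsMonHom v]
    (h0 : ∀ (X : Over (Spec (CommRingCat.of R))) (_ : X ⟶ closedPt K) (h : X ⟶ H), h ≫ u = h ≫ v) :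
    ∃ g : 𝟙_ (Over (Spec (CommRingCat.of R))) ⟶ G, toUnit (closedPt J) ≫ g = 1 ∧
      ∀ (X : Over (Spec (CommRingCat.of R))) (_ : X ⟶ closedPt K') (h : X ⟶ H),
        h ≫ v = (toUnit X ≫ g) * (h ≫ u) * (toUnit X ≫ g)⁻¹ := by
  let R' : Type u := R ⧸ K'
  let f : Spec (CommRingCat.of R') ⟶ Spec (CommRingCat.of R) := Spec.map (CommRingCat.ofHom (Ideal.Quotient.mk K'))
  let I : Ideal R' := K.map (Ideal.Quotient.mk K')
  have hI : I ^ 2 = ⊥ := by
    rw [← Ideal.map_pow, Ideal.map_eq_bot_iff_le_ker, Ideal.mk_ker, pow_two]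
    exact hsq
  let σ : R ⧸ K →+* R' ⧸ I := Ideal.Quotient.lift K ((Ideal.Quotient.mk I).comp (Ideal.Quotient.mk K'))
    fun r hr => Ideal.Quotient.eq_zero_iff_mem.mpr (Ideal.mem_map_of_mem _ hr)
  have hσ : σ.comp (Ideal.Quotient.mk K) = (Ideal.Quotient.mk I).comp (Ideal.Quotient.mk K') := rfl
  let u' := (Over.pullback f).map u
  let v' := (Over.pullback f).map v
  haveI : IsMonHom u' := inferInstanceAs (IsMonHom ((Over.pullback f).map u))
  haveI : IsMonHom v' := inferInstanceAs (IsMonHom ((Over.pullback f).map v))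
  have hth : ∀ {Y : Over (Spec (CommRingCat.of R'))} (h : Y ⟶ Red.bc f H) (w : H ⟶ G),
      DSPtsLib.theta f (h ≫ (Over.pullback f).map w) = DSPtsLib.theta f h ≫ w := fun h w =>
    ((Over.mapPullbackAdj f).homEquiv_naturality_right_symm h w)
  obtain ⟨g', hg'1, hg'2⟩ := exists_conj_sqZero hI (Red.bc f H) (Red.bc f G) (locally_bc f hH) u' v'
    (fun Y q h => (DSPtsLib.theta_bijective f).injective (by
      rw [hth, hth]
      refine h0 _ (Over.homMk (q.left ≫ Spec.map (CommRingCat.ofHom σ)) ?_) _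
      show (q.left ≫ Spec.map _) ≫ Spec.map _ = Y.hom ≫ f
      rw [Category.assoc, ← Spec.map_comp, ← CommRingCat.ofHom_comp, hσ, CommRingCat.ofHom_comp, Spec.map_comp,
        ← Category.assoc]
      exact congrArg (· ≫ f) (Over.w q)))
  let κ : closedPt K' ⟶ (Over.map f).obj (𝟙_ (Over (Spec (CommRingCat.of R')))) :=
    Over.homMk (𝟙 _) (by simp [f])
  obtain ⟨g, hg⟩ := hlift (κ ≫ DSPtsLib.theta f g')
  refine ⟨g, ?_, fun X p h => ?_⟩
  · have hle' : K' ≤ J := hle.trans hKJ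
    let Y : Over (Spec (CommRingCat.of R')) := Over.mk (Spec.map (CommRingCat.ofHom (Ideal.Quotient.factor hle')))
    let τ : R' ⧸ I →+* R ⧸ J := Ideal.Quotient.lift I (Ideal.Quotient.factor hle') fun x hx => by
      refine (Ideal.map_le_iff_le_comap.mpr (fun r hr => ?_) : I ≤ RingHom.ker (Ideal.Quotient.factor hle')) hx
      show Ideal.Quotient.factor hle' (Ideal.Quotient.mk K' r) = 0
      rw [Ideal.Quotient.factor_mk]
      exact Ideal.Quotient.eq_zero_iff_mem.mpr (hKJ hr)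
    let y : Y ⟶ closedPt I := Over.homMk (Spec.map (CommRingCat.ofHom τ)) (by
      show Spec.map _ ≫ Spec.map _ = Spec.map _
      rw [← Spec.map_comp, ← CommRingCat.ofHom_comp]
      rfl)
    have e1 : toUnit Y ≫ g' = 1 := by
      rw [← comp_toUnit y, Category.assoc, hg'1, MonObj.comp_one]
    let k : closedPt J ⟶ (Over.map f).obj Y := Over.homMk (𝟙 _) (by
      show 𝟙 _ ≫ Spec.map _ ≫ Spec.map _ = Spec.map _
      rw [Category.id_comp, ← Spec.map_comp, ← CommRingCat.ofHom_comp, Ideal.Quotient.factor_comp_mk])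
    have e2 : toUnit (closedPt J) ≫ g = k ≫ DSPtsLib.theta f (toUnit Y ≫ g') := by
      rw [DSPtsLib.theta_comp, ← comp_toUnit (closedIncl hle'), Category.assoc, hg, ← Category.assoc,
        ← Category.assoc]
      refine congrArg (· ≫ DSPtsLib.theta f g') (Over.OverMorphism.ext ?_)
      show Spec.map _ ≫ 𝟙 _ = 𝟙 _ ≫ (toUnit Y).left
      rw [Category.id_comp, Category.comp_id]
      rfl
    rw [e2, e1]
    have e3 : DSPtsLib.theta f (1 : Y ⟶ Red.bc f G) = 1 := by
      have := DSPtsLib.theta_mul f (1 : Y ⟶ Red.bc f G) 1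
      rw [_root_.one_mul] at this
      exact left_eq_mul.mp this
    rw [e3, MonObj.comp_one]
  · let Y : Over (Spec (CommRingCat.of R')) := Over.mk p.left
    let j : X ⟶ (Over.map f).obj Y := Over.homMk (𝟙 _) ((Category.id_comp _).trans (Over.w p))
    let j' : (Over.map f).obj Y ⟶ X := Over.homMk (𝟙 _) ((Category.id_comp _).trans (Over.w p).symm)
    obtain ⟨h', hh'⟩ := (DSPtsLib.theta_bijective f).surjective (j' ≫ h)
    have hjh : j ≫ DSPtsLib.theta f h' = h := by
      rw [hh', ← Category.assoc, show j ≫ j' = 𝟙 X from Over.OverMorphism.ext (Category.id_comp _), Category.id_comp]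
    have hc : toUnit X ≫ g = j ≫ DSPtsLib.theta f (toUnit Y ≫ g') := by
      rw [← comp_toUnit p, Category.assoc, hg, DSPtsLib.theta_comp, ← Category.assoc, ← Category.assoc]
      refine congrArg (· ≫ DSPtsLib.theta f g') (Over.OverMorphism.ext ?_)
      show p.left ≫ 𝟙 _ = 𝟙 _ ≫ (toUnit Y).left
      rw [Category.comp_id, Category.id_comp]
      rfl
    have key := congrArg (DSPtsLib.theta f) (hg'2 Y h')
    rw [DSPtsLib.theta_mul, DSPtsLib.theta_mul, hth, hth] at key
    have hinv : DSPtsLib.theta f (toUnit Y ≫ g')⁻¹ = (DSPtsLib.theta f (toUnit Y ≫ g'))⁻¹ := by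
      refine eq_inv_of_mul_eq_one_left ?_
      have h1 := DSPtsLib.theta_mul f (1 : Y ⟶ Red.bc f G) 1
      rw [_root_.one_mul] at h1
      rw [← DSPtsLib.theta_mul, inv_mul_cancel]
      exact left_eq_mul.mp h1
    rw [hinv] at key
    rw [hc, ← hjh, Category.assoc, key, MonObj.comp_mul, MonObj.comp_mul, GrpObj.comp_inv, Category.assoc]

/-- Conjugations modulo a nilpotent ideal lift, for a smooth target. -/
theorem exists_conj_nilpotent {J : Ideal R} (hJ : IsNilpotent J) [Smooth G.hom]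
    (hH : TwC.Locally (Spec (CommRingCat.of R)) TwC.Topology.fpqc (fun S' f => ∃ (M : Type) (_ : AddCommGroup M),
      Nonempty (Grp.mk (Red.bc f H) ≅ Grp.mk (Red.DS S' M))))
    (u v : H ⟶ G) [IsMonHom u] [IsMonHom v] (g₀ : closedPt J ⟶ G)
    (h0 : ∀ (X : Over (Spec (CommRingCat.of R))) (p : X ⟶ closedPt J) (h : X ⟶ H),
      h ≫ v = (p ≫ g₀) * (h ≫ u) * (p ≫ g₀)⁻¹) :
    ∃ g : 𝟙_ (Over (Spec (CommRingCat.of R))) ⟶ G, toUnit (closedPt J) ≫ g = g₀ ∧
      ∀ (X : Over (Spec (CommRingCat.of R))) (h : X ⟶ H),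
        h ≫ v = (toUnit X ≫ g) * (h ≫ u) * (toUnit X ≫ g)⁻¹ := by
  obtain ⟨n, hn⟩ := id hJ
  have main : ∀ k : ℕ, ∃ g : 𝟙_ (Over (Spec (CommRingCat.of R))) ⟶ G, toUnit (closedPt J) ≫ g = g₀ ∧
      ∀ (X : Over (Spec (CommRingCat.of R))) (_ : X ⟶ closedPt (J ^ (k + 1))) (h : X ⟶ H),
        h ≫ v = (toUnit X ≫ g) * (h ≫ u) * (toUnit X ≫ g)⁻¹ := by
    intro k
    induction k with
    | zero =>
      obtain ⟨g, hg⟩ := exists_lift_pt hJ g₀
      refine ⟨g, hg, fun X p h => ?_⟩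
      let p' : X ⟶ closedPt J := p ≫ closedIncl (by rw [zero_add, pow_one]) ≫ 𝟙 _
      rw [h0 X p' h, ← hg, ← Category.assoc, comp_toUnit]
    | succ k ih =>
      obtain ⟨g, hg, hgk⟩ := ih
      haveI := isMonHom_conj u g
      obtain ⟨c, hc, hck⟩ := exists_conj_step (K := J ^ (k + 1)) (K' := J ^ (k + 2)) (J := J)
        (Ideal.pow_le_pow_right (by omega)) (by rw [← pow_add]; exact Ideal.pow_le_pow_right (by omega))
        (Ideal.pow_le_self (by omega)) (fun g₀ => exists_lift_pt (hJ.pow_of_pos (by omega)) g₀) hH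
        ((toUnit H ≫ g) * u * (toUnit H ≫ g)⁻¹) v (fun X p h => by
          rw [hgk X p h, MonObj.comp_mul, MonObj.comp_mul, GrpObj.comp_inv, comp_toUnit_assoc])
      refine ⟨c * g, by rw [MonObj.comp_mul, hc, hg, _root_.one_mul], fun X p h => ?_⟩
      rw [hck X p h]
      simp only [MonObj.comp_mul, GrpObj.comp_inv, comp_toUnit_assoc]
      group
  obtain ⟨g, hg, hgn⟩ := main n
  have hbot : J ^ (n + 1) = ⊥ := le_bot_iff.mp ((Ideal.pow_le_pow_right (Nat.le_succ n)).trans (le_of_eq hn))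
  refine ⟨g, hg, fun X h => hgn X (Over.homMk (X.hom ≫ Spec.map (CommRingCat.ofHom
    (Ideal.Quotient.lift (J ^ (n + 1)) (RingHom.id R) fun r hr => by simpa [hbot] using hr))) ?_) h⟩
  show (X.hom ≫ Spec.map _) ≫ Spec.map _ = X.hom
  rw [Category.assoc, ← Spec.map_comp, ← CommRingCat.ofHom_comp,
    show (Ideal.Quotient.lift (J ^ (n + 1)) (RingHom.id R) fun r hr => by simpa [hbot] using hr).comp
      (Ideal.Quotient.mk (J ^ (n + 1))) = RingHom.id R from RingHom.ext fun r => rfl,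
    CommRingCat.ofHom_id, Spec.map_id, Category.comp_id]

end Step

end Groth.Agent.Deform
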