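import Groth.Agent.Deform.MultSub
import Groth.Agent.Deform.QuasiIsotrivial

/-!
# Flat closed subgroups of groups of multiplicative type

A closed subgroup, flat and locally of finite presentation, of a group of multiplicative type and of finite type is of
multiplicative type and of finite type.
-/

set_option autoImplicit false
set_option linter.style.haveILetI false

universe u

open CategoryTheory CategoryTheory.Limits MonoidalCategory CartesianMonoidalCategory MonObj GrpObj AlgebraicGeometry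
open scoped TensorProduct

namespace Groth.Agent.Deform.MultSubScheme

open GrpSchLib.AffineHopf (sp spIso spMap exists_hopf exists_bialgHom nonempty_DS_iso nonempty_bc_sp)

theorem isMultTypeFT_of_closed {S : Scheme.{u}} {H H' : Over S} [GrpObj H] [GrpObj H']
    (hH' : SGA3x.IsMultTypeFT H') (i : H ⟶ H') [IsMonHom i] [IsClosedImmersion i.left] [Flat H.hom]
    [LocallyOfFinitePresentation H.hom] : SGA3x.IsMultTypeFT H := by
  obtain ⟨S', π, hflat, hsurj, hcov, hloc⟩ := hH'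
  refine ⟨S', π, hflat, hsurj, hcov, fun s' => ?_⟩
  obtain ⟨U, hsU, M₀, iM₀, hfg₀, ⟨e⟩⟩ := hloc s'
  haveI := hfg₀
  obtain ⟨V, hV, hsV, -⟩ :=
    exists_isAffineOpen_mem_and_subset (show (⟨s', hsU⟩ : (U : Scheme.{u})) ∈ (⊤ : (U : Scheme.{u}).Opens) from trivial)
  let R : CommRingCat.{u} := Γ((U : Scheme.{u}), V)
  let o : Spec (CommRingCat.of R) ⟶ (U : Scheme.{u}) := hV.fromSpec
  let g : Spec (CommRingCat.of R) ⟶ S := o ≫ U.ι ≫ π
  obtain ⟨p, hp⟩ : (⟨s', hsU⟩ : (U : Scheme.{u})) ∈ Set.range o := hV.range_fromSpec.symm ▸ hsV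
  -- the ambient group is diagonalisable
  obtain ⟨a₁⟩ := GrpSchLib.MultTypeBC.bc_bc o (U.ι ≫ π) H'
  obtain ⟨a₂⟩ := GrpSchLib.MultTypeBC.bc_iso o e
  obtain ⟨a₃⟩ := GrpSchLib.MultTypeBC.bc_DS o M₀
  obtain ⟨a₄⟩ := nonempty_DS_iso R M₀
  let eH' := a₁.symm ≪≫ a₂ ≪≫ a₃ ≪≫ a₄.symm ≪≫ (spIso (uliftEquiv R (Multiplicative M₀))).symm
  -- the subgroup is affine
  let ig := (Over.pullback g).map i
  haveI : IsMonHom ig := inferInstanceAs (IsMonHom ((Over.pullback g).map i))
  haveI : IsClosedImmersion ig.left :=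
    MorphismProperty.overPullbackMap (P := @IsClosedImmersion) _ _ ‹IsClosedImmersion i.left›
  haveI : IsMonHom eH'.hom.hom.hom := eH'.hom.hom.isMonHom_hom
  haveI : IsIso eH'.hom.hom.hom.left := ((Grp.forget _ ⋙ Over.forget _).mapIso eH').isIso_hom
  let j := ig ≫ eH'.hom.hom.hom
  haveI : IsClosedImmersion j.left :=
    inferInstanceAs (IsClosedImmersion (ig.left ≫ eH'.hom.hom.hom.left))
  haveI : IsAffine (Red.bc g H).left :=
    haveI : IsAffine (sp R (MonoidAlgebra R (ULift.{u} (Multiplicative M₀)))).left := inferInstanceAs (IsAffine (Spec _))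
    isAffine_of_isAffineHom j.left
  obtain ⟨C, iC, iH, ⟨eC⟩⟩ := exists_hopf (Red.bc g H)
  haveI : IsMonHom eC.hom.hom.hom := eC.hom.hom.isMonHom_hom
  haveI : IsIso eC.hom.hom.hom.left := ((Grp.forget _ ⋙ Over.forget _).mapIso eC).isIso_hom
  obtain ⟨φ, hφ⟩ := exists_bialgHom (eC.hom.hom.hom ≫ j)
  have hsurj' : Function.Surjective φ := by
    have h : IsClosedImmersion (spMap (φ : MonoidAlgebra R (ULift.{u} (Multiplicative M₀)) →ₐ[R] C)).left := by
      rw [← hφ]
      exact inferInstanceAs (IsClosedImmersion (eC.hom.hom.hom.left ≫ j.left))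
    have h2 : IsClosedImmersion (Spec.map (CommRingCat.ofHom (φ : MonoidAlgebra R (ULift.{u} (Multiplicative M₀)) →ₐ[R] C).toRingHom)) := h
    let ρ := CommRingCat.ofHom (φ : MonoidAlgebra R (ULift.{u} (Multiplicative M₀)) →ₐ[R] C).toRingHom
    have h3 := ((HasAffineProperty.iff_of_isAffine (P := @IsClosedImmersion)).mp h2).2
    have h4 := Scheme.ΓSpecIso_naturality ρ
    have h5 : ρ = (Scheme.ΓSpecIso _).inv ≫ (Spec.map ρ).appTop ≫ (Scheme.ΓSpecIso _).hom := by
      rw [h4, Iso.inv_hom_id_assoc]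
    have h6 : Function.Surjective ρ := by
      rw [h5]
      exact ((ConcreteCategory.bijective_of_isIso (Scheme.ΓSpecIso (CommRingCat.of C)).hom).2.comp h3).comp
        (ConcreteCategory.bijective_of_isIso (Scheme.ΓSpecIso _).inv).2
    exact h6
  have hwC : (sp R C).hom = eC.hom.hom.hom.left ≫ (Red.bc g H).hom := (Over.w eC.hom.hom.hom).symm
  haveI : Flat (Red.bc g H).hom := inferInstanceAs (Flat (pullback.snd H.hom g))
  haveI : LocallyOfFinitePresentation (Red.bc g H).hom :=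
    inferInstanceAs (LocallyOfFinitePresentation (pullback.snd H.hom g))
  haveI : Module.Flat R C := by
    have h : Flat (Spec.map (CommRingCat.ofHom (algebraMap R C))) := by
      change Flat (sp R C).hom
      rw [hwC]
      infer_instance
    exact RingHom.flat_algebraMap_iff.mp ((HasRingHomProperty.Spec_iff (P := @Flat)).mp h)
  haveI : Algebra.FinitePresentation R C := by
    have h : LocallyOfFinitePresentation (Spec.map (CommRingCat.ofHom (algebraMap R C))) := by
      change LocallyOfFinitePresentation (sp R C).hom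
      rw [hwC]
      infer_instance
    exact RingHom.finitePresentation_algebraMap.mp ((HasRingHomProperty.Spec_iff (P := @LocallyOfFinitePresentation)).mp h)
  haveI : Group.FG (ULift.{u} (Multiplicative M₀)) :=
    Group.fg_of_surjective (f := (MulEquiv.ulift.symm : Multiplicative M₀ ≃* ULift.{u} (Multiplicative M₀)).toMonoidHom)
      (MulEquiv.ulift.symm).surjective
  obtain ⟨t, htp, P, iP, hP, ⟨q⟩⟩ := MultSub.exists_diag_near φ hsurj' p.asIdeal
  haveI := hP
  obtain ⟨N, iN, hN, ⟨c⟩⟩ := QuasiIsotrivial.exists_small P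
  let R' := Localization.Away t
  let g₁ : Spec (CommRingCat.of R') ⟶ Spec (CommRingCat.of R) := Spec.map (CommRingCat.ofHom (algebraMap R R'))
  haveI : IsOpenImmersion g₁ := IsOpenImmersion.of_isLocalization t
  obtain ⟨p₁, hp₁⟩ : ∃ p₁, g₁ p₁ = p := by
    have : p ∈ Set.range (PrimeSpectrum.comap (algebraMap R R')) := by
      rw [PrimeSpectrum.localization_away_comap_range R' t]
      exact htp
    exact this
  let m := g₁ ≫ o ≫ U.ι
  let k : (m.opensRange : Scheme.{u}) ⟶ Spec (CommRingCat.of R') := m.isoOpensRange.inv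
  have hk : k ≫ g₁ ≫ g = m.opensRange.ι ≫ π := by
    rw [show g₁ ≫ g = m ≫ π by simp [m, g], ← Category.assoc, Scheme.Hom.isoOpensRange_inv_comp]
  obtain ⟨b₁⟩ := GrpSchLib.MultTypeBC.bc_congr hk H
  obtain ⟨b₂⟩ := GrpSchLib.MultTypeBC.bc_bc k (g₁ ≫ g) H
  obtain ⟨b₃⟩ := GrpSchLib.MultTypeBC.bc_bc g₁ g H
  obtain ⟨b₄⟩ := GrpSchLib.MultTypeBC.bc_iso g₁ eC.symm
  obtain ⟨b₅⟩ := nonempty_bc_sp (R := R) R' C
  obtain ⟨b₆⟩ := nonempty_DS_iso R' N
  obtain ⟨b₇⟩ := GrpSchLib.MultTypeBC.bc_iso k (b₃.symm ≪≫ b₄ ≪≫ b₅ ≪≫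
    spIso ((QuasiIsotrivial.congrEquiv R' c).trans q) ≪≫ b₆)
  obtain ⟨b₈⟩ := GrpSchLib.MultTypeBC.bc_DS k N
  refine ⟨m.opensRange, ⟨p₁, ?_⟩, N, iN, hN, ⟨b₁.symm ≪≫ b₂.symm ≪≫ b₇ ≪≫ b₈⟩⟩
  show m p₁ = s'
  rw [Scheme.Hom.comp_apply, Scheme.Hom.comp_apply, hp₁, hp]
  rfl

end Groth.Agent.Deform.MultSubScheme
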