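import Groth.Agent.Deform.Transporter
import Mathlib.AlgebraicGeometry.Morphisms.FlatMono

/-!
# The centralizer is open and closed in the normalizer
-/

set_option autoImplicit false
set_option linter.style.haveILetI false
set_option linter.unusedSectionVars false
set_option backward.isDefEq.respectTransparency false
set_option backward.isDefEq.respectTransparency.types false

universe u

open CategoryTheory CategoryTheory.Limits MonoidalCategory CartesianMonoidalCategory AlgebraicGeometry

open scoped MonObj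

namespace Groth.Agent.Deform

/-- The centralizer of a subgroup of multiplicative type is open and closed in its normalizer. -/
theorem exists_clopen_centralizer {S : Scheme.{u}} {H G Z N : Over S} [GrpObj H] [GrpObj G] [GrpObj Z] [GrpObj N]
    (hH : SGA3x.IsMultTypeFT H) [Smooth G.hom] [IsAffineHom G.hom] (i : H ⟶ G) [IsMonHom i] [Mono i] (j : Z ⟶ G)
    (k : N ⟶ G) (hj : Red.IsCentralizerOf i j) (hk : Red.IsNormalizerOf i k) :
    ∃ f : Z ⟶ N, f ≫ k = j ∧ IsOpenImmersion f.left ∧ IsClosedImmersion f.left := by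
  obtain ⟨Z', _, j', hj', hj'c, hZ's⟩ := exists_centralizer (isMultType_of_ft hH) i
  obtain ⟨N', _, k', hk', hk'c, hN's⟩ := exists_normalizer hH i
  haveI := hj.2.1
  haveI := hk.2.1
  haveI := hj'.2.1
  haveI := hk'.2.1
  obtain ⟨a, ha⟩ := (hj'.2.2 Z j).mpr ((hj.2.2 Z j).mp ⟨𝟙 Z, Category.id_comp _⟩)
  obtain ⟨a', ha'⟩ := (hj.2.2 Z' j').mpr ((hj'.2.2 Z' j').mp ⟨𝟙 Z', Category.id_comp _⟩)
  obtain ⟨c, hc⟩ := (hk'.2.2 N k).mpr ((hk.2.2 N k).mp ⟨𝟙 N, Category.id_comp _⟩)
  obtain ⟨c', hc'⟩ := (hk.2.2 N' k').mpr ((hk'.2.2 N' k').mp ⟨𝟙 N', Category.id_comp _⟩)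
  haveI : IsIso a := ⟨a', by rw [← cancel_mono j, Category.assoc, ha', ha, Category.id_comp],
    by rw [← cancel_mono j', Category.assoc, ha, ha', Category.id_comp]⟩
  haveI : IsIso c := ⟨c', by rw [← cancel_mono k, Category.assoc, hc', hc, Category.id_comp],
    by rw [← cancel_mono k', Category.assoc, hc, hc', Category.id_comp]⟩
  haveI : IsIso a.left := inferInstanceAs (IsIso ((Over.forget S).map a))
  haveI : IsIso c.left := inferInstanceAs (IsIso ((Over.forget S).map c))
  haveI : IsClosedImmersion j.left := by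
    haveI := hj'c
    rw [← ha]
    exact inferInstanceAs (IsClosedImmersion (a.left ≫ j'.left))
  haveI : IsClosedImmersion k.left := by
    haveI := hk'c
    rw [← hc]
    exact inferInstanceAs (IsClosedImmersion (c.left ≫ k'.left))
  haveI : Smooth Z.hom := by
    haveI := hZ's
    rw [← Over.w a]
    infer_instance
  haveI : Smooth N.hom := by
    haveI := hN's
    rw [← Over.w c]
    infer_instance
  obtain ⟨f, hf⟩ := (hk.2.2 Z j).mpr fun X' x h => by
    have h1 := (hj.2.2 Z j).mp ⟨𝟙 Z, Category.id_comp _⟩ X' x h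
    exact ⟨⟨h, by rw [h1, mul_inv_cancel_right]⟩, ⟨h, by rw [_root_.mul_assoc, ← h1, inv_mul_cancel_left]⟩⟩
  refine ⟨f, hf, ?_, ?_⟩
  swap
  · haveI : IsClosedImmersion (f.left ≫ k.left) := by
      rw [show f.left ≫ k.left = j.left from congrArg CommaMorphism.left hf]
      infer_instance
    exact IsClosedImmersion.of_comp f.left k.left
  haveI : Mono f.left := by
    haveI : Mono (f.left ≫ k.left) := by
      rw [show f.left ≫ k.left = j.left from congrArg CommaMorphism.left hf]
      infer_instance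
    exact mono_of_mono f.left k.left
  haveI : LocallyOfFinitePresentation f.left := by
    haveI : LocallyOfFinitePresentation (f.left ≫ N.hom) := by rw [Over.w f]; infer_instance
    exact AlgSpPts.locallyOfFinitePresentation_of_comp f.left N.hom
  haveI : Smooth f.left := by
    refine (S1488.result f.left).mpr ⟨inferInstance, fun A _ I hI a₀ b' w => ?_⟩
    let b : Spec (CommRingCat.of A) ⟶ S := b' ≫ N.hom
    let n : (Over.map b).obj (𝟙_ (Over (Spec (CommRingCat.of A)))) ⟶ N := Over.homMk b' (Category.id_comp _).symm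
    obtain ⟨g, hg⟩ := (DSPtsLib.theta_bijective b).surjective (n ≫ k)
    let iB := (Over.pullback b).map i
    haveI : IsMonHom iB := inferInstanceAs (IsMonHom ((Over.pullback b).map i))
    haveI : Mono iB := inferInstanceAs (Mono ((Over.pullback b).map i))
    have conj : ∀ {Y : Over (Spec (CommRingCat.of A))} (q : Y ⟶ Red.bc b H),
        DSPtsLib.theta b ((toUnit Y ≫ g) * (q ≫ iB) * (toUnit Y ≫ g)⁻¹) =
          ((Over.map b).map (toUnit Y) ≫ n ≫ k) * (DSPtsLib.theta b q ≫ i) *
            ((Over.map b).map (toUnit Y) ≫ n ≫ k)⁻¹ := fun q => by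
      rw [DSPtsLib.theta_mul, DSPtsLib.theta_mul, theta_inv, theta_map', DSPtsLib.theta_comp, hg]
    obtain ⟨⟨φ', hφ'⟩, -⟩ := (hk.2.2 _ (n ≫ k)).mp ⟨n, rfl⟩ _ ((Over.map b).map (toUnit (Red.bc b H)))
      (DSPtsLib.theta b (𝟙 _))
    obtain ⟨φ, rfl⟩ := (DSPtsLib.theta_bijective b).surjective φ'
    have hφ : φ ≫ iB = (toUnit _ ≫ g) * iB * (toUnit _ ≫ g)⁻¹ := by
      apply (DSPtsLib.theta_bijective b).injective
      have h1 := conj (𝟙 (Red.bc b H))
      rw [Category.id_comp] at h1
      rw [h1, theta_map', hφ']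
    haveI := isMonHom_conj iB g
    haveI : IsMonHom φ := WittEndoLib.isMonHom_of_mul _ fun T p q => by
      rw [← cancel_mono iB, Category.assoc, hφ, MonObj.mul_comp, MonObj.mul_comp, Category.assoc, Category.assoc, hφ]
    let n₀ : (Over.map b).obj (closedPt I) ⟶ Z := Over.homMk a₀ (by
      show a₀ ≫ Z.hom = Spec.map _ ≫ b' ≫ N.hom
      rw [← Over.w f, ← Category.assoc, ← w, Category.assoc])
    have hn₀ : n₀ ≫ j = (Over.map b).map (toUnit (closedPt I)) ≫ n ≫ k := by
      rw [← hf, ← Category.assoc, ← Category.assoc]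
      exact congrArg (· ≫ k) (Over.OverMorphism.ext w.symm)
    have hid : φ = 𝟙 _ := by
      refine hom_ext_nil (locally_bc b (isMultType_of_ft hH)) (locally_bc b (isMultType_of_ft hH)) ⟨2, hI⟩ φ (𝟙 _)
        (map_eq_of_agree fun X p x => ?_)
      rw [← cancel_mono iB, Category.assoc, Category.assoc, hφ, Category.id_comp]
      simp only [MonObj.comp_mul, GrpObj.comp_inv, comp_toUnit_assoc]
      apply (DSPtsLib.theta_bijective b).injective
      rw [conj, theta_map', mul_inv_eq_iff_eq_mul]
      have h1 := (hj.2.2 _ _).mp ⟨n₀, rfl⟩ _ ((Over.map b).map p) (DSPtsLib.theta b x)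
      rwa [hn₀, ← Functor.map_comp_assoc, comp_toUnit] at h1
    obtain ⟨z, hz⟩ := (hj.2.2 _ (n ≫ k)).mpr fun X' x h => by
      obtain ⟨Y, y, e, rfl⟩ := exists_pullPoint b X' x
      obtain ⟨q, hq⟩ := (DSPtsLib.theta_bijective b).surjective (e.inv ≫ h)
      have hh : h = e.hom ≫ DSPtsLib.theta b q := by rw [hq, Iso.hom_inv_id_assoc]
      have h1 := conj q
      rw [hid, Category.id_comp] at hφ
      have h2 : (toUnit Y ≫ g) * (q ≫ iB) * (toUnit Y ≫ g)⁻¹ = q ≫ iB := by
        conv_rhs => rw [hφ]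
        simp only [MonObj.comp_mul, GrpObj.comp_inv, comp_toUnit_assoc]
      rw [h2, theta_map'] at h1
      rw [hh, Category.assoc, Category.assoc, Subsingleton.elim y (toUnit Y), ← MonObj.comp_mul, ← MonObj.comp_mul]
      congr 1
      exact mul_inv_eq_iff_eq_mul.mp h1.symm
    refine ⟨z.left, ?_, ?_⟩
    · have e1 : (Over.map b).map (toUnit (closedPt I)) ≫ z = n₀ := by
        rw [← cancel_mono j, Category.assoc, hz, hn₀]
      exact congrArg CommaMorphism.left e1
    · have e2 : z ≫ f = n := by rw [← cancel_mono k, Category.assoc, hf, hz]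
      exact congrArg CommaMorphism.left e2
  exact IsOpenImmersion.of_flat_of_mono f.left

end Groth.Agent.Deform
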