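import Groth.Agent.GrpSchLib.HomSplitLocus
import Groth.Agent.GrpSchLib.MultTypeBC
import Groth.Agent.Deform.QuotGroup
import Groth.Agent.Deform.MultHopf
import Groth.Agent.Deform.Transporter
import Groth.Agent.S5427
import Groth.Agent.MultTypeFlat.Basic
import Groth.Agent.AlgSpPts.Misc

/-!
# Maps of diagonalisable groups and their behaviour at a field-valued point

Functoriality, kernels and quotients of `D_S(φ)`, compatibility with base change, and the computation at a point with
values in a field of a homomorphism between groups of multiplicative type by a map of character groups.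
-/

set_option autoImplicit false
set_option linter.style.haveILetI false
set_option maxHeartbeats 300000

universe u

open CategoryTheory CategoryTheory.Limits MonoidalCategory CartesianMonoidalCategory MonObj GrpObj AlgebraicGeometry

attribute [local instance] CategoryTheory.Hom.monoid CategoryTheory.Hom.group

namespace Groth.Agent.Deform.DiagMaps

open DSPtsLib (CoordM spU pt)
open GrpSchLib.DiagActionRigid (sp spm)
open GrpSchLib.SubgroupFactor (pull pull_single)
open GrpSchLib.HomUnitLocus (Triv)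
open GrpSchLib.HomMonoLocus (Inj)
open GrpSchLib.HomSplitLocal (Ff)

variable {S : Scheme.{u}} {M N P : Type} [AddCommGroup M] [AddCommGroup N] [AddCommGroup P]

instance isMonHom_DSmap (φ : M →+ N) : IsMonHom (Red.DSmap S φ) := S5427.isMonHom_DSmap S φ

theorem mono_DSmap {φ : M →+ N} (h : Function.Surjective φ) : Mono (Red.DSmap S φ) := by
  haveI := S5427.isClosedImmersion_DSmap S φ h
  exact (Over.forget S).mono_of_mono_map (inferInstanceAs (Mono (Red.DSmap S φ).left))

/-! ### Points with values in rings -/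

theorem pt_DSmap {B : Type u} [CommRing B] (j : Spec (CommRingCat.of B) ⟶ S) (c : CoordM.{u} N →+* B) (φ : M →+ N) :
    pt j c ≫ Red.DSmap S φ = pt j (pull φ c) := by
  refine Over.OverMorphism.ext (Limits.pullback.hom_ext ?_ ?_)
  · rw [DSPtsLib.pt_fst, Over.comp_left, Category.assoc]
    simp only [Red.DSmap, Over.pullback_map_left, Limits.pullback.lift_fst]
    rw [← Category.assoc, DSPtsLib.pt_fst]
    exact (Spec.map_comp _ _).symm
  · exact (Over.w _).trans (Limits.pullback.lift_snd _ _ _).symm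

/-- Two morphisms out of a diagonalisable group agree if they agree on points with values in rings. -/
theorem hom_ext_pt {X : Over S} (a b : Red.DS S M ⟶ X)
    (h : ∀ (B : Type u) [CommRing B] (j : Spec (CommRingCat.of B) ⟶ S) (c : CoordM.{u} M →+* B),
      pt j c ≫ a = pt j c ≫ b) : a = b := by
  refine Over.OverMorphism.ext (Scheme.Cover.hom_ext (Red.DS S M).left.affineCover _ _ fun i => ?_)
  obtain ⟨B, hB⟩ : ∃ B : CommRingCat.{u}, (Red.DS S M).left.affineCover.X i = Spec B := ⟨_, rfl⟩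
  set ι₀ := (Red.DS S M).left.affineCover.f i
  obtain ⟨io, hio⟩ : ∃ io : Spec B ⟶ (Red.DS S M).left, ι₀ = eqToHom hB ≫ io :=
    ⟨eqToHom hB.symm ≫ ι₀, by simp⟩
  rw [hio, Category.assoc, Category.assoc]
  congr 1
  let x : spU (io ≫ (Red.DS S M).hom) ⟶ Red.DS S M := Over.homMk io rfl
  obtain ⟨c, hc⟩ := DSPtsLib.exists_eq_pt _ x
  have h1 := h B (io ≫ (Red.DS S M).hom) c
  rw [← hc] at h1
  exact congrArg (fun m => Over.Hom.left m) h1

theorem pull_pull (φ : M →+ N) (ψ : N →+ P) {T : Type u} [CommRing T] (c : CoordM.{u} P →+* T) :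
    pull φ (pull ψ c) = pull (ψ.comp φ) c := by
  refine MonoidAlgebra.ringHom_ext (fun r => ?_) fun m => ?_
  · exact RingHom.congr_fun (DSPtsLib.ulift_ringHom_ext ((pull φ (pull ψ c)).comp MonoidAlgebra.singleOneRingHom)
      ((pull (ψ.comp φ) c).comp MonoidAlgebra.singleOneRingHom)) r
  · simp only [pull_single]
    rfl

theorem DSmap_comp (φ : M →+ N) (ψ : N →+ P) : Red.DSmap S ψ ≫ Red.DSmap S φ = Red.DSmap S (ψ.comp φ) :=
  hom_ext_pt _ _ fun B _ j c => by rw [← Category.assoc, pt_DSmap, pt_DSmap, pt_DSmap, pull_pull]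

theorem DSmap_id : Red.DSmap S (AddMonoidHom.id M) = 𝟙 _ :=
  hom_ext_pt _ _ fun B _ j c => by
    rw [pt_DSmap, Category.comp_id]
    congr 1
    refine MonoidAlgebra.ringHom_ext (fun r => ?_) fun m => ?_
    · exact RingHom.congr_fun (DSPtsLib.ulift_ringHom_ext ((pull (AddMonoidHom.id M) c).comp MonoidAlgebra.singleOneRingHom)
        (c.comp MonoidAlgebra.singleOneRingHom)) r
    · rw [pull_single]
      rfl

theorem pt_eq_one {B : Type u} [CommRing B] (j : Spec (CommRingCat.of B) ⟶ S) (c : CoordM.{u} M →+* B)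
    (hc : ∀ m, c (MonoidAlgebra.single m 1) = 1) : pt j c = 1 := by
  have h := congrArg (fun z => (pt j c)⁻¹ * z) (DSPtsLib.pt_mul j c c c fun m => by rw [hc, _root_.one_mul])
  simpa only [inv_mul_cancel_left, inv_mul_cancel] using h

theorem pt_single_eq_one {B : Type u} [CommRing B] (j : Spec (CommRingCat.of B) ⟶ S) {c : CoordM.{u} M →+* B}
    (hc : pt j c = 1) (m : Multiplicative M) : c (MonoidAlgebra.single m 1) = 1 := by
  letI : Algebra (ULift.{u} ℤ) B := ((algebraMap ℤ B).comp ULift.ringEquiv.toRingHom).toAlgebra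
  let c₀ : CoordM.{u} M →+* B := GrpSchLib.HomMonoLocus.charOf (R := ULift.{u} ℤ) (1 : Multiplicative M →* B)
  have hc₀ : ∀ m, c₀ (MonoidAlgebra.single m 1) = 1 := fun m => by
    simp only [c₀, GrpSchLib.HomMonoLocus.charOf_single]
    rfl
  rw [GrpSchLib.HomMonoLocus.pt_injective j (hc.trans (pt_eq_one j c₀ hc₀).symm), hc₀]

theorem DSmap_zero : Red.DSmap S (0 : M →+ N) = 1 :=
  hom_ext_pt _ _ fun B _ j c => by
    rw [pt_DSmap, MonObj.comp_one]
    refine pt_eq_one j _ fun m => ?_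
    rw [pull_single]
    exact map_one c

theorem DSmap_comp_eq_one {φ : M →+ N} {ψ : N →+ P} (h : ψ.comp φ = 0) : Red.DSmap S ψ ≫ Red.DSmap S φ = 1 := by
  rw [DSmap_comp, h, DSmap_zero]

/-! ### Kernels and quotients -/

/-- A point killed by `D(A ↪ M)` factors through `D(M ⧸ A)`. -/
theorem exists_factor_mk {Y : Over S} (A : AddSubgroup M) (z : Y ⟶ Red.DS S M)
    (h : z ≫ Red.DSmap S A.subtype = 1) : ∃ w : Y ⟶ Red.DS S (M ⧸ A), w ≫ Red.DSmap S (QuotientAddGroup.mk' A) = z := by
  haveI := S5427.isClosedImmersion_DSmap S (QuotientAddGroup.mk' A) (QuotientAddGroup.mk'_surjective A)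
  have hst : ∀ y : Y.left, ∃ l, l ≫ (Red.DSmap S (QuotientAddGroup.mk' A)).left = Y.left.fromSpecStalk y ≫ z.left := by
    intro y
    let B := Y.left.presheaf.stalk y
    let j : Spec (CommRingCat.of B) ⟶ S := Y.left.fromSpecStalk y ≫ Y.hom
    let x : spU j ⟶ Y := Over.homMk (Y.left.fromSpecStalk y) rfl
    obtain ⟨c, hc⟩ := DSPtsLib.exists_eq_pt j (x ≫ z)
    have hA : ∀ a : A, c (MonoidAlgebra.single (Multiplicative.ofAdd (a : M)) 1) = 1 := by
      intro a
      have h1 : pt j (pull A.subtype c) = 1 := by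
        rw [← pt_DSmap, ← hc, Category.assoc, h, MonObj.comp_one]
      have h2 := pt_single_eq_one j h1 (Multiplicative.ofAdd a)
      rwa [pull_single] at h2
    let d : Multiplicative M →* B := (c : CoordM.{u} M →* B).comp (MonoidAlgebra.of _ _)
    let d' : Multiplicative (M ⧸ A) →* B := (Units.coeHom B).comp (AddMonoidHom.toMultiplicativeLeft
      (QuotientAddGroup.lift A (MonoidHom.toAdditiveRight d.toHomUnits)
        (fun a ha => Additive.toMul.injective (Units.ext (hA ⟨a, ha⟩)))))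
    letI : Algebra (ULift.{u} ℤ) B := ((algebraMap ℤ B).comp ULift.ringEquiv.toRingHom).toAlgebra
    refine ⟨(pt j (GrpSchLib.HomMonoLocus.charOf (R := ULift.{u} ℤ) d')).left, ?_⟩
    refine (congrArg (fun m => Over.Hom.left m) ((pt_DSmap j _ _).trans ((congrArg (pt j) ?_).trans hc.symm)))
    refine MonoidAlgebra.ringHom_ext (fun r => ?_) fun m => ?_
    · exact RingHom.congr_fun (DSPtsLib.ulift_ringHom_ext
        ((pull (QuotientAddGroup.mk' A) (GrpSchLib.HomMonoLocus.charOf (R := ULift.{u} ℤ) d')).comp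
          MonoidAlgebra.singleOneRingHom) (c.comp MonoidAlgebra.singleOneRingHom)) r
    · rw [pull_single, GrpSchLib.HomMonoLocus.charOf_single]
      rfl
  obtain ⟨l, hl⟩ := GrpSchLib.SubgroupFactor.exists_lift_of_stalks _ z.left hst
  exact ⟨Over.homMk l (by rw [← Over.w (Red.DSmap S (QuotientAddGroup.mk' A)), ← Category.assoc, hl, Over.w z]),
    Over.OverMorphism.ext hl⟩

/-- `D(φ)` is an fppf covering for an injective map of finitely generated groups. -/
theorem fppf_DSmap [AddGroup.FG N] (φ : M →+ N) (h : Function.Injective φ) :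
    Flat (Red.DSmap S φ).left ∧ Surjective (Red.DSmap S φ).left ∧ LocallyOfFinitePresentation (Red.DSmap S φ).left := by
  haveI : Module.Finite ℤ N := Module.Finite.iff_addGroup_fg.mpr ‹_›
  haveI : AddGroup.FG M := Module.Finite.iff_addGroup_fg.mp
    (Module.Finite.of_injective φ.toIntLinearMap (fun a b e => h e))
  obtain ⟨h1, h2⟩ := GrpSchLib.HomSplitLocal.flat_surjective_of_injective (ULift.{u} ℤ) φ h
  haveI := MultTypeFlat.lfp_DS S M
  haveI := MultTypeFlat.lfp_DS S N
  haveI : LocallyOfFinitePresentation ((Red.DSmap S φ).left ≫ (Red.DS S M).hom) := by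
    rw [Over.w]
    infer_instance
  exact ⟨MorphismProperty.overPullbackMap (P := @Flat) _ _ h1, MorphismProperty.overPullbackMap (P := @Surjective) _ _ h2,
    AlgSpPts.locallyOfFinitePresentation_of_comp _ (Red.DS S M).hom⟩

theorem div_comp_eq_one {A B T : Over S} [GrpObj A] [GrpObj B] (π : A ⟶ B) [IsMonHom π] {x y : T ⟶ A}
    (e : x ≫ π = y ≫ π) : (x⁻¹ * y) ≫ π = 1 := by
  rw [MonObj.mul_comp, GrpObj.inv_comp, e, inv_mul_cancel]

/-- The factor of a homomorphism through an fppf homomorphism is a homomorphism. -/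
theorem isMonHom_of_epi_comp {A B C : Over S} [GrpObj A] [GrpObj B] [GrpObj C] (π : A ⟶ B) [IsMonHom π] [Flat π.left]
    [Surjective π.left] [LocallyOfFinitePresentation π.left] (ψ : B ⟶ C) (f : A ⟶ C) [IsMonHom f] (h : π ≫ ψ = f) :
    IsMonHom ψ := by
  obtain ⟨_, _, _⟩ := QuotGroup.fppf_tensor π π
  haveI := QuotDescent.epi_of_fppf (π ⊗ₘ π)
  refine ⟨?_, ?_⟩
  · rw [← IsMonHom.one_hom (f := π), Category.assoc, h, IsMonHom.one_hom]
  · rw [← cancel_epi (π ⊗ₘ π), ← Category.assoc, ← IsMonHom.mul_hom (f := π), Category.assoc, h, IsMonHom.mul_hom,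
      ← Category.assoc (π ⊗ₘ π), tensorHom_comp_tensorHom, h]

/-- A homomorphism out of `D(M)` killing `D(M ⧸ A)` descends to `D(A)`. -/
theorem exists_desc [AddGroup.FG M] {G : Over S} [GrpObj G] (A : AddSubgroup M) (f : Red.DS S M ⟶ G) [IsMonHom f]
    (h : Red.DSmap S (QuotientAddGroup.mk' A) ≫ f = 1) :
    ∃ ψ : Red.DS S A ⟶ G, IsMonHom ψ ∧ Red.DSmap S A.subtype ≫ ψ = f := by
  haveI : IsMonHom (Red.DSmap S A.subtype) := isMonHom_DSmap (S := S) (M := A) (N := M) A.subtype
  obtain ⟨_, _, _⟩ := fppf_DSmap (S := S) A.subtype A.subtype_injective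
  obtain ⟨ψ, hψ⟩ := QuotDescent.exists_descOver (Red.DSmap S A.subtype) f fun T x y e => by
    obtain ⟨w, hw⟩ := exists_factor_mk A (x⁻¹ * y) (@div_comp_eq_one _ _ _ _ _ _ (Red.DSmap S A.subtype) this _ _ e)
    have h1 : (x⁻¹ * y) ≫ f = 1 := by rw [← hw, Category.assoc, h, MonObj.comp_one]
    rw [MonObj.mul_comp, GrpObj.inv_comp, inv_mul_eq_one] at h1
    exact h1
  refine ⟨ψ, ?_, hψ⟩
  exact isMonHom_of_epi_comp (Red.DSmap S A.subtype) ψ f hψ

/-! ### Base change -/

/-- Base change of the forgetful map to the integers. -/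
noncomputable def bcNat {U : Scheme.{u}} (g : U ⟶ S) :
    Over.pullback (IsTerminal.from specULiftZIsTerminal S) ⋙ Over.pullback g ≅
      Over.pullback (IsTerminal.from specULiftZIsTerminal U) :=
  (Over.pullbackComp g _).symm ≪≫ eqToIso (congrArg (fun f => Over.pullback f) (specULiftZIsTerminal.hom_ext (g ≫ IsTerminal.from specULiftZIsTerminal S) _))

/-- The comparison of a diagonalisable group with its base change. -/
noncomputable def bcDS {U : Scheme.{u}} (g : U ⟶ S) (M : Type) [AddCommGroup M] :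
    Red.bc g (Red.DS S M) ≅ Red.DS U M := (bcNat g).app (Red.diag (ULift.{u} ℤ) M)

set_option backward.isDefEq.respectTransparency false in
instance isMonHom_bcDS {U : Scheme.{u}} (g : U ⟶ S) : IsMonHom (bcDS g M).hom := by
  exact ((Functor.mapGrpCompIso.symm ≪≫ Functor.mapGrpNatIso (bcNat g)).hom.app
    (Grp.mk (Red.diag (ULift.{u} ℤ) M))).hom.isMonHom_hom

theorem bcDS_naturality {U : Scheme.{u}} (g : U ⟶ S) (φ : M →+ N) :
    (Over.pullback g).map (Red.DSmap S φ) ≫ (bcDS g M).hom = (bcDS g N).hom ≫ Red.DSmap U φ :=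
  (bcNat g).hom.naturality (Red.diagMap (ULift.{u} ℤ) φ)

theorem triv_bc {H G : Over S} [GrpObj H] [GrpObj G] (v : H ⟶ G) {U T : Scheme.{u}} (g : U ⟶ S) (l : T ⟶ U) :
    Triv ((Over.pullback g).map v) l ↔ Triv v (l ≫ g) := by
  constructor
  · intro h Y q x
    let X' : Over U := Over.mk (q.left ≫ l)
    let e : Y ⟶ (Over.map g).obj X' := Over.homMk (𝟙 _) (by
      show 𝟙 _ ≫ (q.left ≫ l) ≫ g = Y.hom
      rw [Category.id_comp, Category.assoc]; exact Over.w q)
    haveI : IsIso e := by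
      haveI : IsIso ((Over.forget S).map e) := inferInstanceAs (IsIso (𝟙 _))
      exact isIso_of_reflects_iso _ (Over.forget S)
    obtain ⟨a, ha⟩ := (DSPtsLib.theta_bijective (H := H) (Y := X') g).2 (inv e ≫ x)
    have h1 := h X' (Over.homMk q.left rfl) a
    have h2 := GrpSchLib.HomUnitLocus.theta_comp_map g X' a v
    rw [h1, GrpSchLib.HomUnitLocus.theta_one, ha, Category.assoc] at h2
    rw [← cancel_epi (inv e), ← h2, MonObj.comp_one]
  · intro h Y q a
    apply (DSPtsLib.theta_bijective g).1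
    rw [GrpSchLib.HomUnitLocus.theta_comp_map, GrpSchLib.HomUnitLocus.theta_one]
    refine h _ (Over.homMk q.left ?_) _
    show q.left ≫ l ≫ g = Y.hom ≫ g
    rw [← Category.assoc]
    exact congrArg (· ≫ g) (Over.w q)

theorem triv_id_iff {H G : Over S} [GrpObj H] [GrpObj G] (v : H ⟶ G) : Triv v (𝟙 S) ↔ v = 1 := by
  constructor
  · intro h
    simpa using h H (Over.homMk H.hom (Category.comp_id _)) (𝟙 H)
  · rintro rfl Y q x
    rw [MonObj.comp_one]

/-! ### At a field-valued point -/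

section Field

variable {k : Type u} [Field k] {β : Spec (CommRingCat.of k) ⟶ S}

/-- Character data for a group at a field-valued point. -/
structure Chart (β : Spec (CommRingCat.of k) ⟶ S) (A : Over S) [GrpObj A] (M : Type) [AddCommGroup M] where
  χ : ∀ (T : Type u) [CommRing T] [Algebra k T], (CoordM.{u} M →+* T) → (sp β T ⟶ A)
  nat : ∀ {T₁ T₂ : Type u} [CommRing T₁] [Algebra k T₁] [CommRing T₂] [Algebra k T₂] (φ : T₁ →ₐ[k] T₂)
    (c : CoordM.{u} M →+* T₁), spm β φ ≫ χ T₁ c = χ T₂ (φ.toRingHom.comp c)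
  mul : ∀ {T : Type u} [CommRing T] [Algebra k T] (c c' d : CoordM.{u} M →+* T),
    (∀ m, d (MonoidAlgebra.single m 1) = c (MonoidAlgebra.single m 1) * c' (MonoidAlgebra.single m 1)) →
      χ T c * χ T c' = χ T d
  bij : ∀ (T : Type u) [CommRing T] [Algebra k T], Function.Bijective (χ T)

/-- The chart of a diagonalisable group. -/
noncomputable def chartDS (β : Spec (CommRingCat.of k) ⟶ S) (M : Type) [AddCommGroup M] : Chart β (Red.DS S M) M where
  χ := fun T _ _ c => pt (Spec.map (CommRingCat.ofHom (algebraMap k T)) ≫ β) c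
  nat := fun φ c => DSPtsLib.pt_comp _ c φ.toRingHom _ (by
    rw [← Spec.map_comp_assoc, ← CommRingCat.ofHom_comp]
    congr 3
    exact φ.comp_algebraMap)
  mul := fun c c' d h => DSPtsLib.pt_mul _ c c' d h
  bij := fun T _ _ => ⟨fun c c' h => GrpSchLib.HomMonoLocus.pt_injective _ h, fun x =>
    let ⟨c, hc⟩ := DSPtsLib.exists_eq_pt _ x
    ⟨c, hc.symm⟩⟩

variable {A B C : Over S} [GrpObj A] [GrpObj B] [GrpObj C]

/-- `u` is given by `φ` in the charts. -/
def Rep (cA : Chart β A M) (cB : Chart β B N) (u : A ⟶ B) (φ : N →+ M) : Prop :=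
  ∀ (T : Type u) [CommRing T] [Algebra k T] (c : CoordM.{u} M →+* T), cA.χ T c ≫ u = cB.χ T (pull φ c)

theorem exists_rep [AddGroup.FG N] (cA : Chart β A M) (cB : Chart β B N) (u : A ⟶ B) [IsMonHom u] :
    ∃ φ : N →+ M, Rep cA cB u φ := by
  obtain ⟨d, hd, φ, hφ⟩ := GrpSchLib.HomSplitLocal.exists_phi_near u cA.χ cA.nat cA.mul cB.χ cB.nat cB.mul cB.bij
    (⊥ : Ideal k)
  exact ⟨φ, fun T _ _ c => hφ T ((IsUnit.mk0 d (fun h => hd (by simp [h]))).map (algebraMap k T)) c⟩

theorem rep_DSmap (φ : N →+ M) : Rep (chartDS β M) (chartDS β N) (Red.DSmap S φ) φ :=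
  fun T _ _ c => pt_DSmap _ c φ

theorem Rep.comp {cA : Chart β A M} {cB : Chart β B N} {cC : Chart β C P} {u : A ⟶ B} {v : B ⟶ C} {φ : N →+ M}
    {ψ : P →+ N} (h : Rep cA cB u φ) (h' : Rep cB cC v ψ) : Rep cA cC (u ≫ v) (φ.comp ψ) := fun T _ _ c => by
  rw [← Category.assoc, h T c, h' T, pull_pull]

theorem Rep.unique {cA : Chart β A M} {cB : Chart β B N} {u : A ⟶ B} {φ ψ : N →+ M} (h : Rep cA cB u φ)
    (h' : Rep cA cB u ψ) : φ = ψ := by
  let c : CoordM.{u} M →+* MonoidAlgebra k (Multiplicative M) := GrpSchLib.DiagActionRigid.univPt k (AddMonoidHom.id M)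
  refine AddMonoidHom.ext fun n => ?_
  have h1 := RingHom.congr_fun ((cB.bij _).1 ((h _ c).symm.trans (h' _ c))) (MonoidAlgebra.single (Multiplicative.ofAdd n) 1)
  rw [pull_single, pull_single, GrpSchLib.DiagActionRigid.univPt_single, GrpSchLib.DiagActionRigid.univPt_single] at h1
  exact congrArg Multiplicative.toAdd (MonoidAlgebra.single_left_injective (R := k) one_ne_zero h1)

theorem triv_of_rep_zero {cA : Chart β A M} {cB : Chart β B N} {u : A ⟶ B} (h : Rep cA cB u (0 : N →+ M)) :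
    Triv u β := by
  intro Y q x
  refine Over.OverMorphism.ext (Scheme.Cover.hom_ext Y.left.affineCover _ _ fun i => ?_)
  obtain ⟨R, hR⟩ : ∃ R : CommRingCat.{u}, Y.left.affineCover.X i = Spec R := ⟨_, rfl⟩
  obtain ⟨io, hio⟩ : ∃ io : Spec R ⟶ Y.left, Y.left.affineCover.f i = eqToHom hR ≫ io :=
    ⟨eqToHom hR.symm ≫ Y.left.affineCover.f i, by simp⟩
  rw [hio, Category.assoc, Category.assoc]
  congr 1
  obtain ⟨τ, hτ⟩ : ∃ τ, Spec.map τ = io ≫ q.left := ⟨_, Spec.map_preimage _⟩
  letI : Algebra k R := τ.hom.toAlgebra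
  let t : sp β R ⟶ Y := Over.homMk io (by
    show io ≫ Y.hom = Spec.map τ ≫ β
    rw [hτ, Category.assoc]
    exact congrArg (io ≫ ·) (Over.w q).symm)
  obtain ⟨c, hc⟩ := (cA.bij R).2 (t ≫ x)
  have h1 : t ≫ x ≫ u = t ≫ 1 := by
    rw [← Category.assoc, ← hc, h R c, MonObj.comp_one]
    refine GrpSchLib.HomSplitLocus.chi_one cB.mul _ fun m => ?_
    rw [pull_single]
    exact map_one c
  exact congrArg (fun m => Over.Hom.left m) h1

theorem rep_zero_of_triv {cA : Chart β A M} {cB : Chart β B N} {u : A ⟶ B} {φ : N →+ M} (h : Rep cA cB u φ)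
    (ht : Triv u β) : φ = 0 := by
  refine h.unique fun T _ _ c => ?_
  rw [ht (sp β T) (Over.homMk (Spec.map (CommRingCat.ofHom (algebraMap k T))) rfl) (cA.χ T c)]
  refine (GrpSchLib.HomSplitLocus.chi_one cB.mul _ fun m => ?_).symm
  rw [pull_single]
  exact map_one c

theorem inj_of_rep {cA : Chart β A M} {cB : Chart β B N} {u : A ⟶ B} [IsMonHom u] {φ : N →+ M} (h : Rep cA cB u φ)
    (hs : Function.Surjective φ) : Inj u β :=
  GrpSchLib.HomSplitLocus.inj_of_surjective cA.nat cA.mul cA.bij cB.mul cB.bij h hs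

theorem surjective_of_rep {cA : Chart β A M} {cB : Chart β B N} {u : A ⟶ B} [IsMonHom u] {φ : N →+ M}
    (h : Rep cA cB u φ) (hi : Inj u β) : Function.Surjective φ :=
  GrpSchLib.HomSplitLocus.surjective_of_inj cA.nat cA.mul cA.bij cB.mul h hi

theorem ff_of_rep {cA : Chart β A M} {cB : Chart β B N} {u : A ⟶ B} [IsMonHom u] {φ : N →+ M} (h : Rep cA cB u φ)
    (hi : Function.Injective φ) : Ff u β :=
  GrpSchLib.HomSplitLocus.ff_of_injective cA.nat cA.bij cB.nat cB.bij h hi

end Field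

/-- A group of multiplicative type and of finite type has a chart at some field-valued point over every point. -/
theorem exists_chart {G : Over S} [GrpObj G] (hG : SGA3x.IsMultTypeFT G) (s : S) :
    ∃ (k : Type u) (_ : Field k) (β : Spec (CommRingCat.of k) ⟶ S) (M : Type) (_ : AddCommGroup M)
      (_ : AddGroup.FG M) (_ : Chart β G M), β (IsLocalRing.closedPoint k) = s := by
  obtain ⟨S', f, -, hsurj, -, hloc⟩ := hG
  obtain ⟨s', rfl⟩ := hsurj.surj s
  obtain ⟨U, hU, M, iM, hfg, ⟨e⟩⟩ := hloc s'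
  let k := (U : Scheme.{u}).residueField ⟨s', hU⟩
  let jR : Spec (CommRingCat.of k) ⟶ U := (U : Scheme.{u}).fromSpecResidueField ⟨s', hU⟩
  obtain ⟨χ, h1, h2, h3⟩ := GrpSchLib.SubgroupFactor.exists_char (β := jR ≫ U.ι ≫ f) (U.ι ≫ f) e jR rfl
  refine ⟨k, inferInstance, jR ≫ U.ι ≫ f, M, iM, hfg, ⟨χ, h1, h2, h3⟩, ?_⟩
  rw [Scheme.Hom.comp_apply, Scheme.fromSpecResidueField_apply]
  rfl

end Groth.Agent.Deform.DiagMaps
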