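import Groth.Agent.Deform.Extension
import Groth.Agent.Deform.DiagMaps
import Groth.Agent.Deform.TorusAlg
import Groth.Agent.S7948

/-!
# Power maps of tori and of finite groups over a field

The power maps of a torus over a field are flat and surjective, and a finite group is killed by its order.
-/

set_option autoImplicit false
set_option linter.style.haveILetI false

universe u

open CategoryTheory CategoryTheory.Limits MonoidalCategory CartesianMonoidalCategory MonObj GrpObj AlgebraicGeometry
open WithConv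

attribute [local instance] CategoryTheory.Hom.monoid CategoryTheory.Hom.group

namespace Groth.Agent.Deform.PowTorus

open GrpSchLib.AffineHopf (sp spMap exists_hopf)
open DSPtsLib GrpSchLib.SubgroupFactor

theorem pow_DS (S : Scheme.{u}) (M : Type) [AddCommGroup M] (n : ℕ) :
    (𝟙 (Red.DS S M) ^ n : Red.DS S M ⟶ Red.DS S M) = Red.DSmap S (n • AddMonoidHom.id M) := by
  refine DiagMaps.hom_ext_pt _ _ fun B _ j c => ?_
  rw [MonObj.comp_pow, Category.comp_id, DiagMaps.pt_DSmap]
  induction n with
  | zero =>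
    rw [pow_zero]
    refine (DiagMaps.pt_eq_one j _ fun m => ?_).symm
    rw [pull_single]
    exact (congrArg (fun x => c (MonoidAlgebra.single x 1)) (by ext; simp)).trans (map_one c)
  | succ l ih =>
    rw [pow_succ, ih]
    refine DSPtsLib.pt_mul j _ _ _ fun m => ?_
    rw [pull_single, pull_single, ← map_mul, MonoidAlgebra.single_mul_single, _root_.one_mul]
    congr 2
    simp [add_smul]

variable {k : Type u} [Field k]

/-- Power maps of a torus over a field are flat and surjective. -/
theorem flat_surjective_pow {T : Over (Spec (CommRingCat.of k))} [GrpObj T] (hT : Red.IsTorus T) {n : ℕ} (hn : 0 < n) :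
    Flat (𝟙 T ^ n : T ⟶ T).left ∧ Surjective (𝟙 T ^ n : T ⟶ T).left := by
  let K : Type u := AlgebraicClosure k
  let g : Spec (CommRingCat.of K) ⟶ Spec (CommRingCat.of k) := Spec.map (CommRingCat.ofHom (algebraMap k K))
  haveI : Flat g := (HasRingHomProperty.Spec_iff (P := @Flat)).mpr
    (RingHom.flat_algebraMap_iff.mpr (inferInstance : Module.Flat k K))
  haveI : Surjective g := ⟨fun s => ⟨IsLocalRing.closedPoint K, Subsingleton.elim (α := PrimeSpectrum k) _ _⟩⟩
  obtain ⟨r, ⟨e⟩⟩ := Deform.exists_split (Red.bc g T) (Deform.isTorus_bc g hT)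
  let f : Red.bc g T ⟶ Red.DS _ (Fin r → ℤ) := e.hom.hom.hom
  haveI : IsMonHom f := e.hom.hom.isMonHom_hom
  haveI : IsIso f.left := ((Grp.forget _ ⋙ Over.forget _).mapIso e).isIso_hom
  have hinj : Function.Injective (n • AddMonoidHom.id (Fin r → ℤ)) := fun a b h => by
    funext i
    have := congrFun h i
    simpa [hn.ne'] using this
  obtain ⟨h1, h2, -⟩ := DiagMaps.fppf_DSmap (S := Spec (CommRingCat.of K)) _ hinj
  rw [← pow_DS] at h1 h2
  have h3 := congrArg CommaMorphism.left (TorsionOrderScheme.pow_comm f n)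
  change (𝟙 (Red.bc g T) ^ n : Red.bc g T ⟶ Red.bc g T).left ≫ f.left = f.left ≫ _ at h3
  have key : ∀ (P : MorphismProperty Scheme.{u}) [P.RespectsIso] [P.DescendsAlong (@Surjective ⊓ @Flat ⊓ @QuasiCompact)],
      P (𝟙 (Red.DS (Spec (CommRingCat.of K)) (Fin r → ℤ)) ^ n : Red.DS (Spec (CommRingCat.of K)) (Fin r → ℤ) ⟶ Red.DS (Spec (CommRingCat.of K)) (Fin r → ℤ)).left → P (𝟙 T ^ n : T ⟶ T).left := by
    intro P _ _ hP
    have hb : P (𝟙 (Red.bc g T) ^ n : Red.bc g T ⟶ Red.bc g T).left :=
      (MorphismProperty.cancel_right_of_respectsIso P _ f.left).mp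
        (h3 ▸ (MorphismProperty.cancel_left_of_respectsIso P f.left _).mpr hP)
    rw [← Extension.pow_bc] at hb
    refine MorphismProperty.of_isPullback_of_descendsAlong (Q := @Surjective ⊓ @Flat ⊓ @QuasiCompact)
      (Extension.isPullback_map_left g _) ?_ hb
    exact ⟨⟨MorphismProperty.pullback_fst (P := @Surjective) _ _ inferInstance,
      MorphismProperty.pullback_fst (P := @Flat) _ _ inferInstance⟩,
      MorphismProperty.pullback_fst (P := @QuasiCompact) _ _ inferInstance⟩
  exact ⟨key @Flat h1, key @Surjective h2⟩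

/-- A finite group scheme over a field is killed by a positive integer. -/
theorem exists_pow_eq_one (Q : Over (Spec (CommRingCat.of k))) [GrpObj Q] [IsFinite Q.hom] :
    ∃ n : ℕ, 0 < n ∧ (𝟙 Q ^ n : Q ⟶ Q) = 1 := by
  haveI : IsAffine Q.left := isAffine_of_isAffineHom Q.hom
  obtain ⟨C, iC, iH, ⟨e⟩⟩ := exists_hopf Q
  let f : sp k C ⟶ Q := e.hom.hom.hom
  haveI : IsMonHom f := e.hom.hom.isMonHom_hom
  haveI : IsIso f.left := ((Grp.forget _ ⋙ Over.forget _).mapIso e).isIso_hom
  haveI : IsIso f := ((Grp.forget _).mapIso e).isIso_hom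
  haveI : IsFinite (sp k C).hom := by
    rw [show (sp k C).hom = f.left ≫ Q.hom from (Over.w f).symm]
    infer_instance
  haveI : Module.Finite k C := RingHom.finite_algebraMap.mp
    ((IsFinite.SpecMap_iff (CommRingCat.ofHom (algebraMap k C))).mp ‹_›)
  haveI : Nontrivial C := (Bialgebra.counitAlgHom k C).toRingHom.domain_nontrivial
  refine ⟨Module.finrank k C, Module.finrank_pos, ?_⟩
  have h0 := S7948.result k C (Module.finrank k C) (fun p => by
    rw [Module.rankAtStalk_eq_finrank_of_free]; rfl) C (AlgHom.id k C)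
  have h1 : (𝟙 (sp k C) ^ Module.finrank k C : sp k C ⟶ sp k C) = 1 := by
    rw [← GrpSchLib.AffineHopf.spMap_id]
    exact (map_pow Spec.mapMulEquiv (toConv (AlgHom.id k C)) _).symm.trans
      ((congrArg Spec.mapMulEquiv h0).trans (map_one _))
  rw [← cancel_epi f, MonObj.comp_one, ← TorsionOrderScheme.pow_comm f, h1, MonObj.one_comp]

end Groth.Agent.Deform.PowTorus
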