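import Groth.Agent.AdicLib.Basic
import Groth.Agent.S0499
import Mathlib.AlgebraicGeometry.Limits
import Mathlib.RingTheory.Henselian

/-!
# Morphisms from the spectrum of a finite algebra over a complete local ring are limits of their reductions
-/

set_option autoImplicit false
set_option linter.style.haveILetI false

universe u

open CategoryTheory CategoryTheory.Limits AlgebraicGeometry

namespace Groth.Agent.Deform

variable {A : Type u} [CommRing A] (I : Ideal A) {X : Scheme.{u}}

/-- Reduction modulo a power. -/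
noncomputable abbrev lvl (C : Type u) [CommRing C] [Algebra A C] (n : ℕ) :
    Spec (CommRingCat.of (C ⧸ (I ^ (n + 1)).map (algebraMap A C))) ⟶ Spec (CommRingCat.of C) :=
  Spec.map (CommRingCat.ofHom (Ideal.Quotient.mk _))

theorem pow_map_le {C : Type u} [CommRing C] [Algebra A C] {m n : ℕ} (h : m ≤ n) :
    (I ^ (n + 1)).map (algebraMap A C) ≤ (I ^ (m + 1)).map (algebraMap A C) :=
  Ideal.map_mono (Ideal.pow_le_pow_right (Nat.succ_le_succ h))

/-- Transition between reductions. -/
noncomputable abbrev lvlMap (C : Type u) [CommRing C] [Algebra A C] {m n : ℕ} (h : m ≤ n) :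
    Spec (CommRingCat.of (C ⧸ (I ^ (m + 1)).map (algebraMap A C))) ⟶
      Spec (CommRingCat.of (C ⧸ (I ^ (n + 1)).map (algebraMap A C))) :=
  Spec.map (CommRingCat.ofHom (Ideal.Quotient.factor (pow_map_le I h)))

section Local

variable {C : Type u} [CommRing C] [Algebra A C] [IsLocalRing C]

/-- A morphism from a local spectrum factors through an affine open containing the image of the closed point. -/
theorem exists_preimage {T : Type u} [CommRing T] [IsLocalRing T] (f : Spec (CommRingCat.of T) ⟶ X) {U : X.Opens}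
    (hU : IsAffineOpen U) (h : f (IsLocalRing.closedPoint T) ∈ U) :
    ∃ φ : Γ(X, U) ⟶ CommRingCat.of T, Spec.map φ ≫ hU.fromSpec = f := by
  have htop : f ⁻¹ᵁ U = ⊤ := (IsLocalRing.closedPoint_mem_iff (f ⁻¹ᵁ U)).mp h
  have hr : Set.range f ⊆ Set.range hU.fromSpec := by
    rintro _ ⟨p, rfl⟩
    rw [hU.range_fromSpec]
    show p ∈ f ⁻¹ᵁ U
    rw [htop]
    trivial
  exact ⟨Spec.preimage (IsOpenImmersion.lift hU.fromSpec f hr), by rw [Spec.map_preimage, IsOpenImmersion.lift_fac]⟩

theorem closedPoint_eq (hI : I.map (algebraMap A C) ≤ IsLocalRing.maximalIdeal C) (n : ℕ) :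
    ∃ (_ : IsLocalRing (C ⧸ (I ^ (n + 1)).map (algebraMap A C))),
      lvl I C n (IsLocalRing.closedPoint _) = IsLocalRing.closedPoint C := by
  haveI : Nontrivial (C ⧸ (I ^ (n + 1)).map (algebraMap A C)) :=
    Ideal.Quotient.nontrivial_iff.mpr fun h => IsLocalRing.maximalIdeal.isMaximal C |>.ne_top
      (top_le_iff.mp (h ▸ (Ideal.map_mono (Ideal.pow_le_self (Nat.succ_ne_zero n))).trans hI))
  haveI := IsLocalRing.of_surjective' (Ideal.Quotient.mk ((I ^ (n + 1)).map (algebraMap A C)))
    Ideal.Quotient.mk_surjective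
  haveI := Function.Surjective.isLocalHom _ (Ideal.Quotient.mk_surjective (I := (I ^ (n + 1)).map (algebraMap A C)))
  exact ⟨inferInstance, IsLocalRing.comap_closedPoint _⟩

variable [IsAdicComplete I C]

theorem eq_of_forall_mk {x y : C} (h : ∀ n, Ideal.Quotient.mk ((I ^ (n + 1)).map (algebraMap A C)) x =
    Ideal.Quotient.mk _ y) : x = y := by
  rw [← sub_eq_zero]
  refine IsHausdorff.haus (inferInstance : IsHausdorff I C) _ fun n => ?_
  rw [SModEq.zero, Ideal.smul_top_eq_map]
  exact Ideal.map_mono (Ideal.pow_le_pow_right n.le_succ) (Ideal.Quotient.eq.mp (h n))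

theorem hom_ext_local (hI : I.map (algebraMap A C) ≤ IsLocalRing.maximalIdeal C)
    {f g : Spec (CommRingCat.of C) ⟶ X} (h : ∀ n, lvl I C n ≫ f = lvl I C n ≫ g) : f = g := by
  obtain ⟨_, hp⟩ := closedPoint_eq I hI 0
  obtain ⟨U, hU, hx, -⟩ := exists_isAffineOpen_mem_and_subset (x := f (IsLocalRing.closedPoint C)) (U := ⊤) trivial
  have hg : g (IsLocalRing.closedPoint C) = f (IsLocalRing.closedPoint C) := by
    rw [← hp, ← Scheme.Hom.comp_apply, ← Scheme.Hom.comp_apply, h 0]
  obtain ⟨φ, hφ⟩ := exists_preimage f hU hx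
  obtain ⟨ψ, hψ⟩ := exists_preimage g hU (hg ▸ hx)
  have e : φ = ψ := CommRingCat.hom_ext (RingHom.ext fun a => eq_of_forall_mk I fun n => by
    have h1 := h n
    rw [← hφ, ← hψ, ← Category.assoc, ← Category.assoc, cancel_mono, ← Spec.map_comp, ← Spec.map_comp] at h1
    exact congrArg (fun t => t.hom a) (Spec.map_injective h1))
  rw [← hφ, ← hψ, e]

theorem exists_hom_local (hI : I.map (algebraMap A C) ≤ IsLocalRing.maximalIdeal C)
    (e : ∀ n, Spec (CommRingCat.of (C ⧸ (I ^ (n + 1)).map (algebraMap A C))) ⟶ X)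
    (he : ∀ m n (h : m ≤ n), lvlMap I C h ≫ e n = e m) :
    ∃ f : Spec (CommRingCat.of C) ⟶ X, ∀ n, lvl I C n ≫ f = e n := by
  obtain ⟨i₀, hp₀⟩ := closedPoint_eq I hI 0
  obtain ⟨U, hU, hx, -⟩ := exists_isAffineOpen_mem_and_subset
    (x := e 0 (IsLocalRing.closedPoint _)) (U := ⊤) trivial
  have hφ : ∀ n, ∃ φ : Γ(X, U) ⟶ CommRingCat.of (C ⧸ (I ^ (n + 1)).map (algebraMap A C)),
      Spec.map φ ≫ hU.fromSpec = e n := fun n => by
    obtain ⟨i₁, hp⟩ := closedPoint_eq I hI n
    refine exists_preimage (e n) hU ?_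
    haveI := Function.Surjective.isLocalHom (Ideal.Quotient.factor (pow_map_le I (C := C) (Nat.zero_le n)))
      (Ideal.Quotient.factor_surjective _)
    have hq : lvlMap I C (Nat.zero_le n) (IsLocalRing.closedPoint _) = IsLocalRing.closedPoint _ :=
      IsLocalRing.comap_closedPoint _
    rw [← hq, ← Scheme.Hom.comp_apply, he]
    exact hx
  choose φ hφ using hφ
  choose c hc using fun (n : ℕ) (a : Γ(X, U)) => Ideal.Quotient.mk_surjective ((φ n).hom a)
  have hcc : ∀ m n (h : m ≤ n) a, Ideal.Quotient.mk ((I ^ (m + 1)).map (algebraMap A C)) (c n a) =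
      Ideal.Quotient.mk _ (c m a) := fun m n h a => by
    have h1 := he m n h
    rw [← hφ, ← hφ, ← Category.assoc, cancel_mono, ← Spec.map_comp] at h1
    have h2 := congrArg (fun t => t.hom a) (Spec.map_injective h1)
    simp only [CommRingCat.hom_comp, RingHom.comp_apply, CommRingCat.hom_ofHom] at h2
    rwa [← hc, ← hc, Ideal.Quotient.factor_mk] at h2
  choose L hL using fun a => IsPrecomplete.prec (inferInstance : IsPrecomplete I C) (f := fun n => c n a)
    fun {m n} h => by
      rw [SModEq.sub_mem, Ideal.smul_top_eq_map]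
      have := Ideal.Quotient.eq.mp (hcc m n h a).symm
      exact Ideal.map_mono (Ideal.pow_le_pow_right m.le_succ) this
  have hL' : ∀ n a, Ideal.Quotient.mk ((I ^ (n + 1)).map (algebraMap A C)) (L a) = (φ n).hom a := fun n a => by
    rw [← hc, ← hcc n (n + 1) n.le_succ, eq_comm, Ideal.Quotient.eq]
    have h1 := hL a (n + 1)
    rwa [SModEq.sub_mem, Ideal.smul_top_eq_map] at h1
  let ψ : Γ(X, U) →+* C :=
    { toFun := L
      map_one' := eq_of_forall_mk I fun n => by simp [hL']
      map_mul' := fun a b => eq_of_forall_mk I fun n => by simp [hL']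
      map_zero' := eq_of_forall_mk I fun n => by simp [hL']
      map_add' := fun a b => eq_of_forall_mk I fun n => by simp [hL'] }
  refine ⟨Spec.map (CommRingCat.ofHom ψ) ≫ hU.fromSpec, fun n => ?_⟩
  rw [← Category.assoc, ← Spec.map_comp, ← hφ]
  congr 2
  ext a
  exact hL' n a

end Local

variable [IsLocalRing A] [IsNoetherianRing A] [IsAdicComplete (IsLocalRing.maximalIdeal A) A]
  (B : Type u) [CommRing B] [Algebra A B] [Module.Finite A B]

set_option maxHeartbeats 1000000 in
/-- Morphisms out of the spectrum of a finite algebra over a complete local ring are compatible systems. -/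
theorem hom_limit : (∀ {f g : Spec (CommRingCat.of B) ⟶ X},
      (∀ n, lvl (IsLocalRing.maximalIdeal A) B n ≫ f = lvl (IsLocalRing.maximalIdeal A) B n ≫ g) → f = g) ∧
    ∀ e : ∀ n, Spec (CommRingCat.of (B ⧸ (IsLocalRing.maximalIdeal A ^ (n + 1)).map (algebraMap A B))) ⟶ X,
      (∀ m n (h : m ≤ n), lvlMap (IsLocalRing.maximalIdeal A) B h ≫ e n = e m) →
      ∃ f : Spec (CommRingCat.of B) ⟶ X, ∀ n, lvl (IsLocalRing.maximalIdeal A) B n ≫ f = e n := by
  let I := IsLocalRing.maximalIdeal A
  haveI : HenselianLocalRing A := ⟨fun f hf a₀ h₁ h₂ => HenselianRing.is_henselian (I := I) f hf a₀ h₁ (h₂.map _)⟩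
  obtain ⟨ι, _, C, _, hloc, ⟨α⟩⟩ := S0499.result A B
  let p : ∀ i, B →+* C i := fun i => (Pi.evalRingHom C i).comp α.toRingHom
  letI : ∀ i, Algebra A (C i) := fun i => ((p i).comp (algebraMap A B)).toAlgebra
  have hp : ∀ i, (p i).comp (algebraMap A B) = algebraMap A (C i) := fun i => rfl
  have hps : ∀ i, Function.Surjective (p i) := fun i => (Function.surjective_eval i).comp α.surjective
  let pA : ∀ i, B →ₐ[A] C i := fun i => AlgHom.mk (p i) fun a => rfl
  haveI : ∀ i, Module.Finite A (C i) := fun i => Module.Finite.of_surjective (pA i).toLinearMap (hps i)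
  haveI : ∀ i, IsAdicComplete I (C i) := fun i => AdicLib.isAdicComplete_of_finite I (C i)
  have hI : ∀ i, I.map (algebraMap A (C i)) ≤ IsLocalRing.maximalIdeal (C i) := fun i => by
    haveI : IsAdicComplete (I.map (algebraMap A (C i))) (C i) :=
      (IsAdicComplete.map_algebraMap_iff (I := I) (M := C i) (S := C i)).mpr inferInstance
    haveI := hloc i
    exact (IsAdicComplete.le_jacobson_bot _).trans (IsLocalRing.jacobson_eq_maximalIdeal ⊥ bot_ne_top).le
  let ι' : ∀ i, Spec (CommRingCat.of (C i)) ⟶ Spec (CommRingCat.of B) := fun i => Spec.map (CommRingCat.ofHom (p i))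
  have hmap : ∀ i n, (I ^ (n + 1)).map (algebraMap A B) ≤ ((I ^ (n + 1)).map (algebraMap A (C i))).comap (p i) :=
    fun i n => by rw [← Ideal.map_le_iff_le_comap, Ideal.map_map, hp]
  let r : ∀ i n, Spec (CommRingCat.of (C i ⧸ (I ^ (n + 1)).map (algebraMap A (C i)))) ⟶
      Spec (CommRingCat.of (B ⧸ (I ^ (n + 1)).map (algebraMap A B))) := fun i n =>
    Spec.map (CommRingCat.ofHom (Ideal.quotientMap _ (p i) (hmap i n)))
  have hr : ∀ i n, r i n ≫ lvl I B n = lvl I (C i) n ≫ ι' i := fun i n => by
    simp only [r, lvl, ι', ← Spec.map_comp, ← CommRingCat.ofHom_comp]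
    rfl
  let σ : (∐ fun i => Spec (CommRingCat.of (C i))) ⟶ Spec (CommRingCat.of B) :=
    sigmaSpec (fun i => CommRingCat.of (C i)) ≫ Spec.map (CommRingCat.ofHom α.toRingHom)
  haveI : IsIso σ := by
    haveI : IsIso (CommRingCat.ofHom α.toRingHom) := α.toCommRingCatIso.isIso_hom
    infer_instance
  have hσ : ∀ i, Sigma.ι (fun i => Spec (CommRingCat.of (C i))) i ≫ σ = ι' i := fun i => by
    simp only [σ, ι', p, ι_sigmaSpec_assoc, ← Spec.map_comp, ← CommRingCat.ofHom_comp]
  haveI := hloc
  refine ⟨fun {f g} h => ?_, fun e he => ?_⟩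
  · rw [← cancel_epi σ]
    refine Sigma.hom_ext _ _ fun i => ?_
    rw [reassoc_of% (hσ i), reassoc_of% (hσ i)]
    refine hom_ext_local I (hI i) fun n => ?_
    rw [← Category.assoc, ← hr, Category.assoc, h, ← Category.assoc, hr, Category.assoc]
  · have hrt : ∀ i m n (h : m ≤ n), lvlMap I (C i) h ≫ r i n = r i m ≫ lvlMap I B h := fun i m n h => by
      simp only [r, lvlMap, ← Spec.map_comp, ← CommRingCat.ofHom_comp]
      congr 2
      exact Ideal.Quotient.ringHom_ext (RingHom.ext fun b => rfl)
    choose f hf using fun i => exists_hom_local I (hI i) (fun n => r i n ≫ e n) fun m n h => by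
      rw [← Category.assoc, hrt, Category.assoc, he]
    refine ⟨inv σ ≫ Sigma.desc f, fun n => ?_⟩
    obtain ⟨fn, hfn⟩ : ∃ fn, fn = lvl I B n ≫ inv σ ≫ Sigma.desc f := ⟨_, rfl⟩
    haveI : Epi (Sigma.desc fun i => r i n) := by
      let q : ∀ i, (B ⧸ (I ^ (n + 1)).map (algebraMap A B)) →+* C i ⧸ (I ^ (n + 1)).map (algebraMap A (C i)) :=
        fun i => Ideal.quotientMap _ (p i) (hmap i n)
      have hq : Function.Bijective (Pi.ringHom q) := by
        classical
        refine ⟨(injective_iff_map_eq_zero _).mpr fun b hb => ?_, fun z => ?_⟩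
        · obtain ⟨b, rfl⟩ := Ideal.Quotient.mk_surjective b
          rw [Ideal.Quotient.eq_zero_iff_mem]
          have hb' : ∀ i, p i b ∈ (I ^ (n + 1)).map (algebraMap A (C i)) := fun i =>
            Ideal.Quotient.eq_zero_iff_mem.mp (congrFun hb i)
          have key : ∀ i, ∀ c ∈ (I ^ (n + 1)).map (algebraMap A (C i)),
              α.symm (Pi.single i c) ∈ (I ^ (n + 1)).map (algebraMap A B) := fun i c hc => by
            refine Submodule.span_induction ?_ ?_ ?_ ?_ hc
            · rintro _ ⟨a, ha, rfl⟩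
              obtain ⟨s, hs⟩ := α.surjective (Pi.single i 1)
              have : α.symm (Pi.single i (algebraMap A (C i) a)) = algebraMap A B a * s := by
                rw [RingEquiv.symm_apply_eq, map_mul, hs]
                funext l
                rcases eq_or_ne l i with rfl | hl
                · simp only [Pi.mul_apply, Pi.single_eq_same, mul_one]; rfl
                · simp [Pi.single_eq_of_ne hl]
              rw [this]
              exact Ideal.mul_mem_right _ _ (Ideal.mem_map_of_mem _ ha)
            · simp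
            · intro x y _ _ hx hy
              rw [Pi.single_add, map_add]
              exact add_mem hx hy
            · intro t x _ hx
              rw [smul_eq_mul, Pi.single_mul, map_mul]
              exact Ideal.mul_mem_left _ _ hx
          rw [← α.symm_apply_apply b, ← Finset.univ_sum_single (α b), map_sum]
          exact Ideal.sum_mem _ fun i _ => key i _ (hb' i)
        · choose c hc using fun i => Ideal.Quotient.mk_surjective (z i)
          exact ⟨Ideal.Quotient.mk _ (α.symm c), funext fun i => by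
            show Ideal.Quotient.mk _ (α (α.symm c) i) = _
            rw [α.apply_symm_apply, hc]⟩
      have e1 : (Sigma.desc fun i => r i n) = sigmaSpec _ ≫ Spec.map (CommRingCat.ofHom (Pi.ringHom q)) :=
        Sigma.hom_ext _ _ fun i => by
          rw [Sigma.ι_desc, ι_sigmaSpec_assoc, ← Spec.map_comp]
          rfl
      haveI : IsIso (CommRingCat.ofHom (Pi.ringHom q)) := (RingEquiv.ofBijective _ hq).toCommRingCatIso.isIso_hom
      rw [e1]
      infer_instance
    rw [← hfn, ← cancel_epi (Sigma.desc fun i => r i n)]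
    refine Sigma.hom_ext _ _ fun i => ?_
    rw [Sigma.ι_desc_assoc, Sigma.ι_desc_assoc, hfn, ← Category.assoc, hr, ← hσ, Category.assoc, Category.assoc,
      IsIso.hom_inv_id_assoc, Sigma.ι_desc, hf]

end Groth.Agent.Deform
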