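import Groth.Agent.Deform.SmoothLiftHom
import Groth.Agent.Deform.Limit
import Groth.Agent.MultTypeLib.EtaleLift
import Mathlib.AlgebraicGeometry.Morphisms.Finite

/-!
# Homomorphisms from finite groups of multiplicative type over complete local rings
-/

set_option autoImplicit false
set_option linter.style.haveILetI false
set_option linter.unusedSectionVars false
set_option backward.isDefEq.respectTransparency false
set_option backward.isDefEq.respectTransparency.types false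

universe u

open CategoryTheory CategoryTheory.Limits MonoidalCategory CartesianMonoidalCategory AlgebraicGeometry
open TensorProduct

attribute [local instance] CategoryTheory.Hom.monoid CategoryTheory.Hom.group

namespace Groth.Agent.Deform

open GrpSchLib.AffineHopf (sp spMap spMap_comp spMap_id)

/-- Smooth morphisms lift along surjections of rings with nilpotent kernel. -/
theorem exists_lift_surj {X Y : Scheme.{u}} (π : X ⟶ Y) [Smooth π] {T T₀ : Type u} [CommRing T] [CommRing T₀]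
    (φ : T →+* T₀) (hφ : Function.Surjective φ) (hn : IsNilpotent (RingHom.ker φ))
    (a : Spec (CommRingCat.of T₀) ⟶ X) (b : Spec (CommRingCat.of T) ⟶ Y)
    (w : Spec.map (CommRingCat.ofHom φ) ≫ b = a ≫ π) :
    ∃ l : Spec (CommRingCat.of T) ⟶ X, Spec.map (CommRingCat.ofHom φ) ≫ l = a ∧ l ≫ π = b := by
  let e := RingHom.quotientKerEquivOfSurjective hφ
  have he : e.toRingHom.comp (Ideal.Quotient.mk (RingHom.ker φ)) = φ := RingHom.ext fun x => rfl
  have he' : e.symm.toRingHom.comp φ = Ideal.Quotient.mk (RingHom.ker φ) :=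
    RingHom.ext fun x => e.injective (e.apply_symm_apply _)
  obtain ⟨l, hl, hl'⟩ := exists_lift_nilpotent π hn (Spec.map (CommRingCat.ofHom e.symm.toRingHom) ≫ a) b (by
    rw [Category.assoc, ← w, ← Category.assoc, ← Spec.map_comp, ← CommRingCat.ofHom_comp, he'])
  refine ⟨l, ?_, hl'⟩
  conv_lhs => rw [← he, CommRingCat.ofHom_comp, Spec.map_comp, Category.assoc, hl, ← Category.assoc, ← Spec.map_comp,
    ← CommRingCat.ofHom_comp, show e.toRingHom.comp e.symm.toRingHom = RingHom.id _ from RingHom.ext e.apply_symm_apply,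
    CommRingCat.ofHom_id, Spec.map_id, Category.id_comp]

section Lvl

variable {A : Type u} [CommRing A] (I : Ideal A) (C : Type u) [CommRing C] [Algebra A C]

theorem lvlMap_refl {m : ℕ} (h : m ≤ m) : lvlMap I C h = 𝟙 _ := by
  show Spec.map (CommRingCat.ofHom (Ideal.Quotient.factor (pow_map_le I (C := C) h))) = 𝟙 _
  rw [show Ideal.Quotient.factor (pow_map_le I (C := C) h) = RingHom.id _ from
    Ideal.Quotient.ringHom_ext (RingHom.ext fun x => rfl), CommRingCat.ofHom_id, Spec.map_id]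

theorem lvlMap_comp {a b c : ℕ} (h : a ≤ b) (h' : b ≤ c) :
    lvlMap I C h ≫ lvlMap I C h' = lvlMap I C (h.trans h') := by
  show Spec.map _ ≫ Spec.map _ = Spec.map _
  rw [← Spec.map_comp, ← CommRingCat.ofHom_comp, Ideal.Quotient.factor_comp]

theorem lvlMap_lvl {a b : ℕ} (h : a ≤ b) : lvlMap I C h ≫ lvl I C b = lvl I C a := by
  show Spec.map _ ≫ Spec.map _ = Spec.map _
  rw [← Spec.map_comp, ← CommRingCat.ofHom_comp, Ideal.Quotient.factor_comp_mk]

end Lvl

variable {A : Type u} [CommRing A] [IsLocalRing A] [IsNoetherianRing A]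
  [IsAdicComplete (IsLocalRing.maximalIdeal A) A]

local notation "𝔪" => IsLocalRing.maximalIdeal A

/-- Morphisms to a smooth scheme extend from infinitesimal levels. -/
theorem exists_extend {B : Type u} [CommRing B] [Algebra A B] [Module.Finite A B]
    {X : Over (Spec (CommRingCat.of A))} [Smooth X.hom] (n : ℕ)
    (a : sp A (B ⧸ (𝔪 ^ (n + 1)).map (algebraMap A B)) ⟶ X) :
    ∃ v : sp A B ⟶ X, spMap (red (𝔪 ^ (n + 1)) B) ≫ v = a := by
  have step : ∀ k (b : sp A (B ⧸ (𝔪 ^ (n + k + 1)).map (algebraMap A B)) ⟶ X),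
      ∃ b' : sp A (B ⧸ (𝔪 ^ (n + (k + 1) + 1)).map (algebraMap A B)) ⟶ X,
        lvlMap 𝔪 B (show n + k ≤ n + (k + 1) by omega) ≫ b'.left = b.left := fun k b => by
    have hn : IsNilpotent (RingHom.ker (Ideal.Quotient.factor
        (pow_map_le 𝔪 (C := B) (show n + k ≤ n + (k + 1) by omega)))) := by
      refine ⟨2, le_bot_iff.mp ?_⟩
      rw [Ideal.Quotient.factor_ker, pow_two, ← Ideal.map_mul, ← Ideal.map_mul, ← pow_add]
      refine (Ideal.map_mono (Ideal.map_mono (Ideal.pow_le_pow_right (show n + (k + 1) + 1 ≤ n + k + 1 + (n + k + 1) by omega)))).trans ?_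
      exact (Ideal.map_quotient_self _).le
    obtain ⟨l, hl, hl'⟩ := exists_lift_surj X.hom _ (Ideal.Quotient.factor_surjective _) hn b.left
      (sp A (B ⧸ (𝔪 ^ (n + (k + 1) + 1)).map (algebraMap A B))).hom (by
        show Spec.map _ ≫ Spec.map _ = _
        rw [← Spec.map_comp, ← CommRingCat.ofHom_comp]
        exact (Over.w b).symm)
    exact ⟨Over.homMk l hl', hl⟩
  choose f hf using step
  let s : ∀ k, sp A (B ⧸ (𝔪 ^ (n + k + 1)).map (algebraMap A B)) ⟶ X := fun k => Nat.rec a (fun j b => f j b) k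
  have hs : ∀ m k (h : m ≤ k), lvlMap 𝔪 B (show n + m ≤ n + k by omega) ≫ (s k).left = (s m).left := by
    intro m k h
    induction k, h using Nat.le_induction with
    | base =>
      exact (congrArg (· ≫ (s m).left) (lvlMap_refl 𝔪 B le_rfl)).trans (Category.id_comp _)
    | succ k hmk ih =>
      rw [show lvlMap 𝔪 B (show n + m ≤ n + (k + 1) by omega) = lvlMap 𝔪 B (show n + m ≤ n + k by omega) ≫
        lvlMap 𝔪 B (show n + k ≤ n + (k + 1) by omega) from (lvlMap_comp 𝔪 B _ _).symm, Category.assoc]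
      exact (congrArg _ (hf k (s k))).trans ih
  obtain ⟨v, hv⟩ := (hom_limit (A := A) (X := X.left) B).2 (fun m => lvlMap 𝔪 B (show m ≤ n + m by omega) ≫ (s m).left)
    fun m k h => by
      rw [← hs m k h, ← Category.assoc, ← Category.assoc, lvlMap_comp, lvlMap_comp]
  have hw : v ≫ X.hom = (sp A B).hom := (hom_limit (A := A) B).1 fun m => by
    rw [← Category.assoc, hv, Category.assoc, Over.w (s m)]
    show Spec.map _ ≫ Spec.map _ = Spec.map _ ≫ Spec.map _
    rw [← Spec.map_comp, ← Spec.map_comp, ← CommRingCat.ofHom_comp, ← CommRingCat.ofHom_comp]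
    congr 2
  refine ⟨Over.homMk v hw, Over.OverMorphism.ext ?_⟩
  show lvl 𝔪 B n ≫ v = a.left
  rw [hv, show a.left = (s 0).left from rfl, ← hs 0 n (Nat.zero_le n)]

/-- Morphisms of reductions extend. -/
theorem exists_morphism {B : Type u} [CommRing B] [Algebra A B] [Module.Finite A B]
    {G : Over (Spec (CommRingCat.of A))} [Smooth G.hom] (n : ℕ)
    (ψ : Red.bc (bm (𝔪 ^ (n + 1))) (sp A B) ⟶ Red.bc (bm (𝔪 ^ (n + 1))) G) :
    ∃ v : sp A B ⟶ G, (Over.pullback (bm (𝔪 ^ (n + 1)))).map v = ψ := by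
  obtain ⟨Y, j, h', hj, hh'⟩ := exists_on_points (redBase (𝔪 ^ (n + 1)) B) (spMap (red (𝔪 ^ (n + 1)) B))
  obtain ⟨v, hv⟩ := exists_extend n (j ≫ DSPtsLib.theta (bm (𝔪 ^ (n + 1))) (h' ≫ ψ))
  refine ⟨v, (Category.id_comp _).symm.trans (Eq.trans ?_ (Category.id_comp _))⟩
  apply (DSPtsLib.theta_bijective (bm (𝔪 ^ (n + 1)))).injective
  rw [theta_map, Category.id_comp]
  obtain ⟨h₀, hh₀⟩ := exists_factor_red (redPt (𝔪 ^ (n + 1)) (sp A B))
    (DSPtsLib.theta (bm (𝔪 ^ (n + 1))) (𝟙 (Red.bc (bm (𝔪 ^ (n + 1))) (sp A B))))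
  rw [← hh₀, Category.assoc, hv]
  haveI : IsClosedImmersion (bm (𝔪 ^ (n + 1))) := IsClosedImmersion.spec_of_surjective _ Ideal.Quotient.mk_surjective
  obtain ⟨k, hk⟩ : ∃ k : Red.bc (bm (𝔪 ^ (n + 1))) (sp A B) ⟶ Y, (Over.map (bm (𝔪 ^ (n + 1)))).map k = h₀ ≫ j :=
    ⟨Over.homMk (h₀ ≫ j).left (by
      have h1 := congrArg (fun t => t ≫ 𝟙 _) (Over.w (h₀ ≫ j))
      rw [← cancel_mono (bm (𝔪 ^ (n + 1)))]
      simpa using h1), Over.OverMorphism.ext rfl⟩
  have hk' : k ≫ h' = 𝟙 _ := by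
    apply (DSPtsLib.theta_bijective (bm (𝔪 ^ (n + 1)))).injective
    rw [DSPtsLib.theta_comp, hk, Category.assoc, hh', hh₀]
  rw [← Category.assoc, ← hk, ← DSPtsLib.theta_comp, reassoc_of% hk']

/-- Points over the levels extend to the base. -/
theorem exists_point {G : Over (Spec (CommRingCat.of A))} [Smooth G.hom] (n : ℕ)
    (g₀ : closedPt (𝔪 ^ (n + 1)) ⟶ G) :
    ∃ g : 𝟙_ (Over (Spec (CommRingCat.of A))) ⟶ G, toUnit (closedPt (𝔪 ^ (n + 1))) ≫ g = g₀ := by
  obtain ⟨v, hv⟩ := exists_extend (B := A) n (redBase (𝔪 ^ (n + 1)) A ≫ g₀)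
  obtain ⟨h₀, hh₀⟩ := exists_factor_red (𝟙 (closedPt (𝔪 ^ (n + 1)))) (toUnit _ ≫ unitIso A)
  refine ⟨unitIso A ≫ v, ?_⟩
  rw [← Category.assoc, ← hh₀, Category.assoc, hv]
  haveI : IsClosedImmersion (bm (𝔪 ^ (n + 1))) := IsClosedImmersion.spec_of_surjective _ Ideal.Quotient.mk_surjective
  have e : h₀ ≫ redBase (𝔪 ^ (n + 1)) A = 𝟙 _ := Over.OverMorphism.ext (by
    rw [← cancel_mono (bm (𝔪 ^ (n + 1)))]
    exact (Over.w (h₀ ≫ redBase (𝔪 ^ (n + 1)) A)).trans (Category.id_comp _).symm)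
  rw [reassoc_of% e]

variable {B : Type u} [CommRing B] [HopfAlgebra A B] [Module.Finite A B]
  {G : Over (Spec (CommRingCat.of A))} [GrpObj G] [Smooth G.hom]

omit [Module.Finite A B] in
theorem hopfMult_sp (hB : SGA3b.IsMultType A B) : HopfMult (sp A B) := fun K => by
  obtain ⟨a⟩ := GrpSchLib.AffineHopf.nonempty_bc_sp (R := A) (A ⧸ K) B
  exact ⟨_, inferInstance, inferInstance, MultTypeLib.isMultType_baseChange (A ⧸ K) hB, ⟨a.symm⟩⟩

/-- Homomorphisms lift from the closed fibre. -/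
theorem exists_hom_complete (hB : SGA3b.IsMultType A B)
    (ψ : Red.bc (bm 𝔪) (sp A B) ⟶ Red.bc (bm 𝔪) G) [IsMonHom ψ] :
    ∃ v : sp A B ⟶ G, IsMonHom v ∧ (Over.pullback (bm 𝔪)).map v = ψ := by
  have base : ∃ v : sp A B ⟶ G, HomOn (𝔪 ^ (0 + 1)) v ∧ (Over.pullback (bm 𝔪)).map v = ψ := by
    have h1 : 𝔪 ^ (0 + 1) = 𝔪 := pow_one _
    obtain ⟨v, hv⟩ : ∃ v : sp A B ⟶ G, (Over.pullback (bm 𝔪)).map v = ψ := by
      revert ψ
      rw [← h1]
      intro ψ _
      exact exists_morphism 0 ψ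
    haveI : IsMonHom ((Over.pullback (bm 𝔪)).map v) := by rw [hv]; infer_instance
    exact ⟨v, by rw [h1]; exact homOn_of_map v, hv⟩
  obtain ⟨v₀, hv₀, hv₀'⟩ := base
  have step : ∀ k (v : sp A B ⟶ G), HomOn (𝔪 ^ (k + 1)) v → ∃ w : sp A B ⟶ G, HomOn (𝔪 ^ (k + 1 + 1)) w ∧
      ∀ (X : Over (Spec (CommRingCat.of A))) (_ : X ⟶ closedPt (𝔪 ^ (k + 1))) (h : X ⟶ sp A B), h ≫ w = h ≫ v :=
    fun k v hv => exists_hom_step (Ideal.pow_le_pow_right (by omega))
      (by rw [← pow_add]; exact Ideal.pow_le_pow_right (by omega)) (fun ψ => exists_morphism (k + 1) ψ)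
      (hopfMult_sp hB) v hv
  choose f hfh hfa using step
  let s : ∀ k, { v : sp A B ⟶ G // HomOn (𝔪 ^ (k + 1)) v } := fun k =>
    Nat.rec ⟨v₀, hv₀⟩ (fun j p => ⟨f j p.1 p.2, hfh j p.1 p.2⟩) k
  have hs : ∀ m k, m ≤ k → ∀ (X : Over (Spec (CommRingCat.of A))) (_ : X ⟶ closedPt (𝔪 ^ (m + 1))) (h : X ⟶ sp A B),
      h ≫ (s k).1 = h ≫ (s m).1 := by
    intro m k h
    induction k, h using Nat.le_induction with
    | base => exact fun X _ h => rfl
    | succ k hmk ih =>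
      intro X p h
      rw [← ih X p h]
      exact hfa k (s k).1 (s k).2 X (p ≫ closedIncl (Ideal.pow_le_pow_right (Nat.succ_le_succ hmk))) h
  obtain ⟨v, hv⟩ := (hom_limit (A := A) (X := G.left) B).2 (fun m => lvl 𝔪 B m ≫ (s m).1.left) fun m k h => by
    have e := hs m k h _ (redBase (𝔪 ^ (m + 1)) B) (spMap (red (𝔪 ^ (m + 1)) B))
    rw [show lvl 𝔪 B m ≫ (s m).1.left = lvl 𝔪 B m ≫ (s k).1.left from (congrArg CommaMorphism.left e).symm,
      ← Category.assoc]
    congr 1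
    exact lvlMap_lvl 𝔪 B h
  have hw : v ≫ G.hom = (sp A B).hom := (hom_limit (A := A) B).1 fun m => by
    rw [← Category.assoc, hv, Category.assoc, Over.w (s m).1]
  let w : sp A B ⟶ G := Over.homMk v hw
  have hag : ∀ m (X : Over (Spec (CommRingCat.of A))) (_ : X ⟶ closedPt (𝔪 ^ (m + 1))) (h : X ⟶ sp A B),
      h ≫ w = h ≫ (s m).1 := fun m X p h => by
    obtain ⟨h₀, rfl⟩ := exists_factor_red p h
    rw [Category.assoc, Category.assoc,
      show spMap (red (𝔪 ^ (m + 1)) B) ≫ w = spMap (red (𝔪 ^ (m + 1)) B) ≫ (s m).1 from Over.OverMorphism.ext (hv m)]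
  refine ⟨w, isMonHom_of_universal w (Over.OverMorphism.ext ((hom_limit (A := A) (B ⊗[A] B)).1 fun m => ?_)), ?_⟩
  · let iL : B →ₐ[A] B ⊗[A] B := Algebra.TensorProduct.includeLeft
    let iR : B →ₐ[A] B ⊗[A] B := Algebra.TensorProduct.includeRight
    let z := spMap (red (𝔪 ^ (m + 1)) (B ⊗[A] B))
    let p := redBase (𝔪 ^ (m + 1)) (B ⊗[A] B)
    refine congrArg CommaMorphism.left (?_ : z ≫ spMap (Bialgebra.comulAlgHom A B) ≫ w =
      z ≫ ((spMap iL ≫ w) * (spMap iR ≫ w)))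
    rw [← comul_eq_mul, MonObj.comp_mul, ← Category.assoc, ← Category.assoc, ← Category.assoc, MonObj.comp_mul,
      hag m _ p, hag m _ p, hag m _ p]
    exact (s m).2 _ p _ _
  · rw [← hv₀']
    exact map_eq_of_agree fun X p x => hag 0 X (p ≫ closedIncl (pow_one 𝔪).le) x

/-- Homomorphisms with the same closed fibre are conjugate. -/
theorem exists_conj_complete (hB : SGA3b.IsMultType A B)
    (hH : TwC.Locally (Spec (CommRingCat.of A)) TwC.Topology.fpqc (fun S' f => ∃ (M : Type) (_ : AddCommGroup M),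
      Nonempty (Grp.mk (Red.bc f (sp A B)) ≅ Grp.mk (Red.DS S' M))))
    (u u' : sp A B ⟶ G) [IsMonHom u] [IsMonHom u']
    (h0 : (Over.pullback (bm 𝔪)).map u = (Over.pullback (bm 𝔪)).map u') :
    ∃ g : 𝟙_ (Over (Spec (CommRingCat.of A))) ⟶ G, toUnit (closedPt 𝔪) ≫ g = 1 ∧
      ∀ (X : Over (Spec (CommRingCat.of A))) (x : X ⟶ sp A B), x ≫ u' = (toUnit X ≫ g) * (x ≫ u) * (toUnit X ≫ g)⁻¹ := by
  have step : ∀ k (g : 𝟙_ (Over (Spec (CommRingCat.of A))) ⟶ G),
      (∀ (X : Over (Spec (CommRingCat.of A))) (_ : X ⟶ closedPt (𝔪 ^ (k + 1))) (h : X ⟶ sp A B),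
        h ≫ u' = (toUnit X ≫ g) * (h ≫ u) * (toUnit X ≫ g)⁻¹) →
      ∃ g' : 𝟙_ (Over (Spec (CommRingCat.of A))) ⟶ G,
        (∀ (X : Over (Spec (CommRingCat.of A))) (_ : X ⟶ closedPt (𝔪 ^ (k + 1 + 1))) (h : X ⟶ sp A B),
          h ≫ u' = (toUnit X ≫ g') * (h ≫ u) * (toUnit X ≫ g')⁻¹) ∧
        ∀ (X : Over (Spec (CommRingCat.of A))) (_ : X ⟶ closedPt (𝔪 ^ (k + 1))), toUnit X ≫ g' = toUnit X ≫ g := by
    intro k g hg
    haveI := isMonHom_conj u g
    obtain ⟨c, hc, hck⟩ := exists_conj_step (K := 𝔪 ^ (k + 1)) (K' := 𝔪 ^ (k + 1 + 1)) (J := 𝔪 ^ (k + 1))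
      (Ideal.pow_le_pow_right (by omega)) (by rw [← pow_add]; exact Ideal.pow_le_pow_right (by omega)) le_rfl
      (fun g₀ => exists_point (k + 1) g₀) hH ((toUnit _ ≫ g) * u * (toUnit _ ≫ g)⁻¹) u' fun X p h => by
        rw [hg X p h, MonObj.comp_mul, MonObj.comp_mul, GrpObj.comp_inv, comp_toUnit_assoc]
    refine ⟨c * g, fun X p h => ?_, fun X p => ?_⟩
    · rw [hck X p h]
      simp only [MonObj.comp_mul, GrpObj.comp_inv, comp_toUnit_assoc]
      group
    · rw [MonObj.comp_mul, ← comp_toUnit p, Category.assoc, hc, MonObj.comp_one, _root_.one_mul]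
  choose f hfh hfa using step
  let s : ∀ k, { g : 𝟙_ (Over (Spec (CommRingCat.of A))) ⟶ G //
      ∀ (X : Over (Spec (CommRingCat.of A))) (_ : X ⟶ closedPt (𝔪 ^ (k + 1))) (h : X ⟶ sp A B),
        h ≫ u' = (toUnit X ≫ g) * (h ≫ u) * (toUnit X ≫ g)⁻¹ } := fun k =>
    Nat.rec ⟨1, fun X p h => by
      rw [MonObj.comp_one, _root_.one_mul, inv_one, _root_.mul_one]
      exact (agree_of_map_eq h0 X (p ≫ closedIncl (pow_one 𝔪).ge) h).symm⟩
      (fun j q => ⟨f j q.1 q.2, hfh j q.1 q.2⟩) k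
  have hs : ∀ m k, m ≤ k → ∀ (X : Over (Spec (CommRingCat.of A))) (_ : X ⟶ closedPt (𝔪 ^ (m + 1))),
      toUnit X ≫ (s k).1 = toUnit X ≫ (s m).1 := by
    intro m k h
    induction k, h using Nat.le_induction with
    | base => exact fun X _ => rfl
    | succ k hmk ih =>
      intro X p
      rw [← ih X p]
      exact hfa k (s k).1 (s k).2 X (p ≫ closedIncl (Ideal.pow_le_pow_right (Nat.succ_le_succ hmk)))
  obtain ⟨v, hv⟩ := (hom_limit (A := A) (X := G.left) A).2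
    (fun m => lvl 𝔪 A m ≫ (toUnit (sp A A) ≫ (s m).1).left) fun m k h => by
      have e := congrArg CommaMorphism.left (hs m k h _ (redBase (𝔪 ^ (m + 1)) A))
      rw [← comp_toUnit (spMap (red (𝔪 ^ (m + 1)) A)), Category.assoc, Category.assoc] at e
      rw [show lvl 𝔪 A m ≫ (toUnit (sp A A) ≫ (s m).1).left = lvl 𝔪 A m ≫ (toUnit (sp A A) ≫ (s k).1).left from e.symm,
        ← Category.assoc]
      congr 1
      exact lvlMap_lvl 𝔪 A h
  have hw : v ≫ G.hom = (sp A A).hom := (hom_limit (A := A) A).1 fun m => by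
    rw [← Category.assoc, hv, Category.assoc, Over.w (toUnit (sp A A) ≫ (s m).1)]
  let w : sp A A ⟶ G := Over.homMk v hw
  have hag : ∀ m (X : Over (Spec (CommRingCat.of A))) (_ : X ⟶ closedPt (𝔪 ^ (m + 1))),
      toUnit X ≫ unitIso A ≫ w = toUnit X ≫ (s m).1 := fun m X p => by
    obtain ⟨h₀, hh₀⟩ := exists_factor_red p (toUnit X ≫ unitIso A)
    rw [← Category.assoc, ← hh₀, Category.assoc,
      show spMap (red (𝔪 ^ (m + 1)) A) ≫ w = spMap (red (𝔪 ^ (m + 1)) A) ≫ toUnit _ ≫ (s m).1 from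
        Over.OverMorphism.ext (hv m), comp_toUnit_assoc, comp_toUnit_assoc]
  refine ⟨unitIso A ≫ w, ?_, ?_⟩
  · rw [hag 0 _ (closedIncl (pow_one 𝔪).le)]
    exact MonObj.comp_one _
  have main : u' = (toUnit _ ≫ unitIso A ≫ w) * u * (toUnit _ ≫ unitIso A ≫ w)⁻¹ := by
    refine Over.OverMorphism.ext ((hom_limit (A := A) B).1 fun m => congrArg CommaMorphism.left
      (?_ : spMap (red (𝔪 ^ (m + 1)) B) ≫ u' = spMap (red (𝔪 ^ (m + 1)) B) ≫ _))
    rw [(s m).2 _ (redBase (𝔪 ^ (m + 1)) B) _]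
    simp only [MonObj.comp_mul, GrpObj.comp_inv, comp_toUnit_assoc, hag m _ (redBase (𝔪 ^ (m + 1)) B)]
  intro X x
  conv_lhs => rw [main]
  simp only [MonObj.comp_mul, GrpObj.comp_inv, comp_toUnit_assoc]

end Groth.Agent.Deform
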