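import Groth.Agent.Deform.MultHopf
import Groth.Agent.Deform.QuasiIsotrivial
import Groth.Agent.MultTypeLib.TorsionCrit
import Groth.Agent.MultTypeLib.Coord
import Groth.Agent.MultTypeLib.LocalToGlobal
import Groth.Agent.GrpSchLib.MuAug

/-!
# Groups with fibres of multiplicative type and torsion of locally constant order

An affine flat finitely presented group whose fibres are of multiplicative type is of multiplicative type once the
orders of the kernels of the power maps are locally constant: a closed subgroup of a diagonalisable group over a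
field with the same torsion orders is the whole group.
-/

universe u

open WithConv TensorProduct Coalgebra Bialgebra IsLocalRing

set_option linter.style.haveILetI false

noncomputable section

namespace Groth.Agent.Deform.TorsionOrder

open MultTypeLib
open GrpSchLib (powConv_isGroupLike)
open GrpSchLib.AffineHopf (scalarBialgEquiv)

variable {R : Type u} [CommRing R]

section Functorial

variable {A B : Type u} [CommRing A] [CommRing B] [HopfAlgebra R A] [HopfAlgebra R B]

/-- Power maps commute with homomorphisms. -/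
theorem powConv_map (f : A →ₐc[R] B) (n : ℕ) (a : A) :
    SGA3b.powConv R B n (f a) = f (SGA3b.powConv R A n a) := by
  suffices h : ((SGA3b.powConv R B n).comp (f : A →ₐ[R] B)) = (f : A →ₐ[R] B).comp (SGA3b.powConv R A n) from
    AlgHom.congr_fun h a
  induction n with
  | zero =>
    refine AlgHom.ext fun x => ?_
    show algebraMap R B (counit (f x)) = f (algebraMap R A (counit x))
    rw [CoalgHomClass.counit_comp_apply, AlgHomClass.commutes]
  | succ m ih =>
    have e1 := AlgHom.convMul_comp_bialgHom_distrib (toConv (SGA3b.powConv R B m)) (toConv (AlgHom.id R B)) f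
    have e2 := AlgHom.comp_convMul_distrib (f : A →ₐ[R] B) (toConv (SGA3b.powConv R A m)) (toConv (AlgHom.id R A))
    rw [show SGA3b.powConv R B (m + 1) = (toConv (SGA3b.powConv R B m) * toConv (AlgHom.id R B)).ofConv from
      congrArg WithConv.ofConv (pow_succ _ m)]
    rw [show SGA3b.powConv R A (m + 1) = (toConv (SGA3b.powConv R A m) * toConv (AlgHom.id R A)).ofConv from
      congrArg WithConv.ofConv (pow_succ _ m)]
    refine e1.trans (Eq.trans ?_ e2.symm)
    simp only [ih, AlgHom.id_comp, AlgHom.comp_id]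

/-- A surjective homomorphism maps torsion ideals onto torsion ideals. -/
theorem torsionIdeal_map (f : A →ₐc[R] B) (hf : Function.Surjective f) (n : ℕ) :
    (SGA3b.torsionIdeal R A n).map (f : A →ₐ[R] B) = SGA3b.torsionIdeal R B n := by
  refine le_antisymm ?_ ?_
  · rw [Ideal.map_le_iff_le_comap]
    conv_lhs => rw [SGA3b.torsionIdeal]
    rw [Ideal.map_le_iff_le_comap]
    intro a ha
    show f (SGA3b.powConv R A n a) ∈ SGA3b.torsionIdeal R B n
    rw [← powConv_map]
    refine Ideal.mem_map_of_mem _ ?_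
    show counit (R := R) (f a) = 0
    rw [CoalgHomClass.counit_comp_apply]
    exact ha
  · conv_lhs => rw [SGA3b.torsionIdeal]
    rw [Ideal.map_le_iff_le_comap]
    intro b hb
    obtain ⟨a, rfl⟩ := hf b
    show SGA3b.powConv R B n (f a) ∈ (SGA3b.torsionIdeal R A n).map (f : A →ₐ[R] B)
    rw [powConv_map]
    refine Ideal.mem_map_of_mem (f : A →ₐ[R] B) (Ideal.mem_map_of_mem _ ?_)
    show counit (R := R) a = 0
    rw [← CoalgHomClass.counit_comp_apply f a]
    exact hb

/-- The torsion orders of isomorphic groups agree. -/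
def torsionQuotCongr (e : A ≃ₐc[R] B) (n : ℕ) :
    (A ⧸ SGA3b.torsionIdeal R A n) ≃ₐ[R] B ⧸ SGA3b.torsionIdeal R B n :=
  Ideal.quotientEquivAlg _ _ (e : A ≃ₐ[R] B)
    (torsionIdeal_map (e : A →ₐc[R] B) (EquivLike.surjective e) n).symm

end Functorial

section BaseChange

variable (T : Type u) [CommRing T] [Algebra R T] (C : Type u) [CommRing C] [HopfAlgebra R C]

/-- Torsion ideals commute with base change. -/
theorem torsionIdeal_baseChange (n : ℕ) : SGA3b.torsionIdeal T (T ⊗[R] C) n =
    (SGA3b.torsionIdeal R C n).map (Algebra.TensorProduct.includeRight : C →ₐ[R] T ⊗[R] C) := by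
  refine le_antisymm ?_ (Ideal.map_le_iff_le_comap.mpr fun c hc => tmul_mem_torsionIdeal T n hc)
  let J := (SGA3b.torsionIdeal R C n).map (Algebra.TensorProduct.includeRight : C →ₐ[R] T ⊗[R] C)
  have key : ∀ z : T ⊗[R] C,
      SGA3b.powConv T (T ⊗[R] C) n z - algebraMap T (T ⊗[R] C) (counit (R := T) z) ∈ J := by
    intro z
    induction z using TensorProduct.induction_on with
    | zero => simp
    | add a b ha hb =>
      rw [map_add, map_add, map_add, add_sub_add_comm]
      exact J.add_mem ha hb
    | tmul t c =>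
      have hc : SGA3b.powConv R C n c - algebraMap R C (counit c) ∈ SGA3b.torsionIdeal R C n := by
        rw [← (SGA3b.powConv R C n).commutes (counit c), ← map_sub]
        refine Ideal.mem_map_of_mem _ ?_
        rw [RingHom.mem_ker, map_sub, AlgHom.commutes]
        exact sub_eq_zero.mpr rfl
      have h := J.mul_mem_left (t ⊗ₜ[R] (1 : C))
        (Ideal.mem_map_of_mem (Algebra.TensorProduct.includeRight : C →ₐ[R] T ⊗[R] C) hc)
      convert h using 1
      rw [GrpSchLib.powConv_baseChange, TensorProduct.counit_tmul, Algebra.TensorProduct.includeRight_apply,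
        Algebra.TensorProduct.tmul_mul_tmul, mul_one, one_mul, TensorProduct.tmul_sub,
        Algebra.algebraMap_eq_smul_one (A := C), TensorProduct.tmul_smul, CommSemiring.counit_apply,
        Algebra.TensorProduct.algebraMap_apply, TensorProduct.smul_tmul']
      simp [Algebra.smul_def, mul_comm]
  refine Ideal.map_le_iff_le_comap.mpr fun z hz => ?_
  have h := key z
  rw [show counit (R := T) z = 0 from hz, map_zero, sub_zero] at h
  exact h

/-- The reduction of a base change modulo the torsion. -/
def torProj (n : ℕ) : T ⊗[R] C →ₐ[T] T ⊗[R] (C ⧸ SGA3b.torsionIdeal R C n) :=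
  Algebra.TensorProduct.map (AlgHom.id T T) (Ideal.Quotient.mkₐ R (SGA3b.torsionIdeal R C n))

theorem torProj_surjective (n : ℕ) : Function.Surjective (torProj (R := R) T C n) :=
  LinearMap.lTensor_surjective T (g := (Ideal.Quotient.mkₐ R (SGA3b.torsionIdeal R C n)).toLinearMap)
    Ideal.Quotient.mk_surjective

set_option maxHeartbeats 1000000 in
theorem ker_torProj (n : ℕ) : SGA3b.torsionIdeal T (T ⊗[R] C) n = RingHom.ker (torProj (R := R) T C n) := by
  refine Ideal.ext fun z => ?_
  rw [torsionIdeal_baseChange, RingHom.mem_ker]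
  exact (ker_bc_quot (A := R) T (SGA3b.torsionIdeal R C n) z).symm

/-- The torsion quotient of a base change. -/
def torsionQuotBC (n : ℕ) :
    ((T ⊗[R] C) ⧸ SGA3b.torsionIdeal T (T ⊗[R] C) n) ≃ₐ[T] T ⊗[R] (C ⧸ SGA3b.torsionIdeal R C n) :=
  (Ideal.quotientEquivAlgOfEq T (ker_torProj (R := R) T C n)).trans
    (Ideal.quotientKerAlgEquivOfSurjective (f := torProj (R := R) T C n) (torProj_surjective (R := R) T C n))

end BaseChange

section Diag

variable (K : Type u) [CommRing K] (M : Type u) [CommGroup M]

/-- The torsion ideals of a group algebra. -/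
theorem torsionIdeal_diag (n : ℕ) (x : MonoidAlgebra K M) :
    x ∈ SGA3b.torsionIdeal K (MonoidAlgebra K M) n ↔ MonoidAlgebra.mapDomainBialgHom K (prn n) x = 0 := by
  let J := SGA3b.torsionIdeal K (MonoidAlgebra K M) n
  let q : MonoidAlgebra K M →ₐ[K] MonoidAlgebra K (M ⧸ (powMonoidHom n : M →* M).range) :=
    (MonoidAlgebra.mapDomainBialgHom K (prn n) :
      MonoidAlgebra K M →ₐc[K] MonoidAlgebra K (M ⧸ (powMonoidHom n : M →* M).range))
  have hpow : ∀ m : M, SGA3b.powConv K (MonoidAlgebra K M) n (MonoidAlgebra.single m 1) =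
      MonoidAlgebra.single (m ^ n) 1 := fun m => by
    rw [powConv_isGroupLike (isGroupLike_single m), MonoidAlgebra.single_pow, one_pow]
  constructor
  · intro hx
    suffices hle : J ≤ RingHom.ker q from hle hx
    refine Ideal.map_le_iff_le_comap.mpr fun a ha => ?_
    have key : ∀ y, q (SGA3b.powConv K (MonoidAlgebra K M) n y) = algebraMap K _ (counit (R := K) y) := by
      intro y
      induction y using MonoidAlgebra.induction_linear with
      | zero => simp
      | add b c hb hc => simp only [map_add, hb, hc]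
      | single m r =>
        rw [show MonoidAlgebra.single m r = r • MonoidAlgebra.single m (1 : K) by simp, map_smul, map_smul, hpow,
          map_smul, (isGroupLike_single m).counit_eq_one, smul_eq_mul, mul_one, Algebra.algebraMap_eq_smul_one]
        congr 1
        show MonoidAlgebra.mapDomainBialgHom K (prn n) (MonoidAlgebra.single (m ^ n) 1) = 1
        rw [MonoidAlgebra.mapDomainBialgHom_single, show prn n (m ^ n) = 1 from
          (QuotientGroup.eq_one_iff _).mpr ⟨m, rfl⟩]
        rfl
    show q (SGA3b.powConv K (MonoidAlgebra K M) n a) = 0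
    rw [key, show counit (R := K) a = 0 from ha, map_zero]
  · intro hx
    let ρ0 : M →* MonoidAlgebra K M ⧸ J :=
      (Ideal.Quotient.mk J).toMonoidHom.comp (MonoidAlgebra.of K M)
    have hN : (powMonoidHom n : M →* M).range ≤ ρ0.ker := by
      rintro _ ⟨m, rfl⟩
      show Ideal.Quotient.mk J (MonoidAlgebra.single (m ^ n) 1) = 1
      rw [← map_one (Ideal.Quotient.mk J), Ideal.Quotient.eq, ← hpow,
        ← map_one (SGA3b.powConv K (MonoidAlgebra K M) n), ← map_sub]
      refine Ideal.mem_map_of_mem _ ?_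
      rw [RingHom.mem_ker, map_sub, map_one]
      exact sub_eq_zero.mpr (isGroupLike_single m).counit_eq_one
    let ρ := MonoidAlgebra.lift K (MonoidAlgebra K M ⧸ J) _ (QuotientGroup.lift _ ρ0 hN)
    have hρ : ρ.comp q = Ideal.Quotient.mkₐ K J := MonoidAlgebra.algHom_ext (fun m => by
      show ρ (MonoidAlgebra.mapDomainBialgHom K (prn n) (MonoidAlgebra.single m 1)) = _
      rw [MonoidAlgebra.mapDomainBialgHom_single, MonoidAlgebra.lift_single, one_smul]
      rfl) (by ext)
    refine Ideal.Quotient.eq_zero_iff_mem.mp ?_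
    show Ideal.Quotient.mkₐ K J x = 0
    rw [← hρ, AlgHom.comp_apply, show q x = 0 from hx, map_zero]

/-- The torsion quotient of a group algebra. -/
def torsionQuotDiag (n : ℕ) : (MonoidAlgebra K M ⧸ SGA3b.torsionIdeal K (MonoidAlgebra K M) n) ≃ₐ[K]
    MonoidAlgebra K (M ⧸ (powMonoidHom n : M →* M).range) :=
  (Ideal.quotientEquivAlgOfEq K (Ideal.ext fun x => by rw [RingHom.mem_ker, torsionIdeal_diag]; rfl)).trans
    (Ideal.quotientKerAlgEquivOfSurjective
      (f := ((MonoidAlgebra.mapDomainBialgHom K (prn n) :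
        MonoidAlgebra K M →ₐc[K] MonoidAlgebra K (M ⧸ (powMonoidHom n : M →* M).range)) :
          MonoidAlgebra K M →ₐ[K] _))
      (fun y => by
        induction y using MonoidAlgebra.induction_linear with
        | zero => exact ⟨0, map_zero _⟩
        | add a b ha hb =>
          obtain ⟨a', rfl⟩ := ha
          obtain ⟨b', rfl⟩ := hb
          exact ⟨a' + b', map_add _ _ _⟩
        | single m r =>
          obtain ⟨m', rfl⟩ := QuotientGroup.mk'_surjective _ m
          exact ⟨MonoidAlgebra.single m' r, MonoidAlgebra.mapDomainBialgHom_single ..⟩))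

theorem finite_quot_pow [Group.FG M] {n : ℕ} (hn : 0 < n) : Finite (M ⧸ (powMonoidHom n : M →* M).range) := by
  refine CommGroup.finite_of_fg_isMulTorsion _ fun x => ?_
  obtain ⟨m, rfl⟩ := QuotientGroup.mk'_surjective _ x
  refine isOfFinOrder_iff_pow_eq_one.mpr ⟨n, hn, ?_⟩
  rw [← map_pow]
  exact (QuotientGroup.eq_one_iff _).mpr ⟨m, rfl⟩

end Diag

section Field

variable {K : Type u} [Field K] {A : Type u} [CommRing A] [HopfAlgebra K A] {M : Type u} [CommGroup M]

theorem finrank_of_diag [Group.FG M] (e : A ≃ₐc[K] MonoidAlgebra K M) {n : ℕ} (hn : 0 < n) :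
    Module.Finite K (A ⧸ SGA3b.torsionIdeal K A n) ∧ 0 < Module.finrank K (A ⧸ SGA3b.torsionIdeal K A n) ∧
    Module.finrank K (A ⧸ SGA3b.torsionIdeal K A n) = Nat.card (M ⧸ (powMonoidHom n : M →* M).range) := by
  have := finite_quot_pow M hn
  let _ := Fintype.ofFinite (M ⧸ (powMonoidHom n : M →* M).range)
  let ε := ((torsionQuotCongr e n).trans (torsionQuotDiag K M n)).toLinearEquiv.trans
    (MonoidAlgebra.coeffLinearEquiv K)
  have h1 : Module.finrank K (A ⧸ SGA3b.torsionIdeal K A n) = Nat.card (M ⧸ (powMonoidHom n : M →* M).range) := by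
    rw [ε.finrank_eq, Module.finrank_finsupp_self, Nat.card_eq_fintype_card]
  exact ⟨Module.Finite.equiv ε.symm, h1 ▸ Nat.card_pos, h1⟩

/-- A closed subgroup with the same torsion orders is the whole diagonalisable group. -/
theorem injective_of_torsion [Group.FG M] (e : A ≃ₐc[K] MonoidAlgebra K M) {B : Type u} [CommRing B]
    [HopfAlgebra K B] (π : A →ₐc[K] B) (hπ : Function.Surjective π)
    (h : ∀ n : ℕ, 0 < n →
      Module.finrank K (B ⧸ SGA3b.torsionIdeal K B n) = Module.finrank K (A ⧸ SGA3b.torsionIdeal K A n)) :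
    Function.Injective π := by
  classical
  rw [injective_iff_map_eq_zero]
  intro x hx
  obtain ⟨n, hn, hsep⟩ := exists_separating (e x).coeff.support
  obtain ⟨hA, -, -⟩ := finrank_of_diag e hn
  let π' : (A ⧸ SGA3b.torsionIdeal K A n) →ₐ[K] B ⧸ SGA3b.torsionIdeal K B n :=
    Ideal.quotientMapₐ _ (π : A →ₐ[K] B) (Ideal.map_le_iff_le_comap.mp (torsionIdeal_map π hπ n).le)
  have hs : Function.Surjective π' := fun y => by
    obtain ⟨b, rfl⟩ := Ideal.Quotient.mk_surjective y
    obtain ⟨a, rfl⟩ := hπ b
    exact ⟨Ideal.Quotient.mk _ a, rfl⟩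
  have : Module.Finite K (B ⧸ SGA3b.torsionIdeal K B n) := Module.Finite.of_surjective π'.toLinearMap hs
  have hi : Function.Injective π'.toLinearMap :=
    (LinearMap.injective_iff_surjective_of_finrank_eq_finrank (h n hn).symm).mpr hs
  have hxJ : x ∈ SGA3b.torsionIdeal K A n := by
    refine Ideal.Quotient.eq_zero_iff_mem.mp (hi ?_)
    show Ideal.Quotient.mk _ (π x) = π' 0
    rw [hx, map_zero, map_zero]
  have hex : e x ∈ SGA3b.torsionIdeal K (MonoidAlgebra K M) n := by
    rw [← torsionIdeal_map (e : A →ₐc[K] MonoidAlgebra K M) (EquivLike.surjective e) n]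
    exact Ideal.mem_map_of_mem _ hxJ
  have h0 : e x = 0 := eq_of_mapDomain_eq (prn n) _ hsep le_rfl (by simp)
    (((torsionIdeal_diag K M n _).mp hex).trans (map_zero _).symm)
  exact EquivLike.injective e (h0.trans (map_zero e).symm)

end Field

section Fibres

variable {C : Type u} [CommRing C] [HopfAlgebra R C]

/-- The torsion order of a fibre does not depend on the field. -/
theorem finrank_fibre (p : Ideal R) [p.IsPrime] (K : Type u) [Field K] [Algebra R K]
    (hK : RingHom.ker (algebraMap R K) = p) (n : ℕ) :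
    Module.finrank K ((K ⊗[R] C) ⧸ SGA3b.torsionIdeal K (K ⊗[R] C) n) =
      Module.finrank p.ResidueField (p.ResidueField ⊗[R] (C ⧸ SGA3b.torsionIdeal R C n)) := by
  let ι : p.ResidueField →ₐ[R] K := Ideal.ResidueField.liftₐ p (Algebra.ofId R K) (fun x hx => by
    have : x ∈ RingHom.ker (algebraMap R K) := hK ▸ hx
    exact this) (fun x hx => by
    have : x ∉ RingHom.ker (algebraMap R K) := hK ▸ hx
    exact isUnit_iff_ne_zero.mpr this)
  let _ : Algebra p.ResidueField K := ι.toRingHom.toAlgebra
  have : IsScalarTower R p.ResidueField K := IsScalarTower.of_algebraMap_eq fun x => (ι.commutes x).symm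
  rw [(torsionQuotBC (R := R) K C n).toLinearEquiv.finrank_eq,
    ← (AlgebraTensorModule.cancelBaseChange R p.ResidueField K K (C ⧸ SGA3b.torsionIdeal R C n)).finrank_eq]
  exact Module.finrank_baseChange

theorem surjective_bc {T : Type u} [CommRing T] (K : Type u) [CommRing K] [Algebra T K] {A D : Type u} [CommRing A]
    [CommRing D] [HopfAlgebra T A] [HopfAlgebra T D] (π : A →ₐc[T] D) (hπ : Function.Surjective π) :
    Function.Surjective (Bialgebra.TensorProduct.map (BialgHom.id K K) π) :=
  LinearMap.lTensor_surjective K (g := (π : A →ₐ[T] D).toLinearMap) hπ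

set_option maxHeartbeats 1000000 in
/-- A quotient by an element of the fibre ideal is an isomorphism on the fibre. -/
theorem injective_bc {T : Type u} [CommRing T] [IsLocalRing T] (K : Type u) [Field K] [Algebra T K]
    (hK : RingHom.ker (algebraMap T K) = maximalIdeal T) {A D : Type u} [CommRing A] [CommRing D] [HopfAlgebra T A]
    [HopfAlgebra T D] (π : A →ₐc[T] D) (hπ : Function.Surjective π) {e : A}
    (hker : ∀ x, π x = 0 ↔ x ∈ Ideal.span {e}) (hem : e ∈ (maximalIdeal T).map (algebraMap T A)) :
    Function.Injective (Bialgebra.TensorProduct.map (BialgHom.id K K) π) := by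
  rw [injective_iff_map_eq_zero]
  intro x hx
  have hx' : x ∈ RingHom.ker (Algebra.TensorProduct.map (AlgHom.id T K) (π : A →ₐ[T] D)) := hx
  rw [Algebra.TensorProduct.lTensor_ker _ hπ] at hx'
  have h0 : RingHom.ker (π : A →ₐ[T] D) = Ideal.span {e} := Ideal.ext fun y => hker y
  rw [h0, Ideal.map_span, Set.image_singleton, Ideal.mem_span_singleton] at hx'
  have he0 : (Algebra.TensorProduct.includeRight : A →ₐ[T] K ⊗[T] A) e = 0 := by
    refine (Ideal.map_le_iff_le_comap (K := RingHom.ker (Algebra.TensorProduct.includeRight : A →ₐ[T] K ⊗[T] A))).mpr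
      (fun t ht => ?_) hem
    show (Algebra.TensorProduct.includeRight : A →ₐ[T] K ⊗[T] A) (algebraMap T A t) = 0
    rw [AlgHom.commutes, IsScalarTower.algebraMap_apply T K,
      show algebraMap T K t = 0 by rw [← RingHom.mem_ker, hK]; exact ht, map_zero]
  rw [he0] at hx'
  exact zero_dvd_iff.mp hx'

set_option maxHeartbeats 2000000 in
/-- The local criterion. -/
theorem isMultType_local_of_order [IsLocalRing R] [Module.Flat R C] [Algebra.FinitePresentation R C]
    (hfib : ∀ (p : Ideal R) [p.IsPrime], ∃ (K : Type u) (_ : Field K) (_ : Algebra R K),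
      RingHom.ker (algebraMap R K) = p ∧ SGA3b.IsDiag K (K ⊗[R] C))
    (c : ℕ → ℕ) (hord : ∀ (K : Type u) [Field K] [Algebra R K] (n : ℕ), 0 < n →
      Module.finrank K ((K ⊗[R] C) ⧸ SGA3b.torsionIdeal K (K ⊗[R] C) n) = c n) :
    SGA3b.IsMultType R C := by
  classical
  have hs : SGA3b.IsMultType (ResidueField R) (ResidueField R ⊗[R] C) := by
    obtain ⟨K, iK, iA, hK, hd⟩ := hfib (maximalIdeal R)
    let ι : ResidueField R →+* K := Ideal.Quotient.lift (maximalIdeal R) (algebraMap R K) fun x hx => by
      have : x ∈ RingHom.ker (algebraMap R K) := hK ▸ hx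
      exact this
    let _ : Algebra (ResidueField R) K := ι.toAlgebra
    have : IsScalarTower R (ResidueField R) K := IsScalarTower.of_algebraMap_eq fun x => rfl
    exact isMultType_of_ff K (isDiag_congr (baseChangeTrans (R := R) (ResidueField R) K C) hd)
  obtain ⟨T, _, _, _, hff, e, he, hem, -, D, _, _, π, hπ, hker, hiso⟩ :=
    exists_local_idem (fun q _ _ => inferInstance) hs
  obtain ⟨E, _, _, -, -, hEff, M, _, ⟨qE⟩⟩ := id hiso
  -- the subgroup over a field receiving the splitting ring
  have hDbase : ∀ (K : Type u) [Field K] [Algebra R K] [Algebra T K] [IsScalarTower R T K] [Algebra E K]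
      [IsScalarTower T E K], Nonempty ((K ⊗[T] D) ≃ₐc[K] MonoidAlgebra K M) := by
    intro K _ _ _ _ _ _
    exact ⟨(baseChangeTrans (R := T) E K D).trans ((congrBase K qE).trans (scalarBialgEquiv E K M).symm)⟩
  have hfield : ∀ (r : Ideal T) [r.IsPrime], ∃ (K : Type u) (_ : Field K) (_ : Algebra R K) (_ : Algebra T K)
      (_ : IsScalarTower R T K) (_ : Algebra E K) (_ : IsScalarTower T E K) (N : Type u) (_ : CommGroup N),
      RingHom.ker (algebraMap T K) = r ∧ Nonempty (K ⊗[R] C ≃ₐc[K] MonoidAlgebra K N) := by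
    intro r _
    obtain ⟨⟨r', hr'⟩, hr'r⟩ := PrimeSpectrum.comap_surjective_of_faithfullyFlat (A := T) (B := E) ⟨r, inferInstance⟩
    have hr'r' : r'.comap (algebraMap T E) = r := congrArg PrimeSpectrum.asIdeal hr'r
    let p := r.comap (algebraMap R T)
    obtain ⟨K₁, iK₁, iA₁, hK₁, N, iN, ⟨qN⟩⟩ := hfib p
    let F := p.ResidueField
    let ι₁ : F →ₐ[R] K₁ := Ideal.ResidueField.liftₐ p (Algebra.ofId R K₁) (fun x hx => by
      have : x ∈ RingHom.ker (algebraMap R K₁) := hK₁ ▸ hx
      exact this) (fun x hx => by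
      have : x ∉ RingHom.ker (algebraMap R K₁) := hK₁ ▸ hx
      exact isUnit_iff_ne_zero.mpr this)
    let _ : Algebra F K₁ := ι₁.toRingHom.toAlgebra
    have : IsScalarTower R F K₁ := IsScalarTower.of_algebraMap_eq fun x => (ι₁.commutes x).symm
    let κ := r'.ResidueField
    let ι₂ : F →+* κ := Ideal.ResidueField.map p r' ((algebraMap T E).comp (algebraMap R T)) (by
      rw [← Ideal.comap_comap, hr'r'])
    let _ : Algebra F κ := ι₂.toAlgebra
    obtain ⟨K, _, i₁, i₂, hi⟩ : ∃ (K : Type u) (_ : Field K) (i₁ : K₁ →+* K) (i₂ : κ →+* K),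
        ∀ x : F, i₁ (algebraMap F K₁ x) = i₂ (algebraMap F κ x) := by
      obtain ⟨m, hm⟩ := Ideal.exists_maximal (K₁ ⊗[F] κ)
      refine ⟨(K₁ ⊗[F] κ) ⧸ m, Ideal.Quotient.field m,
        (Ideal.Quotient.mk m).comp (Algebra.TensorProduct.includeLeft : K₁ →ₐ[F] K₁ ⊗[F] κ).toRingHom,
        (Ideal.Quotient.mk m).comp (Algebra.TensorProduct.includeRight : κ →ₐ[F] K₁ ⊗[F] κ).toRingHom, fun x => ?_⟩
      exact congrArg (Ideal.Quotient.mk m)
        (((Algebra.TensorProduct.includeLeft : K₁ →ₐ[F] K₁ ⊗[F] κ).commutes x).trans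
          ((Algebra.TensorProduct.includeRight : κ →ₐ[F] K₁ ⊗[F] κ).commutes x).symm)
    let aE : E →+* K := i₂.comp (algebraMap E κ)
    let aT : T →+* K := aE.comp (algebraMap T E)
    let _ : Algebra E K := aE.toAlgebra
    let _ : Algebra T K := aT.toAlgebra
    let _ : Algebra R K := (aT.comp (algebraMap R T)).toAlgebra
    let _ : Algebra K₁ K := i₁.toAlgebra
    have : IsScalarTower R K₁ K := IsScalarTower.of_algebraMap_eq fun x => by
      show aT (algebraMap R T x) = i₁ (algebraMap R K₁ x)
      rw [← ι₁.commutes x]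
      show i₂ (algebraMap E κ (algebraMap T E (algebraMap R T x))) = i₁ (algebraMap F K₁ (algebraMap R F x))
      rw [hi]
      congr 1
      show _ = ι₂ (algebraMap R F x)
      exact (Ideal.ResidueField.map_algebraMap p r' ((algebraMap T E).comp (algebraMap R T)) _ x).symm
    refine ⟨K, inferInstance, inferInstance, inferInstance, IsScalarTower.of_algebraMap_eq fun _ => rfl, inferInstance,
      IsScalarTower.of_algebraMap_eq fun _ => rfl, N, iN, ?_,
      ⟨(baseChangeTrans (R := R) K₁ K C).trans ((congrBase K qN).trans (scalarBialgEquiv K₁ K N).symm)⟩⟩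
    rw [← hr'r']
    ext x
    rw [RingHom.mem_ker, Ideal.mem_comap]
    show i₂ (algebraMap E κ (algebraMap T E x)) = 0 ↔ _
    rw [map_eq_zero, Ideal.algebraMap_residueField_eq_zero]
  -- the orders
  have hft : Group.FG M := by
    obtain ⟨K, _, _, _, _, _, _, N, _, -, -⟩ := hfield (maximalIdeal T)
    obtain ⟨qK⟩ := hDbase K
    have : Algebra.FiniteType T D := Algebra.FiniteType.of_surjective (π : T ⊗[R] C →ₐ[T] D) hπ
    have : Algebra.FiniteType K (MonoidAlgebra K M) :=
      Algebra.FiniteType.equiv (inferInstance : Algebra.FiniteType K (K ⊗[T] D)) (qK : _ ≃ₐ[K] _)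
    exact Group.fg_iff_monoid_fg.mpr ((MonoidAlgebra.finiteType_iff_fg (R := K)).mp inferInstance)
  have hcard : ∀ n : ℕ, 0 < n → Nat.card (M ⧸ (powMonoidHom n : M →* M).range) = c n := by
    intro n hn
    obtain ⟨K, _, _, _, _, _, _, N, _, hK, -⟩ := hfield (maximalIdeal T)
    obtain ⟨qK⟩ := hDbase K
    let φ : K ⊗[T] (T ⊗[R] C) ≃ₐc[K] K ⊗[T] D :=
      BialgEquiv.ofBijective (Bialgebra.TensorProduct.map (BialgHom.id K K) π)
        ⟨injective_bc K hK π hπ hker hem, surjective_bc K π hπ⟩
    rw [← (finrank_of_diag qK hn).2.2, ← hord K n hn]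
    exact (torsionQuotCongr ((baseChangeTrans (R := R) T K C).trans φ) n).toLinearEquiv.finrank_eq.symm
  -- the idempotent vanishes
  have h0 : e = 0 := by
    refine eq_of_isNilpotent_sub_of_isIdempotentElem he .zero ?_
    rw [sub_zero, nilpotent_iff_mem_prime]
    intro q hq
    let r := q.comap (algebraMap T (T ⊗[R] C))
    obtain ⟨K, _, _, _, _, _, _, N, _, hK, ⟨qN⟩⟩ := hfield r
    obtain ⟨qK⟩ := hDbase K
    have : Algebra.FiniteType K (MonoidAlgebra K N) :=
      Algebra.FiniteType.equiv (inferInstance : Algebra.FiniteType K (K ⊗[R] C)) (qN : _ ≃ₐ[K] _)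
    have : Group.FG N := Group.fg_iff_monoid_fg.mpr ((MonoidAlgebra.finiteType_iff_fg (R := K)).mp inferInstance)
    have hinj := injective_of_torsion ((baseChangeTrans (R := R) T K C).symm.trans qN)
      (Bialgebra.TensorProduct.map (BialgHom.id K K) π) (surjective_bc K π hπ) fun n hn => by
        rw [(finrank_of_diag qK hn).2.2, hcard n hn, ← hord K n hn]
        exact (torsionQuotCongr (baseChangeTrans (R := R) T K C) n).toLinearEquiv.finrank_eq
    have h1 : (1 : K) ⊗ₜ[T] e = 0 := hinj (by
      rw [map_zero]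
      show (1 : K) ⊗ₜ[T] π e = 0
      rw [(hker e).mpr (Ideal.mem_span_singleton_self e), TensorProduct.tmul_zero])
    let ι : r.ResidueField →ₐ[T] K := Ideal.ResidueField.liftₐ r (Algebra.ofId T K) (fun x hx => by
      have : x ∈ RingHom.ker (algebraMap T K) := hK.symm ▸ hx
      exact this) (fun x hx => by
      have : x ∉ RingHom.ker (algebraMap T K) := hK.symm ▸ hx
      exact isUnit_iff_ne_zero.mpr this)
    have h2 : (1 : r.ResidueField) ⊗ₜ[T] e = 0 := by
      refine Module.Flat.rTensor_preserves_injective_linearMap (M := T ⊗[R] C) ι.toLinearMap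
        ι.toRingHom.injective ?_
      rw [map_zero, LinearMap.rTensor_tmul]
      show ι 1 ⊗ₜ[T] e = 0
      rw [map_one, h1]
    have h3 := congrArg (Algebra.TensorProduct.lift (Ideal.ResidueField.mapₐ r q (Algebra.ofId T _) rfl)
      (IsScalarTower.toAlgHom T (T ⊗[R] C) q.ResidueField) fun _ _ => .all _ _) h2
    rw [Algebra.TensorProduct.lift_tmul, map_one, one_mul, map_zero] at h3
    exact Ideal.algebraMap_residueField_eq_zero.mp h3
  refine isMultType_of_idem_zero T π hπ (fun x hx => ?_) hiso
  have h := (hker x).mp hx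
  rw [h0, Ideal.span_singleton_eq_bot.mpr rfl] at h
  exact h

end Fibres

end Groth.Agent.Deform.TorsionOrder
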