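import Groth.Agent.S5433
import Groth.Agent.Deform.TorsionOrder
import Groth.Agent.UnipComp.Powers
import Groth.Agent.MultTypeLib.HopfKer
import Mathlib.FieldTheory.Perfect
import Mathlib.FieldTheory.IsAlgClosed.Basic

/-!
# A commutative affine group is generated by its multiplicative part and a subgroup meeting it finitely

In characteristic `p` the second subgroup is the kernel of a power `p ^ n`; in characteristic zero it is
the unipotent complement.
-/

universe u

open TensorProduct WithConv

namespace Groth.Agent.Deform.MultUnip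

set_option linter.style.haveILetI false

attribute [local instance] Groth.Agent.UnipComp.regComod

variable {k : Type u} [Field k]

theorem powConv_succ {A : Type u} [CommRing A] [HopfAlgebra k A] (n : ℕ) :
    toConv (SGA3b.powConv k A (n + 1)) = toConv (SGA3b.powConv k A n) * toConv (AlgHom.id k A) :=
  pow_succ _ n

/-- Powers of points are computed by the power maps. -/
theorem pow_eq_powConv {A L : Type u} [CommRing A] [HopfAlgebra k A] [CommRing L] [Algebra k L]
    (x : WithConv (A →ₐ[k] L)) (n : ℕ) : x ^ n = toConv (x.ofConv.comp (SGA3b.powConv k A n)) := by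
  induction n with
  | zero =>
    refine WithConv.ext (AlgHom.ext fun a => ?_)
    show _ = x.ofConv ((toConv (AlgHom.id k A) ^ 0).ofConv a)
    rw [pow_zero, pow_zero, AlgHom.convOne_apply, AlgHom.convOne_apply, AlgHom.commutes]
  | succ n ih =>
    rw [pow_succ, ih, show SGA3b.powConv k A (n + 1) =
      (toConv (SGA3b.powConv k A n) * toConv (AlgHom.id k A)).ofConv from congrArg ofConv (powConv_succ n),
      AlgHom.comp_convMul_distrib]
    simp only [WithConv.ofConv_toConv, AlgHom.comp_id]

set_option maxHeartbeats 1000000 in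
/-- Points of a group of multiplicative type with values in an algebraically closed field of characteristic `p` have
`p`-th roots. -/
theorem exists_root {C : Type u} [CommRing C] [HopfAlgebra k C] (hC : SGA3b.IsMultTypeConst k C)
    {L : Type u} [Field L] [IsAlgClosed L] [Algebra k L] (p : ℕ) [Fact p.Prime] [CharP L p] (n : ℕ)
    (y : C →ₐ[k] L) : ∃ x : C →ₐ[k] L, toConv x ^ p ^ n = toConv y := by
  classical
  let K := AlgebraicClosure k
  letI : Algebra K L := (IsAlgClosed.lift (R := k) (S := K) (M := L)).toRingHom.toAlgebra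
  haveI : IsScalarTower k K L := IsScalarTower.of_algebraMap_eq fun c =>
    ((IsAlgClosed.lift (R := k) (S := K) (M := L)).commutes c).symm
  obtain ⟨M, _, ⟨e⟩⟩ := UnipComp.isDiag_of_span (K := K) (Q := K ⊗[k] C) fun x =>
    (UnipExt.span_groupLike_algClosure hC) ▸ Submodule.mem_top
  let Y : K ⊗[k] C →ₐ[K] L := Algebra.TensorProduct.lift (Algebra.ofId K L) y fun _ _ => Commute.all _ _
  let χ : M →* L :=
    ((Y.comp e.symm.toAlgEquiv.toAlgHom).toRingHom.toMonoidHom).comp (MonoidAlgebra.of K M)
  haveI : PerfectRing L p := PerfectField.toPerfectRing p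
  let root : M →* L := ((iterateFrobeniusEquiv L p n).symm : L ≃+* L).toMonoidHom.comp χ
  have hroot : ∀ m, root m ^ p ^ n = χ m := fun m => by
    rw [← iterateFrobenius_def]
    exact (iterateFrobeniusEquiv L p n).apply_symm_apply _
  let X : K ⊗[k] C →ₐ[K] L := (MonoidAlgebra.lift K L M root).comp e.toAlgEquiv.toAlgHom
  let x : C →ₐ[k] L := (X.restrictScalars k).comp Algebra.TensorProduct.includeRight
  have hX : ∀ z, X (SGA3b.powConv K (K ⊗[k] C) (p ^ n) z) = Y z := by
    intro z
    obtain ⟨w, rfl⟩ : ∃ w, e.symm w = z := ⟨e z, e.symm_apply_apply z⟩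
    induction w using MonoidAlgebra.induction_linear with
    | zero => simp
    | add a b ha hb => simp only [map_add, ha, hb]
    | single m c =>
      rw [show MonoidAlgebra.single m c = c • MonoidAlgebra.single m (1 : K) by simp, map_smul, map_smul, map_smul,
        map_smul]
      congr 1
      rw [GrpSchLib.powConv_isGroupLike ((MonoidAlgebra.isGroupLikeElem_single_one m).map e.symm), map_pow]
      change (MonoidAlgebra.lift K L M root (e.toAlgEquiv (e.symm (MonoidAlgebra.single m 1)))) ^ p ^ n = χ m
      rw [show e.toAlgEquiv (e.symm (MonoidAlgebra.single m (1 : K))) = MonoidAlgebra.single m 1 from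
        e.apply_symm_apply _, MonoidAlgebra.lift_single, one_smul, hroot]
  refine ⟨x, ?_⟩
  rw [pow_eq_powConv]
  refine congrArg toConv (AlgHom.ext fun c => ?_)
  show X ((1 : K) ⊗ₜ[k] SGA3b.powConv k C (p ^ n) c) = y c
  rw [← GrpSchLib.powConv_baseChange, hX]
  exact (Algebra.TensorProduct.lift_tmul _ _ _ _ _).trans (by simp)

set_option maxHeartbeats 1000000 in
/-- `G = M · H` with `M ∩ H` finite. -/
theorem exists_almost_complement (A : Type u) [CommRing A] [HopfAlgebra k A] [Algebra.FiniteType k A]
    [Coalgebra.IsCocomm k A] (J : Ideal A) [J.IsHopfIdeal k] (hJ : SGA3b.IsMultTypeConst k (A ⧸ J))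
    (hJmax : ∀ (I : Ideal A) [I.IsHopfIdeal k], SGA3b.IsMultTypeConst k (A ⧸ I) → J ≤ I) :
    ∃ (I : Ideal A) (_ : I.IsHopfIdeal k), Module.Finite k (A ⧸ (J ⊔ I)) ∧
      ∀ (L : Type u) [Field L] [IsAlgClosed L] [Algebra k L] (g : A →ₐ[k] L),
        ∃ (x : (A ⧸ J) →ₐ[k] L) (y : (A ⧸ I) →ₐ[k] L),
          toConv (x.comp (Ideal.Quotient.mkₐ k J)) * toConv (y.comp (Ideal.Quotient.mkₐ k I)) = toConv g := by
  classical
  rcases CharP.char_is_prime_or_zero k (ringChar k) with hp | h0
  · haveI := Fact.mk hp
    obtain ⟨J', hJ'i, hJ'm, hJ'max, B, _, _, φ, hφ, hJ'eq, hB⟩ := UnipComp.exists_max_multType k A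
    haveI := hJ'i
    have hJJ' : J = J' := le_antisymm (hJmax J' hJ'm) (hJ'max J hJ)
    subst hJJ'
    let p := ringChar k
    let T := fun n => SGA3b.torsionIdeal k A (p ^ n)
    have hT : ∀ n, (T n).IsHopfIdeal k := fun n => by
      have e : T n = Ideal.map (MultTypeLib.powBialg (R := k) (A := A) (p ^ n))
          (RingHom.ker (Bialgebra.counitAlgHom k A)) := by
        simp only [T, SGA3b.torsionIdeal, Ideal.map]
        congr 2
        funext a
        exact (MultTypeLib.powBialg_apply (p ^ n) a).symm
      rw [e]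
      exact MultTypeLib.isHopfIdeal_map_ker _
    -- the exponent of the unipotent quotient
    obtain ⟨s, hs⟩ : ∃ n, ∀ a : A, (∀ (L : Type u) [Field L] [IsAlgClosed L] [Algebra k L] (g : A →ₐ[k] L)
        (_ : a ∈ J), g (SGA3b.powConv k A (p ^ n) a) = 0) := by
      obtain ⟨w, hw⟩ : ∃ w : Finset B, J = Ideal.span ((fun b => φ b) '' (w : Set B)) ∧
          ∀ b ∈ w, Coalgebra.counit (R := k) b = 0 := by
        haveI : IsNoetherianRing A := Algebra.FiniteType.isNoetherianRing k A
        obtain ⟨t, ht, hspan⟩ := (Submodule.fg_span_iff_fg_span_finset_subset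
          ((fun b => φ b) '' {b : B | Coalgebra.counit (R := k) b = 0})).mp (IsNoetherian.noetherian
            (Ideal.span ((fun b => φ b) '' {b : B | Coalgebra.counit (R := k) b = 0})))
        obtain ⟨w, hw, rfl⟩ := Finset.subset_set_image_iff.mp ht
        refine ⟨w, ?_, fun b hb => hw hb⟩
        rw [hJ'eq, Ideal.map]
        refine (Eq.trans ?_ hspan).trans ?_
        · rfl
        · rw [Finset.coe_image]
      have hlev : ∀ b : B, ∃ r, b ∈ ComodLib.uniLevel k B r := fun b =>
        (Submodule.mem_iSup_of_directed _ (ComodLib.uniLevel_mono (k := k) (A := B)).directed_le).mp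
          (ComodLib.iSup_uniLevel_eq_top hB ▸ Submodule.mem_top : b ∈ ⨆ r, ComodLib.uniLevel k B r)
      choose r hr using hlev
      refine ⟨w.sup r, fun a L _ _ _ g ha => ?_⟩
      haveI : CharP L p := charP_of_injective_algebraMap (algebraMap k L).injective p
      let f : WithConv (B →ₐ[k] L) := toConv (g.comp (φ : B →ₐ[k] A))
      have h : ∀ m, UnipComp.Points.AgreeOn m (f ^ p ^ m) 1 := fun m => by
        induction m with
        | zero =>
          intro b hb
          rw [ComodLib.uniLevel_zero, Submodule.mem_span_singleton] at hb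
          obtain ⟨c, rfl⟩ := hb
          simp
        | succ m ih => rw [pow_succ, pow_mul]; exact UnipComp.Powers.pow_mem_level p ih
      rw [hw.1] at ha
      refine (Ideal.span_le.mpr ?_ : _ ≤ RingHom.ker
        (g.comp (SGA3b.powConv k A (p ^ w.sup r))).toRingHom) ha
      rintro _ ⟨b, hb, rfl⟩
      show g (SGA3b.powConv k A (p ^ w.sup r) (φ b)) = 0
      rw [Deform.TorsionOrder.powConv_map φ]
      have h2 := h (w.sup r) b (ComodLib.uniLevel_mono (Finset.le_sup hb) (hr b))
      rw [pow_eq_powConv, AlgHom.convOne_apply, hw.2 b hb, map_zero] at h2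
      exact h2
    refine ⟨T s, hT s, ?_, fun L _ _ _ g => ?_⟩
    · let q : A →ₐc[k] A ⧸ J := Bialgebra.Quotient.mkBialgHom J
      have hq : Function.Surjective q := Ideal.Quotient.mk_surjective
      haveI : Algebra.FiniteType k (A ⧸ J) := inferInstance
      let N := p ^ s
      have hN : 0 < N := pow_pos hp.pos _
      let K := AlgebraicClosure k
      obtain ⟨M, _, ⟨e⟩⟩ := UnipComp.isDiag_of_span (K := K) (Q := K ⊗[k] (A ⧸ J)) fun x =>
        (UnipExt.span_groupLike_algClosure hJ) ▸ Submodule.mem_top
      haveI : Algebra.FiniteType K (MonoidAlgebra K M) :=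
        Algebra.FiniteType.equiv (inferInstance : Algebra.FiniteType K (K ⊗[k] (A ⧸ J))) (e : _ ≃ₐ[K] _)
      haveI : Group.FG M := Group.fg_iff_monoid_fg.mpr ((MonoidAlgebra.finiteType_iff_fg (R := K)).mp inferInstance)
      haveI := (TorsionOrder.finrank_of_diag e hN).1
      haveI : Module.Finite K (K ⊗[k] ((A ⧸ J) ⧸ SGA3b.torsionIdeal k (A ⧸ J) N)) :=
        Module.Finite.equiv (TorsionOrder.torsionQuotBC (R := k) K (A ⧸ J) N).toLinearEquiv
      haveI : Module.Finite k ((A ⧸ J) ⧸ SGA3b.torsionIdeal k (A ⧸ J) N) :=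
        Module.Finite.of_finite_tensorProduct_of_faithfullyFlat (R := k) (T := K)
      have hmap : (T s).map (Ideal.Quotient.mk J) = SGA3b.torsionIdeal k (A ⧸ J) N :=
        TorsionOrder.torsionIdeal_map q hq N
      exact Module.Finite.equiv ((Ideal.quotientEquivAlgOfEq k hmap.symm).trans
        (DoubleQuot.quotQuotEquivQuotSupₐ k J (T s))).toLinearEquiv
    · haveI : CharP L p := charP_of_injective_algebraMap (algebraMap k L).injective p
      let N := p ^ s
      let g₀ : (A ⧸ J) →ₐ[k] L := Ideal.Quotient.liftₐ J (g.comp (SGA3b.powConv k A N))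
        fun a ha => hs a L g ha
      obtain ⟨x, hx⟩ := exists_root hJ p s g₀
      let X : WithConv (A →ₐ[k] L) := toConv (x.comp (Ideal.Quotient.mkₐ k J))
      let Xi : WithConv (A →ₐ[k] L) :=
        toConv ((x.comp (Ideal.Quotient.mkₐ k J)).comp (HopfAlgebra.antipodeAlgHom k A))
      have hX : X * Xi = 1 := GrpSchLib.HopfQuot.self_convMul_inv _
      let y₀ : WithConv (A →ₐ[k] L) := Xi * toConv g
      have hXN : X ^ N = toConv g ^ N := by
        rw [pow_eq_powConv, pow_eq_powConv]
        refine congrArg toConv (AlgHom.ext fun a => ?_)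
        show x (Ideal.Quotient.mk J (SGA3b.powConv k A N a)) = g (SGA3b.powConv k A N a)
        rw [show Ideal.Quotient.mk J (SGA3b.powConv k A N a) =
            SGA3b.powConv k (A ⧸ J) N (Ideal.Quotient.mk J a) from
              (TorsionOrder.powConv_map (Bialgebra.Quotient.mkBialgHom J : A →ₐc[k] A ⧸ J) N a).symm]
        have h2 := congrArg (fun z : WithConv ((A ⧸ J) →ₐ[k] L) => z.ofConv (Ideal.Quotient.mk J a)) hx
        rw [pow_eq_powConv] at h2
        exact h2
      have hy : y₀ ^ N = 1 := by
        rw [show y₀ ^ N = Xi ^ N * toConv g ^ N from mul_pow Xi (toConv g) N, ← hXN,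
          ← mul_pow, show Xi * X = 1 from (mul_comm Xi X).trans hX, one_pow]
      have hy' : ∀ a ∈ T s, y₀.ofConv a = 0 := fun a ha => by
        refine (Ideal.map_le_iff_le_comap.mpr fun b hb => ?_ : T s ≤ RingHom.ker y₀.ofConv.toRingHom) ha
        show y₀.ofConv (SGA3b.powConv k A N b) = 0
        have h2 := congrArg (fun z : WithConv (A →ₐ[k] L) => z.ofConv b) hy
        rw [pow_eq_powConv] at h2
        refine h2.trans ?_
        rw [AlgHom.convOne_apply, show Coalgebra.counit (R := k) b = 0 from hb, map_zero]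
      refine ⟨x, Ideal.Quotient.liftₐ (T s) y₀.ofConv hy', ?_⟩
      show X * y₀ = toConv g
      rw [show X * y₀ = X * Xi * toConv g from (mul_assoc X Xi (toConv g)).symm, hX, one_mul]
  · haveI : CharP k 0 := h0 ▸ ringChar.charP k
    haveI : CharZero k := CharP.charP_to_charZero k
    obtain ⟨I, ⟨hI, -, hb⟩, -⟩ := Groth.Agent.S5433.result k A J hJ hJmax
    haveI := hI
    refine ⟨I, hI, ?_, fun L _ _ _ g => ?_⟩
    · refine Module.Finite.of_surjective (Algebra.linearMap k (A ⧸ (J ⊔ I))) fun d => ?_
      obtain ⟨a, rfl⟩ := Ideal.Quotient.mk_surjective d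
      refine ⟨Coalgebra.counit (R := k) a, ?_⟩
      let D := A ⧸ (J ⊔ I)
      let π : A →ₐ[k] D := Ideal.Quotient.mkₐ k (J ⊔ I)
      let ε : A →ₐ[k] D := (Algebra.ofId k D).comp (Bialgebra.counitAlgHom k A)
      have hεJ : ∀ (P : Ideal A) [P.IsHopfIdeal k], ∀ a ∈ P, ε a = 0 := fun P _ a ha => by
        show algebraMap k D (Coalgebra.counit (R := k) a) = 0
        rw [show Coalgebra.counit (R := k) a = 0 from
          (CoalgHomClass.counit_comp_apply (Bialgebra.Quotient.mkBialgHom P : A →ₐc[k] A ⧸ P) a).symm.trans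
            (by rw [show (Bialgebra.Quotient.mkBialgHom P : A →ₐc[k] A ⧸ P) a = 0 from
              Ideal.Quotient.eq_zero_iff_mem.mpr ha, map_zero]), map_zero]
      let u := Algebra.TensorProduct.productMap (Ideal.Quotient.factorₐ k (le_sup_left : J ≤ J ⊔ I))
        (Ideal.Quotient.liftₐ I ε (hεJ I))
      let v := Algebra.TensorProduct.productMap (Ideal.Quotient.liftₐ J ε (hεJ J))
        (Ideal.Quotient.factorₐ k (le_sup_right : I ≤ J ⊔ I))
      have hu : ∀ (f : A ⧸ J →ₐ[k] D) (h : A ⧸ I →ₐ[k] D) a,
          Algebra.TensorProduct.productMap f h ((Algebra.TensorProduct.map (Ideal.Quotient.mkₐ k J)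
            (Ideal.Quotient.mkₐ k I)).comp (Bialgebra.comulAlgHom k A) a) =
          (toConv (f.comp (Ideal.Quotient.mkₐ k J)) * toConv (h.comp (Ideal.Quotient.mkₐ k I))).ofConv a := by
        intro f h a
        rw [AlgHom.convMul_apply]
        show Algebra.TensorProduct.productMap f h (Algebra.TensorProduct.map _ _ (Coalgebra.comul (R := k) a)) = _
        induction Coalgebra.comul (R := k) a using TensorProduct.induction_on with
        | zero => simp
        | add p q hp hq => simp only [map_add, hp, hq]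
        | tmul p q => simp
      have he : ε = (1 : WithConv (A →ₐ[k] D)).ofConv := rfl
      have huv : u = v := AlgHom.ext fun z => by
        obtain ⟨a, rfl⟩ := hb.2 z
        rw [hu, hu]
        have hp1 : (Ideal.Quotient.factorₐ k (le_sup_left : J ≤ J ⊔ I)).comp (Ideal.Quotient.mkₐ k J) = π :=
          AlgHom.ext fun _ => rfl
        have hp2 : (Ideal.Quotient.factorₐ k (le_sup_right : I ≤ J ⊔ I)).comp (Ideal.Quotient.mkₐ k I) = π :=
          AlgHom.ext fun _ => rfl
        have he1 : (Ideal.Quotient.liftₐ I ε (hεJ I)).comp (Ideal.Quotient.mkₐ k I) = ε := AlgHom.ext fun _ => rfl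
        have he2 : (Ideal.Quotient.liftₐ J ε (hεJ J)).comp (Ideal.Quotient.mkₐ k J) = ε := AlgHom.ext fun _ => rfl
        rw [hp1, hp2, he1, he2, he, WithConv.toConv_ofConv, mul_one, one_mul]
      have h2 := AlgHom.congr_fun huv (Ideal.Quotient.mk J a ⊗ₜ[k] (1 : A ⧸ I))
      simp only [u, v, Algebra.TensorProduct.productMap_apply_tmul, map_one, mul_one] at h2
      exact h2.symm
    · let Ψ := AlgEquiv.ofBijective _ hb
      let z : (A ⧸ J) ⊗[k] (A ⧸ I) →ₐ[k] L := g.comp Ψ.symm.toAlgHom
      refine ⟨z.comp Algebra.TensorProduct.includeLeft, z.comp Algebra.TensorProduct.includeRight,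
        WithConv.ext (AlgHom.ext fun a => ?_)⟩
      rw [AlgHom.convMul_apply]
      show _ = g a
      rw [show g a = z (Ψ a) from congrArg g (Ψ.symm_apply_apply a).symm]
      show _ = z (Algebra.TensorProduct.map (Ideal.Quotient.mkₐ k J) (Ideal.Quotient.mkₐ k I)
        (Coalgebra.comul (R := k) a))
      induction Coalgebra.comul (R := k) a using TensorProduct.induction_on with
      | zero => simp
      | add p q hp hq => simp only [map_add, hp, hq]
      | tmul p q => simp [← map_mul]

end Groth.Agent.Deform.MultUnip
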