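import Groth.Agent.Deform.TorusIsogeny
import Groth.Agent.Deform.TorsionOrderScheme
import Groth.Agent.Deform.MultUnipAlmost
import Groth.Agent.UnipComp.Powers
import Groth.Agent.S4130
import Groth.Agent.GrpSchLib.UnitsScheme

/-!
# A commutative affine group with surjective `p`-power maps is a torus
-/

set_option autoImplicit false
set_option linter.style.haveILetI false

universe u

open CategoryTheory CategoryTheory.Limits MonoidalCategory CartesianMonoidalCategory MonObj GrpObj AlgebraicGeometry
open WithConv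

attribute [local instance] CategoryTheory.Hom.monoid CategoryTheory.Hom.group

namespace Groth.Agent.Deform.SplitCrit

open GrpSchLib.AffineHopf (sp spIso spMap exists_hopf exists_bialgHom nonempty_DS_iso)
open Groth.Agent.ComodLib Groth.Agent.UnipComp.Points Groth.Agent.UnipComp.Powers

variable {k : Type u} [Field k]

/-- In characteristic `p`, on each function the `p`-power maps of a unipotent group are eventually trivial. -/
theorem exists_pow_apply {B R : Type u} [CommRing B] [HopfAlgebra k B] [CommRing R] [Algebra k R] (p : ℕ) [CharP R p]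
    (hU : HopfRep.IsUnipotent k B) (f : WithConv (B →ₐ[k] R)) (b : B) :
    ∃ m, (f ^ p ^ m) b = (1 : WithConv (B →ₐ[k] R)) b := by
  obtain ⟨r, hr⟩ := (Submodule.mem_iSup_of_directed _ (uniLevel_mono (k := k) (A := B)).directed_le).mp
      (iSup_uniLevel_eq_top hU ▸ Submodule.mem_top : b ∈ ⨆ r, uniLevel k B r)
  have h : ∀ m, AgreeOn m (f ^ p ^ m) 1 := fun m => by
    induction m with
    | zero =>
      intro a ha
      rw [uniLevel_zero, Submodule.mem_span_singleton] at ha
      obtain ⟨c, rfl⟩ := ha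
      simp
    | succ m ih => rw [pow_succ, pow_mul]; exact pow_mem_level p ih
  exact ⟨r, h r b hr⟩

theorem pow_comp_bialgHom {A B R : Type u} [CommRing A] [HopfAlgebra k A] [CommRing B] [HopfAlgebra k B] [CommRing R]
    [Algebra k R] (f : WithConv (A →ₐ[k] R)) (φ : B →ₐc[k] A) : ∀ n : ℕ,
    toConv (f.ofConv.comp (φ : B →ₐ[k] A)) ^ n = toConv ((f ^ n).ofConv.comp (φ : B →ₐ[k] A))
  | 0 => by
    refine WithConv.ext (AlgHom.ext fun b => ?_)
    rw [pow_zero, pow_zero]
    show (1 : WithConv (B →ₐ[k] R)).ofConv b = (1 : WithConv (A →ₐ[k] R)).ofConv (φ b)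
    rw [AlgHom.convOne_apply, AlgHom.convOne_apply, CoalgHomClass.counit_comp_apply]
  | n + 1 => by
    rw [pow_succ, pow_succ, pow_comp_bialgHom f φ n]
    exact WithConv.ofConv_injective (AlgHom.convMul_comp_bialgHom_distrib (f ^ n) f φ).symm

set_option maxHeartbeats 1000000 in
/-- A connected commutative affine group with surjective `p`-power maps is a split torus over an algebraically closed
field of characteristic `p`. -/
theorem split_of_pow_surjective [IsAlgClosed k] (p : ℕ) [Fact p.Prime] [CharP k p]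
    {E : Over (Spec (CommRingCat.of k))} [GrpObj E] [IsCommMonObj E] [IsAffine E.left] [Smooth E.hom]
    [ConnectedSpace E.left] (hpow : ∀ m : ℕ, Surjective (𝟙 E ^ p ^ m : E ⟶ E).left) :
    ∃ r : ℕ, Red.IsSplitTorusWith (Fin r → ℤ) E := by
  classical
  haveI : IsAffineHom E.hom := isAffineHom_of_isAffine _
  haveI : IsIntegral E.left := GrpSchLib.Kunneth.isIntegral_grp E
  obtain ⟨A, _, _, ⟨eA⟩⟩ := exists_hopf E
  haveI : IsMonHom eA.hom.hom.hom := eA.hom.hom.isMonHom_hom
  haveI : IsIso eA.hom.hom.hom := ((Grp.forget _).mapIso eA).isIso_hom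
  haveI : IsIso eA.inv.hom.hom := ((Grp.forget _).mapIso eA).isIso_inv
  haveI : IsIso eA.inv.hom.hom.left := ((Grp.forget _ ⋙ Over.forget _).mapIso eA).isIso_inv
  haveI : IsIso eA.hom.hom.hom.left := ((Grp.forget _ ⋙ Over.forget _).mapIso eA).isIso_hom
  haveI : IsMonHom eA.inv.hom.hom := eA.inv.hom.isMonHom_hom
  haveI : Coalgebra.IsCocomm k A := S14691.isCocomm_of_iso eA.hom.hom.hom
  haveI hft : Algebra.FiniteType k A := QuasiIsotrivial.finiteType_sp eA
  haveI : IsIntegral (Spec (CommRingCat.of A)) := by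
    have hoi : IsOpenImmersion eA.hom.hom.hom.left := IsOpenImmersion.of_isIso eA.hom.hom.hom.left
    have hne : Nonempty ↥(sp k A).left := ⟨eA.inv.hom.hom.left (η[E].left (IsLocalRing.closedPoint k))⟩
    exact @isIntegral_of_isOpenImmersion _ _ eA.hom.hom.hom.left hoi inferInstance hne
  haveI : IsDomain A := (affine_isIntegral_iff (CommRingCat.of A)).mp inferInstance
  haveI : CharP A p := charP_of_injective_algebraMap (algebraMap k A).injective p
  -- the power maps are injective on functions
  have hinjpow : ∀ m : ℕ, Function.Injective (SGA3b.powConv k A (p ^ m)) := fun m => by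
    have h1 : (𝟙 (sp k A) ^ p ^ m : sp k A ⟶ sp k A) =
        eA.hom.hom.hom ≫ (𝟙 E ^ p ^ m : E ⟶ E) ≫ inv eA.hom.hom.hom := by
      rw [← Category.assoc, IsIso.eq_comp_inv]
      exact TorsionOrderScheme.pow_comm eA.hom.hom.hom _
    haveI := hpow m
    have hs : Surjective (spMap (SGA3b.powConv k A (p ^ m))).left := by
      rw [← TorsionOrderScheme.spMap_powConv, h1, Over.comp_left, Over.comp_left]
      haveI : IsIso (inv eA.hom.hom.hom).left := inferInstanceAs (IsIso ((Over.forget _).map (inv eA.hom.hom.hom)))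
      infer_instance
    have hd : DenseRange (Spec.map (CommRingCat.ofHom (SGA3b.powConv k A (p ^ m)).toRingHom)) := hs.surj.denseRange
    change DenseRange (PrimeSpectrum.comap _) at hd
    rw [PrimeSpectrum.denseRange_comap_iff_ker_le_nilRadical, nilradical_eq_zero, Ideal.zero_eq_bot, le_bot_iff] at hd
    exact (RingHom.injective_iff_ker_eq_bot _).mpr hd
  obtain ⟨J, hJ, hJm, -, B, _, _, φ, hφ, hJeq, hU⟩ := S4130.result k A
  have hφ1 : ∀ b, φ b = algebraMap k A (Coalgebra.counit (R := k) b) := fun b => by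
    obtain ⟨m, hm⟩ := exists_pow_apply p hU (toConv (φ : B →ₐ[k] A)) b
    refine hinjpow m ?_
    have h := pow_comp_bialgHom (toConv (AlgHom.id k A)) φ (p ^ m)
    rw [WithConv.ofConv_toConv, AlgHom.id_comp] at h
    rw [h, AlgHom.convOne_apply] at hm
    rw [AlgHom.commutes]
    exact hm
  have hJbot : J = ⊥ := by
    rw [hJeq, eq_bot_iff, Ideal.map_le_iff_le_comap]
    intro b hb
    show φ b ∈ (⊥ : Ideal A)
    rw [hφ1, show Coalgebra.counit (R := k) b = 0 from hb, map_zero]
    exact zero_mem _
  haveI := hJ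
  let e : A ≃ₐc[k] A ⧸ J :=
    BialgEquiv.ofBijective (Bialgebra.Quotient.mkBialgHom (R := k) J)
      ⟨(injective_iff_map_eq_zero _).mpr fun a ha => by
        have : a ∈ J := Ideal.Quotient.eq_zero_iff_mem.mp ha
        rwa [hJbot, Ideal.mem_bot] at this, Ideal.Quotient.mk_surjective⟩
  obtain ⟨R', iR', iA', hff, hd⟩ := hJm
  have hmt : SGA3b.IsMultType k A := MultTypeLib.isMultType_congr e.symm (MultTypeLib.isMultType_of_ff R' hd)
  obtain ⟨K', _, _, _, _, M, _, hfg, ⟨qq⟩⟩ := MultTypeLib.isotrivial_of_field k A hft hmt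
  let σ : k ≃+* K' := RingEquiv.ofBijective (algebraMap k K') IsAlgClosed.algebraMap_bijective_of_isIntegral
  letI : Algebra K' k := σ.symm.toRingHom.toAlgebra
  haveI : IsScalarTower k K' k := IsScalarTower.of_algebraMap_eq fun x => (σ.symm_apply_apply x).symm
  have q' : A ≃ₐc[k] MonoidAlgebra k M :=
    (((Bialgebra.TensorProduct.lid k A).symm.trans
      (MultTypeLib.baseChangeTrans (R := k) K' k A)).trans
      (MultTypeLib.congrBase k qq)).trans (GrpSchLib.AffineHopf.scalarBialgEquiv K' k M).symm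
  obtain ⟨N, iN, hN, ⟨cN⟩⟩ := QuasiIsotrivial.exists_small M
  -- the character group is torsion-free
  have htf : ∀ (x : N) (n : ℕ), n ≠ 0 → n • x = 0 → x = 0 := fun x n hn hx => by
    let m₀ : M := cN (Multiplicative.ofAdd x)
    let s : A := q'.symm (MonoidAlgebra.single m₀ 1)
    have hm₀ : m₀ ^ n = 1 := by rw [← map_pow, ← ofAdd_nsmul, hx, ofAdd_zero, map_one]
    have hsn : s ^ n = 1 := by
      rw [← map_pow, MonoidAlgebra.single_pow, _root_.one_pow, hm₀, ← MonoidAlgebra.one_def, map_one]
    have hint : IsIntegral k s := IsIntegral.of_pow (Nat.pos_of_ne_zero hn) (hsn ▸ isIntegral_one)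
    obtain ⟨c, hc⟩ : s ∈ (algebraMap k A).range :=
      minpoly.mem_range_of_degree_eq_one k s
        (IsAlgClosed.degree_eq_one_of_irreducible k (minpoly.irreducible hint))
    have hs1 : Coalgebra.counit (R := k) s = 1 :=
      ((MonoidAlgebra.isGroupLikeElem_single_one m₀).map q'.symm).counit_eq_one
    have hs : s = 1 := by
      rw [← hc, Bialgebra.counit_algebraMap] at hs1
      rw [← hc, hs1, map_one]
    have h2 := congrArg q' hs
    rw [map_one] at h2
    simp only [s, BialgEquiv.apply_symm_apply, MonoidAlgebra.one_def] at h2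
    exact Multiplicative.ofAdd.injective
      (cN.injective ((MonoidAlgebra.single_left_injective (one_ne_zero (α := k)) h2).trans (map_one cN).symm))
  haveI : Module.Finite ℤ N := Module.Finite.iff_addGroup_fg.mpr hN
  haveI : IsAddTorsionFree N := ⟨fun n hn x y h => sub_eq_zero.mp (htf _ n hn (by
    rw [nsmul_sub, sub_eq_zero]; exact h))⟩
  haveI : Module.Free ℤ N := inferInstance
  let b := (Module.finBasis ℤ N).equivFun.toAddEquiv
  obtain ⟨a⟩ := nonempty_DS_iso k (Fin (Module.finrank ℤ N) → ℤ)
  exact ⟨Module.finrank ℤ N, ⟨eA.symm ≪≫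
    spIso (((QuasiIsotrivial.congrEquiv k ((b.toMultiplicative).symm.trans cN)).trans q'.symm)) ≪≫ a⟩⟩

end Groth.Agent.Deform.SplitCrit
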