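import Groth.Agent.Deform.SmoothLiftHom
import Groth.Agent.MultTypeLib.NilLift
import Groth.Agent.MultTypeLib.QuasiIso
import Groth.Agent.MultTypeLib.FiniteMult
import Groth.Agent.MultTypeLib.MultNil
import Groth.Agent.FComplLib.NilRing
import Groth.Agent.S1316
import Groth.Agent.Deform.TorsionOrderScheme

/-!
# Subgroups of multiplicative type of a smooth group lift along nilpotent thickenings
-/

set_option autoImplicit false
set_option linter.style.haveILetI false
set_option linter.unusedSectionVars false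
set_option backward.isDefEq.respectTransparency false
set_option backward.isDefEq.respectTransparency.types false

universe u

open CategoryTheory CategoryTheory.Limits MonoidalCategory CartesianMonoidalCategory AlgebraicGeometry
open TensorProduct

namespace Groth.Agent.Deform

open GrpSchLib.AffineHopf (sp spMap)

variable {R : Type u} [CommRing R] {A : Type u} [CommRing A] [HopfAlgebra R A]

/-- A Hopf algebra of multiplicative type is flat. -/
theorem flat_of_isMultType (hA : SGA3b.IsMultType R A) : Module.Flat R A := by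
  classical
  obtain ⟨c⟩ := MultTypeLib.exists_cover hA
  refine Module.Flat.iff_lTensor_preserves_injective_linearMap.mpr fun N N' _ _ _ _ g hg => ?_
  refine (injective_iff_map_eq_zero _).mpr fun x hx => c.module_ext x fun i => ?_
  let S := (c.split i).S
  have hfree : Module.Free S (S ⊗[R] A) := (c.split i).free
  have : Module.Flat R (S ⊗[R] A) := Module.Flat.trans R S (S ⊗[R] A)
  have hinj := Module.Flat.lTensor_preserves_injective_linearMap (M := S ⊗[R] A) g hg
  let e₁ := TensorProduct.assoc R S A N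
  let e₂ := TensorProduct.assoc R S A N'
  have hcomm : ∀ z, e₂ (LinearMap.lTensor (S ⊗[R] A) g z) = LinearMap.lTensor S (LinearMap.lTensor A g) (e₁ z) := by
    intro z
    induction z using TensorProduct.induction_on with
    | zero => simp
    | add a b ha hb => simp only [map_add, ha, hb]
    | tmul y m =>
      induction y using TensorProduct.induction_on with
      | zero => simp
      | add a b ha hb => simp only [TensorProduct.add_tmul, map_add, ha, hb]
      | tmul s a => simp [e₁, e₂]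
  apply e₁.symm.injective
  rw [map_zero]
  apply hinj
  rw [map_zero]
  apply e₂.injective
  rw [map_zero, hcomm, LinearEquiv.apply_symm_apply, LinearMap.lTensor_tmul, hx, TensorProduct.tmul_zero]

/-- An algebra of finite type modulo a nilpotent ideal is of finite type. -/
theorem finiteType_of_red {J : Ideal R} (hJ : IsNilpotent J) {C : Type u} [CommRing C] [Algebra R C]
    (h : Algebra.FiniteType (R ⧸ J) ((R ⧸ J) ⊗[R] C)) : Algebra.FiniteType R C := by
  haveI : Algebra.FiniteType R ((R ⧸ J) ⊗[R] C) := Algebra.FiniteType.trans (inferInstance : Algebra.FiniteType R (R ⧸ J)) h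
  haveI : Algebra.FiniteType R (C ⧸ J.map (algebraMap R C)) :=
    Algebra.FiniteType.equiv (R := R) ‹Algebra.FiniteType R ((R ⧸ J) ⊗[R] C)›
      ((Algebra.TensorProduct.comm R (R ⧸ J) C).trans
        ((Algebra.TensorProduct.quotIdealMapEquivTensorQuot C J).symm.restrictScalars R))
  obtain ⟨n, f, hf⟩ := Algebra.FiniteType.iff_quotient_mvPolynomial''.mp ‹Algebra.FiniteType R (C ⧸ J.map (algebraMap R C))›
  choose t ht using fun i => Ideal.Quotient.mk_surjective (f (MvPolynomial.X i))
  let φ : MvPolynomial (Fin n) R →ₐ[R] C := MvPolynomial.aeval t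
  have hφ : (Ideal.Quotient.mkₐ R (J.map (algebraMap R C))).comp φ = f := MvPolynomial.algHom_ext fun i => by
    simp [φ, ht]
  obtain ⟨m, hm⟩ := hJ
  refine Algebra.FiniteType.of_surjective φ (FComplLib.surjective_of_nilpotent φ.toRingHom (J.map MvPolynomial.C)
    (m := m) ?_ fun q => ?_)
  · rw [← Ideal.map_pow, hm]
    exact Ideal.map_bot
  obtain ⟨b, rfl⟩ := Ideal.Quotient.mk_surjective q
  obtain ⟨a, ha⟩ := hf (Ideal.Quotient.mk _ b)
  refine ⟨a, Ideal.Quotient.eq.mpr ?_⟩
  rw [Ideal.map_map, show φ.toRingHom.comp MvPolynomial.C = algebraMap R C from φ.comp_algebraMap]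
  exact Ideal.Quotient.eq.mp ((AlgHom.congr_fun hφ a).trans ha)

/-- The spectrum of a finitely generated Hopf algebra of multiplicative type is a group of multiplicative type and of
finite type. -/
theorem isMultTypeFT_sp [Algebra.FiniteType R A] (hA : SGA3b.IsMultType R A) : SGA3x.IsMultTypeFT (sp R A) := by
  refine TorsionOrderScheme.isMultTypeFT_of_etale_split fun P => ?_
  obtain ⟨σ, hσ, h⟩ := MultTypeLib.isQuasiIsotrivial_of_isMultType inferInstance hA
  obtain ⟨f, hfσ, hf⟩ : ∃ f ∈ σ, f ∉ P.asIdeal := by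
    by_contra hne
    push Not at hne
    exact P.isPrime.ne_top (top_le_iff.mp (hσ ▸ Ideal.span_le.mpr hne))
  let L := Localization.Away f
  obtain ⟨E', iE, iA, hEt, hff, M', iM', ⟨e⟩⟩ := h f hfσ
  letI : Algebra R E' := ((algebraMap L E').comp (algebraMap R L)).toAlgebra
  haveI : IsScalarTower R L E' := IsScalarTower.of_algebraMap_eq fun _ => rfl
  haveI := hEt
  haveI : Algebra.Etale R L := Algebra.Etale.of_isLocalizationAway f
  haveI : Algebra.Etale R E' := Algebra.Etale.comp R L E'
  obtain ⟨Q, hQ⟩ : ∃ Q : PrimeSpectrum L, PrimeSpectrum.comap (algebraMap R L) Q = P := by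
    have := PrimeSpectrum.localization_away_comap_range L f
    have hP' : P ∈ (PrimeSpectrum.basicOpen f : Set (PrimeSpectrum R)) := hf
    rwa [← this] at hP'
  obtain ⟨q, hq⟩ := PrimeSpectrum.comap_surjective_of_faithfullyFlat (A := L) (B := E') Q
  let e' := (MultTypeLib.baseChangeTrans (R := R) L E' A).trans e
  haveI : Nontrivial E' := PrimeSpectrum.nonempty_iff_nontrivial.mp ⟨q⟩
  haveI : Algebra.FiniteType E' (MonoidAlgebra E' M') :=
    Algebra.FiniteType.equiv (inferInstance : Algebra.FiniteType E' (E' ⊗[R] A)) (e' : _ ≃ₐ[E'] _)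
  haveI : Group.FG M' := Group.fg_iff_monoid_fg.mpr ((MonoidAlgebra.finiteType_iff_fg (R := E')).mp inferInstance)
  obtain ⟨N, iN, hN, ⟨cN⟩⟩ := QuasiIsotrivial.exists_small M'
  let t : Spec (CommRingCat.of E') ⟶ Spec (CommRingCat.of R) := Spec.map (CommRingCat.ofHom (algebraMap R E'))
  haveI : Etale t := (HasRingHomProperty.Spec_iff (P := @Etale)).mpr (RingHom.etale_algebraMap.mpr inferInstance)
  obtain ⟨b⟩ := GrpSchLib.AffineHopf.nonempty_bc_sp (R := R) E' A
  obtain ⟨a⟩ := GrpSchLib.AffineHopf.nonempty_DS_iso E' N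
  refine ⟨_, t, N, iN, inferInstance, ⟨q, ?_⟩, hN,
    ⟨b ≪≫ GrpSchLib.AffineHopf.spIso ((QuasiIsotrivial.congrEquiv E' cN).trans e'.symm) ≪≫ a⟩⟩
  show PrimeSpectrum.comap ((algebraMap L E').comp (algebraMap R L)) q = P
  rw [PrimeSpectrum.comap_comp_apply, hq, hQ]

variable {J : Ideal R}

set_option maxHeartbeats 1000000 in
/-- Subgroups of multiplicative type of a smooth group lift to subgroups of multiplicative type. -/
theorem exists_subgroup_lift_mult (hJ : IsNilpotent J) (G : Over (Spec (CommRingCat.of R))) [GrpObj G] [Smooth G.hom]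
    (H₀ : Over (Spec (CommRingCat.of (R ⧸ J)))) [GrpObj H₀]
    (hH₀ : TwC.Locally (Spec (CommRingCat.of (R ⧸ J))) TwC.Topology.fpqc (fun S' f => ∃ (M : Type)
      (_ : AddCommGroup M), Nonempty (Grp.mk (Red.bc f H₀) ≅ Grp.mk (Red.DS S' M))))
    (j₀ : H₀ ⟶ Red.bc (bm J) G) [IsMonHom j₀] [IsImmersion j₀.left] :
    ∃ (A : Type u) (_ : CommRing A) (_ : HopfAlgebra R A), SGA3b.IsMultType R A ∧ Algebra.FiniteType R A ∧
      ∃ j : sp R A ⟶ G, IsMonHom j ∧ IsImmersion j.left ∧
        Flat (sp R A).hom ∧ ∃ φ : Red.bc (bm J) (sp R A) ≅ H₀, φ.hom ≫ j₀ = (Over.pullback (bm J)).map j := by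
  obtain ⟨B₀, _, _, hB₀, ⟨e₀⟩⟩ := exists_hopf_multType H₀ hH₀
  haveI : LocallyOfFiniteType (Red.bc (bm J) G).hom :=
    inferInstanceAs (LocallyOfFiniteType (pullback.snd G.hom (bm J)))
  haveI : LocallyOfFiniteType H₀.hom := by rw [← Over.w j₀]; infer_instance
  have hft₀ : Algebra.FiniteType (R ⧸ J) B₀ := by
    haveI : IsIso e₀.hom.hom.hom.left :=
      ⟨e₀.inv.hom.hom.left, congrArg (fun h => h.hom.hom.left) e₀.hom_inv_id,
        congrArg (fun h => h.hom.hom.left) e₀.inv_hom_id⟩
    have : LocallyOfFiniteType (sp (R ⧸ J) B₀).hom := by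
      rw [← Over.w e₀.hom.hom.hom]
      infer_instance
    exact RingHom.finiteType_algebraMap.mp
      ((HasRingHomProperty.Spec_iff (P := @LocallyOfFiniteType)).mp this)
  have hI : ∀ x ∈ J, IsNilpotent x := fun x hx => by
    obtain ⟨n, hn⟩ := hJ
    exact ⟨n, by simpa [hn] using Ideal.pow_mem_pow hx n⟩
  obtain ⟨A, _, _, hAq, ⟨α⟩⟩ := MultTypeLib.exists_quasiIsotrivial_lift J hI B₀
    (MultTypeLib.isQuasiIsotrivial_of_isMultType hft₀ hB₀)
  have hA : SGA3b.IsMultType R A := by
    obtain ⟨s, hs, h⟩ := hAq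
    exact ⟨s, hs, fun f hf => by
      obtain ⟨R', i1, i2, -, hff, hd⟩ := h f hf
      exact ⟨R', i1, i2, hff, hd⟩⟩
  haveI : Algebra.FiniteType (R ⧸ J) ((R ⧸ J) ⊗[R] A) :=
    Algebra.FiniteType.equiv hft₀ α.toAlgEquiv.symm
  haveI : Algebra.FiniteType R A := finiteType_of_red hJ inferInstance
  let H : Over (Spec (CommRingCat.of R)) := sp R A
  haveI : IsAffine H.left := inferInstanceAs (IsAffine (Spec _))
  have hH : HopfMult H := fun K => by
    obtain ⟨a⟩ := GrpSchLib.AffineHopf.nonempty_bc_sp (R := R) (R ⧸ K) A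
    exact ⟨_, inferInstance, inferInstance, MultTypeLib.isMultType_baseChange (R ⧸ K) hA, ⟨a.symm⟩⟩
  obtain ⟨a⟩ := GrpSchLib.AffineHopf.nonempty_bc_sp (R := R) (R ⧸ J) A
  let b : Grp.mk (sp (R ⧸ J) ((R ⧸ J) ⊗[R] A)) ≅ Grp.mk (sp (R ⧸ J) B₀) :=
    GrpSchLib.AffineHopf.spIso α.symm
  let c : Grp.mk (Red.bc (bm J) H) ≅ Grp.mk H₀ := a ≪≫ b ≪≫ e₀
  haveI : IsMonHom c.hom.hom.hom := c.hom.hom.isMonHom_hom
  let φ : Red.bc (bm J) H ≅ H₀ :=
    ⟨c.hom.hom.hom, c.inv.hom.hom, congrArg (fun h => h.hom.hom) c.hom_inv_id, congrArg (fun h => h.hom.hom) c.inv_hom_id⟩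
  haveI : IsMonHom (φ.hom ≫ j₀) := inferInstanceAs (IsMonHom (c.hom.hom.hom ≫ j₀))
  obtain ⟨v, hv, hv'⟩ := exists_hom_lift_smooth' hJ hH (φ.hom ≫ j₀)
  haveI : Flat H.hom :=
    (HasRingHomProperty.Spec_iff (P := @Flat)).mpr (RingHom.flat_algebraMap_iff.mpr (flat_of_isMultType hA))
  refine ⟨A, inferInstance, inferInstance, hA, inferInstance, v, hv, ?_, ‹Flat H.hom›, φ, hv'.symm⟩
  haveI : IsIso φ.hom.left := ⟨φ.inv.left, congrArg CommaMorphism.left φ.hom_inv_id,
    congrArg CommaMorphism.left φ.inv_hom_id⟩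
  haveI : IsImmersion ((Over.pullback (bm J)).map v).left := by
    rw [hv']
    exact inferInstanceAs (IsImmersion (φ.hom.left ≫ j₀.left))
  haveI : LocallyOfFiniteType H.hom :=
    (HasRingHomProperty.Spec_iff (P := @LocallyOfFiniteType)).mpr (RingHom.finiteType_algebraMap.mpr inferInstance)
  haveI : LocallyOfFiniteType v.left := by
    haveI : LocallyOfFiniteType (v.left ≫ G.hom) := by rw [Over.w v]; infer_instance
    exact locallyOfFiniteType_of_comp v.left G.hom
  haveI : IsClosedImmersion (bm J) := IsClosedImmersion.spec_of_surjective _ Ideal.Quotient.mk_surjective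
  haveI : Surjective (bm J) := by
    refine ⟨fun p => ?_⟩
    have hle : J ≤ p.asIdeal := fun x hx => by
      obtain ⟨n, hn⟩ := hI x hx
      exact p.2.mem_of_pow_mem n (hn ▸ p.asIdeal.zero_mem)
    have : p ∈ PrimeSpectrum.zeroLocus (RingHom.ker (Ideal.Quotient.mk J) : Set R) := by
      rw [Ideal.mk_ker]; exact hle
    rw [← range_comap_of_surjective _ _ Ideal.Quotient.mk_surjective] at this
    exact this
  have hY : MoreMor.IsThickening (pullback.fst G.hom (bm J)) :=
    ⟨MorphismProperty.pullback_fst (P := @IsClosedImmersion) _ _ ‹_›,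
      MorphismProperty.pullback_fst (P := @Surjective) _ _ ‹_›⟩
  have hsq : IsPullback (pullback.fst H.hom (bm J)) ((Over.pullback (bm J)).map v).left v.left
      (pullback.fst G.hom (bm J)) := by
    refine IsPullback.of_bot ?_ (pullback.lift_fst _ _ _).symm (IsPullback.of_hasPullback G.hom (bm J))
    rw [show ((Over.pullback (bm J)).map v).left ≫ pullback.snd G.hom (bm J) = pullback.snd H.hom (bm J) from
      Over.w ((Over.pullback (bm J)).map v), Over.w v]
    exact IsPullback.of_hasPullback H.hom (bm J)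
  haveI : LocallyOfFiniteType ((Over.pullback (bm J)).map v).left := MorphismProperty.of_isPullback hsq ‹_›
  exact (S1316.result _ _ _ _ hY hsq).mp inferInstance

/-- Subgroups of multiplicative type of a smooth group lift. -/
theorem exists_subgroup_lift (hJ : IsNilpotent J) (G : Over (Spec (CommRingCat.of R))) [GrpObj G] [Smooth G.hom]
    (H₀ : Over (Spec (CommRingCat.of (R ⧸ J)))) [GrpObj H₀]
    (hH₀ : TwC.Locally (Spec (CommRingCat.of (R ⧸ J))) TwC.Topology.fpqc (fun S' f => ∃ (M : Type)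
      (_ : AddCommGroup M), Nonempty (Grp.mk (Red.bc f H₀) ≅ Grp.mk (Red.DS S' M))))
    (j₀ : H₀ ⟶ Red.bc (bm J) G) [IsMonHom j₀] [IsImmersion j₀.left] :
    ∃ (H : Over (Spec (CommRingCat.of R))) (_ : GrpObj H) (j : H ⟶ G), IsMonHom j ∧ IsImmersion j.left ∧
      Flat H.hom ∧ ∃ φ : Red.bc (bm J) H ≅ H₀, φ.hom ≫ j₀ = (Over.pullback (bm J)).map j := by
  obtain ⟨A, _, _, -, -, j, h⟩ := exists_subgroup_lift_mult hJ G H₀ hH₀ j₀
  exact ⟨_, inferInstance, j, h⟩

end Groth.Agent.Deform
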