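import Groth.Prelude.Def_GLin
import Mathlib.LinearAlgebra.Matrix.Charpoly.Coeff
import Mathlib.LinearAlgebra.Matrix.ToLinearEquiv
import Mathlib.RingTheory.HopfAlgebra.Convolution
import Mathlib.RingTheory.Artinian.Module
import Mathlib.RingTheory.Spectrum.Maximal.Basic
import Mathlib.RingTheory.Finiteness.Projective
import Mathlib.Algebra.Polynomial.Roots
import Mathlib.FieldTheory.IsAlgClosed.Basic
import Mathlib.RingTheory.TensorProduct.Finite

/-!
# Orbits of a finite locally free group scheme on an affine scheme, over an arbitrary base ring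

Two geometric points which agree on the invariants are conjugate, and the algebra is integral over the invariants.
-/

universe u

open TensorProduct Polynomial

set_option linter.style.haveILetI false
set_option linter.unusedSectionVars false

namespace Groth.Agent.Deform.CoactOrbit

variable {R A : Type u} [CommRing R] [CommRing A]

/-- A retraction of a finite free module onto `A`. -/
structure Frame (R A : Type u) [CommRing R] [CommRing A] [Algebra R A] where
  /-- the number of generators -/
  n : ℕ
  /-- the generators -/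
  vec : Fin n → A
  /-- the coordinates -/
  coord : Fin n → A →ₗ[R] R
  sum_coord : ∀ a, ∑ i, coord i a • vec i = a

theorem nonempty_frame [Algebra R A] [Module.Finite R A] [Module.Projective R A] : Nonempty (Frame R A) := by
  classical
  obtain ⟨n, f, g, -, -, hfg⟩ := Module.Finite.exists_comp_eq_id_of_projective R A
  refine ⟨⟨n, fun i => f (Pi.single i 1), fun i => LinearMap.proj i ∘ₗ g, fun a => ?_⟩⟩
  simp only [LinearMap.comp_apply, LinearMap.proj_apply, ← map_smul]
  rw [← map_sum, ← pi_eq_sum_univ' (g a)]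
  exact LinearMap.congr_fun hfg a

variable [Algebra R A] (F : Frame R A) {R' : Type u} [CommRing R'] [Algebra R R']

/-- The coordinates on a base change. -/
noncomputable def cR (i : Fin F.n) : R' ⊗[R] A →ₗ[R'] R' :=
  (TensorProduct.AlgebraTensorModule.rid R R' R').toLinearMap ∘ₗ (F.coord i).baseChange R'

theorem cR_tmul (i : Fin F.n) (r : R') (a : A) : cR F i (r ⊗ₜ[R] a) = F.coord i a • r := by simp [cR]

theorem sum_cR (w : R' ⊗[R] A) : ∑ i, cR F i w • ((1 : R') ⊗ₜ[R] F.vec i) = w := by
  induction w using TensorProduct.induction_on with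
  | zero => simp
  | add p q hp hq => simp only [map_add, add_smul, Finset.sum_add_distrib, hp, hq]
  | tmul r a =>
    conv_rhs => rw [← F.sum_coord a, TensorProduct.tmul_sum]
    refine Finset.sum_congr rfl fun i _ => ?_
    rw [cR_tmul, TensorProduct.smul_tmul', smul_eq_mul, mul_one, TensorProduct.smul_tmul]

/-- The matrix of an endomorphism. -/
noncomputable def Mt : Module.End R' (R' ⊗[R] A) →ₗ[R'] Matrix (Fin F.n) (Fin F.n) R' where
  toFun L := Matrix.of fun i j => cR F i (L ((1 : R') ⊗ₜ[R] F.vec j))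
  map_add' L L' := by ext i j; simp
  map_smul' r L := by ext i j; simp

theorem Mt_mul (L L' : Module.End R' (R' ⊗[R] A)) : Mt F (L * L') = Mt F L * Mt F L' := by
  ext i j
  show cR F i (L (L' _)) = _
  conv_lhs => rw [← sum_cR F (L' ((1 : R') ⊗ₜ[R] F.vec j))]
  simp only [map_sum, map_smul, Matrix.mul_apply]
  exact Finset.sum_congr rfl fun k _ => mul_comm _ _

theorem eq_zero_of_Mt {L : Module.End R' (R' ⊗[R] A)} (h : Mt F L = 0) : L = 0 := by
  refine LinearMap.ext fun w => ?_
  rw [← sum_cR F w, map_sum]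
  refine Finset.sum_eq_zero fun j _ => ?_
  rw [map_smul, ← sum_cR F (L ((1 : R') ⊗ₜ[R] F.vec j)), Finset.sum_eq_zero, smul_zero]
  intro i _
  rw [show cR F i (L ((1 : R') ⊗ₜ[R] F.vec j)) = 0 from congrFun (congrFun h i) j, zero_smul]

/-- The matrix of a multiplication. -/
noncomputable def M : R' ⊗[R] A →ₗ[R'] Matrix (Fin F.n) (Fin F.n) R' :=
  Mt F ∘ₗ (Algebra.lmul R' (R' ⊗[R] A)).toLinearMap

theorem M_mul (z w : R' ⊗[R] A) : M F (z * w) = M F z * M F w := by
  show Mt F (Algebra.lmul R' _ (z * w)) = Mt F (Algebra.lmul R' _ z) * Mt F (Algebra.lmul R' _ w)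
  rw [map_mul, Mt_mul]

theorem M_map {R'' : Type u} [CommRing R''] [Algebra R R''] (f : R' →ₐ[R] R'') (z : R' ⊗[R] A) :
    M F (Algebra.TensorProduct.map f (AlgHom.id R A) z) = (M F z).map f := by
  ext i j
  show cR F i (_ * (1 ⊗ₜ[R] F.vec j)) = f (cR F i (z * (1 ⊗ₜ[R] F.vec j)))
  induction z using TensorProduct.induction_on with
  | zero => simp
  | add p q hp hq => simp only [map_add, add_mul, hp, hq]
  | tmul r a => simp [cR_tmul]

/-- The characteristic polynomial of multiplication, padded by a power of the variable. -/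
noncomputable def cp (z : R' ⊗[R] A) : R'[X] := (M F z).charpoly

theorem cp_map {R'' : Type u} [CommRing R''] [Algebra R R''] (f : R' →ₐ[R] R'') (z : R' ⊗[R] A) :
    cp F (Algebra.TensorProduct.map f (AlgHom.id R A) z) = (cp F z).map f.toRingHom := by
  rw [cp, M_map, cp, ← Matrix.charpoly_map]
  rfl

theorem cp_algEquiv (e : (R' ⊗[R] A) ≃ₐ[R'] (R' ⊗[R] A)) (z : R' ⊗[R] A) : cp F (e z) = cp F z := by
  let E := Mt F e.toLinearMap
  let E' := Mt F e.symm.toLinearMap
  let P := M F (1 : R' ⊗[R] A)
  have hz : Mt F (Algebra.lmul R' _ z) = M F z := rfl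
  have h1 : Mt F (1 : Module.End R' (R' ⊗[R] A)) = P := congrArg (Mt F) (map_one (Algebra.lmul R' (R' ⊗[R] A))).symm
  have hEP : E * P = E := by rw [← h1, ← Mt_mul, mul_one]
  have hPE : P * E' = E' := by rw [← h1, ← Mt_mul, one_mul]
  have hE'P : E' * P = E' := by rw [← h1, ← Mt_mul, mul_one]
  have hPE1 : P * E = E := by rw [← h1, ← Mt_mul, one_mul]
  have hee : E * E' = P := by
    rw [← h1, ← Mt_mul]
    exact congrArg (Mt F) (LinearMap.ext e.apply_symm_apply)
  have hee' : E' * E = P := by
    rw [← h1, ← Mt_mul]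
    exact congrArg (Mt F) (LinearMap.ext e.symm_apply_apply)
  have hP : P * P = P := by rw [← M_mul, mul_one]
  have q1 : E * (1 - P) = 0 := by rw [mul_sub, mul_one, hEP, sub_self]
  have q2 : (1 - P) * E' = 0 := by rw [sub_mul, one_mul, hPE, sub_self]
  have q3 : E' * (1 - P) = 0 := by rw [mul_sub, mul_one, hE'P, sub_self]
  have q4 : (1 - P) * E = 0 := by rw [sub_mul, one_mul, hPE1, sub_self]
  have q5 : (1 - P) * (1 - P) = 1 - P := by rw [sub_mul, one_mul, mul_sub, mul_one, hP, sub_self, sub_zero]
  have hS1 : (E + (1 - P)) * (E' + (1 - P)) = 1 := by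
    rw [add_mul, mul_add, mul_add, hee, q1, q2, q5, zero_add, add_zero, add_sub_cancel]
  have hS2 : (E' + (1 - P)) * (E + (1 - P)) = 1 := by
    rw [add_mul, mul_add, mul_add, hee', q3, q4, q5, zero_add, add_zero, add_sub_cancel]
  obtain ⟨S, hS, hS'⟩ : ∃ S : (Matrix (Fin F.n) (Fin F.n) R')ˣ,
      (S : Matrix (Fin F.n) (Fin F.n) R') = E + (1 - P) ∧ ((S⁻¹ : (Matrix (Fin F.n) (Fin F.n) R')ˣ) : Matrix (Fin F.n) (Fin F.n) R') = E' + (1 - P) :=
    ⟨⟨_, _, hS1, hS2⟩, rfl, rfl⟩
  have hPz : P * M F z = M F z := by rw [← M_mul, one_mul]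
  have hzP : M F z * P = M F z := by rw [← M_mul, mul_one]
  have he : M F (e z) = E * M F z * E' := by
    rw [← hz, ← Mt_mul, ← Mt_mul]
    refine congrArg (Mt F) (LinearMap.ext fun w => ?_)
    show e z * w = e (z * e.symm w)
    rw [map_mul, e.apply_symm_apply]
  have key : M F (e z) = (S : Matrix (Fin F.n) (Fin F.n) R') * M F z * ((S⁻¹ : (Matrix (Fin F.n) (Fin F.n) R')ˣ) : Matrix (Fin F.n) (Fin F.n) R') := by
    rw [he]
    have a1 : (1 - P) * M F z = 0 := by rw [sub_mul, one_mul, hPz, sub_self]
    have a2 : M F z * (1 - P) = 0 := by rw [mul_sub, mul_one, hzP, sub_self]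
    rw [hS, hS']
    rw [add_mul E, a1, add_zero, mul_add, mul_assoc E (M F z) (1 - P), a2, mul_zero, add_zero]
  rw [cp, cp, key, Matrix.coe_units_inv, Matrix.charpoly_units_conj]

theorem M_aeval (z : R' ⊗[R] A) (q : R'[X]) : M F (aeval z q) = M F 1 * aeval (M F z) q := by
  induction q using Polynomial.induction_on with
  | C a => simp [Algebra.algebraMap_eq_smul_one]
  | add p q hp hq => simp only [map_add, mul_add, hp, hq]
  | monomial n a h =>
    rw [pow_succ, ← mul_assoc, map_mul, aeval_X, M_mul, h, map_mul (aeval (M F z)) _ X, aeval_X, mul_assoc]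

theorem aeval_cp (z : R' ⊗[R] A) : aeval z (cp F z) = 0 := by
  have h : M F (aeval z (cp F z)) = 0 := by rw [M_aeval, cp, Matrix.aeval_self_charpoly, mul_zero]
  have := LinearMap.congr_fun (eq_zero_of_Mt F (L := Algebra.lmul R' _ (aeval z (cp F z))) h) 1
  simpa using this

end Groth.Agent.Deform.CoactOrbit

namespace Groth.Agent.Deform.CoactOrbit

variable {R A : Type u} [CommRing R] [CommRing A] [HopfAlgebra R A] {R' : Type u} [CommRing R'] [Algebra R R']

/-- `r ⊗ h ↦ r v(h₁) ⊗ h₂`. -/
noncomputable def shear (v : A →ₐ[R] R') : R' ⊗[R] A →ₐ[R'] R' ⊗[R] A :=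
  Algebra.TensorProduct.lift (Algebra.ofId _ _)
    ((Algebra.TensorProduct.map v (AlgHom.id R A)).comp (Bialgebra.comulAlgHom R A)) fun _ _ => .all _ _

theorem shear_tmul (v : A →ₐ[R] R') (r : R') (h : A) :
    shear v (r ⊗ₜ[R] h) = (r ⊗ₜ[R] (1 : A)) * Algebra.TensorProduct.map v (AlgHom.id R A) (Coalgebra.comul (R := R) h) := by
  simp [shear, Algebra.ofId_apply, Algebra.TensorProduct.algebraMap_apply]

theorem shear_shear {v w : A →ₐ[R] R'}
    (hvw : ∀ p : A, LinearMap.mul' R R' (TensorProduct.map v.toLinearMap w.toLinearMap (Coalgebra.comul (R := R) p)) =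
      algebraMap R R' (Coalgebra.counit (R := R) p)) (z : R' ⊗[R] A) : shear w (shear v z) = z := by
  induction z using TensorProduct.induction_on with
  | zero => simp
  | add p q hp hq => simp only [map_add, hp, hq]
  | tmul r h =>
    let G : A ⊗[R] (A ⊗[R] A) →ₗ[R] R' ⊗[R] A :=
      TensorProduct.map (LinearMap.mul' R R' ∘ₗ TensorProduct.map v.toLinearMap w.toLinearMap) LinearMap.id ∘ₗ
        (TensorProduct.assoc R A A A).symm.toLinearMap
    have key : ∀ z : A ⊗[R] A, shear w (Algebra.TensorProduct.map v (AlgHom.id R A) z) =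
        G ((Coalgebra.comul (R := R)).lTensor A z) := by
      intro z
      induction z using TensorProduct.induction_on with
      | zero => simp
      | add p q hp hq => simp only [map_add, hp, hq]
      | tmul p q =>
        rw [LinearMap.lTensor_tmul, Algebra.TensorProduct.map_tmul, shear_tmul, AlgHom.id_apply]
        induction Coalgebra.comul (R := R) q using TensorProduct.induction_on with
        | zero => simp
        | tmul x y => simp [G]
        | add x y hx hy => simp only [map_add, TensorProduct.tmul_add, mul_add, hx, hy]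
    have key2 : ∀ z : A ⊗[R] A, G (TensorProduct.assoc R A A A ((Coalgebra.comul (R := R)).rTensor A z)) =
        (1 : R') ⊗ₜ[R] TensorProduct.lid R A ((Coalgebra.counit (R := R)).rTensor A z) := by
      intro z
      induction z using TensorProduct.induction_on with
      | zero => simp
      | add p q hp hq => simp only [map_add, TensorProduct.tmul_add, hp, hq]
      | tmul p q =>
        rw [LinearMap.rTensor_tmul, LinearMap.rTensor_tmul, TensorProduct.lid_tmul]
        simp only [G, LinearMap.comp_apply, LinearEquiv.coe_coe, LinearEquiv.symm_apply_apply,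
          TensorProduct.map_tmul, LinearMap.id_apply]
        rw [hvw, Algebra.algebraMap_eq_smul_one, TensorProduct.smul_tmul]
    have hr : ∀ x : R' ⊗[R] A, shear w ((r ⊗ₜ[R] (1 : A)) * x) = (r ⊗ₜ[R] (1 : A)) * shear w x := fun x => by
      rw [map_mul, shear_tmul, Bialgebra.comul_one, map_one, mul_one]
    rw [shear_tmul, hr, key, ← Coalgebra.coassoc_apply, key2, Coalgebra.rTensor_counit_comul, TensorProduct.lid_tmul,
      one_smul, Algebra.TensorProduct.tmul_mul_tmul, mul_one, one_mul]

/-- The shear is invertible. -/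
noncomputable def shearEquiv (v : A →ₐ[R] R') : (R' ⊗[R] A) ≃ₐ[R'] (R' ⊗[R] A) :=
  AlgEquiv.ofAlgHom (shear v) (shear (v.comp (HopfAlgebra.antipodeAlgHom R A)))
    (AlgHom.ext fun z => shear_shear (fun p => by
      rw [← AlgHom.commutes v, ← HopfAlgebra.mul_antipode_rTensor_comul_apply (R := R) p]
      induction Coalgebra.comul (R := R) p using TensorProduct.induction_on with
      | zero => simp
      | tmul x y => simp
      | add x y hx hy => simp only [map_add, hx, hy]) z)
    (AlgHom.ext fun z => shear_shear (fun p => by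
      rw [← AlgHom.commutes v, ← HopfAlgebra.mul_antipode_lTensor_comul_apply (R := R) p]
      induction Coalgebra.comul (R := R) p using TensorProduct.induction_on with
      | zero => simp
      | tmul x y => simp
      | add x y hx hy => simp only [map_add, hx, hy]) z)

theorem map_shear {R'' : Type u} [CommRing R''] [Algebra R R''] (φ : R' →ₐ[R] R'') (v : A →ₐ[R] R') (z : R' ⊗[R] A) :
    Algebra.TensorProduct.map φ (AlgHom.id R A) (shear v z) =
      shear (φ.comp v) (Algebra.TensorProduct.map φ (AlgHom.id R A) z) := by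
  induction z using TensorProduct.induction_on with
  | zero => simp
  | add p q hp hq => simp only [map_add, hp, hq]
  | tmul r h =>
    rw [Algebra.TensorProduct.map_tmul, shear_tmul, shear_tmul, map_mul, Algebra.TensorProduct.map_tmul, map_one,
      AlgHom.id_apply, ← AlgHom.comp_apply, ← Algebra.TensorProduct.map_comp, AlgHom.id_comp]

variable {B : Type u} [CommRing B] [Algebra R B] [HopfRep.Comod R A B] [GLin.IsCoactAlg R A B]

theorem coact_coact (f : B) :
    Algebra.TensorProduct.map (GLin.coactAlgHom R A B) (AlgHom.id R A) (GLin.coactAlgHom R A B f) =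
      shear (Algebra.TensorProduct.includeRight : A →ₐ[R] B ⊗[R] A)
        (Algebra.TensorProduct.map (Algebra.TensorProduct.includeLeft : B →ₐ[R] B ⊗[R] A) (AlgHom.id R A)
          (GLin.coactAlgHom R A B f)) := by
  have hc := LinearMap.congr_fun (HopfRep.Comod.coassoc (k := R) (A := A) (V := B)) f
  simp only [LinearMap.comp_apply, LinearEquiv.coe_coe] at hc
  have h1 : ∀ z : B ⊗[R] A, Algebra.TensorProduct.map (GLin.coactAlgHom R A B) (AlgHom.id R A) z =
      (HopfRep.Comod.coact (k := R) (A := A)).rTensor A z := fun z => by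
    induction z using TensorProduct.induction_on with
    | zero => simp
    | tmul p q => simp [GLin.coactAlgHom_apply]
    | add p q hp hq => simp only [map_add, hp, hq]
  have h2 : ∀ z : B ⊗[R] A, shear (Algebra.TensorProduct.includeRight : A →ₐ[R] B ⊗[R] A)
      (Algebra.TensorProduct.map (Algebra.TensorProduct.includeLeft : B →ₐ[R] B ⊗[R] A) (AlgHom.id R A) z) =
      (TensorProduct.assoc R B A A).symm ((CoalgebraStruct.comul (R := R)).lTensor B z) := fun z => by
    induction z using TensorProduct.induction_on with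
    | zero => simp
    | add p q hp hq => simp only [map_add, hp, hq]
    | tmul p q =>
      rw [LinearMap.lTensor_tmul, Algebra.TensorProduct.map_tmul, shear_tmul, AlgHom.id_apply]
      induction CoalgebraStruct.comul (R := R) q using TensorProduct.induction_on with
      | zero => simp
      | tmul x y => simp
      | add x y hx hy => simp only [map_add, TensorProduct.tmul_add, mul_add, hx, hy]
  rw [h1, h2, GLin.coactAlgHom_apply, ← hc, LinearEquiv.symm_apply_apply]

theorem counit_eval (f : B) :
    Algebra.TensorProduct.lift (AlgHom.id R B) ((Algebra.ofId R B).comp (Bialgebra.counitAlgHom R A))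
      (fun _ _ => .all _ _) (GLin.coactAlgHom R A B f) = f := by
  rw [GLin.coactAlgHom_apply]
  have h2 := congrArg (TensorProduct.rid R B) (LinearMap.congr_fun (HopfRep.Comod.counit_comp (k := R) (A := A) (V := B)) f)
  simp only [LinearMap.comp_apply, LinearMap.flip_apply, TensorProduct.mk_apply, TensorProduct.rid_tmul, one_smul] at h2
  refine Eq.trans ?_ h2
  induction HopfRep.Comod.coact (k := R) (A := A) f using TensorProduct.induction_on with
  | zero => simp
  | tmul p q => simp [Algebra.smul_def, mul_comm]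
  | add p q hp hq => simp only [map_add, hp, hq]

/-- The orbit function of a one-parameter family of elements. -/
noncomputable def orb {N : ℕ} (f : Fin N → B) : B[X] ⊗[R] A :=
  ∑ j : Fin N, (((X : B[X]) ^ j.val) ⊗ₜ[R] (1 : A)) *
    Algebra.TensorProduct.map (IsScalarTower.toAlgHom R B B[X]) (AlgHom.id R A) (GLin.coactAlgHom R A B (f j))

theorem coeff_cp_orb_mem (F : Frame R A) {N : ℕ} (f : Fin N → B) (i m : ℕ) :
    ((cp F (orb (A := A) f)).coeff i).coeff m ∈ GLin.invariants R A B := by
  let ρ := GLin.coactAlgHom R A B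
  let ι : B →ₐ[R] B ⊗[R] A := Algebra.TensorProduct.includeLeft
  let CB := IsScalarTower.toAlgHom R B B[X]
  let CBA := IsScalarTower.toAlgHom R (B ⊗[R] A) (B ⊗[R] A)[X]
  let v : A →ₐ[R] (B ⊗[R] A)[X] := CBA.comp Algebra.TensorProduct.includeRight
  have hnat : ∀ (φ : B →ₐ[R] B ⊗[R] A) (y : B ⊗[R] A),
      Algebra.TensorProduct.map (Polynomial.mapAlgHom φ) (AlgHom.id R A) (Algebra.TensorProduct.map CB (AlgHom.id R A) y) =
        Algebra.TensorProduct.map CBA (AlgHom.id R A) (Algebra.TensorProduct.map φ (AlgHom.id R A) y) := by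
    intro φ y
    induction y using TensorProduct.induction_on with
    | zero => simp
    | add p q hp hq => simp only [map_add, hp, hq]
    | tmul p q => simp [CB, CBA]
  have h : Algebra.TensorProduct.map (Polynomial.mapAlgHom ρ) (AlgHom.id R A) (orb (A := A) f) =
      shear v (Algebra.TensorProduct.map (Polynomial.mapAlgHom ι) (AlgHom.id R A) (orb (A := A) f)) := by
    simp only [orb, map_sum, map_mul, Algebra.TensorProduct.map_tmul, map_one]
    refine Finset.sum_congr rfl fun j _ => ?_
    rw [hnat, hnat, coact_coact, map_shear, show ∀ φ : B →ₐ[R] B ⊗[R] A, Polynomial.mapAlgHom φ ((X : B[X]) ^ (j : ℕ)) = X ^ (j : ℕ)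
      from fun φ => by simp, map_pow, show Polynomial.mapAlgHom ι (X : B[X]) = X by simp]
    congr 1
    rw [shear_tmul, Bialgebra.comul_one, map_one, mul_one]
  have h1 : (cp F (orb (A := A) f)).map (Polynomial.mapAlgHom ρ).toRingHom =
      (cp F (orb (A := A) f)).map (Polynomial.mapAlgHom ι).toRingHom := by
    rw [← cp_map, ← cp_map, h]
    exact cp_algEquiv F (shearEquiv v) _
  have h2 := congrArg (fun P => (Polynomial.coeff P i).coeff m) h1
  refine (GLin.mem_invariants_iff R A B _).mpr ?_
  rw [← GLin.coactAlgHom_apply]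
  simpa [ρ, ι] using h2

theorem eval_cp_orb (F : Frame R A) {N : ℕ} (f : Fin N → B) :
    (cp F (orb (A := A) f)).eval (∑ j : Fin N, (X : B[X]) ^ j.val * C (f j)) = 0 := by
  let ev : B[X] ⊗[R] A →ₐ[B[X]] B[X] := Algebra.TensorProduct.lift (AlgHom.id B[X] B[X])
    ((Algebra.ofId R B[X]).comp (Bialgebra.counitAlgHom R A)) fun _ _ => .all _ _
  have hev : ev (orb (A := A) f) = ∑ j : Fin N, (X : B[X]) ^ j.val * C (f j) := by
    simp only [orb, map_sum, map_mul]
    refine Finset.sum_congr rfl fun j _ => ?_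
    have e : ∀ y : B ⊗[R] A, ev (Algebra.TensorProduct.map (IsScalarTower.toAlgHom R B B[X]) (AlgHom.id R A) y) =
        C (Algebra.TensorProduct.lift (AlgHom.id R B) ((Algebra.ofId R B).comp (Bialgebra.counitAlgHom R A))
          (fun _ _ => .all _ _) y) := by
      intro y
      induction y using TensorProduct.induction_on with
      | zero => simp
      | add p q hp hq => simp only [map_add, hp, hq]
      | tmul p q => simp [ev, Algebra.ofId_apply, IsScalarTower.algebraMap_apply R B B[X]]
    rw [e, counit_eval]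
    simp [ev]
  have h := congrArg ev (aeval_cp F (orb (A := A) f))
  rw [← Polynomial.aeval_algHom_apply, map_zero, hev] at h
  rwa [Polynomial.coe_aeval_eq_eval] at h

/-- The algebra is integral over the invariants. -/
theorem isIntegral_invariants [Module.Finite R A] [Module.Projective R A] :
    Algebra.IsIntegral (GLin.invariants R A B) B := by
  refine ⟨fun f => ?_⟩
  obtain ⟨F⟩ := nonempty_frame (R := R) (A := A)
  rcases subsingleton_or_nontrivial B with hB | hB
  · exact ⟨X, monic_X, Subsingleton.elim _ _⟩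
  let e0 : B[X] →+* B := Polynomial.evalRingHom 0
  let P : B[X] := (cp F (orb (A := A) fun _ : Fin 1 => f)).map e0
  have hl : P ∈ Polynomial.lifts (GLin.invariants R A B).val.toRingHom :=
    (Polynomial.lifts_iff_coeff_lifts _).mpr fun i => ⟨⟨_, coeff_cp_orb_mem F (fun _ : Fin 1 => f) i 0⟩, by
      simp [P, e0, Polynomial.coeff_zero_eq_eval_zero]⟩
  obtain ⟨q, hq, -, hqm⟩ := Polynomial.lifts_and_degree_eq_and_monic hl
    ((Matrix.charpoly_monic _).map e0)
  refine ⟨q, hqm, ?_⟩
  rw [← Polynomial.eval_map]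
  refine (congrArg (Polynomial.eval f) hq).trans ?_
  have h := congrArg e0 (eval_cp_orb F fun _ : Fin 1 => f)
  rw [map_zero, ← Polynomial.eval₂_at_apply, ← Polynomial.eval_map] at h
  simpa [e0, P] using h

variable {K : Type u} [Field K] [Algebra R K]

/-- A nonzero root of the padded characteristic polynomial is a value at a geometric point. -/
theorem exists_point_eq [IsAlgClosed K] [Module.Finite R A] (F : Frame R A) (w : K ⊗[R] A) {c : K} (hc : c ≠ 0)
    (hroot : (cp F w).eval c = 0) : ∃ χ : K ⊗[R] A →ₐ[K] K, χ w = c := by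
  rw [cp, Matrix.eval_charpoly, ← Matrix.exists_mulVec_eq_zero_iff] at hroot
  obtain ⟨v, hv, hv0⟩ := hroot
  have hMv : Matrix.mulVec (M F w) v = c • v := by
    rw [Matrix.sub_mulVec, sub_eq_zero] at hv0
    rw [← hv0]
    ext i
    simp [Matrix.scalar_apply, Matrix.mulVec_diagonal]
  let v' : K ⊗[R] A := ∑ j, v j • ((1 : K) ⊗ₜ[R] F.vec j)
  have hcoord : ∀ (y : K ⊗[R] A) (i : Fin F.n), cR F i (y * v') = Matrix.mulVec (M F y) v i := fun y i => by
    simp only [v', Finset.mul_sum, mul_smul_comm, map_sum, map_smul, Matrix.mulVec, dotProduct, smul_eq_mul]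
    exact Finset.sum_congr rfl fun j _ => mul_comm _ _
  have hwv : w * v' = c • v' := by
    rw [← sum_cR F (w * v'), Finset.smul_sum]
    refine Finset.sum_congr rfl fun i _ => ?_
    rw [hcoord, hMv, Pi.smul_apply, smul_assoc]
  have hv' : v' ≠ 0 := by
    intro h
    refine hv ((smul_eq_zero.mp (?_ : c • v = 0)).resolve_left hc)
    rw [← hMv]
    ext i
    rw [← hcoord, h, mul_zero, map_zero, Pi.zero_apply]
  have hnu : ¬ IsUnit (w - algebraMap K (K ⊗[R] A) c) := fun hu => hv' (hu.mul_right_eq_zero.mp (by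
    rw [sub_mul, hwv, Algebra.smul_def, sub_self]))
  obtain ⟨m, hm, hmw⟩ := exists_max_ideal_of_mem_nonunits (mem_nonunits_iff.mpr hnu)
  haveI := hm
  letI := Ideal.Quotient.field m
  haveI : Module.Finite K ((K ⊗[R] A) ⧸ m) :=
    Module.Finite.of_surjective (Ideal.Quotient.mkₐ K m).toLinearMap (Ideal.Quotient.mkₐ_surjective K m)
  let e : K ≃ₐ[K] (K ⊗[R] A) ⧸ m := AlgEquiv.ofBijective (Algebra.ofId K _)
    (IsAlgClosed.algebraMap_bijective_of_isIntegral (k := K) (K := (K ⊗[R] A) ⧸ m))
  let χ : K ⊗[R] A →ₐ[K] K := e.symm.toAlgHom.comp (Ideal.Quotient.mkₐ K m)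
  refine ⟨χ, ?_⟩
  have h0 : χ (w - algebraMap K (K ⊗[R] A) c) = 0 := by
    show e.symm (Ideal.Quotient.mk m _) = 0
    rw [Ideal.Quotient.eq_zero_iff_mem.mpr hmw, map_zero]
  rwa [map_sub, AlgHom.commutes, sub_eq_zero] at h0

/-- Two geometric points with the same restriction to the invariants are conjugate. -/
theorem exists_conj [IsAlgClosed K] [Module.Finite R A] [Module.Projective R A] (x₁ x₂ : B →ₐ[R] K)
    (h : ∀ b ∈ GLin.invariants R A B, x₁ b = x₂ b) :
    ∃ g : A →ₐ[R] K, ∀ b, x₂ b =
      Algebra.TensorProduct.lift x₁ g (fun _ _ => .all _ _) (GLin.coactAlgHom R A B b) := by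
  classical
  obtain ⟨F⟩ := nonempty_frame (R := R) (A := A)
  haveI : IsArtinianRing (K ⊗[R] A) := IsArtinianRing.of_finite K _
  let T := K ⊗[R] A →ₐ[K] K
  let y : B →ₐ[R] K ⊗[R] A := (Algebra.TensorProduct.map x₁ (AlgHom.id R A)).comp (GLin.coactAlgHom R A B)
  by_contra hcon
  push Not at hcon
  have hne : ∀ χ : T, ∃ b, χ (y b) ≠ x₂ b := fun χ => by
    obtain ⟨b, hb⟩ := hcon ((χ.restrictScalars R).comp Algebra.TensorProduct.includeRight)
    refine ⟨b, fun e => hb (e.symm.trans ?_)⟩
    show χ (Algebra.TensorProduct.map x₁ (AlgHom.id R A) (GLin.coactAlgHom R A B b)) = _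
    induction GLin.coactAlgHom R A B b using TensorProduct.induction_on with
    | zero => simp
    | add p q hp hq => simp only [map_add, hp, hq]
    | tmul p q =>
      rw [Algebra.TensorProduct.map_tmul, Algebra.TensorProduct.lift_tmul,
        show x₁ p ⊗ₜ[R] (AlgHom.id R A q) = x₁ p • ((1 : K) ⊗ₜ[R] q) by
          rw [TensorProduct.smul_tmul', smul_eq_mul, mul_one, AlgHom.id_apply], map_smul]
      rfl
  haveI : Finite T := Finite.of_injective
    (fun χ : T => (⟨RingHom.ker χ, RingHom.ker_isMaximal_of_surjective _ fun c => ⟨algebraMap K _ c, χ.commutes c⟩⟩ :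
      MaximalSpectrum (K ⊗[R] A))) fun χ χ' e => AlgHom.ext fun z => by
        have e' : RingHom.ker χ = RingHom.ker χ' := congrArg MaximalSpectrum.asIdeal e
        have hz : z - algebraMap K _ (χ z) ∈ RingHom.ker χ := by
          rw [RingHom.mem_ker, map_sub, AlgHom.commutes, Algebra.algebraMap_self_apply, sub_self]
        rw [e', RingHom.mem_ker, map_sub, AlgHom.commutes, Algebra.algebraMap_self_apply, sub_eq_zero] at hz
        exact hz.symm
  haveI := Fintype.ofFinite T
  choose b hb using hne
  let ε := Fintype.equivFin T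
  let f : Fin (Fintype.card T + 1) → B := Fin.cons 1 (fun j => b (ε.symm j))
  let p₂ : K[X] := ∑ j : Fin (Fintype.card T + 1), X ^ j.val * C (x₂ (f j))
  let p : T → K[X] := fun χ => ∑ j : Fin (Fintype.card T + 1), X ^ j.val * C (χ (y (f j)) - x₂ (f j))
  have hcoeff : ∀ (a : Fin (Fintype.card T + 1) → K) (i : Fin (Fintype.card T + 1)),
      (∑ j : Fin (Fintype.card T + 1), X ^ j.val * C (a j)).coeff i = a i := fun a i => by
    simp [Polynomial.finsetSum_coeff, Fin.val_inj, Finset.sum_ite_eq]
  have hp₂ : p₂ ≠ 0 := fun e => by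
    have := hcoeff (fun j => x₂ (f j)) 0
    rw [show (∑ j : Fin (Fintype.card T + 1), X ^ j.val * C (x₂ (f j))) = p₂ from rfl, e] at this
    simp [f] at this
  have hp : ∀ χ, p χ ≠ 0 := fun χ e => by
    have := hcoeff (fun j => χ (y (f j)) - x₂ (f j)) (ε χ).succ
    rw [show (∑ j : Fin (Fintype.card T + 1), X ^ j.val * C (χ (y (f j)) - x₂ (f j))) = p χ from rfl, e, Polynomial.coeff_zero] at this
    exact hb χ (sub_eq_zero.mp (by simpa [f] using this.symm))
  obtain ⟨t, ht⟩ : ∃ t, (p₂ * ∏ χ, p χ).eval t ≠ 0 := by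
    by_contra hall
    push Not at hall
    exact mul_ne_zero hp₂ (Finset.prod_ne_zero_iff.mpr fun χ _ => hp χ) (Polynomial.funext fun t => by simpa using hall t)
  rw [eval_mul, eval_prod, mul_ne_zero_iff, Finset.prod_ne_zero_iff] at ht
  let σ : (B →ₐ[R] K) → (B[X] →ₐ[R] K) := fun x => ((Polynomial.aeval t).restrictScalars R).comp (Polynomial.mapAlgHom x)
  have hmap : (cp F (orb (A := A) f)).map (σ x₂).toRingHom = (cp F (orb (A := A) f)).map (σ x₁).toRingHom := by
    refine Polynomial.ext fun i => ?_
    rw [Polynomial.coeff_map, Polynomial.coeff_map]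
    show aeval t (Polynomial.mapAlgHom x₂ _) = aeval t (Polynomial.mapAlgHom x₁ _)
    congr 1
    refine Polynomial.ext fun m => ?_
    simpa using (h _ (coeff_cp_orb_mem F f i m)).symm
  have hroot : ((cp F (orb (A := A) f)).map (σ x₁).toRingHom).eval (p₂.eval t) = 0 := by
    rw [← hmap]
    have h0 := congrArg (σ x₂).toRingHom (eval_cp_orb F f)
    rw [map_zero, ← Polynomial.eval₂_at_apply, ← Polynomial.eval_map] at h0
    convert h0 using 2
    simp [σ, p₂, Polynomial.eval_finsetSum, map_sum]
  rw [← cp_map] at hroot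
  obtain ⟨χ, hχ⟩ := exists_point_eq F _ ht.1 hroot
  refine ht.2 χ (Finset.mem_univ _) ?_
  have hw : χ (Algebra.TensorProduct.map (σ x₁) (AlgHom.id R A) (orb (A := A) f)) =
      ∑ j : Fin (Fintype.card T + 1), t ^ (j : ℕ) * χ (y (f j)) := by
    simp only [orb, map_sum, map_mul]
    refine Finset.sum_congr rfl fun j _ => ?_
    congr 1
    · rw [Algebra.TensorProduct.map_tmul, map_one, show (σ x₁ ((X : B[X]) ^ (j : ℕ))) ⊗ₜ[R] (1 : A) =
        algebraMap K (K ⊗[R] A) (σ x₁ ((X : B[X]) ^ (j : ℕ))) from rfl, AlgHom.commutes, Algebra.algebraMap_self_apply]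
      simp [σ]
    · congr 1
      show Algebra.TensorProduct.map (σ x₁) (AlgHom.id R A) (Algebra.TensorProduct.map _ _ _) = y (f j)
      simp only [y, AlgHom.comp_apply]
      induction GLin.coactAlgHom R A B (f j) using TensorProduct.induction_on with
      | zero => simp
      | add p q hp hq => simp only [map_add, hp, hq]
      | tmul a q => simp [σ]
  rw [hw] at hχ
  simp only [p, eval_finsetSum, eval_mul, eval_pow, eval_X, eval_C, mul_sub, Finset.sum_sub_distrib, hχ]
  simp only [p₂, eval_finsetSum, eval_mul, eval_pow, eval_X, eval_C, sub_self]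

end Groth.Agent.Deform.CoactOrbit
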