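import Groth.Prelude.Def_CoactBr
import Groth.Agent.GrpSchLib.Action
import Groth.Agent.Deform.CoactOrbit
import Mathlib.AlgebraicGeometry.Morphisms.Flat
import Mathlib.AlgebraicGeometry.Morphisms.FlatDescent
import Mathlib.AlgebraicGeometry.Pullbacks
import Mathlib.AlgebraicGeometry.GammaSpecAdjunction
import Mathlib.FieldTheory.IsAlgClosed.AlgebraicClosure
import Mathlib.RingTheory.Support

/-!
# Stabilisers of a finite locally free group scheme acting on an affine scheme
-/

universe u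

open CategoryTheory CategoryTheory.Limits MonoidalCategory CartesianMonoidalCategory MonObj AlgebraicGeometry
open TensorProduct

set_option linter.style.haveILetI false
set_option linter.unusedSectionVars false

attribute [local instance] CategoryTheory.Hom.monoid CategoryTheory.Hom.group

namespace Groth.Agent.Deform.CoactStab

section General

variable {S : Scheme.{u}} {G X : Over S} [GrpObj G] (a : AlgGrp.Action G X)

/-- The stabiliser of a point is trivial. -/
def Trivial {P : Over S} (ξ : P ⟶ X) : Prop :=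
  ∀ (T : Over S) (h : T ⟶ P) (g : T ⟶ G), lift g (h ≫ ξ) ≫ a.act = h ≫ ξ → g = 1

theorem stab_conj_iff {P T : Over S} {ξ₁ ξ₂ : P ⟶ X} {g : P ⟶ G} (hg : lift g ξ₂ ≫ a.act = ξ₁) (h : T ⟶ P)
    (k : T ⟶ G) :
    lift k (h ≫ ξ₁) ≫ a.act = h ≫ ξ₁ ↔ lift ((h ≫ g)⁻¹ * k * (h ≫ g)) (h ≫ ξ₂) ≫ a.act = h ≫ ξ₂ := by
  have e : h ≫ ξ₁ = lift (h ≫ g) (h ≫ ξ₂) ≫ a.act := by rw [← hg, ← Category.assoc, comp_lift]
  rw [e, GrpSchLib.act_mul]
  constructor
  · intro h1
    rw [_root_.mul_assoc, ← GrpSchLib.act_mul, h1, GrpSchLib.act_mul, inv_mul_cancel, GrpSchLib.act_one]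
  · intro h1
    have h2 := congrArg (fun y => lift (h ≫ g) y ≫ a.act) h1
    simp only [GrpSchLib.act_mul] at h2
    rwa [← _root_.mul_assoc, ← _root_.mul_assoc, mul_inv_cancel, _root_.one_mul] at h2

theorem trivial_of_act {P : Over S} {ξ₁ ξ₂ : P ⟶ X} {g : P ⟶ G} (hg : lift g ξ₂ ≫ a.act = ξ₁) (h₁ : Trivial a ξ₁) :
    Trivial a ξ₂ := by
  intro T h k hk
  have h2 : lift ((h ≫ g) * k * (h ≫ g)⁻¹) (h ≫ ξ₁) ≫ a.act = h ≫ ξ₁ := by
    rw [stab_conj_iff a hg]
    convert hk using 3
    group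
  have h3 := h₁ T h _ h2
  rw [mul_inv_eq_one] at h3
  exact mul_eq_left.mp h3

theorem Trivial.comp {P Q : Over S} {ξ : P ⟶ X} (h : Trivial a ξ) (e : Q ⟶ P) : Trivial a (e ≫ ξ) :=
  fun T i g hg => h T (i ≫ e) g (by rwa [Category.assoc])

/-- Triviality of stabilisers descends along faithfully flat quasi-compact maps. -/
theorem Trivial.of_comp {P Q : Over S} {ξ : P ⟶ X} (e : Q ⟶ P) [Flat e.left] [Surjective e.left]
    [QuasiCompact e.left] (h : Trivial a (e ≫ ξ)) : Trivial a ξ := by
  intro T i g hg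
  let T' : Over S := Over.mk (pullback.fst i.left e.left ≫ T.hom)
  let π : T' ⟶ T := Over.homMk (pullback.fst i.left e.left) rfl
  let i' : T' ⟶ Q := Over.homMk (pullback.snd i.left e.left) (by
    show pullback.snd i.left e.left ≫ Q.hom = pullback.fst i.left e.left ≫ T.hom
    rw [← Over.w e, ← pullback.condition_assoc, Over.w i])
  have hi : π ≫ i = i' ≫ e := Over.OverMorphism.ext pullback.condition
  haveI : Epi π.left := Flat.epi_of_flat_of_surjective (pullback.fst i.left e.left)
  haveI : Epi π := (Over.forget S).epi_of_epi_map (f := π) ‹Epi π.left›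
  rw [← cancel_epi π, MonObj.comp_one]
  refine h T' i' (π ≫ g) ?_
  rw [← Category.assoc, ← hi, Category.assoc, ← comp_lift, Category.assoc, hg]

end General

section Coact

variable {R A B : Type u} [CommRing R] [CommRing A] [HopfAlgebra R A] [CommRing B] [Algebra R B]
  [HopfRep.Comod R A B] [GLin.IsCoactAlg R A B]

open CoactBr

/-- The monoidal structure of `Spec`. -/
noncomputable local instance braidedAlgSpecOf' (R : Type u) [CommRing R] : (algSpec (CommRingCat.of R)).Braided :=
  braidedAlgSpec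

/-- A homomorphism of fields over the base gives a fpqc covering of points. -/
theorem fpqc_pt {K L : Type u} [Field K] [Field L] [Algebra R K] [Algebra R L] (φ : K →ₐ[R] L) :
    Flat (pt φ).left ∧ Surjective (pt φ).left ∧ QuasiCompact (pt φ).left := by
  show Flat (Spec.map (CommRingCat.ofHom φ.toRingHom)) ∧ Surjective (Spec.map (CommRingCat.ofHom φ.toRingHom)) ∧
    QuasiCompact (Spec.map (CommRingCat.ofHom φ.toRingHom))
  refine ⟨?_, ⟨fun x => ?_⟩, inferInstance⟩
  · letI := φ.toRingHom.toAlgebra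
    rw [HasRingHomProperty.Spec_iff (P := @Flat)]
    show RingHom.Flat (algebraMap K L)
    rw [RingHom.flat_algebraMap_iff]
    infer_instance
  · haveI : Subsingleton ↥(Spec (CommRingCat.of K)) := inferInstanceAs (Subsingleton (PrimeSpectrum K))
    exact ⟨IsLocalRing.closedPoint L, Subsingleton.elim _ _⟩

/-- The identity component of the action: a conjugation of geometric points. -/
theorem exists_lift_act {K : Type u} [Field K] [IsAlgClosed K] [Algebra R K] [Module.Finite R A] [Module.Projective R A]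
    (x₁ x₂ : B →ₐ[R] K) (h : ∀ b ∈ GLin.invariants R A B, x₁ b = x₂ b) :
    ∃ g : sp R K ⟶ sp R A, lift g (pt x₂) ≫ (action R A B).act = pt x₁ := by
  obtain ⟨g, hg⟩ := CoactOrbit.exists_conj x₁ x₂ h
  refine ⟨pt g, ?_⟩
  have e : lift (pt x₁) (pt g) ≫ ract R A B = pt x₂ := by
    rw [lift_pt_ract]
    exact congrArg pt (AlgHom.ext fun b => (hg b).symm)
  show lift (pt g) (pt x₂) ≫ leftOfRight (ract R A B) = _
  rw [lift_leftOfRight, ← e, lift_ract_ract, mul_inv_cancel, lift_one_ract]

/-- Two field-valued points with the same kernel on the invariants have a common extension. -/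
theorem exists_common_ext {C K₁ K₂ : Type u} [CommRing C] [Algebra R C] [Field K₁] [Field K₂] [Algebra R K₁] [Algebra R K₂]
    (f₁ : C →ₐ[R] K₁) (f₂ : C →ₐ[R] K₂) (h : RingHom.ker f₁ = RingHom.ker f₂) :
    ∃ (K : Type u) (_ : Field K) (_ : Algebra R K) (_ : IsAlgClosed K) (j₁ : K₁ →ₐ[R] K) (j₂ : K₂ →ₐ[R] K),
      j₁.comp f₁ = j₂.comp f₂ := by
  let p := RingHom.ker f₁
  haveI : p.IsPrime := RingHom.ker_isPrime _
  let φ₁ : p.ResidueField →ₐ[R] K₁ := Ideal.ResidueField.liftₐ p f₁ le_rfl (fun x hx => IsUnit.mk0 _ hx)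
  let φ₂ : p.ResidueField →ₐ[R] K₂ := Ideal.ResidueField.liftₐ p f₂ (le_of_eq h) (fun x hx => IsUnit.mk0 _ (by
    intro h0
    refine hx (show x ∈ RingHom.ker f₁ from ?_)
    rw [h]
    exact h0))
  letI := φ₁.toRingHom.toAlgebra
  letI := φ₂.toRingHom.toAlgebra
  obtain ⟨m, hm⟩ := Ideal.exists_maximal (K₁ ⊗[p.ResidueField] K₂)
  letI := Ideal.Quotient.field m
  let K := AlgebraicClosure ((K₁ ⊗[p.ResidueField] K₂) ⧸ m)
  let l₁ : K₁ →+* K := (algebraMap _ K).comp ((Ideal.Quotient.mk m).comp Algebra.TensorProduct.includeLeftRingHom)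
  let l₂ : K₂ →+* K := (algebraMap _ K).comp ((Ideal.Quotient.mk m).comp
    (Algebra.TensorProduct.includeRight (R := p.ResidueField) (A := K₁) (B := K₂)).toRingHom)
  have hl : ∀ x, l₁ (φ₁ x) = l₂ (φ₂ x) := fun x =>
    congrArg (fun z => algebraMap _ K (Ideal.Quotient.mk m z))
      (((Algebra.TensorProduct.includeRight (R := p.ResidueField) (A := K₁) (B := K₂)).commutes x).symm)
  have hC : ∀ c, l₁ (f₁ c) = l₂ (f₂ c) := fun c => by
    have e1 : φ₁ (algebraMap C p.ResidueField c) = f₁ c := Ideal.ResidueField.liftₐ_algebraMap ..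
    have e2 : φ₂ (algebraMap C p.ResidueField c) = f₂ c := Ideal.ResidueField.liftₐ_algebraMap ..
    rw [← e1, ← e2, hl]
  letI : Algebra R K := (l₁.comp (algebraMap R K₁)).toAlgebra
  refine ⟨K, inferInstance, inferInstance, inferInstance, { l₁ with commutes' := fun r => rfl },
    { l₂ with commutes' := fun r => ?_ }, AlgHom.ext hC⟩
  show l₂ (algebraMap R K₂ r) = l₁ (algebraMap R K₁ r)
  rw [← f₁.commutes r, ← f₂.commutes r, hC]

/-- Trivial stabilisers only depend on the point of the quotient. -/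
theorem trivial_of_agree [Module.Finite R A] [Module.Projective R A] {K₁ K₂ : Type u} [Field K₁] [Field K₂]
    [Algebra R K₁] [Algebra R K₂] (x₁ : B →ₐ[R] K₁) (x₂ : B →ₐ[R] K₂)
    (h : RingHom.ker (x₁.comp (GLin.invariants R A B).val) = RingHom.ker (x₂.comp (GLin.invariants R A B).val))
    (h₁ : Trivial (action R A B) (pt x₁)) : Trivial (action R A B) (pt x₂) := by
  obtain ⟨K, _, _, _, j₁, j₂, hj⟩ := exists_common_ext (R := R) (x₁.comp (GLin.invariants R A B).val)
    (x₂.comp (GLin.invariants R A B).val) h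
  obtain ⟨g, hg⟩ := exists_lift_act (j₁.comp x₁) (j₂.comp x₂) fun b hb => AlgHom.congr_fun hj ⟨b, hb⟩
  obtain ⟨_, _, _⟩ := fpqc_pt j₂
  refine Trivial.of_comp _ (pt j₂) ?_
  rw [← pt_comp]
  refine trivial_of_act _ hg ?_
  rw [pt_comp]
  exact h₁.comp _ _

theorem comp_comp_of_split {C : Type*} [Category C] {P Q T : C} (e : P ≅ Q) {l : Q ⟶ P} (hl : l ≫ e.hom = 𝟙 Q)
    (a : T ⟶ P) : (a ≫ e.hom) ≫ l = a := by
  rw [show l = e.inv from (e.comp_hom_eq_id).mp hl, Category.assoc, e.hom_inv_id, Category.comp_id]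

variable (R A B) in
/-- The ideal of the stabiliser. -/
noncomputable def stabIdeal : Ideal (B ⊗[R] A) :=
  Ideal.span (Set.range fun b : B => GLin.coactAlgHom R A B b - b ⊗ₜ[R] (1 : A))

variable (R A B) in
/-- Evaluation at the unit section. -/
noncomputable def ev : B ⊗[R] A →ₐ[B] B :=
  Algebra.TensorProduct.lift (AlgHom.id B B) ((Algebra.ofId R B).comp (Bialgebra.counitAlgHom R A)) fun _ _ => .all _ _

variable (R A B) in
/-- Deviation from the unit section. -/
noncomputable def dev : B ⊗[R] A →ₗ[B] B ⊗[R] A :=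
  LinearMap.id - (Algebra.linearMap B (B ⊗[R] A)).comp (ev R A B).toLinearMap

theorem dev_apply (z : B ⊗[R] A) : dev R A B z = z - ev R A B z ⊗ₜ[R] (1 : A) := rfl

theorem dev_eq_of_mem {z : B ⊗[R] A} (hz : z ∈ stabIdeal R A B) : dev R A B z = z := by
  have h : stabIdeal R A B ≤ RingHom.ker (ev R A B).toRingHom := by
    refine Ideal.span_le.mpr ?_
    rintro _ ⟨b, rfl⟩
    show ev R A B (GLin.coactAlgHom R A B b - b ⊗ₜ[R] (1 : A)) = 0
    rw [map_sub, sub_eq_zero]
    have e : ∀ y, ev R A B y = Algebra.TensorProduct.lift (AlgHom.id R B)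
        ((Algebra.ofId R B).comp (Bialgebra.counitAlgHom R A)) (fun _ _ => .all _ _) y := fun y => by
      induction y using TensorProduct.induction_on with
      | zero => simp
      | add p q hp hq => simp only [map_add, hp, hq]
      | tmul p q => simp [ev, Algebra.ofId_apply]
    rw [e, CoactOrbit.counit_eval]
    simp [ev]
  rw [dev_apply, show ev R A B z = 0 from h hz, TensorProduct.zero_tmul, sub_zero]

variable (R A B) in
/-- The module measuring the failure of freeness. -/
noncomputable def obsMap : B ⊗[R] A →ₗ[B] (B ⊗[R] A) ⧸ stabIdeal R A B :=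
  (Ideal.Quotient.mkₐ B (stabIdeal R A B)).toLinearMap ∘ₗ dev R A B

theorem obsMap_apply (z : B ⊗[R] A) : obsMap R A B z = Ideal.Quotient.mk (stabIdeal R A B) (dev R A B z) := rfl

theorem finite_obs [Module.Finite R A] : Module.Finite B (LinearMap.range (obsMap R A B)) :=
  Module.Finite.range _

/-- The global function map of a morphism to an affine scheme. -/
noncomputable def app {C : Type u} [CommRing C] [Algebra R C] {T : Over (Spec (CommRingCat.of R))} (v : T ⟶ sp R C) :
    C →+* Γ(T.left, ⊤) :=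
  ((Scheme.ΓSpecIso (CommRingCat.of C)).inv ≫ v.left.appTop).hom

theorem app_aux {X : Scheme.{u}} {C D : CommRingCat.{u}} (v : X ⟶ Spec D) (f : C ⟶ D) :
    (Scheme.ΓSpecIso C).inv ≫ (v ≫ Spec.map f).appTop = f ≫ (Scheme.ΓSpecIso D).inv ≫ v.appTop := by
  rw [Scheme.Hom.comp_appTop, ← Category.assoc, ← Scheme.ΓSpecIso_inv_naturality, Category.assoc]

theorem app_comp {C D : Type u} [CommRing C] [Algebra R C] [CommRing D] [Algebra R D]
    {T : Over (Spec (CommRingCat.of R))} (v : T ⟶ sp R D) (φ : C →ₐ[R] D) :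
    app (v ≫ pt φ) = (app v).comp φ.toRingHom := by
  exact congrArg CommRingCat.Hom.hom (app_aux (X := T.left) v.left (CommRingCat.ofHom φ.toRingHom))

theorem ext_app {C : Type u} [CommRing C] [Algebra R C] {T : Over (Spec (CommRingCat.of R))} {v w : T ⟶ sp R C}
    (h : app v = app w) : v = w := by
  haveI : IsAffine (sp R C).left := inferInstanceAs (IsAffine (Spec (CommRingCat.of C)))
  refine Over.OverMorphism.ext (ext_of_isAffine ?_)
  have h' : (Scheme.ΓSpecIso (CommRingCat.of C)).inv ≫ v.left.appTop =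
      (Scheme.ΓSpecIso (CommRingCat.of C)).inv ≫ w.left.appTop := CommRingCat.hom_ext h
  exact (cancel_epi _).mp h'

/-- A fixed point of a translation over which the obstruction is killed by a unit. -/
theorem eq_one_of_unit {T : Over (Spec (CommRingCat.of R))} (ζ : T ⟶ sp R B) (g : T ⟶ sp R A)
    (hfix : lift g ζ ≫ (action R A B).act = ζ) {c : B}
    (hc : c ∈ Module.annihilator B (LinearMap.range (obsMap R A B))) (hu : IsUnit (app ζ c)) : g = 1 := by
  have hfix' : lift ζ g ≫ ract R A B = ζ := by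
    have h1 : lift g ζ ≫ leftOfRight (ract R A B) = ζ := hfix
    rw [lift_leftOfRight] at h1
    conv_lhs => rw [← h1]
    rw [lift_ract_ract, inv_mul_cancel, lift_one_ract]
  let w : T ⟶ sp R (B ⊗[R] A) := lift ζ g ≫
    Functor.LaxMonoidal.μ (algSpec (CommRingCat.of R)) (Opposite.op (.of R B)) (Opposite.op (.of R A))
  let L : B →ₐ[R] B ⊗[R] A := Algebra.TensorProduct.includeLeft
  let Rt : A →ₐ[R] B ⊗[R] A := Algebra.TensorProduct.includeRight
  have hid : lift (pt L) (pt Rt) ≫
      Functor.LaxMonoidal.μ (algSpec (CommRingCat.of R)) (Opposite.op (.of R B)) (Opposite.op (.of R A)) = 𝟙 _ := by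
    rw [lift_pt_pt, show (Algebra.TensorProduct.lift L Rt fun _ _ => .all _ _) = AlgHom.id R _ from
      Algebra.TensorProduct.ext' fun b a => by simp [L, Rt]]
    exact pt_id
  have hw : w ≫ lift (pt L) (pt Rt) = lift ζ g := by
    exact comp_comp_of_split
      (Functor.Monoidal.μIso (algSpec (CommRingCat.of R)) (Opposite.op (.of R B)) (Opposite.op (.of R A))) hid (lift ζ g)
  have hζ : w ≫ pt L = ζ := by simpa using congrArg (· ≫ fst _ _) hw
  have hg : w ≫ pt Rt = g := by simpa using congrArg (· ≫ snd _ _) hw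
  have hρ : w ≫ pt (GLin.coactAlgHom R A B) = ζ := by
    refine Eq.trans ?_ hfix'
    show (lift ζ g ≫ _) ≫ _ = _
    rw [Category.assoc]
    rfl
  have hI : stabIdeal R A B ≤ RingHom.ker (app w) := by
    refine Ideal.span_le.mpr ?_
    rintro _ ⟨b, rfl⟩
    have h1 : app (w ≫ pt (GLin.coactAlgHom R A B)) = app (w ≫ pt L) := by rw [hρ, hζ]
    rw [app_comp, app_comp] at h1
    show app w (GLin.coactAlgHom R A B b - b ⊗ₜ[R] (1 : A)) = 0
    rw [map_sub, sub_eq_zero]
    exact RingHom.congr_fun h1 b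
  have key : ∀ z, app w (dev R A B z) = 0 := by
    intro z
    have h1 : c • dev R A B z ∈ stabIdeal R A B := by
      rw [← Ideal.Quotient.eq_zero_iff_mem]
      have h2 := congrArg Subtype.val ((Module.mem_annihilator.mp hc) ⟨_, z, rfl⟩)
      exact h2
    have h2 : app w (c • dev R A B z) = 0 := hI h1
    rw [Algebra.smul_def, map_mul] at h2
    have h3 : app w (algebraMap B (B ⊗[R] A) c) = app ζ c := by
      rw [← hζ, app_comp]
      rfl
    rw [h3] at h2
    exact hu.mul_right_eq_zero.mp h2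
  let e : A →ₐ[R] B ⊗[R] A := (Algebra.ofId R (B ⊗[R] A)).comp (Bialgebra.counitAlgHom R A)
  have hone : (1 : T ⟶ sp R A) = w ≫ pt e := by
    rw [← one_eq_pt, MonObj.comp_one]
  rw [hone, ← hg]
  refine ext_app ?_
  rw [app_comp, app_comp]
  refine RingHom.ext fun a => ?_
  have h := key ((1 : B) ⊗ₜ[R] a)
  rw [dev_apply, map_sub, sub_eq_zero] at h
  refine h.trans ?_
  show app w _ = app w _
  congr 1
  simp [ev, e, Algebra.ofId_apply, Algebra.TensorProduct.algebraMap_apply]

/-- A prime with trivial stabiliser is outside the support of the obstruction. -/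
theorem not_mem_support [Module.Finite R A] [Module.Projective R A] (q : Ideal B) [q.IsPrime]
    (h : Trivial (action R A B) (pt (IsScalarTower.toAlgHom R B q.ResidueField))) :
    (⟨q, inferInstance⟩ : PrimeSpectrum B) ∉ Module.support B (LinearMap.range (obsMap R A B)) := by
  classical
  haveI := finite_obs (R := R) (A := A) (B := B)
  let K := q.ResidueField
  let x : B →ₐ[R] K := IsScalarTower.toAlgHom R B K
  let Φ : B ⊗[R] A →ₐ[R] K ⊗[R] A := Algebra.TensorProduct.map x (AlgHom.id R A)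
  let π : K ⊗[R] A →ₐ[R] (K ⊗[R] A) ⧸ (stabIdeal R A B).map Φ.toRingHom := Ideal.Quotient.mkₐ R _
  let x' : B →ₐ[R] (K ⊗[R] A) ⧸ (stabIdeal R A B).map Φ.toRingHom :=
    (π.comp Algebra.TensorProduct.includeLeft).comp x
  let g₀ : A →ₐ[R] (K ⊗[R] A) ⧸ (stabIdeal R A B).map Φ.toRingHom := π.comp Algebra.TensorProduct.includeRight
  have hlift : (Algebra.TensorProduct.lift x' g₀ fun _ _ => .all _ _) = π.comp Φ :=
    Algebra.TensorProduct.ext' fun b a => by
      rw [Algebra.TensorProduct.lift_tmul]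
      show π (x b ⊗ₜ[R] (1 : A)) * π ((1 : K) ⊗ₜ[R] a) = π (x b ⊗ₜ[R] a)
      rw [← map_mul, Algebra.TensorProduct.tmul_mul_tmul, _root_.mul_one, _root_.one_mul]
  have hfix : lift (pt x') (pt g₀) ≫ ract R A B = pt x' := by
    rw [lift_pt_ract, hlift]
    refine congrArg pt (AlgHom.ext fun b => ?_)
    show π (Φ (GLin.coactAlgHom R A B b)) = π (x b ⊗ₜ[R] (1 : A))
    rw [← sub_eq_zero, ← map_sub]
    refine Ideal.Quotient.eq_zero_iff_mem.mpr ?_
    have e : x b ⊗ₜ[R] (1 : A) = Φ (b ⊗ₜ[R] (1 : A)) := rfl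
    rw [e, ← map_sub]
    exact Ideal.mem_map_of_mem _ (Ideal.subset_span ⟨b, rfl⟩)
  have h1 : (pt g₀)⁻¹ = 1 := by
    refine h _ (pt (π.comp Algebra.TensorProduct.includeLeft)) _ ?_
    rw [← pt_comp]
    show lift _ (pt x') ≫ leftOfRight (ract R A B) = _
    rw [lift_leftOfRight, inv_inv]
    exact hfix
  rw [inv_eq_one, one_eq_pt] at h1
  have hg₀ := pt_injective h1
  have hdev : ∀ z, Φ (dev R A B z) ∈ (stabIdeal R A B).map Φ.toRingHom := by
    intro z
    rw [← Ideal.Quotient.eq_zero_iff_mem]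
    show π (Φ (dev R A B z)) = 0
    induction z using TensorProduct.induction_on with
    | zero => rw [map_zero, map_zero, map_zero]
    | add p q hp hq => simp only [map_add, hp, hq, add_zero]
    | tmul b a =>
      have ha := AlgHom.congr_fun hg₀ a
      have e1 : Φ (dev R A B (b ⊗ₜ[R] a)) =
          (x b ⊗ₜ[R] (1 : A)) * ((1 : K) ⊗ₜ[R] a - algebraMap R (K ⊗[R] A) (Coalgebra.counit (R := R) a)) := by
        rw [dev_apply, map_sub]
        simp [Φ, ev, Algebra.TensorProduct.algebraMap_apply, mul_sub, Algebra.ofId_apply]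
      rw [e1, map_mul, map_sub, AlgHom.commutes, show π ((1 : K) ⊗ₜ[R] a) = g₀ a from rfl, ha]
      simp only [AlgHom.comp_apply, Algebra.ofId_apply]
      rw [show Bialgebra.counitAlgHom R A a = Coalgebra.counit (R := R) a from rfl, sub_self, mul_zero]
  have hfrac : ∀ c : K ⊗[R] A, ∃ (t : B) (z : B ⊗[R] A), t ∉ q ∧ (x t ⊗ₜ[R] (1 : A)) * c = Φ z := by
    intro c
    induction c using TensorProduct.induction_on with
    | zero => exact ⟨1, 0, q.ne_top_iff_one.mp Ideal.IsPrime.ne_top', by simp⟩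
    | add c c' hc hc' =>
      obtain ⟨t, z, ht, hz⟩ := hc
      obtain ⟨t', z', ht', hz'⟩ := hc'
      refine ⟨t * t', (t' ⊗ₜ[R] (1 : A)) * z + (t ⊗ₜ[R] (1 : A)) * z', Ideal.IsPrime.mul_notMem ‹_› ht ht', ?_⟩
      rw [map_add Φ, map_mul Φ, map_mul Φ, ← hz, ← hz', map_mul x]
      simp only [Φ, Algebra.TensorProduct.map_tmul, map_one]
      rw [show (x t * x t') ⊗ₜ[R] (1 : A) = (x t ⊗ₜ[R] (1 : A)) * (x t' ⊗ₜ[R] (1 : A)) by simp]
      ring
    | tmul r a =>
      obtain ⟨nu, de, hde, rfl⟩ := IsFractionRing.div_surjective (B ⧸ q) r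
      obtain ⟨b, rfl⟩ := Ideal.Quotient.mk_surjective nu
      obtain ⟨t, rfl⟩ := Ideal.Quotient.mk_surjective de
      have ht : t ∉ q := fun h0 => (mem_nonZeroDivisors_iff_ne_zero.mp hde) (Ideal.Quotient.eq_zero_iff_mem.mpr h0)
      refine ⟨t, b ⊗ₜ[R] a, ht, ?_⟩
      have hne : x t ≠ 0 := fun h0 => ht (Ideal.algebraMap_residueField_eq_zero.mp h0)
      rw [Algebra.TensorProduct.tmul_mul_tmul, _root_.one_mul, Algebra.TensorProduct.map_tmul, AlgHom.id_apply]
      congr 1
      show x t * (x b / x t) = x b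
      exact mul_div_cancel₀ _ hne
  have hspan : ∀ y ∈ (stabIdeal R A B).map Φ.toRingHom, ∃ t ∉ q, ∃ i ∈ stabIdeal R A B, (x t ⊗ₜ[R] (1 : A)) * y = Φ i := by
    intro y hy
    rw [Ideal.map] at hy
    induction hy using Submodule.span_induction with
    | mem y hy =>
      obtain ⟨i, hi, rfl⟩ := hy
      exact ⟨1, q.ne_top_iff_one.mp Ideal.IsPrime.ne_top', i, hi, by
        rw [map_one, ← Algebra.TensorProduct.one_def, _root_.one_mul]; rfl⟩
    | zero => exact ⟨1, q.ne_top_iff_one.mp Ideal.IsPrime.ne_top', 0, Ideal.zero_mem _, by simp⟩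
    | add y y' _ _ hy hy' =>
      obtain ⟨t, ht, i, hi, e⟩ := hy
      obtain ⟨t', ht', i', hi', e'⟩ := hy'
      refine ⟨t * t', Ideal.IsPrime.mul_notMem ‹_› ht ht', (t' ⊗ₜ[R] (1 : A)) * i + (t ⊗ₜ[R] (1 : A)) * i',
        Ideal.add_mem _ (Ideal.mul_mem_left _ _ hi) (Ideal.mul_mem_left _ _ hi'), ?_⟩
      rw [map_add Φ, map_mul Φ, map_mul Φ, ← e, ← e', map_mul x]
      simp only [Φ, Algebra.TensorProduct.map_tmul, map_one]
      rw [show (x t * x t') ⊗ₜ[R] (1 : A) = (x t ⊗ₜ[R] (1 : A)) * (x t' ⊗ₜ[R] (1 : A)) by simp]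
      ring
    | smul c y _ hy =>
      obtain ⟨t, ht, i, hi, e⟩ := hy
      obtain ⟨t', z, ht', e'⟩ := hfrac c
      refine ⟨t * t', Ideal.IsPrime.mul_notMem ‹_› ht ht', z * i, Ideal.mul_mem_left _ _ hi, ?_⟩
      rw [map_mul Φ, ← e, ← e', map_mul, smul_eq_mul,
        show (x t * x t') ⊗ₜ[R] (1 : A) = (x t ⊗ₜ[R] (1 : A)) * (x t' ⊗ₜ[R] (1 : A)) by simp]
      ring
  obtain ⟨F⟩ := CoactOrbit.nonempty_frame (R := R) (A := A)
  have hkerΦ : ∀ u, Φ u = 0 → u ∈ q • (⊤ : Submodule B (B ⊗[R] A)) := by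
    intro u hu
    rw [← CoactOrbit.sum_cR F u]
    refine Submodule.sum_mem _ fun i _ => Submodule.smul_mem_smul ?_ trivial
    have e : ∀ w, CoactOrbit.cR F i (Φ w) = x (CoactOrbit.cR F i w) := fun w => by
      induction w using TensorProduct.induction_on with
      | zero => simp
      | add p q hp hq => simp only [map_add, hp, hq]
      | tmul b a => simp [Φ, CoactOrbit.cR_tmul]
    exact Ideal.algebraMap_residueField_eq_zero.mp ((e u).symm.trans (by rw [hu, map_zero]))
  rw [Module.mem_support_iff_nontrivial_residueField_tensorProduct, not_nontrivial_iff_subsingleton]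
  refine subsingleton_of_forall_eq 0 fun v => ?_
  induction v using TensorProduct.induction_on with
  | zero => rfl
  | add p q hp hq => rw [hp, hq, add_zero]
  | tmul r m =>
    obtain ⟨z, hz⟩ := m.2
    obtain ⟨t, ht, i, hi, e⟩ := hspan _ (hdev z)
    have hu : t • dev R A B z - i ∈ q • (⊤ : Submodule B (B ⊗[R] A)) := by
      refine hkerΦ _ ?_
      rw [map_sub, Algebra.smul_def, map_mul, sub_eq_zero, ← e]
      rfl
    have h2 : t • m ∈ q • (⊤ : Submodule B (LinearMap.range (obsMap R A B))) := by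
      have h3 : (t • m) = LinearMap.rangeRestrict (obsMap R A B) (t • dev R A B z - i) := by
        refine Subtype.ext ?_
        show t • (m : (B ⊗[R] A) ⧸ stabIdeal R A B) = obsMap R A B (t • dev R A B z - i)
        have hdd : dev R A B (dev R A B z) = dev R A B z := by
          have : ev R A B (dev R A B z) = 0 := by
            rw [dev_apply, map_sub]
            simp [ev]
          rw [dev_apply (dev R A B z), this, TensorProduct.zero_tmul, sub_zero]
        rw [map_sub, map_smul, obsMap_apply i, dev_eq_of_mem hi, Ideal.Quotient.eq_zero_iff_mem.mpr hi, sub_zero,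
          obsMap_apply, hdd, ← hz, obsMap_apply]
      rw [h3]
      have h4 := Submodule.mem_map_of_mem (f := LinearMap.rangeRestrict (obsMap R A B)) hu
      rw [Submodule.map_smul''] at h4
      exact Submodule.smul_mono le_rfl le_top h4
    have h5 : (1 : K) ⊗ₜ[B] (t • m) = 0 := by
      refine Submodule.smul_induction_on h2 (fun b hb m' _ => ?_) fun p q hp hq => by rw [tmul_add, hp, hq, add_zero]
      rw [← TensorProduct.smul_tmul, Algebra.smul_def, Ideal.algebraMap_residueField_eq_zero.mpr hb, zero_mul,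
        TensorProduct.zero_tmul]
    have hne : x t ≠ 0 := fun h0 => ht (Ideal.algebraMap_residueField_eq_zero.mp h0)
    have h7 : ∀ (v : K), v ⊗ₜ[B] m = (v * (x t)⁻¹) ⊗ₜ[B] (t • m) := fun v => by
      rw [← TensorProduct.smul_tmul, Algebra.smul_def]
      congr 1
      show v = x t * (v * (x t)⁻¹)
      rw [mul_left_comm, mul_inv_cancel₀ hne, _root_.mul_one]
    have h8 : ∀ (v : K), v ⊗ₜ[B] (t • m) = v • ((1 : K) ⊗ₜ[B] (t • m)) := fun v => by
      rw [TensorProduct.smul_tmul', smul_eq_mul, _root_.mul_one]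
    refine (h7 r).trans ((h8 _).trans ?_)
    rw [h5, smul_zero]

end Coact

end Groth.Agent.Deform.CoactStab
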