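import Groth.Agent.Deform.Extension

/-!
# Extensions of groups of multiplicative type with connected or commutative fibres

Such an extension has central kernel and is commutative.
-/

set_option autoImplicit false
set_option linter.style.haveILetI false

universe u

open CategoryTheory CategoryTheory.Limits MonoidalCategory CartesianMonoidalCategory MonObj GrpObj AlgebraicGeometry

attribute [local instance] CategoryTheory.Hom.monoid CategoryTheory.Hom.group

namespace Groth.Agent.Deform.Extension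

variable {S : Scheme.{u}}

/-- The kernel of a homomorphism onto any group is central as soon as it is of multiplicative type and, at each
point of the base, the group has connected fibre or is commutative. -/
theorem central_of_fibres {E H K : Over S} [GrpObj E] [GrpObj H] [GrpObj K] (p : E ⟶ K) [IsMonHom p]
    (i : H ⟶ E) [IsMonHom i] (hker : AlgGrp.IsKernel i p) (hH : SGA3x.IsMultTypeFT H)
    (hE : ∀ s : S, _root_.IsPreconnected (E.hom.base ⁻¹' {s}) ∨
      ∀ X : Over S, Deform.LiesOver s X → ∀ a b : X ⟶ E, a * b = b * a)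
    {X : Over S} (h : X ⟶ H) (e : X ⟶ E) : Commute (h ≫ i) e := by
  haveI := UnipDiag.mono_of_isKernel hker
  have hcm : ∀ {Y : Over S} (a b : Y ⟶ H), a * b = b * a :=
    fun a b => GrpSchLib.MultTypeComm.points_comm hH a b
  haveI : IsAffineHom H.hom := (TransLib.multTypeFT_essFree hH).1
  haveI : LocallyOfFiniteType H.hom := GrpSchLib.MultTypeLft.lft hH
  let c : H ⊗ E ⟶ H := hker.lift (snd H E * (fst H E ≫ i) * (snd H E)⁻¹) (toUnit _) (by
    rw [MonObj.mul_comp, MonObj.mul_comp, kills hker, _root_.mul_one, GrpObj.inv_comp, mul_inv_cancel, Hom.one_def])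
  have hci : ∀ {Y : Over S} (a : Y ⟶ H) (b : Y ⟶ E), (lift a b ≫ c) ≫ i = b * (a ≫ i) * b⁻¹ := fun a b => by
    rw [Category.assoc, hker.lift_fst, MonObj.comp_mul, MonObj.comp_mul, GrpObj.comp_inv, lift_snd, lift_fst_assoc]
  let d : H ⊗ E ⟶ H := c * (fst H E)⁻¹
  have hd : ∀ {Y : Over S} (a : Y ⟶ H) (b : Y ⟶ E), lift a b ≫ d = (lift a b ≫ c) * a⁻¹ := fun a b => by
    rw [show d = c * (fst H E)⁻¹ from rfl, MonObj.comp_mul, GrpObj.comp_inv, lift_fst]
  have hdi : ∀ {Y : Over S} (a : Y ⟶ H) (b : Y ⟶ E), (lift a b ≫ d) ≫ i = b * (a ≫ i) * b⁻¹ * (a ≫ i)⁻¹ :=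
    fun a b => by rw [hd, MonObj.mul_comp, hci, GrpObj.inv_comp]
  have hlin : ∀ (Y : Over S) (a a' : Y ⟶ H) (b : Y ⟶ E), lift (a * a') b ≫ d = lift a b ≫ d * lift a' b ≫ d := by
    intro Y a a' b
    have e1 : lift (a * a') b ≫ c = (lift a b ≫ c) * (lift a' b ≫ c) := by
      rw [← cancel_mono i, hci, MonObj.mul_comp, MonObj.mul_comp, hci, hci]
      group
    rw [hd, hd, hd, e1, _root_.mul_inv_rev, _root_.mul_assoc, _root_.mul_assoc]
    congr 1
    rw [hcm a'⁻¹ a⁻¹, ← _root_.mul_assoc, hcm (lift a' b ≫ c) a⁻¹, _root_.mul_assoc]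
  have h0 : lift (𝟙 H) (toUnit H ≫ η[E]) ≫ d = 1 := by
    rw [← cancel_mono i, hdi, ← Hom.one_def, MonObj.one_comp]
    group
  have h1 := Deform.pairing_eq_one_of hH d hlin η[E] h0 fun s => (hE s).imp_right fun hs Y hY a b => by
    rw [← cancel_mono i, hdi, MonObj.one_comp, hs Y hY b (a ≫ i)]
    group
  have h2 := hdi h e
  rw [h1, MonObj.comp_one, MonObj.one_comp] at h2
  show (h ≫ i) * e = e * (h ≫ i)
  exact (mul_inv_eq_iff_eq_mul.mp (mul_inv_eq_one.mp h2.symm)).symm

/-- The fibre of the quotient is connected where the fibre of the group is. -/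
theorem isPreconnected_quot {E K : Over S} (p : E ⟶ K) [Surjective p.left] {s : S}
    (h : _root_.IsPreconnected (E.hom.base ⁻¹' {s})) : _root_.IsPreconnected (K.hom.base ⁻¹' {s}) := by
  have e : p.left.base '' (E.hom.base ⁻¹' {s}) = K.hom.base ⁻¹' {s} := by
    rw [← Over.w p, Scheme.Hom.comp_base]
    exact Set.image_preimage_eq (K.hom.base ⁻¹' {s}) p.left.surjective
  exact e ▸ h.image _ p.left.continuous.continuousOn

/-- An extension of groups of multiplicative type whose fibres are connected or commutative is commutative. -/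
theorem comm_of_fibres {E H K : Over S} [GrpObj E] [GrpObj H] [GrpObj K] (p : E ⟶ K) [IsMonHom p]
    [Surjective p.left] [Flat p.left] [QuasiCompact p.left] (i : H ⟶ E) [IsMonHom i] (hker : AlgGrp.IsKernel i p)
    (hH : SGA3x.IsMultTypeFT H) (hK : SGA3x.IsMultTypeFT K)
    (hE : ∀ s : S, _root_.IsPreconnected (E.hom.base ⁻¹' {s}) ∨
      ∀ X : Over S, Deform.LiesOver s X → ∀ a b : X ⟶ E, a * b = b * a)
    (T : Over S) (x y : T ⟶ E) : x * y = y * x :=
  comm_of_central p i hker hH hK (central_of_fibres p i hker hH hE)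
    (fun s => (hE s).imp_left fun h => isPreconnected_quot p h) T x y

end Groth.Agent.Deform.Extension
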