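import Groth.Agent.S3034
import Groth.Agent.FlatMisc.Fibrewise
import Groth.Prelude.Def_Red
import Groth.Prelude.Def_Mor2
import Mathlib.AlgebraicGeometry.Morphisms.FlatRank
import Mathlib.RingTheory.LocalRing.Module
import Mathlib.CategoryTheory.Monoidal.Cartesian.Grp

/-! Homomorphisms of finite locally free groups whose kernel has the complementary order. -/

universe u

open CategoryTheory Limits AlgebraicGeometry MonoidalCategory CartesianMonoidalCategory MonObj GrpObj

attribute [local instance] CategoryTheory.Hom.monoid CategoryTheory.Hom.group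
set_option linter.style.haveILetI false
set_option maxHeartbeats 1000000

namespace Groth.Agent.Deform.FinSeq

variable {S : Scheme.{u}} {G H K : Over S} [GrpObj G] [GrpObj H] [GrpObj K]

/-- The fibre square of a homomorphism with itself is the product with its kernel. -/
theorem isPullback_shear (π : G ⟶ H) [IsMonHom π] (j : K ⟶ G) (hk : AlgGrp.IsKernel j π) :
    IsPullback (fst G K) (fst G K * (snd G K ≫ j)) π π := by
  have hk' : IsPullback j (toUnit K) π η[H] := hk
  have h1 : j ≫ π = 1 := by rw [hk'.w, MonObj.one_eq_one, MonObj.comp_one]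
  have hw : fst G K ≫ π = (fst G K * (snd G K ≫ j)) ≫ π := by
    rw [MonObj.mul_comp, Category.assoc, h1, MonObj.comp_one, _root_.mul_one]
  refine IsPullback.of_isLimit' ⟨hw⟩ (PullbackCone.IsLimit.mk _ (fun s => lift s.fst
    (hk'.lift (s.fst⁻¹ * s.snd) (toUnit _) ?_)) (fun s => by simp) (fun s => ?_) (fun s m h₁ h₂ => ?_))
  · rw [MonObj.mul_comp, GrpObj.inv_comp, s.condition, inv_mul_cancel, MonObj.one_eq_one, MonObj.comp_one]
  · rw [MonObj.comp_mul, lift_fst, lift_snd_assoc, hk'.lift_fst, mul_inv_cancel_left]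
  · apply CartesianMonoidalCategory.hom_ext
    · simp [h₁]
    · apply hk'.hom_ext _ (toUnit_unique _ _)
      rw [lift_snd, hk'.lift_fst]
      rw [MonObj.comp_mul, h₁, ← Category.assoc] at h₂
      rw [← h₂, inv_mul_cancel_left]

/-- A flat surjective homomorphism with a finite locally free kernel has the degree of the kernel. -/
theorem finrank_eq (π : G ⟶ H) [IsMonHom π] (j : K ⟶ G) (hk : AlgGrp.IsKernel j π) [Flat π.left] [IsFinite π.left]
    [Surjective π.left] [Flat K.hom] [IsFinite K.hom] (n : ℕ) (hn : ∀ s, K.hom.finrank s = n) (y : H.left) :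
    π.left.finrank y = n := by
  obtain ⟨x, rfl⟩ := π.left.surjective y
  have h := (isPullback_shear π j hk).map (Over.forget S)
  have e := Scheme.Hom.finrank_of_isPullback _ _ π.left π.left h.flip x
  rw [← e]
  exact (Scheme.Hom.finrank_pullback_fst K.hom G.hom x).trans (hn _)

theorem finrank_comp_right_iso {X Y Z : Scheme.{u}} (f : X ⟶ Y) [Flat f] [IsFinite f] (e : Y ⟶ Z) [IsIso e] (y : Y) :
    (f ≫ e).finrank (e y) = f.finrank y :=
  (Scheme.Hom.finrank_of_isPullback (𝟙 X) f (f ≫ e) e (IsPullback.of_horiz_isIso ⟨by simp⟩) y).symm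

theorem ring_core {k B C A : Type u} [Field k] [CommRing B] [CommRing C] [CommRing A] [Algebra k B] [Algebra k C]
    [Algebra k A] [Algebra C A] [IsScalarTower k C A] [Module.Finite k B] [Module.Finite k A]
    [Module.Finite C A] [Module.Flat C A] (c : B →ₐ[k] C) (hc : Function.Surjective c) (n : ℕ) (hn : 0 < n)
    (hA : ∀ p : PrimeSpectrum C, Module.rankAtStalk A p = n)
    (hdim : Module.finrank k A = n * Module.finrank k B) : Function.Bijective c := by
  haveI : Module.Finite k C := Module.Finite.of_surjective c.toLinearMap hc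
  haveI : IsArtinianRing C := isArtinian_of_tower k inferInstance
  haveI : Finite (MaximalSpectrum C) := inferInstance
  obtain ⟨b⟩ := Module.nonempty_basis_of_flat_of_finrank_eq C A n fun P => by
    letI := Ideal.Quotient.field P.1
    have h1 := Module.rankAtStalk_baseChange (R := C) (M := A) (S := C ⧸ P.1) ⟨⊥, Ideal.isPrime_bot⟩
    rw [hA, Module.rankAtStalk_eq_finrank_of_free] at h1
    exact h1
  have h2 : Module.finrank k A = n * Module.finrank k C := by
    rw [(b.equivFun.restrictScalars k).finrank_eq, Module.finrank_pi_fintype, Finset.sum_const, Finset.card_fin,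
      smul_eq_mul]
  rw [hdim] at h2
  have h3 : Module.finrank k C = Module.finrank k B := Nat.eq_of_mul_eq_mul_left hn h2.symm
  exact ⟨(LinearMap.injective_iff_surjective_of_finrank_eq_finrank h3.symm (f := c.toLinearMap)).2 hc, hc⟩

/-- The rank over a field of a morphism of affine schemes is the dimension of the functions. -/
theorem finrank_eq_dim {k A : Type u} [Field k] [CommRing A] [Algebra k A] [Module.Finite k A]
    (s : Spec (CommRingCat.of k)) :
    (Spec.map (CommRingCat.ofHom (algebraMap k A))).finrank s = Module.finrank k A := by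
  rw [Scheme.Hom.finrank_SpecMap_algebraMap, Module.rankAtStalk_eq_finrank_of_free]
  rfl

theorem spec_core {k : Type u} [Field k] {B C A : CommRingCat.{u}} (b : CommRingCat.of k ⟶ B) (c : B ⟶ C)
    (p : C ⟶ A) [IsFinite (Spec.map b)] [IsClosedImmersion (Spec.map c)] [IsFinite (Spec.map p)] [Flat (Spec.map p)]
    (n d : ℕ) (hn : 0 < n) (hp : ∀ y, (Spec.map p).finrank y = n) (hb : ∀ s, (Spec.map b).finrank s = d)
    (hA : ∀ s, (Spec.map (b ≫ c ≫ p)).finrank s = n * d) : IsIso c := by
  letI : Algebra k B := b.hom.toAlgebra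
  letI : Algebra k C := (b ≫ c).hom.toAlgebra
  letI : Algebra k A := (b ≫ c ≫ p).hom.toAlgebra
  letI : Algebra C A := p.hom.toAlgebra
  haveI : IsScalarTower k C A := IsScalarTower.of_algebraMap_eq fun r => rfl
  haveI : Module.Finite k B := (IsFinite.SpecMap_iff b).1 inferInstance
  haveI : IsFinite (Spec.map (b ≫ c ≫ p)) := by rw [Spec.map_comp, Spec.map_comp]; infer_instance
  haveI : Module.Finite k A := (IsFinite.SpecMap_iff (b ≫ c ≫ p)).1 inferInstance
  haveI : Module.Finite C A := (IsFinite.SpecMap_iff p).1 inferInstance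
  haveI : Module.Flat C A := (HasRingHomProperty.Spec_iff (P := @Flat)).1 (inferInstanceAs (Flat (Spec.map p)))
  let ch : B →ₐ[k] C := AlgHom.mk c.hom fun r => rfl
  have hs : Function.Surjective ch := by
    have h := (IsClosedImmersion.isAffine_surjective_of_isAffine (f := Spec.map c)).2
    intro y
    obtain ⟨x, hx⟩ := h ((Scheme.ΓSpecIso C).inv y)
    refine ⟨(Scheme.ΓSpecIso B).hom x, ?_⟩
    show c ((Scheme.ΓSpecIso B).hom x) = y
    rw [← CommRingCat.comp_apply, ← Scheme.ΓSpecIso_naturality, CommRingCat.comp_apply, hx,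
      ← CommRingCat.comp_apply, Iso.inv_hom_id]
    rfl
  have hbij := ring_core ch hs n hn (fun q => by rw [← Scheme.Hom.finrank_SpecMap_algebraMap C A q]; exact hp q) (by
    rw [← finrank_eq_dim (k := k) (A := A) ⟨⊥, Ideal.isPrime_bot⟩,
      ← finrank_eq_dim (k := k) (A := B) ⟨⊥, Ideal.isPrime_bot⟩]
    exact (hA _).trans (congrArg (n * ·) (hb _).symm))
  exact (ConcreteCategory.isIso_iff_bijective c).2 hbij

/-- Over a field, a homomorphism of finite groups with a kernel of complementary order is flat and surjective. -/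
theorem field_case {k : Type u} [Field k] {G H K : Over (Spec (CommRingCat.of k))} [GrpObj G] [GrpObj H] [GrpObj K]
    [IsFinite G.hom] [IsFinite H.hom] [IsFinite K.hom] (π : G ⟶ H) [IsMonHom π] (j : K ⟶ G)
    (hk : AlgGrp.IsKernel j π) (n d : ℕ) (hn : 0 < n) (hK : ∀ s, K.hom.finrank s = n) (hH : ∀ s, H.hom.finrank s = d)
    (hG : ∀ s, G.hom.finrank s = n * d) : Flat π.left ∧ Surjective π.left := by
  haveI : IsFinite π.left := by
    have : IsFinite (π.left ≫ H.hom) := by rw [Over.w π]; infer_instance
    exact IsFinite.of_comp π.left H.hom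
  have hflat : ∀ {X : Scheme.{u}} (f : X ⟶ Spec (CommRingCat.of k)), Flat f := fun f => inferInstance
  obtain ⟨C, _, p, i, _, _, rfl, hpf, hps, hpl, hic⟩ :=
    Groth.Agent.S3034.result k G H π (hflat _)
  haveI := hpf; haveI := hps; haveI := hic
  haveI : IsFinite p.left := by
    have : IsFinite (p.left ≫ i.left) := by rw [← Over.comp_left]; infer_instance
    exact IsFinite.of_comp p.left i.left
  haveI : Flat K.hom := hflat _
  haveI : Mono i := (Over.forget _).mono_of_mono_map (inferInstanceAs (Mono i.left))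
  have hkp : AlgGrp.IsKernel j p := by
    have hk' : IsPullback j (toUnit K) (p ≫ i) η[H] := hk
    refine IsPullback.of_isLimit' ⟨?_⟩ (PullbackCone.IsLimit.mk _ (fun s => hk'.lift s.fst s.snd ?_)
      (fun s => hk'.lift_fst _ _ _) (fun s => toUnit_unique _ _) (fun s m h₁ h₂ => ?_))
    · rw [← cancel_mono i]
      simpa using hk'.w
    · rw [← Category.assoc, s.condition, Category.assoc, IsMonHom.one_hom]
    · exact hk'.hom_ext (h₁.trans (hk'.lift_fst _ _ _).symm) (toUnit_unique _ _)
  have hdeg : ∀ y, p.left.finrank y = n := finrank_eq p j hkp n hK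
  haveI : IsAffine G.left := isAffine_of_isAffineHom G.hom
  haveI : IsAffine H.left := isAffine_of_isAffineHom H.hom
  haveI : IsAffine C.left := isAffine_of_isAffineHom i.left
  obtain ⟨b, hb⟩ := Spec.map_surjective (H.left.isoSpec.inv ≫ H.hom)
  obtain ⟨c, hc⟩ := Spec.map_surjective (C.left.isoSpec.inv ≫ i.left ≫ H.left.isoSpec.hom)
  obtain ⟨q, hq⟩ := Spec.map_surjective (G.left.isoSpec.inv ≫ p.left ≫ C.left.isoSpec.hom)
  haveI : IsFinite (Spec.map b) := by rw [hb]; infer_instance
  haveI : IsClosedImmersion (Spec.map c) := by rw [hc]; infer_instance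
  haveI : IsFinite (Spec.map q) := by rw [hq]; infer_instance
  haveI : Flat (Spec.map q) := by rw [hq]; infer_instance
  have hiso : IsIso c := by
    refine spec_core b c q n d hn (fun y => ?_) (fun s => ?_) (fun s => ?_)
    · obtain ⟨y', rfl⟩ := C.left.isoSpec.hom.surjective y
      rw [hq, Scheme.Hom.finrank_comp_left_of_isIso]
      exact (finrank_comp_right_iso _ _ _).trans (hdeg _)
    · haveI := hflat H.hom
      rw [hb, Scheme.Hom.finrank_comp_left_of_isIso]
      exact hH s
    · haveI := hflat G.hom
      have e : Spec.map (b ≫ c ≫ q) = G.left.isoSpec.inv ≫ G.hom := by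
        rw [Spec.map_comp, Spec.map_comp, hb, hc, hq]
        simp only [Category.assoc, Iso.hom_inv_id_assoc]
        rw [← Over.w (p ≫ i), Over.comp_left, Category.assoc]
      rw [e, Scheme.Hom.finrank_comp_left_of_isIso]
      exact hG s
  haveI : IsIso (Spec.map c) := inferInstance
  haveI : IsIso i.left := by
    have : i.left = C.left.isoSpec.hom ≫ Spec.map c ≫ H.left.isoSpec.inv := by rw [hc]; simp
    rw [this]; infer_instance
  rw [Over.comp_left]
  exact ⟨inferInstance, inferInstance⟩

/-- A homomorphism of finite locally free groups with kernel of complementary degree is finite locally free surjective. -/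
theorem isFinLocFreeOfDeg (π : G ⟶ H) [IsMonHom π] (j : K ⟶ G) (hk : AlgGrp.IsKernel j π) (n d : ℕ) (hn : 0 < n)
    (hK : Mor2.IsFinLocFreeOfDeg n K.hom) (hH : Mor2.IsFinLocFreeOfDeg d H.hom)
    (hG : Mor2.IsFinLocFreeOfDeg (n * d) G.hom) :
    Mor2.IsFinLocFreeOfDeg n π.left ∧ Surjective π.left := by
  obtain ⟨⟨_, _, _⟩, hK⟩ := hK
  obtain ⟨⟨_, _, _⟩, hH⟩ := hH
  obtain ⟨⟨_, _, _⟩, hG⟩ := hG
  haveI : IsFinite (π.left ≫ H.hom) := by rw [Over.w π]; infer_instance
  haveI : Flat (π.left ≫ H.hom) := by rw [Over.w π]; infer_instance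
  haveI : LocallyOfFinitePresentation (π.left ≫ H.hom) := by rw [Over.w π]; infer_instance
  haveI : IsFinite π.left := IsFinite.of_comp π.left H.hom
  have key : ∀ s : S, Flat (pullback.snd π.left (H.hom.fiberι s)) ∧
      Surjective (pullback.snd π.left (H.hom.fiberι s)) := by
    intro s
    let φ : Spec (CommRingCat.of (S.residueField s)) ⟶ S := S.fromSpecResidueField s
    haveI : IsFinite (Red.bc φ G).hom := inferInstanceAs (IsFinite (pullback.snd G.hom φ))
    haveI : IsFinite (Red.bc φ H).hom := inferInstanceAs (IsFinite (pullback.snd H.hom φ))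
    haveI : IsFinite (Red.bc φ K).hom := inferInstanceAs (IsFinite (pullback.snd K.hom φ))
    have hk' : IsPullback j (toUnit K) π η[H] := hk
    have hkF : AlgGrp.IsKernel ((Over.pullback φ).map j) ((Over.pullback φ).map π) := by
      refine (hk'.map (Over.pullback φ)).of_iso (Iso.refl _) (Iso.refl _) (Functor.Monoidal.εIso (Over.pullback φ)).symm (Iso.refl _) ?_ ?_ ?_ ?_
      · simp
      · exact toUnit_unique _ _
      · simp
      · simp [Functor.obj.η_def]
    letI : GrpObj ((Over.pullback φ).obj G) := Red.grpObj_bc φ G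
    letI : GrpObj ((Over.pullback φ).obj H) := Red.grpObj_bc φ H
    letI : GrpObj ((Over.pullback φ).obj K) := Red.grpObj_bc φ K
    haveI : IsMonHom ((Over.pullback φ).map π) := inferInstance
    haveI : IsFinite ((Over.pullback φ).obj G).hom := inferInstanceAs (IsFinite (pullback.snd G.hom φ))
    haveI : IsFinite ((Over.pullback φ).obj H).hom := inferInstanceAs (IsFinite (pullback.snd H.hom φ))
    haveI : IsFinite ((Over.pullback φ).obj K).hom := inferInstanceAs (IsFinite (pullback.snd K.hom φ))
    obtain ⟨h1, h2⟩ := field_case ((Over.pullback φ).map π) ((Over.pullback φ).map j) hkF n d hn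
      (fun t => (Scheme.Hom.finrank_pullback_snd K.hom φ t).trans (hK _))
      (fun t => (Scheme.Hom.finrank_pullback_snd H.hom φ t).trans (hH _))
      (fun t => (Scheme.Hom.finrank_pullback_snd G.hom φ t).trans (hG _))
    have hsq : IsPullback (pullback.fst G.hom φ) ((Over.pullback φ).map π).left π.left (H.hom.fiberι s) := by
      refine IsPullback.of_bot (h₂₁ := pullback.fst H.hom φ) ?_ ?_ (IsPullback.of_hasPullback H.hom φ)
      · rw [Over.w π]
        have e : ((Over.pullback φ).map π).left ≫ pullback.snd H.hom φ = pullback.snd G.hom φ := Over.w ((Over.pullback φ).map π)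
        rw [e]
        exact IsPullback.of_hasPullback G.hom φ
      · exact (pullback.lift_fst _ _ _).symm
    have e := hsq.isoPullback_inv_snd
    exact ⟨(congrArg (fun f => Flat f) e).mp ((MorphismProperty.cancel_left_of_respectsIso @Flat hsq.isoPullback.inv _).2 h1),
      (congrArg (fun f => Surjective f) e).mp ((MorphismProperty.cancel_left_of_respectsIso @Surjective hsq.isoPullback.inv _).2 h2)⟩
  haveI : Flat π.left := FlatMisc.flat_of_flat_fibres H.hom π.left fun s => (key s).1
  haveI : Surjective π.left := by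
    constructor
    intro y
    obtain ⟨z, hz⟩ : y ∈ Set.range (H.hom.fiberι (H.hom y)).base := by rw [Scheme.Hom.range_fiberι]; rfl
    haveI := (key (H.hom y)).2
    obtain ⟨w, hw⟩ := (pullback.snd π.left (H.hom.fiberι (H.hom y))).surjective z
    refine ⟨pullback.fst π.left (H.hom.fiberι (H.hom y)) w, ?_⟩
    rw [← Scheme.Hom.comp_apply, pullback.condition, Scheme.Hom.comp_apply, hw]
    exact hz
  haveI : LocallyOfFinitePresentation π.left :=
    Groth.Agent.AlgSpPts.locallyOfFinitePresentation_of_comp π.left H.hom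
  exact ⟨⟨⟨inferInstance, inferInstance, inferInstance⟩, finrank_eq π j hk n hK⟩, inferInstance⟩

end Groth.Agent.Deform.FinSeq
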