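import Groth.Prelude.Def_VecGrp
import Mathlib.AlgebraicGeometry.Morphisms.Descent
import Mathlib.AlgebraicGeometry.Morphisms.Flat
import Mathlib.RingTheory.Flat.FaithfullyFlat.Algebra
import Mathlib.AlgebraicGeometry.Sites.Fpqc
import Mathlib.Algebra.Module.Projective

/-! Stable submodules of module functors under flat quasi-compact group schemes. -/

universe u

open CategoryTheory Limits AlgebraicGeometry MonoidalCategory CartesianMonoidalCategory MonObj GrpObj
open scoped TensorProduct

attribute [local instance] CategoryTheory.Hom.monoid CategoryTheory.Hom.group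
set_option linter.style.haveILetI false
set_option maxHeartbeats 1000000

namespace Groth.Agent.Deform.GModStable

variable {R : Type u} [CommRing R]

/-- An affine flat surjective cover of a quasi-compact scheme, as the spectrum of a ring. -/
theorem exists_affine_cover (X : Scheme.{u}) [CompactSpace X] :
    ∃ (B : CommRingCat.{u}) (p : Spec B ⟶ X), Surjective p ∧ Flat p := by
  obtain ⟨Y, p, hs, hf, hY⟩ := X.exists_hom_isAffine_of_isZariskiLocalAtSource @Flat
  exact ⟨Γ(Y, ⊤), Y.isoSpec.inv ≫ p, inferInstance, inferInstance⟩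

variable {G : Over (Spec (CommRingCat.of R))}

/-- An affine flat cover of a flat quasi-compact scheme over an affine base, as a point with values in a flat algebra. -/
theorem exists_cover (G : Over (Spec (CommRingCat.of R))) [QuasiCompact G.hom] [Flat G.hom] :
    ∃ (B : Type u) (_ : CommRing B) (_ : Algebra R B) (u : VecGrp.pt R B ⟶ G),
      Surjective u.left ∧ Flat u.left ∧ Module.Flat R B := by
  haveI : CompactSpace G.left := QuasiCompact.compactSpace_of_compactSpace G.hom
  obtain ⟨B, p, hs, hf⟩ := exists_affine_cover G.left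
  let φ : CommRingCat.of R ⟶ B := Spec.preimage (p ≫ G.hom)
  letI : Algebra R B := φ.hom.toAlgebra
  have hφ : Spec.map φ = p ≫ G.hom := Spec.map_preimage _
  refine ⟨B, inferInstance, inferInstance, Over.homMk p hφ.symm, hs, hf, ?_⟩
  haveI : Flat (Spec.map φ) := by rw [hφ]; infer_instance
  exact (HasRingHomProperty.Spec_iff (P := @Flat)).1 this

/-- Every point lifts, after a faithfully flat extension, to a point of a flat cover. -/
theorem exists_lift [QuasiSeparated G.hom] {B : Type u} [CommRing B] [Algebra R B] (u : VecGrp.pt R B ⟶ G)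
    [Surjective u.left] [Flat u.left] {B' : Type u} [CommRing B'] [Algebra R B'] (g : VecGrp.pt R B' ⟶ G) :
    ∃ (B'' : Type u) (_ : CommRing B'') (_ : Algebra R B'') (ia : B' →ₐ[R] B'') (a : B →ₐ[R] B''),
      ia.toRingHom.FaithfullyFlat ∧ VecGrp.ptMap ia ≫ g = VecGrp.ptMap a ≫ u := by
  haveI : QuasiSeparatedSpace G.left := quasiSeparatedSpace_of_quasiSeparated G.hom
  haveI : CompactSpace (VecGrp.pt R B).left := inferInstanceAs (CompactSpace (Spec (CommRingCat.of B)))
  haveI : CompactSpace (VecGrp.pt R B').left := inferInstanceAs (CompactSpace (Spec (CommRingCat.of B')))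
  haveI : QuasiCompact u.left := inferInstance
  haveI : CompactSpace ↑(pullback g.left u.left) :=
    QuasiCompact.compactSpace_of_compactSpace (pullback.fst g.left u.left)
  obtain ⟨C, p, hs, hf⟩ := exists_affine_cover (pullback g.left u.left)
  let i : CommRingCat.of B' ⟶ C := Spec.preimage (p ≫ pullback.fst g.left u.left)
  let q : CommRingCat.of B ⟶ C := Spec.preimage (p ≫ pullback.snd g.left u.left)
  letI : Algebra R C := (i.hom.comp (algebraMap R B')).toAlgebra
  have hi : Spec.map i = p ≫ pullback.fst g.left u.left := Spec.map_preimage _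
  have hq : Spec.map q = p ≫ pullback.snd g.left u.left := Spec.map_preimage _
  have he : CommRingCat.ofHom (algebraMap R B') ≫ i = CommRingCat.ofHom (algebraMap R B) ≫ q := by
    apply Spec.map_injective
    rw [Spec.map_comp, Spec.map_comp, hi, hq]
    have eg : g.left ≫ G.hom = Spec.map (CommRingCat.ofHom (algebraMap R B')) := Over.w g
    have eu : u.left ≫ G.hom = Spec.map (CommRingCat.ofHom (algebraMap R B)) := Over.w u
    rw [← eg, ← eu, Category.assoc, Category.assoc, pullback.condition_assoc]
  let ia : B' →ₐ[R] C := AlgHom.mk i.hom fun r => rfl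
  let a : B →ₐ[R] C := AlgHom.mk q.hom fun r => (congr($he r)).symm
  refine ⟨C, inferInstance, inferInstance, ia, a, ?_, ?_⟩
  · haveI : Surjective (Spec.map i) := by rw [hi]; infer_instance
    haveI : Flat (Spec.map i) := by rw [hi]; infer_instance
    exact (flat_and_surjective_SpecMap_iff i).1 ⟨‹_›, ‹_›⟩
  · apply Over.OverMorphism.ext
    show Spec.map i ≫ g.left = Spec.map q ≫ u.left
    rw [hi, hq, Category.assoc, Category.assoc, pullback.condition]

variable {Q : Type u} [AddCommGroup Q] [Module R Q]

/-- Base change along a faithfully flat map is injective on the module functor. -/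
theorem Wmap_injective {B' C : Type u} [CommRing B'] [Algebra R B'] [CommRing C] [Algebra R C] (ia : B' →ₐ[R] C)
    (h : ia.toRingHom.FaithfullyFlat) : Function.Injective (VecGrp.Wmap (M := Q) ia) := by
  letI : Algebra B' C := ia.toRingHom.toAlgebra
  haveI : IsScalarTower R B' C := IsScalarTower.of_algebraMap_eq fun r => (ia.commutes r).symm
  haveI : Module.FaithfullyFlat B' C := h
  have e : ∀ z : B' ⊗[R] Q, VecGrp.Wmap ia z =
      TensorProduct.AlgebraTensorModule.cancelBaseChange R B' B' C Q ((1 : C) ⊗ₜ[B'] z) := by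
    intro z
    induction z using TensorProduct.induction_on with
    | zero => simp
    | add x y hx hy => simp only [map_add, TensorProduct.tmul_add, hx, hy]
    | tmul b m =>
      rw [VecGrp.Wmap_tmul, TensorProduct.AlgebraTensorModule.cancelBaseChange_tmul, Algebra.smul_def,
        _root_.mul_one]
      rfl
  intro x y hxy
  rw [e, e] at hxy
  exact Module.FaithfullyFlat.tensorProduct_mk_injective (A := B') (B := C) (B' ⊗[R] Q)
    ((TensorProduct.AlgebraTensorModule.cancelBaseChange R B' B' C Q).injective hxy)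

variable [GrpObj G] {E : Type u} [AddCommGroup E] [Module R E] (m : VecGrp.GMod G E)

theorem ρ_naturality {B B' : Type u} [CommRing B] [Algebra R B] [CommRing B'] [Algebra R B'] (φ : B →ₐ[R] B')
    (g : VecGrp.pt R B ⟶ G) (x : E) :
    VecGrp.Wmap φ (m.ρ B g ((1 : B) ⊗ₜ[R] x)) = m.ρ B' (VecGrp.ptMap φ ≫ g) ((1 : B') ⊗ₜ[R] x) := by
  rw [m.naturality, VecGrp.Wmap_tmul, map_one]

/-- Vanishing of the action at the points of a flat cover forces vanishing at all points. -/
theorem eq_zero_of_cover [QuasiSeparated G.hom] {B : Type u} [CommRing B] [Algebra R B] (u : VecGrp.pt R B ⟶ G)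
    [Surjective u.left] [Flat u.left] (f : E →ₗ[R] Q) (x : E)
    (h : f.baseChange B (m.ρ B u ((1 : B) ⊗ₜ[R] x)) = 0) (B' : Type u) [CommRing B'] [Algebra R B']
    (g : VecGrp.pt R B' ⟶ G) : f.baseChange B' (m.ρ B' g ((1 : B') ⊗ₜ[R] x)) = 0 := by
  obtain ⟨C, _, _, ia, a, hff, he⟩ := exists_lift u g
  apply Wmap_injective ia hff
  rw [map_zero, VecGrp.baseChange_natural, ρ_naturality, he, ← ρ_naturality, ← VecGrp.baseChange_natural, h, map_zero]

/-- The action at the universal point of a cover. -/
noncomputable def cl {B : Type u} [CommRing B] [Algebra R B] (u : VecGrp.pt R B ⟶ G) : E →ₗ[R] B ⊗[R] E :=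
  (m.ρ B u).toLinearMap.restrictScalars R ∘ₗ TensorProduct.mk R B E 1

theorem cl_apply {B : Type u} [CommRing B] [Algebra R B] (u : VecGrp.pt R B ⟶ G) (x : E) :
    cl m u x = m.ρ B u ((1 : B) ⊗ₜ[R] x) := rfl

/-- Membership in the image of a base-changed submodule. -/
theorem mem_range_baseChange (N : Submodule R E) {B : Type u} [CommRing B] [Algebra R B] (y : B ⊗[R] E) :
    y ∈ LinearMap.range (N.subtype.baseChange B) ↔ N.mkQ.baseChange B y = 0 :=
  (lTensor_exact B (LinearMap.exact_subtype_mkQ N) N.mkQ_surjective y).symm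

/-- Two successive actions at the universal point. -/
theorem cl_cl {B : Type u} [CommRing B] [Algebra R B] (u : VecGrp.pt R B ⟶ G) (x : E) :
    (TensorProduct.assoc R B B E).symm ((cl m u).lTensor B (cl m u x)) =
      m.ρ (B ⊗[R] B) ((VecGrp.ptMap Algebra.TensorProduct.includeRight ≫ u) *
          (VecGrp.ptMap Algebra.TensorProduct.includeLeft ≫ u)) ((1 : B ⊗[R] B) ⊗ₜ[R] x) := by
  rw [map_mul, LinearEquiv.mul_apply, ← ρ_naturality, ← cl_apply]
  induction cl m u x using TensorProduct.induction_on with
  | zero => simp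
  | add p q hp hq => simp only [map_add, hp, hq]
  | tmul b e =>
    rw [LinearMap.lTensor_tmul, VecGrp.Wmap_tmul]
    have hb : (Algebra.TensorProduct.includeLeft (S := R) (A := B) (B := B) b) ⊗ₜ[R] e =
        (b ⊗ₜ[R] (1 : B)) • ((1 : B ⊗[R] B) ⊗ₜ[R] e) := by
      rw [TensorProduct.smul_tmul', smul_eq_mul, _root_.mul_one]
      rfl
    rw [hb, map_smul, ← ρ_naturality, ← cl_apply]
    induction cl m u e using TensorProduct.induction_on with
    | zero => simp
    | add p q hp hq => simp only [map_add, TensorProduct.tmul_add, smul_add, hp, hq]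
    | tmul c e' =>
      simp [TensorProduct.smul_tmul']

/-- Over a Noetherian base a finitely generated submodule lies in a finitely generated stable submodule. -/
theorem exists_fg_stable [IsNoetherianRing R] [QuasiCompact G.hom] [QuasiSeparated G.hom] [Flat G.hom]
    (M : Submodule R E) (hM : M.FG) :
    ∃ N : Submodule R E, M ≤ N ∧ N.FG ∧
      ∀ (B : Type u) [CommRing B] [Algebra R B] (g : VecGrp.pt R B ⟶ G) (x : E), x ∈ N →
        m.ρ B g ((1 : B) ⊗ₜ[R] x) ∈ LinearMap.range (N.subtype.baseChange B) := by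
  classical
  obtain ⟨B, _, _, u, _, _, _⟩ := exists_cover G
  obtain ⟨S, hS⟩ := hM
  have key : ∀ z : B ⊗[R] E, ∃ N₀ : Submodule R E, N₀.FG ∧ N₀.mkQ.baseChange B z = 0 := by
    intro z
    induction z using TensorProduct.induction_on with
    | zero => exact ⟨⊥, Submodule.fg_bot, map_zero _⟩
    | tmul b e =>
      refine ⟨R ∙ e, Submodule.fg_span_singleton e, ?_⟩
      rw [LinearMap.baseChange_tmul, Submodule.mkQ_apply,
        (Submodule.Quotient.mk_eq_zero _).2 (Submodule.mem_span_singleton_self e), TensorProduct.tmul_zero]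
    | add p q hp hq =>
      obtain ⟨P₁, h₁, e₁⟩ := hp
      obtain ⟨P₂, h₂, e₂⟩ := hq
      refine ⟨P₁ ⊔ P₂, h₁.sup h₂, ?_⟩
      rw [← mem_range_baseChange] at e₁ e₂ ⊢
      have mono : ∀ {P P' : Submodule R E}, P ≤ P' →
          LinearMap.range (P.subtype.baseChange B) ≤ LinearMap.range (P'.subtype.baseChange B) := by
        intro P P' h
        rw [← Submodule.subtype_comp_inclusion P P' h, LinearMap.baseChange_comp]
        exact LinearMap.range_comp_le_range _ _
      exact add_mem (mono le_sup_left e₁) (mono le_sup_right e₂)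
  choose P hP hP0 using fun x => key (cl m u x)
  let N₀ : Submodule R E := ⨆ x ∈ S, P x
  have hN₀ : N₀.FG := Submodule.fg_biSup S P fun x _ => hP x
  let N : Submodule R E := LinearMap.ker ((N₀.mkQ.baseChange B).restrictScalars R ∘ₗ cl m u)
  have hN : ∀ x, x ∈ N ↔ N₀.mkQ.baseChange B (cl m u x) = 0 := fun x => Iff.rfl
  have hPN : ∀ {P' : Submodule R E} {z : B ⊗[R] E}, P' ≤ N₀ → P'.mkQ.baseChange B z = 0 → N₀.mkQ.baseChange B z = 0 := by
    intro P' z h h0
    have e : N₀.mkQ = (Submodule.factor h) ∘ₗ P'.mkQ := (Submodule.factor_comp_mk h).symm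
    rw [e, LinearMap.baseChange_comp, LinearMap.comp_apply, h0, map_zero]
  have hMN : M ≤ N := by
    rw [← hS, Submodule.span_le]
    exact fun x hx => (hN x).2 (hPN (le_iSup₂ (f := fun y _ => P y) x hx) (hP0 x))
  have hle : N ≤ N₀ := fun x hx => by
    have h1 := eq_zero_of_cover m u N₀.mkQ x ((hN x).1 hx) R 1
    rw [map_one] at h1
    have h2 := congrArg (TensorProduct.lid R (E ⧸ N₀)) h1
    simp only [map_zero, LinearEquiv.coe_one, id_eq, LinearMap.baseChange_tmul, TensorProduct.lid_tmul, one_smul,
      Submodule.mkQ_apply, Submodule.Quotient.mk_eq_zero] at h2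
    exact h2
  haveI : IsNoetherian R N₀ := isNoetherian_of_fg_of_noetherian N₀ hN₀
  refine ⟨N, hMN, ?_, ?_⟩
  · have hfg : (Submodule.comap N₀.subtype N).FG := IsNoetherian.noetherian _
    have := hfg.map N₀.subtype
    rwa [Submodule.map_comap_eq, Submodule.range_subtype, inf_eq_right.2 hle] at this
  intro B' _ _ g x hx
  rw [mem_range_baseChange]
  refine eq_zero_of_cover m u N.mkQ x ?_ B' g
  rw [← mem_range_baseChange, ← cl_apply]
  let ψ : E →ₗ[R] B ⊗[R] (E ⧸ N₀) := N₀.mkQ.lTensor B ∘ₗ cl m u
  have hker : LinearMap.ker ψ = N := by ext y; exact Iff.rfl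
  have hz : ψ.lTensor B (cl m u x) = 0 := by
    apply (TensorProduct.assoc R B B (E ⧸ N₀)).symm.injective
    rw [map_zero, LinearMap.lTensor_comp_apply]
    have nat : ∀ w : B ⊗[R] (B ⊗[R] E), (TensorProduct.assoc R B B (E ⧸ N₀)).symm ((N₀.mkQ.lTensor B).lTensor B w) =
        N₀.mkQ.baseChange (B ⊗[R] B) ((TensorProduct.assoc R B B E).symm w) := by
      intro w
      induction w using TensorProduct.induction_on with
      | zero => simp
      | add p q hp hq => simp only [map_add, hp, hq]
      | tmul b z =>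
        induction z using TensorProduct.induction_on with
        | zero => simp
        | add p q hp hq => simp only [map_add, TensorProduct.tmul_add, hp, hq]
        | tmul c e => simp
    rw [nat, cl_cl]
    exact eq_zero_of_cover m u N₀.mkQ x ((hN x).1 hx) _ _
  have hex : Function.Exact (N.subtype.lTensor B) (ψ.lTensor B) := by
    apply Module.Flat.lTensor_exact
    rw [LinearMap.exact_iff, hker, Submodule.range_subtype]
  exact (hex _).1 hz

/-- The global functions as an algebra over the base ring. -/
noncomputable abbrev algΓ (G : Over (Spec (CommRingCat.of R))) : Algebra R Γ(G.left, ⊤) :=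
  (((Scheme.ΓSpecIso (CommRingCat.of R)).inv ≫ G.hom.appTop).hom).toAlgebra

section Functions

attribute [local instance] algΓ

omit [GrpObj G] in
theorem pullFn_commutes {B : Type u} [CommRing B] [Algebra R B] (g : VecGrp.pt R B ⟶ G) :
    ((Scheme.ΓSpecIso (CommRingCat.of R)).inv ≫ G.hom.appTop) ≫
      g.left.appTop ≫ (Scheme.ΓSpecIso (CommRingCat.of B)).hom = CommRingCat.ofHom (algebraMap R B) := by
  have e : G.hom.appTop ≫ g.left.appTop = (Spec.map (CommRingCat.ofHom (algebraMap R B))).appTop := by
    rw [← Scheme.Hom.comp_appTop, Over.w g]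
    rfl
  rw [Category.assoc, ← Category.assoc G.hom.appTop, e, Scheme.ΓSpecIso_naturality, Iso.inv_hom_id_assoc]

/-- The values of the global functions at a point. -/
noncomputable def fn {B : Type u} [CommRing B] [Algebra R B] (g : VecGrp.pt R B ⟶ G) :
    Γ(G.left, ⊤) →ₐ[R] B :=
  AlgHom.mk (g.left.appTop ≫ (Scheme.ΓSpecIso (CommRingCat.of B)).hom).hom fun r =>
    congr($(pullFn_commutes g) r)

omit [GrpObj G] in
theorem fn_ptMap {B B' : Type u} [CommRing B] [Algebra R B] [CommRing B'] [Algebra R B'] (φ : B →ₐ[R] B')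
    (g : VecGrp.pt R B ⟶ G) : fn (VecGrp.ptMap φ ≫ g) = φ.comp (fn g) := by
  apply AlgHom.coe_ringHom_injective
  show ((VecGrp.ptMap φ ≫ g).left.appTop ≫ _).hom = _
  rw [Over.comp_left, Scheme.Hom.comp_appTop, VecGrp.ptMap_left, Category.assoc, Scheme.ΓSpecIso_naturality]
  rfl

omit [GrpObj G] in
/-- Functions are the equalizer of the two pullbacks to a cover of the double fibre product. -/
theorem exists_exact [QuasiSeparated G.hom] {B : Type u} [CommRing B] [Algebra R B] (u : VecGrp.pt R B ⟶ G)
    [Surjective u.left] [Flat u.left] :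
    Function.Injective (fn u) ∧ ∃ (C : Type u) (_ : CommRing C) (_ : Algebra R C) (ia a : B →ₐ[R] C),
      ia.toRingHom.FaithfullyFlat ∧ VecGrp.ptMap ia ≫ u = VecGrp.ptMap a ≫ u ∧
      Function.Exact (fn u).toLinearMap (ia.toLinearMap - a.toLinearMap) := by
  haveI : QuasiSeparatedSpace G.left := quasiSeparatedSpace_of_quasiSeparated G.hom
  haveI : CompactSpace (VecGrp.pt R B).left := inferInstanceAs (CompactSpace (Spec (CommRingCat.of B)))
  haveI : QuasiCompact u.left := inferInstance
  let w : Spec (CommRingCat.of B) ⟶ G.left := u.left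
  haveI : QuasiCompact w := ‹QuasiCompact u.left›
  haveI : Surjective w := ‹Surjective u.left›
  haveI : Flat w := ‹Flat u.left›
  let A1 : Scheme.{u} := Spec (CommRingCat.of (Polynomial (ULift.{u} ℤ)))
  have hev : ∀ (b : B), ∃ f : Spec (CommRingCat.of B) ⟶ A1,
      (Scheme.ΓSpecIso (CommRingCat.of B)).hom (f.appTop ((Scheme.ΓSpecIso _).inv Polynomial.X)) = b := by
    intro b
    refine ⟨Spec.map (CommRingCat.ofHom
      (Polynomial.eval₂RingHom ((Int.castRingHom B).comp ULift.ringEquiv.toRingHom) b)), ?_⟩
    rw [← CommRingCat.comp_apply, ← CommRingCat.comp_apply, Scheme.ΓSpecIso_naturality, Iso.inv_hom_id_assoc]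
    simp
  refine ⟨?_, ?_⟩
  · intro s t h
    let φ : Γ(G.left, ⊤) → (G.left ⟶ A1) := fun s => G.left.toSpecΓ ≫ Spec.map (CommRingCat.ofHom
      (Polynomial.eval₂RingHom ((Int.castRingHom _).comp ULift.ringEquiv.toRingHom) s))
    have hφ : ∀ s, (φ s).appTop ((Scheme.ΓSpecIso _).inv Polynomial.X) = s := by
      intro s
      simp only [φ, Scheme.Hom.comp_appTop, CommRingCat.comp_apply]
      rw [← CommRingCat.comp_apply, ← CommRingCat.comp_apply, Scheme.toSpecΓ_appTop, ← Category.assoc, Category.assoc,
        Scheme.ΓSpecIso_naturality, Iso.inv_hom_id_assoc]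
      simp
    rw [← hφ s, ← hφ t]
    suffices φ s = φ t by rw [this]
    apply (cancel_epi w).1
    simp only [φ]
    rw [Scheme.toSpecΓ_naturality_assoc, Scheme.toSpecΓ_naturality_assoc, ← Spec.map_comp, ← Spec.map_comp]
    congr 1
    congr 1
    apply CommRingCat.hom_ext
    apply Polynomial.ringHom_ext
    · intro r
      obtain ⟨n, rfl⟩ : ∃ n : ℤ, (ULift.ringEquiv.{0, u}.symm n) = r := ⟨r.down, rfl⟩
      simp
    · simp
      exact (Scheme.ΓSpecIso (CommRingCat.of B)).commRingCatIsoToRingEquiv.injective h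
  haveI : CompactSpace ↑(pullback w w) := QuasiCompact.compactSpace_of_compactSpace (pullback.fst w w)
  obtain ⟨C, p, hs, hf⟩ := exists_affine_cover (pullback w w)
  haveI : QuasiSeparatedSpace ↑(pullback w w) := quasiSeparatedSpace_of_quasiSeparated (pullback.fst w w)
  haveI : QuasiCompact p := inferInstance
  let i : CommRingCat.of B ⟶ C := Spec.preimage (p ≫ pullback.fst w w)
  let q : CommRingCat.of B ⟶ C := Spec.preimage (p ≫ pullback.snd w w)
  letI : Algebra R C := (i.hom.comp (algebraMap R B)).toAlgebra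
  have hi : Spec.map i = p ≫ pullback.fst w w := Spec.map_preimage _
  have hq : Spec.map q = p ≫ pullback.snd w w := Spec.map_preimage _
  have he : CommRingCat.ofHom (algebraMap R B) ≫ i = CommRingCat.ofHom (algebraMap R B) ≫ q := by
    apply Spec.map_injective
    have eu : w ≫ G.hom = Spec.map (CommRingCat.ofHom (algebraMap R B)) := Over.w u
    rw [Spec.map_comp, Spec.map_comp, hi, hq, ← eu, Category.assoc, Category.assoc, pullback.condition_assoc]
  let ia : B →ₐ[R] C := AlgHom.mk i.hom fun r => rfl
  let a : B →ₐ[R] C := AlgHom.mk q.hom fun r => (congr($he r)).symm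
  have hpt : VecGrp.ptMap ia ≫ u = VecGrp.ptMap a ≫ u := by
    apply Over.OverMorphism.ext
    show Spec.map i ≫ w = Spec.map q ≫ w
    rw [hi, hq, Category.assoc, Category.assoc, pullback.condition]
  refine ⟨C, inferInstance, inferInstance, ia, a, ?_, hpt, ?_⟩
  · haveI : Surjective (Spec.map i) := by rw [hi]; infer_instance
    haveI : Flat (Spec.map i) := by rw [hi]; infer_instance
    exact (flat_and_surjective_SpecMap_iff i).1 ⟨‹_›, ‹_›⟩
  intro b
  constructor
  · intro hb
    have hb' : i.hom b = q.hom b := sub_eq_zero.1 hb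
    let ev : CommRingCat.of (Polynomial (ULift.{u} ℤ)) ⟶ CommRingCat.of B := CommRingCat.ofHom
      (Polynomial.eval₂RingHom ((Int.castRingHom B).comp ULift.ringEquiv.toRingHom) b)
    have e1 : ev ≫ i = ev ≫ q := by
      apply CommRingCat.hom_ext
      apply Polynomial.ringHom_ext
      · intro r; simp [ev]
      · simpa [ev] using hb'
    have e2 : pullback.fst w w ≫ Spec.map ev = pullback.snd w w ≫ Spec.map ev := by
      apply (cancel_epi p).1
      rw [← Category.assoc, ← Category.assoc, ← hi, ← hq, ← Spec.map_comp, ← Spec.map_comp, e1]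
    let f : G.left ⟶ A1 := EffectiveEpi.desc w (Spec.map ev) fun g₁ g₂ h => by
      rw [← pullback.lift_fst g₁ g₂ h, Category.assoc, e2, pullback.lift_snd_assoc]
    refine ⟨f.appTop ((Scheme.ΓSpecIso _).inv Polynomial.X), ?_⟩
    show (Scheme.ΓSpecIso (CommRingCat.of B)).hom (w.appTop (f.appTop ((Scheme.ΓSpecIso _).inv Polynomial.X))) = b
    rw [← CommRingCat.comp_apply f.appTop w.appTop, ← Scheme.Hom.comp_appTop, EffectiveEpi.fac,
      ← CommRingCat.comp_apply, ← CommRingCat.comp_apply, Scheme.ΓSpecIso_naturality, Iso.inv_hom_id_assoc]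
    simp [ev]
  · rintro ⟨s, rfl⟩
    show ia (fn u s) - a (fn u s) = 0
    rw [← AlgHom.comp_apply, ← AlgHom.comp_apply, ← fn_ptMap, ← fn_ptMap, hpt, sub_self]

/-- Over any base, a finitely generated submodule of a flat module lies in a finitely generated stable submodule
when the global functions of the group are projective. -/
theorem exists_fg_stable_of_projective [QuasiCompact G.hom] [QuasiSeparated G.hom] [Flat G.hom]
    [Module.Projective R Γ(G.left, ⊤)] [Module.Flat R E] (M : Submodule R E) (hM : M.FG) :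
    ∃ N : Submodule R E, M ≤ N ∧ N.FG ∧
      ∀ (B : Type u) [CommRing B] [Algebra R B] (g : VecGrp.pt R B ⟶ G) (x : E), x ∈ N →
        m.ρ B g ((1 : B) ⊗ₜ[R] x) ∈ LinearMap.range (N.subtype.baseChange B) := by
  classical
  obtain ⟨B, _, _, u, _, _, _⟩ := exists_cover G
  obtain ⟨hinj, C, _, _, ia, a, hff, hpt, hex⟩ := exists_exact u
  haveI : Module.Flat R C := by
    letI : Algebra B C := ia.toRingHom.toAlgebra
    haveI : IsScalarTower R B C := IsScalarTower.of_algebraMap_eq fun r => (ia.commutes r).symm
    haveI : Module.FaithfullyFlat B C := hff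
    exact Module.Flat.trans R B C
  let P : Γ(G.left, ⊤) →ₗ[R] B := (fn u).toLinearMap
  let d : B →ₗ[R] C := ia.toLinearMap - a.toLinearMap
  have hJ : Function.Injective (P.rTensor E) := Module.Flat.rTensor_preserves_injective_linearMap P hinj
  have hlift : ∀ x, cl m u x ∈ LinearMap.range (P.rTensor E) := fun x => by
    refine (Module.Flat.rTensor_exact E hex _).1 ?_
    rw [LinearMap.rTensor_sub, LinearMap.sub_apply, sub_eq_zero]
    show VecGrp.Wmap ia (cl m u x) = VecGrp.Wmap a (cl m u x)
    rw [cl_apply, ρ_naturality, ρ_naturality, hpt]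
  let zl : E →ₗ[R] Γ(G.left, ⊤) ⊗[R] E :=
    (LinearEquiv.ofInjective (P.rTensor E) hJ).symm.toLinearMap ∘ₗ (cl m u).codRestrict _ hlift
  have hzl : ∀ x, P.rTensor E (zl x) = cl m u x := fun x =>
    congrArg Subtype.val ((LinearEquiv.ofInjective (P.rTensor E) hJ).apply_symm_apply ⟨cl m u x, hlift x⟩)
  have hg : ∀ (B' : Type u) [CommRing B'] [Algebra R B'] (g : VecGrp.pt R B' ⟶ G) (x : E),
      m.ρ B' g ((1 : B') ⊗ₜ[R] x) = (fn g).toLinearMap.rTensor E (zl x) := by
    intro B' _ _ g x
    obtain ⟨D, _, _, ib, b, hffD, he⟩ := exists_lift u g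
    apply Wmap_injective ib hffD
    rw [ρ_naturality, he, ← ρ_naturality, ← cl_apply, ← hzl]
    show b.toLinearMap.rTensor E _ = ib.toLinearMap.rTensor E _
    rw [← LinearMap.rTensor_comp_apply, ← LinearMap.rTensor_comp_apply]
    show (b.comp (fn u)).toLinearMap.rTensor E _ = (ib.comp (fn g)).toLinearMap.rTensor E _
    rw [← fn_ptMap, ← fn_ptMap, he]
  -- coordinates
  obtain ⟨ib, hib⟩ := Module.projective_def'.1 (inferInstance : Module.Projective R Γ(G.left, ⊤))
  let co : Γ(G.left, ⊤) → Γ(G.left, ⊤) →ₗ[R] R := fun k => Finsupp.lapply k ∘ₗ ib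
  let ev : Γ(G.left, ⊤) → Γ(G.left, ⊤) ⊗[R] E →ₗ[R] E := fun k =>
    (TensorProduct.lid R E).toLinearMap ∘ₗ (co k).rTensor E
  have hco : ∀ z : Γ(G.left, ⊤) ⊗[R] E, ∃ F : Finset Γ(G.left, ⊤), z = ∑ k ∈ F, k ⊗ₜ[R] ev k z := by
    intro z
    suffices h : ∃ F₀ : Finset Γ(G.left, ⊤), ∀ F, F₀ ⊆ F → z = ∑ k ∈ F, k ⊗ₜ[R] ev k z by
      obtain ⟨F₀, h⟩ := h
      exact ⟨F₀, h F₀ subset_rfl⟩
    induction z using TensorProduct.induction_on with
    | zero => exact ⟨∅, fun F _ => by simp⟩
    | add p q hp hq =>
      obtain ⟨F₁, h₁⟩ := hp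
      obtain ⟨F₂, h₂⟩ := hq
      refine ⟨F₁ ∪ F₂, fun F hF => ?_⟩
      simp only [map_add, TensorProduct.tmul_add, Finset.sum_add_distrib,
        ← h₁ F (Finset.union_subset_left hF), ← h₂ F (Finset.union_subset_right hF)]
    | tmul y e =>
      refine ⟨(ib y).support, fun F hF => ?_⟩
      have h3 := congr($hib y)
      simp only [LinearMap.comp_apply, LinearMap.id_apply] at h3
      conv_lhs => rw [← h3, Finsupp.linearCombination_apply,
        Finsupp.sum_of_support_subset _ hF _ (by simp), TensorProduct.sum_tmul]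
      refine Finset.sum_congr rfl fun k _ => ?_
      simp [ev, co, TensorProduct.smul_tmul]
  choose F hF using fun x => hco (zl x)
  obtain ⟨S, hS⟩ := hM
  let N : Submodule R E := Submodule.span R ↑(S.biUnion fun x => (F x).image fun k => ev k (zl x))
  have hzS : ∀ x ∈ S, N.mkQ.lTensor Γ(G.left, ⊤) (zl x) = 0 := by
    intro x hx
    rw [hF x, map_sum]
    refine Finset.sum_eq_zero fun k hk => ?_
    rw [LinearMap.lTensor_tmul, Submodule.mkQ_apply, (Submodule.Quotient.mk_eq_zero N).2 (Submodule.subset_span
      (Finset.mem_biUnion.2 ⟨x, hx, Finset.mem_image_of_mem _ hk⟩)), TensorProduct.tmul_zero]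
  have hMN : M ≤ N := by
    rw [← hS, Submodule.span_le]
    intro x hx
    have h1 := hg R 1 x
    rw [map_one, LinearEquiv.coe_one, id_eq, hF x, map_sum] at h1
    have h2 := congrArg (TensorProduct.lid R E) h1
    simp only [TensorProduct.lid_tmul, one_smul, map_sum, LinearMap.rTensor_tmul] at h2
    rw [h2]
    exact Submodule.sum_mem _ fun k hk => Submodule.smul_mem _ _ (Submodule.subset_span
      (Finset.mem_biUnion.2 ⟨x, hx, Finset.mem_image_of_mem _ hk⟩))
  let ψ : E →ₗ[R] Γ(G.left, ⊤) ⊗[R] (E ⧸ N) := N.mkQ.lTensor _ ∘ₗ zl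
  have hψ : N ≤ LinearMap.ker ψ := by
    rw [Submodule.span_le]
    intro e he
    obtain ⟨x, hx, he⟩ := Finset.mem_biUnion.1 he
    obtain ⟨k, -, rfl⟩ := Finset.mem_image.1 he
    suffices h0 : ψ.lTensor Γ(G.left, ⊤) (zl x) = 0 by
      show ψ (ev k (zl x)) = 0
      have hnat : ∀ w : Γ(G.left, ⊤) ⊗[R] E, ψ (ev k w) = (TensorProduct.lid R _) ((co k).rTensor _ (ψ.lTensor _ w)) := by
        intro w
        induction w using TensorProduct.induction_on with
        | zero => simp
        | add p q hp hq => simp only [map_add, hp, hq]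
        | tmul y e => simp [ev]
      rw [hnat, h0, map_zero, map_zero]
    let J : (Γ(G.left, ⊤) ⊗[R] Γ(G.left, ⊤)) →ₗ[R] B ⊗[R] B := P.rTensor B ∘ₗ P.lTensor _
    have hJ2 : Function.Injective J :=
      (Module.Flat.rTensor_preserves_injective_linearMap P hinj).comp
        (Module.Flat.lTensor_preserves_injective_linearMap P hinj)
    let mu := fn ((VecGrp.ptMap Algebra.TensorProduct.includeRight ≫ u) *
      (VecGrp.ptMap (Algebra.TensorProduct.includeLeft (S := R) (A := B) (B := B)) ≫ u))
    have hμ : ∀ s, mu.toLinearMap s ∈ LinearMap.range J := by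
      intro s
      have h1 : d.rTensor B (mu.toLinearMap s) = 0 := by
        rw [LinearMap.rTensor_sub, LinearMap.sub_apply, sub_eq_zero]
        show (Algebra.TensorProduct.map ia (AlgHom.id R B)) (mu s) = (Algebra.TensorProduct.map a (AlgHom.id R B)) (mu s)
        rw [← AlgHom.comp_apply, ← AlgHom.comp_apply, ← fn_ptMap, ← fn_ptMap, MonObj.comp_mul, MonObj.comp_mul,
          ← Category.assoc, ← Category.assoc, ← Category.assoc, ← Category.assoc]
        have hR : ∀ f : B →ₐ[R] C, VecGrp.ptMap (Algebra.TensorProduct.map f (AlgHom.id R B)) ≫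
            VecGrp.ptMap Algebra.TensorProduct.includeRight = VecGrp.ptMap Algebra.TensorProduct.includeRight := by
          intro f
          apply Over.OverMorphism.ext
          simp only [Over.comp_left, VecGrp.ptMap_left, LieS.specMap_comp]
          congr 2
          ext b
          simp
        have hL : ∀ f : B →ₐ[R] C, VecGrp.ptMap (Algebra.TensorProduct.map f (AlgHom.id R B)) ≫
            VecGrp.ptMap (Algebra.TensorProduct.includeLeft (S := R) (A := B) (B := B)) =
            VecGrp.ptMap (Algebra.TensorProduct.includeLeft (S := R) (A := C) (B := B)) ≫ VecGrp.ptMap f := by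
          intro f
          apply Over.OverMorphism.ext
          simp only [Over.comp_left, VecGrp.ptMap_left, LieS.specMap_comp]
          congr 2
        rw [hR, hR, hL, hL, Category.assoc, Category.assoc, hpt]
      obtain ⟨w, hw⟩ := (Module.Flat.rTensor_exact B hex _).1 h1
      have h2 : d.lTensor Γ(G.left, ⊤) w = 0 := by
        apply Module.Flat.rTensor_preserves_injective_linearMap (M := C) P hinj
        rw [map_zero]
        have hsw : P.rTensor C (d.lTensor _ w) = d.lTensor B (P.rTensor B w) := by
          rw [← LinearMap.comp_apply, ← LinearMap.comp_apply, LinearMap.rTensor_comp_lTensor,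
            LinearMap.lTensor_comp_rTensor]
        rw [hsw, hw, LinearMap.lTensor_sub, LinearMap.sub_apply, sub_eq_zero]
        show (Algebra.TensorProduct.map (AlgHom.id R B) ia) (mu s) = (Algebra.TensorProduct.map (AlgHom.id R B) a) (mu s)
        rw [← AlgHom.comp_apply, ← AlgHom.comp_apply, ← fn_ptMap, ← fn_ptMap, MonObj.comp_mul, MonObj.comp_mul,
          ← Category.assoc, ← Category.assoc, ← Category.assoc, ← Category.assoc]
        have hR : ∀ f : B →ₐ[R] C, VecGrp.ptMap (Algebra.TensorProduct.map (AlgHom.id R B) f) ≫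
            VecGrp.ptMap Algebra.TensorProduct.includeRight =
            VecGrp.ptMap (Algebra.TensorProduct.includeRight (A := B) (B := C)) ≫ VecGrp.ptMap f := by
          intro f
          apply Over.OverMorphism.ext
          simp only [Over.comp_left, VecGrp.ptMap_left, LieS.specMap_comp]
          congr 2
        have hL : ∀ f : B →ₐ[R] C, VecGrp.ptMap (Algebra.TensorProduct.map (AlgHom.id R B) f) ≫
            VecGrp.ptMap (Algebra.TensorProduct.includeLeft (S := R) (A := B) (B := B)) =
            VecGrp.ptMap (Algebra.TensorProduct.includeLeft (S := R) (A := B) (B := C)) := by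
          intro f
          apply Over.OverMorphism.ext
          simp only [Over.comp_left, VecGrp.ptMap_left, LieS.specMap_comp]
          congr 2
          ext b
          simp
        rw [hR, hR, hL, hL, Category.assoc, Category.assoc, hpt]
      obtain ⟨v, hv⟩ := (Module.Flat.lTensor_exact Γ(G.left, ⊤) hex _).1 h2
      exact ⟨v, by rw [LinearMap.comp_apply, hv, hw]⟩
    let δ : Γ(G.left, ⊤) →ₗ[R] Γ(G.left, ⊤) ⊗[R] Γ(G.left, ⊤) :=
      (LinearEquiv.ofInjective J hJ2).symm.toLinearMap ∘ₗ mu.toLinearMap.codRestrict _ hμ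
    have hδ : ∀ s, J (δ s) = mu s := fun s =>
      congrArg Subtype.val ((LinearEquiv.ofInjective J hJ2).apply_symm_apply ⟨mu s, hμ s⟩)
    let T := (TensorProduct.assoc R Γ(G.left, ⊤) Γ(G.left, ⊤) E).symm (zl.lTensor _ (zl x))
    have hT : T = δ.rTensor E (zl x) := by
      apply Module.Flat.rTensor_preserves_injective_linearMap (M := E) J hJ2
      rw [← LinearMap.rTensor_comp_apply, show J ∘ₗ δ = mu.toLinearMap from LinearMap.ext hδ, ← hg, ← cl_cl]
      rw [← hzl x]
      simp only [T]
      induction zl x using TensorProduct.induction_on with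
      | zero => simp
      | add p q hp hq => simp only [map_add, hp, hq]
      | tmul s e =>
        simp only [LinearMap.lTensor_tmul, LinearMap.rTensor_tmul]
        rw [← hzl e]
        induction zl e using TensorProduct.induction_on with
        | zero => simp
        | add p q hp hq => simp only [map_add, TensorProduct.tmul_add, hp, hq]
        | tmul t e' => simp [J]
    have h3 : N.mkQ.lTensor (Γ(G.left, ⊤) ⊗[R] Γ(G.left, ⊤)) T = 0 := by
      rw [hT, ← LinearMap.comp_apply, LinearMap.lTensor_comp_rTensor, ← LinearMap.rTensor_comp_lTensor,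
        LinearMap.comp_apply, hzS x hx, map_zero]
    apply (TensorProduct.assoc R Γ(G.left, ⊤) Γ(G.left, ⊤) (E ⧸ N)).symm.injective
    rw [map_zero, ← h3]
    simp only [T, ψ]
    rw [LinearMap.lTensor_comp_apply]
    induction zl.lTensor Γ(G.left, ⊤) (zl x) using TensorProduct.induction_on with
    | zero => simp
    | add p q hp hq => simp only [map_add, hp, hq]
    | tmul s w =>
      induction w using TensorProduct.induction_on with
      | zero => simp
      | add p q hp hq => simp only [map_add, TensorProduct.tmul_add, hp, hq]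
      | tmul t e => simp
  refine ⟨N, hMN, Submodule.fg_span (Finset.finite_toSet _), fun B' _ _ g x hx => ?_⟩
  rw [mem_range_baseChange, hg]
  show N.mkQ.lTensor B' _ = 0
  rw [← LinearMap.comp_apply, LinearMap.lTensor_comp_rTensor, ← LinearMap.rTensor_comp_lTensor, LinearMap.comp_apply,
    show N.mkQ.lTensor Γ(G.left, ⊤) (zl x) = 0 from hψ hx, map_zero]

end Functions

end Groth.Agent.Deform.GModStable
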