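import Groth.Agent.S16613
import Groth.Agent.S16611
import Groth.Agent.Dual.Etale
import Groth.Agent.H23.FinCondSch

/-!
# Locally split tori over an irreducible base are split

The homomorphisms from a split torus form a locally constant scheme, whose sections over an irreducible base are
determined at, and extend from, the generic point.
-/

set_option autoImplicit false
set_option linter.style.haveILetI false
set_option maxHeartbeats 400000

universe u

open CategoryTheory CategoryTheory.Limits MonoidalCategory CartesianMonoidalCategory MonObj GrpObj AlgebraicGeometry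

attribute [local instance] CategoryTheory.Hom.monoid CategoryTheory.Hom.group

namespace Groth.Agent.Deform.LocSplitGlobal

open GrpSchLib.HomMonoLocus (Inj)

variable {S : Scheme.{u}}

/-- A connected scheme with domains as local rings, locally Noetherian, is irreducible. -/
theorem irreducibleSpace_of_domain [ConnectedSpace ↥S] [IsLocallyNoetherian S]
    (h : ∀ x : ↥S, IsDomain (S.presheaf.stalk x)) : IrreducibleSpace ↥S := by
  refine { isPreirreducible_univ := ?_, toNonempty := inferInstance }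
  rintro A B hA hB ⟨a, -, ha⟩ ⟨b, -, hb⟩
  have hC : IsOpen (closure A) := by
    rw [isOpen_iff_forall_mem_open]
    intro x hx
    haveI := h x
    obtain ⟨W, hxW, hW⟩ := H23.FinCondSch.exists_integral_nhd (X := S) x
    haveI := hW
    refine ⟨W, fun y hy => ?_, W.2, hxW⟩
    rw [mem_closure_iff] at hx ⊢
    intro O hO hyO
    obtain ⟨x', hx'W, hx'A⟩ := hx W W.2 hxW
    obtain ⟨z, -, hzO, hzA⟩ := (PreirreducibleSpace.isPreirreducible_univ (X := ↥(W : Scheme.{u})))
      (W.ι ⁻¹' O) (W.ι ⁻¹' A) (hO.preimage W.ι.continuous) (hA.preimage W.ι.continuous)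
      ⟨⟨y, hy⟩, trivial, hyO⟩ ⟨⟨x', hx'W⟩, trivial, hx'A⟩
    exact ⟨W.ι z, hzO, hzA⟩
  have hu : closure A = Set.univ := IsClopen.eq_univ ⟨isClosed_closure, hC⟩ ⟨a, subset_closure ha⟩
  obtain ⟨z, hz⟩ := mem_closure_iff.mp (show b ∈ closure A by rw [hu]; trivial) B hB hb
  exact ⟨z, trivial, hz.2, hz.1⟩

theorem genericPoint_mem [IrreducibleSpace ↥S] (U : S.Opens) {x : S} (hx : x ∈ U) : genericPoint ↥S ∈ U :=
  ((genericPoint_spec ↥S).specializes (Set.mem_univ x)).mem_open U.2 hx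

/-- Two morphisms from an open of an irreducible scheme into a constant scheme agreeing at the generic point agree. -/
theorem eq_of_const [IrreducibleSpace ↥S] {W U : S.Opens} (hle : W ≤ U) (I : Type u)
    (a b : (W : Scheme.{u}) ⟶ ∐ fun _ : I => (U : Scheme.{u}))
    (ha : a ≫ Sigma.desc (fun _ : I => 𝟙 (U : Scheme.{u})) = S.homOfLE hle)
    (hb : b ≫ Sigma.desc (fun _ : I => 𝟙 (U : Scheme.{u})) = S.homOfLE hle)
    (hη : genericPoint ↥S ∈ W) (h : a ⟨_, hη⟩ = b ⟨_, hη⟩) : a = b := by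
  obtain ⟨⟨i, y⟩, hy⟩ := (sigmaMk (fun _ : I => (U : Scheme.{u}))).surjective (a ⟨_, hη⟩)
  rw [sigmaMk_mk] at hy
  have key : ∀ c : (W : Scheme.{u}) ⟶ ∐ fun _ : I => (U : Scheme.{u}),
      c ⟨_, hη⟩ = Sigma.ι (fun _ : I => (U : Scheme.{u})) i y →
      c ≫ Sigma.desc (fun _ : I => 𝟙 (U : Scheme.{u})) = S.homOfLE hle →
      c = S.homOfLE hle ≫ Sigma.ι (fun _ : I => (U : Scheme.{u})) i := by
    intro c hc hcd
    have hall : ∀ x, c x ∈ Set.range (Sigma.ι (fun _ : I => (U : Scheme.{u})) i) := by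
      intro x
      obtain ⟨⟨j, z⟩, hz⟩ := (sigmaMk (fun _ : I => (U : Scheme.{u}))).surjective (c x)
      rw [sigmaMk_mk] at hz
      have hmem : genericPoint ↥S ∈ W.ι ''ᵁ (c ⁻¹ᵁ (Sigma.ι (fun _ : I => (U : Scheme.{u})) j).opensRange) :=
        genericPoint_mem _ (x := W.ι x) ⟨x, ⟨z, hz⟩, rfl⟩
      obtain ⟨w, ⟨z', hz'⟩, hw⟩ := hmem
      rw [show w = ⟨_, hη⟩ from Subtype.ext hw, hc] at hz'
      obtain rfl : j = i := by
        have h1 := (sigmaMk (fun _ : I => (U : Scheme.{u}))).injective (a₁ := ⟨j, z'⟩) (a₂ := ⟨i, y⟩)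
          (by rw [sigmaMk_mk, sigmaMk_mk]; exact hz')
        exact congrArg Sigma.fst h1
      exact ⟨z, hz⟩
    let l := IsOpenImmersion.lift (Sigma.ι (fun _ : I => (U : Scheme.{u})) i) c (by rintro _ ⟨x, rfl⟩; exact hall x)
    have hl : l ≫ Sigma.ι (fun _ : I => (U : Scheme.{u})) i = c := IsOpenImmersion.lift_fac _ _ _
    have hl' : l = S.homOfLE hle := by
      rw [← hcd, ← hl, Category.assoc, Sigma.ι_desc, Category.comp_id]
    rw [← hl, hl']
  rw [key a hy.symm ha, key b (h.symm.trans hy.symm) hb]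

/-- Two morphisms from an open of an irreducible scheme into a Zariski-locally constant scheme agreeing at the
generic point agree. -/
theorem eq_of_twConst [IrreducibleSpace ↥S] {A : Over S} {W U : S.Opens} (hle : W ≤ U) {I : Type u}
    (e : Red.bc U.ι A ≅ TwC.const (U : Scheme.{u}) I) (a b : (W : Scheme.{u}) ⟶ A.left)
    (ha : a ≫ A.hom = W.ι) (hb : b ≫ A.hom = W.ι) (hη : genericPoint ↥S ∈ W) (h : a ⟨_, hη⟩ = b ⟨_, hη⟩) : a = b := by
  let a' : (W : Scheme.{u}) ⟶ (Red.bc U.ι A).left :=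
    pullback.lift a (S.homOfLE hle) (by rw [ha, Scheme.homOfLE_ι])
  let b' : (W : Scheme.{u}) ⟶ (Red.bc U.ι A).left :=
    pullback.lift b (S.homOfLE hle) (by rw [hb, Scheme.homOfLE_ι])
  haveI : IsOpenImmersion (pullback.fst A.hom U.ι) := inferInstance
  have hpt : a' ⟨_, hη⟩ = b' ⟨_, hη⟩ := (pullback.fst A.hom U.ι).isOpenEmbedding.injective (by
    rw [← Scheme.Hom.comp_apply, ← Scheme.Hom.comp_apply, pullback.lift_fst, pullback.lift_fst]
    exact h)
  have key := eq_of_const hle I (a' ≫ e.hom.left) (b' ≫ e.hom.left)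
    (by
      rw [Category.assoc]
      refine (congrArg (a' ≫ ·) (Over.w e.hom)).trans ?_
      exact pullback.lift_snd _ _ _)
    (by
      rw [Category.assoc]
      refine (congrArg (b' ≫ ·) (Over.w e.hom)).trans ?_
      exact pullback.lift_snd _ _ _)
    hη (by rw [Scheme.Hom.comp_apply, Scheme.Hom.comp_apply, hpt])
  haveI : IsIso e.hom.left := ((Over.forget _).mapIso e).isIso_hom
  have h2 := congrArg (· ≫ pullback.fst A.hom U.ι) ((cancel_mono e.hom.left).mp key)
  exact ((pullback.lift_fst _ _ _).symm.trans h2).trans (pullback.lift_fst _ _ _)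

/-- Every point over the generic point extends to each open trivialising a locally constant scheme. -/
theorem exists_section [IrreducibleSpace ↥S] {A : Over S} {U : S.Opens} {I : Type u}
    (e : Red.bc U.ι A ≅ TwC.const (U : Scheme.{u}) I) (hη : genericPoint ↥S ∈ U) (α : A.left)
    (hα : A.hom α = genericPoint ↥S) :
    ∃ a : (U : Scheme.{u}) ⟶ A.left, a ≫ A.hom = U.ι ∧ a ⟨_, hη⟩ = α := by
  obtain ⟨z, hz1, hz2⟩ := Scheme.Pullback.exists_preimage_pullback (f := A.hom) (g := U.ι) α ⟨_, hη⟩ hα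
  obtain ⟨⟨i, y⟩, hy⟩ := (sigmaMk (fun _ : I => (U : Scheme.{u}))).surjective (e.hom.left z)
  rw [sigmaMk_mk] at hy
  let p := TwC.pt (U : Scheme.{u}) I i ≫ e.inv
  have hp : p.left ≫ pullback.snd A.hom U.ι = 𝟙 _ := Over.w p
  refine ⟨p.left ≫ pullback.fst A.hom U.ι, ?_, ?_⟩
  · rw [Category.assoc, pullback.condition, ← Category.assoc, hp]
    exact Category.id_comp _
  · have hyη : y = ⟨_, hη⟩ := by
      have h1 : Sigma.desc (fun _ : I => 𝟙 (U : Scheme.{u})) (e.hom.left z) = ⟨_, hη⟩ := by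
        rw [← Scheme.Hom.comp_apply]
        have h0 : e.hom.left ≫ Sigma.desc (fun _ : I => 𝟙 (U : Scheme.{u})) = pullback.snd A.hom U.ι := Over.w e.hom
        rw [h0]
        exact hz2
      rw [← hy, ← Scheme.Hom.comp_apply, Sigma.ι_desc] at h1
      exact h1
    subst hyη
    rw [Scheme.Hom.comp_apply]
    show pullback.fst A.hom U.ι ((Sigma.ι (fun _ : I => (U : Scheme.{u})) i ≫ e.inv.left) ⟨_, hη⟩) = α
    rw [Scheme.Hom.comp_apply, hy, ← Scheme.Hom.comp_apply e.hom.left, ← Over.comp_left, e.hom_inv_id]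
    exact hz1

theorem isMonHom_of_mul {X Y : Over S} [GrpObj X] [GrpObj Y] (v : X ⟶ Y)
    (h : ∀ (T : Over S) (a b : T ⟶ X), (a * b) ≫ v = a ≫ v * b ≫ v) : IsMonHom v :=
  { one_hom := by
      have h1 := h (𝟙_ (Over S)) 1 1
      rw [_root_.one_mul] at h1
      have h2 := left_eq_mul.mp h1
      simpa [MonObj.one_eq_one] using h2
    mul_hom := by
      rw [MonObj.mul_eq_mul, h, Hom.mul_def]
      congr 1 }

/-- A Zariski-locally split torus over an irreducible scheme is split. -/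
theorem isSplit [IrreducibleSpace ↥S] {T : Over S} [GrpObj T] (h : SubtorusJoin.IsLocSplit T) :
    ∃ r : ℕ, Red.IsSplitTorusWith (Fin r → ℤ) T := by
  classical
  let ξ : S := genericPoint ↥S
  obtain ⟨U₀, hη₀, r, hr⟩ := h ξ
  have hall : ∀ s : S, ∃ U : S.Opens, s ∈ U ∧ Red.IsSplitTorusWith (Fin r → ℤ) (Red.bc U.ι T) := by
    intro s
    obtain ⟨U, hs, r', hr'⟩ := h s
    have h1 := S16613.hasRank_of_open hr' (genericPoint_mem U hs)
    have h2 := S16613.hasRank_of_open hr hη₀
    obtain rfl : r' = r := le_antisymm (S16613.le_of_mono (𝟙 T) h1 h2) (S16613.le_of_mono (𝟙 T) h2 h1)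
    exact ⟨U, hs, hr'⟩
  choose U hU hsplit using hall
  let eG := fun s => (hsplit s).some
  let M := Fin r → ℤ
  let eH : ∀ s, Grp.mk (Red.bc (U s).ι (Red.DS S M)) ≅ Grp.mk (Red.DS (U s) M) :=
    fun s => Grp.mkIso' (DiagMaps.bcDS (U s).ι M)
  haveI : AddGroup.FG M := Module.Finite.iff_addGroup_fg.mp inferInstance
  obtain ⟨A, w, ⟨hw, -⟩, hA⟩ := Dual.exists_homs (H := Red.DS S M) (G := T) (fun s : ↥S => (U s).ι)
    (fun s => ⟨s, by rw [Scheme.Opens.range_ι]; exact hU s⟩) (fun _ => M) (fun _ => M) (fun _ => inferInstance) eH eG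
  choose e he using hA
  let i₀ : Dual.Idx.{u} M M := ⟨AddMonoidHom.id M⟩
  let p₀ := TwC.pt (U ξ : Scheme.{u}) (Dual.Idx.{u} M M) i₀ ≫ (e ξ).inv
  let a₀ : Over.mk (U ξ).ι ⟶ A := Over.homMk (p₀.left ≫ pullback.fst A.hom (U ξ).ι) (by
    rw [Category.assoc, pullback.condition, ← Category.assoc,
      show p₀.left ≫ pullback.snd A.hom (U ξ).ι = 𝟙 _ from Over.w p₀]
    exact Category.id_comp _)
  let α : A.left := a₀.left ⟨ξ, hU ξ⟩
  have hα : A.hom α = ξ := by
    show A.hom (a₀.left _) = ξ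
    rw [← Scheme.Hom.comp_apply, Over.w a₀]
    rfl
  choose a ha haη using fun s => exists_section (e s) (genericPoint_mem (U s) (hU s)) α hα
  let unitS : Over S := 𝟙_ (Over S)
  let v : ∀ s : ↥S, RepLocal.opOver unitS (U s) ⟶ A := fun s => Over.homMk (a s) (by
    rw [ha]
    exact (Category.comp_id _).symm)
  obtain ⟨σ, hσ⟩ := RepLocal.exists_glue_hom (T := unitS) U (fun x => ⟨x, hU x⟩) v fun s t => by
    refine Over.OverMorphism.ext ?_
    show S.homOfLE inf_le_left ≫ a s = S.homOfLE inf_le_right ≫ a t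
    refine eq_of_twConst (inf_le_left : U s ⊓ U t ≤ U s) (e s) _ _ (by rw [Category.assoc, ha, Scheme.homOfLE_ι])
      (by rw [Category.assoc, ha, Scheme.homOfLE_ι]) ⟨genericPoint_mem _ (hU s), genericPoint_mem _ (hU t)⟩ ?_
    rw [Scheme.Hom.comp_apply, Scheme.Hom.comp_apply]
    have e1 : ∀ {W V : S.Opens} (hle : W ≤ V) (x : (W : Scheme.{u})), S.homOfLE hle x = ⟨x.1, hle x.2⟩ :=
      fun hle x => by
        apply Subtype.ext
        exact congrArg (fun m : (_ : Scheme.{u}) ⟶ S => m x) (S.homOfLE_ι hle)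
    rw [e1, e1]
    exact (haη s).trans (haη t).symm
  have hvη : a ξ = a₀.left := eq_of_twConst le_rfl (e ξ) _ _ (ha ξ) (Over.w a₀) (hU ξ) ((haη ξ).trans rfl)
  let f : Red.DS S M ⟶ T := lift (𝟙 _) (toUnit _) ≫ (Red.DS S M ◁ σ) ≫ w
  have hf : ∀ (Y : Over S) (g : Y ⟶ Red.DS S M), g ≫ f = lift g (toUnit Y) ≫ (Red.DS S M ◁ σ) ≫ w := fun Y g => by
    rw [← Category.assoc, comp_lift, Category.comp_id, comp_toUnit]
  haveI : IsMonHom f := isMonHom_of_mul f fun Y g₁ g₂ => by
    rw [hf, hf, hf, lift_whiskerLeft_assoc, lift_whiskerLeft_assoc, lift_whiskerLeft_assoc]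
    exact hw Y g₁ g₂ _
  let g := (U ξ).ι
  have hmap : (Over.pullback g).map f = Dual.psiX (eH ξ) (eG ξ) i₀.down := by
    apply (DSPtsLib.theta_bijective g).1
    rw [← Category.id_comp ((Over.pullback g).map f), GrpSchLib.HomUnitLocus.theta_comp_map, hf]
    let P := (Over.map g).obj (Red.bc g (Red.DS S M))
    let t : P ⟶ Over.mk g := Over.homMk (pullback.snd (Red.DS S M).hom g) rfl
    let inc : Over.mk g ⟶ unitS := Over.homMk g (Category.comp_id _)
    have h1 : inc ≫ σ = a₀ := by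
      refine Over.OverMorphism.ext ?_
      show g ≫ σ.left = a₀.left
      rw [← hvη]
      exact congrArg (fun m => Over.Hom.left m) (hσ ξ)
    rw [lift_whiskerLeft_assoc, toUnit_unique (toUnit P) (t ≫ inc), Category.assoc, h1,
      ← lift_whiskerLeft_assoc, he ξ i₀ a₀ rfl]
    refine Over.OverMorphism.ext ?_
    rw [DSPtsLib.theta_left, Over.comp_left]
    have h2 : (lift (DSPtsLib.theta g (𝟙 (Red.bc g (Red.DS S M)))) t).left = 𝟙 _ := by
      apply pullback.hom_ext
      · refine (congrArg (fun m => Over.Hom.left m) (lift_fst (DSPtsLib.theta g (𝟙 (Red.bc g (Red.DS S M)))) t)).trans ?_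
        rw [DSPtsLib.theta_left]
        exact Category.id_comp _ |>.trans (Category.id_comp _).symm
      · exact (congrArg (fun m => Over.Hom.left m) (lift_snd (DSPtsLib.theta g (𝟙 (Red.bc g (Red.DS S M)))) t)).trans
          (Category.id_comp _).symm
    rw [h2]
    exact Category.id_comp _
  haveI : IsIso (Dual.psiX (eH ξ) (eG ξ) i₀.down) := by
    haveI : IsIso (eH ξ).hom.hom.hom := ((Grp.forget _).mapIso (eH ξ)).isIso_hom
    haveI : IsIso (eG ξ).inv.hom.hom := ((Grp.forget _).mapIso (eG ξ).symm).isIso_hom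
    rw [Dual.psiX, show i₀.down = AddMonoidHom.id M from rfl, DiagMaps.DSmap_id, Category.id_comp]
    infer_instance
  haveI : Mono ((Over.pullback g).map f).left := by
    rw [hmap]
    exact Over.mono_left_of_mono _
  have hT := S16613.isTorus_of_locSplit h
  have hDS : Red.IsTorus (Red.DS S M) := Deform.isTorus_of_split r ⟨Iso.refl _⟩
  obtain ⟨V, hVc, hV, hVt⟩ := GrpSchLib.HomSplitLocus.mono_locus (u := f)
    (Deform.isMultType_of_ft (Deform.isMultTypeFT_of_isTorus hDS)) (Deform.isMultTypeFT_of_isTorus hT)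
  have hinj : Inj f (S.fromSpecResidueField ξ) := by
    let l : Spec (S.residueField ξ) ⟶ U ξ := IsOpenImmersion.lift g (S.fromSpecResidueField ξ) (by
      rw [Scheme.range_fromSpecResidueField, Scheme.Opens.range_ι, Set.singleton_subset_iff]
      exact hU ξ)
    rw [← IsOpenImmersion.lift_fac g (S.fromSpecResidueField ξ) _]
    exact (GrpSchLib.HomMonoLocus.inj_of_mono ‹_›).comp l
  obtain ⟨l, hl⟩ := SplitQuot.exists_lift_univ (U := V) (Set.eq_univ_of_forall fun x => by
    by_contra hx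
    exact genericPoint_mem (⟨(V : Set S)ᶜ, hVc.isOpen_compl⟩ : S.Opens) hx ((hV ξ).mpr hinj))
  haveI : Mono f := SplitQuot.mono_of_inj f (by rw [← hl]; exact hVt.comp l)
  haveI : IsIso f := S16611.result hDS hT f fun t =>
    ⟨r, S16614.split_bc _ r ⟨Iso.refl _⟩, S16613.hasRank_of_open (hsplit t) (hU t)⟩
  exact ⟨r, ⟨(Grp.mkIso' (asIso f)).symm⟩⟩

end Groth.Agent.Deform.LocSplitGlobal
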