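import Groth.Agent.Deform.QuasiIsotrivial
import Groth.Agent.UnipComp.Max
import Groth.Agent.UnipExt.EtaleKer

/-!
# Groups of multiplicative type over a field from Hopf algebras, with a small import closure
-/

set_option autoImplicit false
set_option linter.style.haveILetI false

universe u

open CategoryTheory CategoryTheory.Limits MonoidalCategory CartesianMonoidalCategory MonObj GrpObj AlgebraicGeometry
open scoped TensorProduct
open Groth.Agent.GrpSchLib.AffineHopf (sp spIso spMap)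

namespace Groth.Agent.Deform.MultConst

theorem isPushout_of_surjective {O T U : Type u} [CommRing O] [CommRing T] [CommRing U] (ε : O →+* U) (ρ : O →+* T)
    (hε : Function.Surjective ε) (i : U →+* T ⧸ (RingHom.ker ε).map ρ)
    (hi : ∀ x, i (ε x) = Ideal.Quotient.mk _ (ρ x)) :
    IsPushout (CommRingCat.ofHom ε) (CommRingCat.ofHom ρ) (CommRingCat.ofHom i)
      (CommRingCat.ofHom (Ideal.Quotient.mk ((RingHom.ker ε).map ρ))) := by
  refine IsPushout.of_isColimit' ⟨by ext x; exact hi x⟩ (PushoutCocone.isColimitAux' _ fun s => ?_)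
  have hker : ∀ x ∈ (RingHom.ker ε).map ρ, s.inr.hom x = 0 := by
    refine fun x hx => (Ideal.map_le_iff_le_comap (K := RingHom.ker s.inr.hom)).2 (fun j hj => ?_) hx
    show s.inr.hom (ρ j) = 0
    have h : s.inl.hom (ε j) = s.inr.hom (ρ j) := congrArg (fun f => f.hom j) s.condition
    rw [show ε j = 0 from hj] at h
    exact h.symm.trans (map_zero _)
  refine ⟨CommRingCat.ofHom (Ideal.Quotient.lift _ s.inr.hom hker), ?_, ?_, fun {m} _ h2 => ?_⟩
  · ext x
    obtain ⟨y, rfl⟩ := hε x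
    show Ideal.Quotient.lift _ s.inr.hom hker (i (ε y)) = s.inl.hom (ε y)
    rw [hi]
    exact (congrArg (fun f => f.hom y) s.condition).symm
  · ext x; rfl
  · refine CommRingCat.hom_ext (RingHom.ext fun x => ?_)
    obtain ⟨x, rfl⟩ := Ideal.Quotient.mk_surjective (x : T ⧸ (RingHom.ker ε).map ρ)
    exact congrArg (fun f => f.hom x) h2

/-- A Hopf algebra over a field, diagonalisable over an algebraic closure, gives a group of multiplicative type. -/
theorem isMultTypeFT_of_const {k : Type u} [Field k] {A : Type u} [CommRing A] [HopfAlgebra k A]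
    [Algebra.FiniteType k A] (hA : SGA3b.IsMultTypeConst k A) : SGA3x.IsMultTypeFT (sp k A) := by
  let K := AlgebraicClosure k
  obtain ⟨M, _, ⟨e⟩⟩ := UnipComp.isDiag_of_span (K := K) (Q := K ⊗[k] A) fun x =>
    (UnipExt.span_groupLike_algClosure hA) ▸ Submodule.mem_top
  haveI : Algebra.FiniteType K (MonoidAlgebra K M) :=
    Algebra.FiniteType.equiv (inferInstance : Algebra.FiniteType K (K ⊗[k] A)) (e : _ ≃ₐ[K] _)
  haveI : Group.FG M := Group.fg_iff_monoid_fg.mpr ((MonoidAlgebra.finiteType_iff_fg (R := K)).mp inferInstance)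
  obtain ⟨N, iN, hN, ⟨cN⟩⟩ := QuasiIsotrivial.exists_small M
  let t : Spec (CommRingCat.of K) ⟶ Spec (CommRingCat.of k) := Spec.map (CommRingCat.ofHom (algebraMap k K))
  obtain ⟨b⟩ := GrpSchLib.AffineHopf.nonempty_bc_sp (R := k) K A
  obtain ⟨a⟩ := GrpSchLib.AffineHopf.nonempty_DS_iso K N
  let e' := b ≪≫ spIso ((QuasiIsotrivial.congrEquiv K cN).trans e.symm) ≪≫ a
  haveI : Flat t := (HasRingHomProperty.Spec_iff (P := @Flat)).mpr (RingHom.flat_algebraMap_iff.mpr inferInstance)
  haveI : Surjective t := ⟨fun x => ⟨(⊥ : PrimeSpectrum K), Subsingleton.elim (α := PrimeSpectrum k) _ x⟩⟩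
  refine ⟨_, t, inferInstance, inferInstance, fun V _ => ⟨t ⁻¹ᵁ V, (Set.toFinite _).isCompact, ?_⟩, fun s' => ?_⟩
  · exact Set.image_preimage_eq _ t.surjective
  · obtain ⟨c₁⟩ := GrpSchLib.MultTypeBC.bc_bc (⊤ : (Spec (CommRingCat.of K)).Opens).ι t (sp k A)
    obtain ⟨c₂⟩ := GrpSchLib.MultTypeBC.bc_iso (⊤ : (Spec (CommRingCat.of K)).Opens).ι e'
    obtain ⟨c₃⟩ := GrpSchLib.MultTypeBC.bc_DS (⊤ : (Spec (CommRingCat.of K)).Opens).ι N
    exact ⟨⊤, trivial, N, iN, hN, ⟨c₁.symm ≪≫ c₂ ≪≫ c₃⟩⟩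

theorem surjective_of_isClosedImmersion {R A C : Type u} [CommRing R] [CommRing A] [CommRing C] [Algebra R A]
    [Algebra R C] (φ : A →ₐ[R] C) (h : IsClosedImmersion (spMap φ).left) : Function.Surjective φ := by
  let ρ := CommRingCat.ofHom φ.toRingHom
  have h2 : IsClosedImmersion (Spec.map ρ) := h
  have h3 := ((HasAffineProperty.iff_of_isAffine (P := @IsClosedImmersion)).mp h2).2
  have h4 := Scheme.ΓSpecIso_naturality ρ
  have h5 : ρ = (Scheme.ΓSpecIso _).inv ≫ (Spec.map ρ).appTop ≫ (Scheme.ΓSpecIso _).hom := by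
    rw [h4, Iso.inv_hom_id_assoc]
  have h6 : Function.Surjective ρ := by
    rw [h5]
    exact ((ConcreteCategory.bijective_of_isIso (Scheme.ΓSpecIso (CommRingCat.of C)).hom).2.comp h3).comp
      (ConcreteCategory.bijective_of_isIso (Scheme.ΓSpecIso _).inv).2
  exact h6

end Groth.Agent.Deform.MultConst
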