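import Groth.Agent.Deform.MultHopf
import Groth.Agent.GrpSchLib.HomUnitLocus
import Groth.Agent.UnipComp.Max
import Groth.Agent.ComodLib.Unitriangular
import Groth.Agent.Deform.QuasiIsotrivial
import Groth.Agent.ComodLib.Trig
import Groth.Agent.ComodLib.PrimCriteria

/-!
# No homomorphisms from groups of multiplicative type to unipotent groups, over any base

`eq_counit_base`: for a unipotent Hopf algebra `B` over a field `k` and a `k`-algebra `R`, every homomorphism of
`R`-bialgebras `R ⊗ B → R[M]` is the counit.  `eq_one_of_multType`: over any scheme over `k`, every homomorphism from a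
group of multiplicative type to the base change of a unipotent group is trivial.
-/

set_option autoImplicit false
set_option linter.style.haveILetI false
set_option linter.unusedSimpArgs false

universe u

open CategoryTheory CategoryTheory.Limits MonoidalCategory CartesianMonoidalCategory MonObj GrpObj AlgebraicGeometry
open scoped TensorProduct
open Groth.Agent.GrpSchLib.AffineHopf (sp spIso spMap exists_bialgHom nonempty_bc_sp nonempty_DS_iso)

attribute [local instance] CategoryTheory.Hom.monoid CategoryTheory.Hom.group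

namespace Groth.Agent.Deform.MultUnipHom

/-- A homomorphism from a diagonalisable group over `R` to a unipotent group over `k` is trivial. -/
theorem eq_counit_base {k : Type u} [Field k] {B : Type u} [CommRing B] [HopfAlgebra k B]
    (hB : HopfRep.IsUnipotent k B) (R : Type u) [CommRing R] [Algebra k R] {M : Type*} [CommGroup M]
    (F : R ⊗[k] B →ₐc[R] MonoidAlgebra R M) (z : R ⊗[k] B) :
    F z = algebraMap R (MonoidAlgebra R M) (Coalgebra.counit (R := R) z) := by
  classical
  suffices h : ∀ b : B, F ((1 : R) ⊗ₜ[k] b) =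
      algebraMap R _ (algebraMap k R (Coalgebra.counit (R := k) b)) by
    induction z using TensorProduct.induction_on with
    | zero => simp
    | add p q hp hq => simp only [map_add, hp, hq]
    | tmul c b =>
      rw [show c ⊗ₜ[k] b = c • ((1 : R) ⊗ₜ[k] b) by rw [TensorProduct.smul_tmul', smul_eq_mul, _root_.mul_one],
        map_smul, map_smul, h, smul_eq_mul, Algebra.smul_def, ← map_mul, TensorProduct.counit_tmul]
      simp [Algebra.algebraMap_eq_smul_one]
  let δ : M → MonoidAlgebra R M →ₗ[R] R := fun m =>
    (Finsupp.lapply m) ∘ₗ (MonoidAlgebra.coeffLinearEquiv R).toLinearMap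
  have hδ : ∀ m n, δ m (MonoidAlgebra.single n 1) = if n = m then 1 else 0 := fun m n => by
    simp [δ, Finsupp.single_apply]
  have hδΔ : ∀ m (p : MonoidAlgebra R M),
      LinearMap.mul' R R (TensorProduct.map (δ m) (δ m) (Coalgebra.comul (R := R) p)) = δ m p := by
    intro m p
    induction p using MonoidAlgebra.induction_linear with
    | zero => simp
    | add p q hp hq => simp only [map_add, hp, hq]
    | single n r =>
      rw [show MonoidAlgebra.single n r = r • MonoidAlgebra.single n (1 : R) by simp, map_smul, map_smul, map_smul,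
        map_smul, (MonoidAlgebra.isGroupLikeElem_single_one n).comul_eq_tmul_self, TensorProduct.map_tmul,
        LinearMap.mul'_apply, hδ]
      split <;> simp
  have key : ∀ (r : ℕ), ∀ b ∈ ComodLib.uniLevel k B r, ∀ m, δ m (F ((1 : R) ⊗ₜ[k] b)) =
      (if m = 1 then algebraMap k R (Coalgebra.counit (R := k) b) else 0) := by
    intro r
    induction r using Nat.strong_induction_on with
    | _ r ih =>
      intro b hb m
      rcases Nat.eq_zero_or_pos r with rfl | hr
      · rw [ComodLib.uniLevel_zero, Submodule.mem_span_singleton] at hb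
        obtain ⟨c, rfl⟩ := hb
        rw [TensorProduct.tmul_smul, ← Algebra.TensorProduct.one_def, ← algebraMap_smul R c, map_smul, map_one,
          map_smul, MonoidAlgebra.one_def, hδ, map_smul, Bialgebra.counit_one]
        by_cases hm : (1 : M) = m
        · subst hm; simp [Algebra.algebraMap_eq_smul_one]
        · simp [hm, Ne.symm hm]
      let f : B →ₗ[k] R := (δ m).restrictScalars k ∘ₗ
        (F : R ⊗[k] B →ₐ[R] MonoidAlgebra R M).toLinearMap.restrictScalars k ∘ₗ
          (Algebra.TensorProduct.includeRight : B →ₐ[k] R ⊗[k] B).toLinearMap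
      let e : B →ₗ[k] R := Algebra.linearMap k R ∘ₗ Coalgebra.counit
      let c₁ : R := if m = 1 then 1 else 0
      have hf : ∀ x, f x = δ m (F ((1 : R) ⊗ₜ[k] x)) := fun x => rfl
      have he : ∀ x, e x = algebraMap k R (Coalgebra.counit (R := k) x) := fun x => rfl
      have hQ : LinearMap.mul' k R (TensorProduct.map f f (Coalgebra.comul (R := k) b)) = f b := by
        have h1 := CoalgHomClass.map_comp_comul_apply F ((1 : R) ⊗ₜ[k] b)
        rw [Groth.Agent.ComodLib.PrimDiag.comul_one_tmul] at h1
        rw [hf, ← hδΔ m, ← h1]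
        clear h1 hb
        induction Coalgebra.comul (R := k) b using TensorProduct.induction_on with
        | zero => simp
        | add p q hp hq => simp only [map_add, TensorProduct.tmul_add, hp, hq]
        | tmul u w => simp [TensorProduct.AlgebraTensorModule.distribBaseChange, hf]
      -- the decomposition of the square on tensors with one factor of lower level
      have hlow : ∀ i, i < r → ∀ x ∈ ComodLib.uniLevel k B i, f x = c₁ * e x := fun i hi x hx => by
        rw [hf, he, ih i hi x hx m]
        by_cases hm : m = 1 <;> simp [c₁, hm]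
      have hsq : ∀ z ∈ (⨆ i ∈ Finset.range (r + 1), LinearMap.range
          (TensorProduct.mapIncl (ComodLib.uniLevel k B i) (ComodLib.uniLevel k B (r - i)))),
          LinearMap.mul' k R (TensorProduct.map f f z) =
            c₁ * (LinearMap.mul' k R (TensorProduct.map e f z) + LinearMap.mul' k R (TensorProduct.map f e z)) -
              c₁ * c₁ * LinearMap.mul' k R (TensorProduct.map e e z) := by
        intro z hz
        refine Submodule.iSup_induction _ (motive := fun z => LinearMap.mul' k R (TensorProduct.map f f z) =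
            c₁ * (LinearMap.mul' k R (TensorProduct.map e f z) + LinearMap.mul' k R (TensorProduct.map f e z)) -
              c₁ * c₁ * LinearMap.mul' k R (TensorProduct.map e e z)) hz (fun i y hy => ?_) (by simp)
          fun y y' hy hy' => by simp only [map_add, hy, hy']; ring
        refine Submodule.iSup_induction _ (motive := fun z => LinearMap.mul' k R (TensorProduct.map f f z) =
            c₁ * (LinearMap.mul' k R (TensorProduct.map e f z) + LinearMap.mul' k R (TensorProduct.map f e z)) -
              c₁ * c₁ * LinearMap.mul' k R (TensorProduct.map e e z)) hy (fun hi y hy => ?_) (by simp)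
          fun y y' hy hy' => by simp only [map_add, hy, hy']; ring
        obtain ⟨t, rfl⟩ := hy
        induction t using TensorProduct.induction_on with
        | zero => simp
        | add p q hp hq => simp only [map_add, hp, hq]; ring
        | tmul u w =>
          simp only [TensorProduct.mapIncl, TensorProduct.map_tmul, Submodule.subtype_apply, LinearMap.mul'_apply]
          rcases Nat.lt_or_ge i r with h | h
          · rw [hlow i h u.1 u.2]; ring
          · rw [hlow (r - i) (by omega) w.1 w.2]; ring
      have hcl : LinearMap.mul' k R (TensorProduct.map e f (Coalgebra.comul (R := k) b)) = f b := by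
        have h1 := congrArg (TensorProduct.lift (LinearMap.flip (LinearMap.lsmul k R) ∘ₗ (LinearMap.id : R →ₗ[k] R)) ∘ₗ
          (TensorProduct.comm k k R).toLinearMap ∘ₗ f.lTensor k) (Coalgebra.rTensor_counit_comul (R := k) b)
        refine Eq.trans ?_ (h1.trans (by simp))
        clear h1 hb hQ
        induction Coalgebra.comul (R := k) b using TensorProduct.induction_on with
        | zero => simp
        | add p q hp hq => simp only [map_add, hp, hq]
        | tmul u w => simp [he, Algebra.smul_def, mul_comm]
      have hcr : LinearMap.mul' k R (TensorProduct.map f e (Coalgebra.comul (R := k) b)) = f b := by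
        have h1 := congrArg (TensorProduct.lift (LinearMap.flip (LinearMap.lsmul k R)) ∘ₗ f.rTensor k)
          (Coalgebra.lTensor_counit_comul (R := k) b)
        refine Eq.trans ?_ (h1.trans (by simp))
        clear h1 hb hQ hcl
        induction Coalgebra.comul (R := k) b using TensorProduct.induction_on with
        | zero => simp
        | add p q hp hq => simp only [map_add, hp, hq]
        | tmul u w => simp [he, Algebra.smul_def, mul_comm]
      have hce : LinearMap.mul' k R (TensorProduct.map e e (Coalgebra.comul (R := k) b)) = e b := by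
        have h1 := congrArg (fun z => algebraMap k R (Coalgebra.counit (R := k) z))
          ((TensorProduct.lid k B).congr_arg (Coalgebra.rTensor_counit_comul (R := k) b))
        refine Eq.trans ?_ (h1.trans (by simp [he]))
        clear h1 hb hQ hcl hcr
        induction Coalgebra.comul (R := k) b using TensorProduct.induction_on with
        | zero => simp
        | add p q hp hq => simp only [map_add, hp, hq]
        | tmul u w => simp [he]
      have h := hsq _ (ComodLib.map_comul_uniLevel r (Submodule.mem_map_of_mem hb))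
      rw [hQ, hcl, hcr, hce] at h
      rw [← hf, ← he]
      by_cases hm : m = 1
      · rw [if_pos hm]
        simp only [c₁, if_pos hm] at h
        linear_combination -h
      · rw [if_neg hm]
        simp only [c₁, if_neg hm] at h
        linear_combination h
  intro b
  have hmem : b ∈ ⨆ r, ComodLib.uniLevel k B r := by rw [ComodLib.iSup_uniLevel_eq_top hB]; trivial
  obtain ⟨r, hr⟩ := (Submodule.mem_iSup_of_directed _ ComodLib.uniLevel_mono.directed_le).mp hmem
  ext m
  refine (key r b hr m).trans ?_
  by_cases hm : m = 1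
  · simp [hm, MonoidAlgebra.algebraMap_def]
  · simp [hm, MonoidAlgebra.algebraMap_def, Finsupp.single_apply, Ne.symm hm]

/-- Over an affine base a homomorphism from a split group to a unipotent one is trivial. -/
theorem eq_one_affine {k : Type u} [Field k] {B : Type u} [CommRing B] [HopfAlgebra k B]
    (hB : HopfRep.IsUnipotent k B) (R : CommRingCat.{u}) (f : Spec R ⟶ Spec (CommRingCat.of k))
    (N : Type) [AddCommGroup N] {H : Over (Spec R)} [GrpObj H] (eH : Grp.mk H ≅ Grp.mk (Red.DS (Spec R) N))
    (v : H ⟶ Red.bc f (sp k B)) [IsMonHom v] : v = 1 := by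
  obtain ⟨ρ, rfl⟩ : ∃ ρ : CommRingCat.of k ⟶ R, Spec.map ρ = f := ⟨Spec.preimage f, Spec.map_preimage f⟩
  letI : Algebra k R := ρ.hom.toAlgebra
  obtain ⟨b⟩ := nonempty_bc_sp (R := k) R B
  obtain ⟨a⟩ := nonempty_DS_iso R N
  let c := a ≪≫ eH.symm
  haveI : IsMonHom b.hom.hom.hom := b.hom.hom.isMonHom_hom
  haveI : IsMonHom c.hom.hom.hom := c.hom.hom.isMonHom_hom
  haveI : IsIso c.hom.hom.hom := ((Grp.forget _).mapIso c).isIso_hom
  haveI : IsMonHom b.inv.hom.hom := b.inv.hom.isMonHom_hom
  let w : sp R (MonoidAlgebra R (Multiplicative N)) ⟶ sp R (R ⊗[k] B) :=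
    c.hom.hom.hom ≫ v ≫ b.hom.hom.hom
  haveI : IsMonHom w := inferInstanceAs (IsMonHom (c.hom.hom.hom ≫ v ≫ b.hom.hom.hom))
  obtain ⟨g₀, hg₀⟩ := exists_bialgHom w
  let g : R ⊗[k] B →ₐc[R] MonoidAlgebra R (Multiplicative N) := g₀
  have hw : w = 1 := by
    rw [hg₀, show (1 : sp R (MonoidAlgebra R (Multiplicative N)) ⟶ sp R (R ⊗[k] B)) =
      Spec.mapMulEquiv (1 : WithConv (R ⊗[k] B →ₐ[R] MonoidAlgebra R (Multiplicative N))) from
        (map_one Spec.mapMulEquiv).symm, GrpSchLib.AffineHopf.spMap_eq_mapMulEquiv]
    refine congrArg _ (WithConv.ext (AlgHom.ext fun z => ?_))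
    exact eq_counit_base hB R g z
  have h1 : v ≫ b.hom.hom.hom = 1 := by
    rw [← cancel_epi c.hom.hom.hom, MonObj.comp_one]; exact hw
  haveI : IsIso b.hom.hom.hom := ((Grp.forget _).mapIso b).isIso_hom
  rw [← cancel_mono b.hom.hom.hom, h1, MonObj.one_comp]

/-- A homomorphism from a group of multiplicative type to a unipotent group is trivial. -/
theorem eq_one_of_multType {k : Type u} [Field k] {B : Type u} [CommRing B] [HopfAlgebra k B]
    (hB : HopfRep.IsUnipotent k B) {S' : Scheme.{u}} (f : S' ⟶ Spec (CommRingCat.of k))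
    {H : Over S'} [GrpObj H] (hH : SGA3x.IsMultTypeFT H) (v : H ⟶ Red.bc f (sp k B)) [IsMonHom v] : v = 1 := by
  obtain ⟨S'', π, hfl, hsurj, hcov, hloc⟩ := hH
  haveI := hfl
  haveI := hsurj
  have hπ : FpqcDescLib.Covers π :=
    FpqcDescLib.covers_of_isCovering (FpqcDescLib.isCovering_of_flat π hcov)
  have hpiece : ∀ z : S'', ∃ W : S''.Opens, z ∈ W ∧ GrpSchLib.HomUnitLocus.Triv v (W.ι ≫ π) := by
    intro z
    obtain ⟨U, hzU, N, iN, -, ⟨e⟩⟩ := hloc z
    obtain ⟨W, hW, hzW, hWU⟩ := exists_isAffineOpen_mem_and_subset hzU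
    let o := hW.fromSpec
    let i : (W : Scheme.{u}) ⟶ (U : Scheme.{u}) := S''.homOfLE hWU
    let j : Spec Γ(S'', W) ⟶ (W : Scheme.{u}) := hW.isoSpec.inv
    let g : Spec Γ(S'', W) ⟶ S' := (j ≫ i) ≫ U.ι ≫ π
    obtain ⟨a₁⟩ := GrpSchLib.MultTypeBC.bc_bc (j ≫ i) (U.ι ≫ π) H
    obtain ⟨a₂⟩ := GrpSchLib.MultTypeBC.bc_iso (j ≫ i) e
    obtain ⟨a₃⟩ := GrpSchLib.MultTypeBC.bc_DS (j ≫ i) N
    let eH : Grp.mk (Red.bc g H) ≅ Grp.mk (Red.DS (Spec Γ(S'', W)) N) := a₁.symm ≪≫ a₂ ≪≫ a₃
    obtain ⟨b₁⟩ := GrpSchLib.MultTypeBC.bc_bc g f (sp k B)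
    haveI : IsMonHom b₁.hom.hom.hom := b₁.hom.hom.isMonHom_hom
    haveI : IsMonHom ((Over.pullback g).map v) := inferInstanceAs (IsMonHom ((Over.pullback g).map v))
    haveI : IsMonHom ((Over.pullback g).map v ≫ b₁.hom.hom.hom) :=
      inferInstanceAs (IsMonHom ((Over.pullback g).map v ≫ b₁.hom.hom.hom))
    have h0 := eq_one_affine hB _ (g ≫ f) N eH ((Over.pullback g).map v ≫ b₁.hom.hom.hom)
    haveI : IsIso b₁.hom.hom.hom := ((Grp.forget _).mapIso b₁).isIso_hom
    have h1 : (Over.pullback g).map v = 1 := by
      rw [← cancel_mono b₁.hom.hom.hom, h0, MonObj.one_comp]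
    have h2 := (GrpSchLib.HomUnitLocus.triv_of_map_eq_one h1).comp hW.isoSpec.hom
    refine ⟨W, hzW, ?_⟩
    have he : hW.isoSpec.hom ≫ g = W.ι ≫ π := by
      simp [g, j, i]
    rwa [he] at h2
  choose W hzW hW using hpiece
  have hall : GrpSchLib.HomUnitLocus.Triv v π := by
    intro Y q x
    refine Over.OverMorphism.ext (Scheme.Cover.hom_ext (Y.left.openCoverOfIsOpenCover (fun z : S'' => q.left ⁻¹ᵁ W z)
      (TopologicalSpace.IsOpenCover.mk (top_le_iff.mp fun y _ => TopologicalSpace.Opens.mem_iSup.mpr
        ⟨q.left y, hzW _⟩))) _ _ fun z => ?_)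
    let Y' : Over S' := Over.mk ((q.left ⁻¹ᵁ W z).ι ≫ Y.hom)
    let y : Y' ⟶ Y := Over.homMk (q.left ⁻¹ᵁ W z).ι rfl
    have hq : (q.left.resLE (W z) (q.left ⁻¹ᵁ W z) le_rfl) ≫ (W z).ι ≫ π = (q.left ⁻¹ᵁ W z).ι ≫ Y.hom := by
      rw [← Category.assoc, Scheme.Hom.resLE_comp_ι, Category.assoc]
      exact congrArg _ (Over.w q)
    have h3 := hW z Y' (Over.homMk (q.left.resLE (W z) (q.left ⁻¹ᵁ W z) le_rfl) hq) (y ≫ x)
    have h4 : y ≫ (x ≫ v) = y ≫ 1 := by rw [MonObj.comp_one, ← Category.assoc]; exact h3
    exact congrArg CommaMorphism.left h4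
  have hid : GrpSchLib.HomUnitLocus.Triv v (𝟙 S') := by
    refine GrpSchLib.HomUnitLocus.Triv.of_covers π hπ ?_
    rwa [Category.comp_id]
  have h := hid H (Over.homMk H.hom (Category.comp_id _)) (𝟙 H)
  rwa [Category.id_comp] at h

end Groth.Agent.Deform.MultUnipHom
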