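import Groth.Agent.Deform.Rigid

/-!
# Homomorphisms from groups of multiplicative type into smooth groups lift

A lift as a morphism of schemes has a two-variable defect congruent to one; its average over the last variable
corrects the lift.
-/

set_option autoImplicit false
set_option linter.style.haveILetI false
set_option linter.unusedSectionVars false
set_option backward.isDefEq.respectTransparency false
set_option backward.isDefEq.respectTransparency.types false

universe u

open CategoryTheory CategoryTheory.Limits MonoidalCategory CartesianMonoidalCategory AlgebraicGeometry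
open TensorProduct

attribute [local instance] CategoryTheory.Hom.monoid CategoryTheory.Hom.group

namespace Groth.Agent.Deform

open GrpSchLib.AffineHopf (sp spMap spMap_comp spMap_id spMap_mul)

variable {R : Type u} [CommRing R] {J : Ideal R}

/-- Points over the tensor square are pairs of points. -/
theorem isIso_pair (A B : Type u) [CommRing A] [CommRing B] [Algebra R A] [Algebra R B] :
    IsIso (CartesianMonoidalCategory.lift (spMap (Algebra.TensorProduct.includeLeft : A →ₐ[R] A ⊗[R] B))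
      (spMap (Algebra.TensorProduct.includeRight : B →ₐ[R] A ⊗[R] B))) := by
  have e : (CartesianMonoidalCategory.lift (spMap (Algebra.TensorProduct.includeLeft : A →ₐ[R] A ⊗[R] B))
      (spMap (Algebra.TensorProduct.includeRight : B →ₐ[R] A ⊗[R] B))).left = (pullbackSpecIso R A B).inv := by
    refine pullback.hom_ext ?_ ?_
    · exact (congrArg CommaMorphism.left (lift_fst (spMap (Algebra.TensorProduct.includeLeft : A →ₐ[R] A ⊗[R] B))
        (spMap (Algebra.TensorProduct.includeRight : B →ₐ[R] A ⊗[R] B)))).trans (pullbackSpecIso_inv_fst R A B).symm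
    · exact (congrArg CommaMorphism.left (lift_snd (spMap (Algebra.TensorProduct.includeLeft : A →ₐ[R] A ⊗[R] B))
        (spMap (Algebra.TensorProduct.includeRight : B →ₐ[R] A ⊗[R] B)))).trans (pullbackSpecIso_inv_snd R A B).symm
  haveI : IsIso ((Over.forget _).map (CartesianMonoidalCategory.lift
      (spMap (Algebra.TensorProduct.includeLeft : A →ₐ[R] A ⊗[R] B))
      (spMap (Algebra.TensorProduct.includeRight : B →ₐ[R] A ⊗[R] B)))) := by
    rw [Over.forget_map, e]
    infer_instance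
  exact isIso_of_reflects_iso _ (Over.forget _)

variable {B : Type u} [CommRing B] [HopfAlgebra R B] {G : Over (Spec (CommRingCat.of R))} [GrpObj G]

/-- A morphism multiplicative on the universal pair is a homomorphism. -/
theorem isMonHom_of_universal (v : sp R B ⟶ G)
    (h : spMap (Bialgebra.comulAlgHom R B) ≫ v =
      (spMap (Algebra.TensorProduct.includeLeft : B →ₐ[R] B ⊗[R] B) ≫ v) *
        (spMap (Algebra.TensorProduct.includeRight : B →ₐ[R] B ⊗[R] B) ≫ v)) : IsMonHom v := by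
  refine WittEndoLib.isMonHom_of_mul v fun T p q => ?_
  haveI := isIso_pair (R := R) B B
  let e := CartesianMonoidalCategory.lift (spMap (Algebra.TensorProduct.includeLeft : B →ₐ[R] B ⊗[R] B))
    (spMap (Algebra.TensorProduct.includeRight : B →ₐ[R] B ⊗[R] B))
  let t := CartesianMonoidalCategory.lift p q ≫ inv e
  have h1 : t ≫ e = CartesianMonoidalCategory.lift p q := by rw [Category.assoc, IsIso.inv_hom_id, Category.comp_id]
  have hp : t ≫ spMap (Algebra.TensorProduct.includeLeft : B →ₐ[R] B ⊗[R] B) = p := by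
    rw [← lift_fst (spMap (Algebra.TensorProduct.includeLeft : B →ₐ[R] B ⊗[R] B))
      (spMap (Algebra.TensorProduct.includeRight : B →ₐ[R] B ⊗[R] B)), ← Category.assoc, h1, lift_fst]
  have hq : t ≫ spMap (Algebra.TensorProduct.includeRight : B →ₐ[R] B ⊗[R] B) = q := by
    rw [← lift_snd (spMap (Algebra.TensorProduct.includeLeft : B →ₐ[R] B ⊗[R] B))
      (spMap (Algebra.TensorProduct.includeRight : B →ₐ[R] B ⊗[R] B)), ← Category.assoc, h1, lift_snd]
  rw [← hp, ← hq, ← MonObj.comp_mul, comul_eq_mul, Category.assoc, h, MonObj.comp_mul]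
  simp only [Category.assoc]

/-- The neighbourhood is functorial in maps of the larger ring. -/
noncomputable def nbhdMap {T T' U U' : Type u} [CommRing T] [CommRing T'] [CommRing U] [CommRing U'] [Algebra R T]
    [Algebra R T'] [Algebra R U] [Algebra R U'] (ι : T →ₐ[R] T') (ι' : U →ₐ[R] U') (φ : T' →ₐ[R] U')
    (r : U' →ₐ[R] U) (ψ : T →ₐ[R] U) (h : φ.comp ι = ι'.comp ψ) (hr : r.comp ι' = AlgHom.id R U) :
    E J ι →ₐ[R] E J ι' :=
  (((r.comp φ).comp (pSnd ι)).prod (φ.comp (pSnd ι))).codRestrict _ fun z => mem_E.mpr (by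
    show φ z.1.2 - ι' (r (φ z.1.2)) ∈ _
    have hd := map_mem φ.toLinearMap (mem_E.mp z.2)
    have hi : φ (ι z.1.1) = ι' (ψ z.1.1) := AlgHom.congr_fun h _
    have hri : r (ι' (ψ z.1.1)) = ψ z.1.1 := AlgHom.congr_fun hr _
    have e : φ z.1.2 - ι' (r (φ z.1.2)) = φ (z.1.2 - ι z.1.1) - ι' (r (φ (z.1.2 - ι z.1.1))) := by
      simp only [map_sub, hi, hri]
      ring
    rw [e]
    exact sub_mem hd (map_mem (ι'.comp r).toLinearMap hd))

set_option maxHeartbeats 1000000 in
/-- An almost homomorphism from a group with an invariant mean is corrected by averaging. -/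
theorem exists_hom_near (hJ : J ^ 2 = ⊥) (m₀ : MultTypeLib.Mean R B) (f : sp R B ⟶ G)
    (hf : spMap (red J (B ⊗[R] B)) ≫ spMap (Bialgebra.comulAlgHom R B) ≫ f =
      spMap (red J (B ⊗[R] B)) ≫ ((spMap (Algebra.TensorProduct.includeLeft : B →ₐ[R] B ⊗[R] B) ≫ f) *
        (spMap (Algebra.TensorProduct.includeRight : B →ₐ[R] B ⊗[R] B) ≫ f))) :
    ∃ v : sp R B ⟶ G, IsMonHom v ∧ spMap (red J B) ≫ v = spMap (red J B) ≫ f := by
  let B2 : Type u := B ⊗[R] B
  let B3 : Type u := B ⊗[R] (B ⊗[R] B)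
  let iL : B →ₐ[R] B2 := Algebra.TensorProduct.includeLeft
  let iR : B →ₐ[R] B2 := Algebra.TensorProduct.includeRight
  let Δ : B →ₐ[R] B2 := Bialgebra.comulAlgHom R B
  let ι3 : B2 →ₐ[R] B3 := MultTypeLib.embTwo R B
  let M3 : B2 →ₐ[R] B3 :=
    (Algebra.TensorProduct.assoc R R R B B B).toAlgHom.comp (Algebra.TensorProduct.map Δ (AlgHom.id R B))
  let N3 : B2 →ₐ[R] B3 := Algebra.TensorProduct.map (AlgHom.id R B) Δ
  let R3 : B2 →ₐ[R] B3 := Algebra.TensorProduct.includeRight
  let r : B2 →ₐ[R] B :=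
    (Algebra.TensorProduct.rid R R B).toAlgHom.comp
      (Algebra.TensorProduct.map (AlgHom.id R B) (Bialgebra.counitAlgHom R B))
  let r3 : B3 →ₐ[R] B2 := Algebra.TensorProduct.map (AlgHom.id R B) r
  have hr : r.comp iL = AlgHom.id R B := AlgHom.ext fun a => by
    show (Algebra.TensorProduct.rid R R B) (a ⊗ₜ[R] Bialgebra.counitAlgHom R B 1) = a
    simp
  have hr3 : r3.comp ι3 = AlgHom.id R B2 := Algebra.TensorProduct.ext' fun a b => by
    show a ⊗ₜ[R] r (iL b) = a ⊗ₜ[R] b
    rw [← AlgHom.comp_apply, hr]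
    rfl
  have hco : M3.comp Δ = N3.comp Δ := AlgHom.ext fun a => by
    show (TensorProduct.assoc R B B B) (LinearMap.rTensor B (Coalgebra.comul (R := R)) (Coalgebra.comul a)) = _
    rw [Coalgebra.coassoc_apply]
    rfl
  have hMl : M3.comp iL = ι3.comp Δ := AlgHom.ext fun a => by
    show (Algebra.TensorProduct.assoc R R R B B B) (Δ a ⊗ₜ 1) = ι3 (Δ a)
    generalize Δ a = z
    induction z using TensorProduct.induction_on with
    | zero => simp
    | add p q hp hq => simp only [TensorProduct.add_tmul, map_add, hp, hq]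
    | tmul p q => rw [Algebra.TensorProduct.assoc_tmul]; rfl
  have hMr : M3.comp iR = R3.comp iR := AlgHom.ext fun a => by
    show (Algebra.TensorProduct.assoc R R R B B B) (Δ 1 ⊗ₜ a) = (1 : B) ⊗ₜ ((1 : B) ⊗ₜ a)
    rw [map_one, Algebra.TensorProduct.one_def, Algebra.TensorProduct.assoc_tmul]
  have hNl : N3.comp iL = ι3.comp iL := AlgHom.ext fun a => by
    show a ⊗ₜ Δ 1 = a ⊗ₜ ((1 : B) ⊗ₜ (1 : B))
    rw [map_one, Algebra.TensorProduct.one_def]
  have hNr : N3.comp iR = R3.comp Δ := AlgHom.ext fun a => rfl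
  have hRl : R3.comp iL = ι3.comp iR := AlgHom.ext fun a => rfl
  let θ : sp R B2 ⟶ G := (spMap Δ ≫ f) * ((spMap iL ≫ f) * (spMap iR ≫ f))⁻¹
  have hθ : spMap (red J B2) ≫ θ = 1 := by
    simp only [θ, MonObj.comp_mul, GrpObj.comp_inv]
    rw [MonObj.comp_mul] at hf
    rw [hf, mul_inv_cancel]
  obtain ⟨y, ⟨hy1, hy2⟩, -⟩ := existsUnique_ext (J := J) iL θ 1 (by rw [hθ, MonObj.comp_one])
  have hL : ∀ t a, m₀.L (iL t * a) = (AlgHom.id R B) t * m₀.L a := fun t a => by
    rw [mul_comm, AlgHom.id_apply, mul_comm t]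
    exact m₀.L_mul a t
  let Λ : E J iL →ₐ[R] B := lMap hJ iL (AlgHom.id R B) m₀.L hL m₀.L_one
  let c : sp R B ⟶ G := spMap Λ ≫ y
  have hc : spMap (red J B) ≫ c = 1 := by
    have e : (red J B).comp Λ = (red J B).comp (pFst iL) := by
      refine AlgHom.ext fun z => Ideal.Quotient.eq.mpr ?_
      show m₀.L z.1.2 - z.1.1 ∈ _
      have h := map_mem m₀.L (mem_E.mp z.2)
      rw [map_sub, show m₀.L (iL z.1.1) = z.1.1 by simpa [m₀.L_one] using hL z.1.1 1] at h
      exact h
    show spMap (red J B) ≫ spMap Λ ≫ y = 1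
    rw [comp_spMap, e, ← comp_spMap, hy2, MonObj.comp_one]
  refine ⟨c * f, isMonHom_of_universal _ ?_, by rw [MonObj.comp_mul, hc, _root_.one_mul]⟩
  have hL3 : ∀ t a, m₀.L3 (ι3 t * a) = (AlgHom.id R B2) t * m₀.L3 a := fun t a => by
    rw [mul_comm, AlgHom.id_apply, mul_comm t]
    exact m₀.L3_mul a t
  have hL31 : m₀.L3 1 = 1 := by
    show (1 : B) ⊗ₜ m₀.L 1 = _
    rw [m₀.L_one]
    rfl
  let Λ3 : E J ι3 →ₐ[R] B2 := lMap hJ ι3 (AlgHom.id R B2) m₀.L3 hL3 hL31
  let mM : E J iL →ₐ[R] E J ι3 := nbhdMap iL ι3 M3 r3 Δ hMl hr3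
  let mN : E J iL →ₐ[R] E J ι3 := nbhdMap iL ι3 N3 r3 iL hNl hr3
  let mR : E J iL →ₐ[R] E J ι3 := nbhdMap iL ι3 R3 r3 iR hRl hr3
  have eM : Λ3.comp mM = Δ.comp Λ := AlgHom.ext fun z => by
    show m₀.L3 (M3 z.1.2) = Δ (m₀.L z.1.2)
    generalize z.1.2 = w
    induction w using TensorProduct.induction_on with
    | zero => simp
    | add a b ha hb => simp only [map_add, ha, hb]
    | tmul a b =>
      rw [MultTypeLib.Mean.L_tmul, map_smul]
      show m₀.L3 (Algebra.TensorProduct.assoc R R R B B B (Δ a ⊗ₜ b)) = _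
      generalize Δ a = z
      induction z using TensorProduct.induction_on with
      | zero => simp
      | add p q hp hq => simp only [TensorProduct.add_tmul, map_add, smul_add, hp, hq]
      | tmul p q =>
        rw [Algebra.TensorProduct.assoc_tmul]
        show p ⊗ₜ m₀.L (q ⊗ₜ b) = _
        rw [MultTypeLib.Mean.L_tmul, TensorProduct.tmul_smul]
  have eN : Λ3.comp mN = iL.comp Λ := AlgHom.ext fun z => by
    show m₀.L3 (N3 z.1.2) = iL (m₀.L z.1.2)
    generalize z.1.2 = w
    induction w using TensorProduct.induction_on with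
    | zero => simp
    | add a b ha hb => simp only [map_add, ha, hb]
    | tmul a b =>
      show a ⊗ₜ m₀.L (Coalgebra.comul b) = _
      rw [show m₀.L (Coalgebra.comul b) = m₀.μ b • (1 : B) from m₀.inv b, MultTypeLib.Mean.L_tmul, map_smul,
        TensorProduct.tmul_smul]
      rfl
  have eR : Λ3.comp mR = iR.comp Λ := AlgHom.ext fun z => rfl
  have eS : Λ3.comp (sect ι3) = AlgHom.id R B2 := AlgHom.ext fun a => by
    show m₀.L3 (ι3 a) = a
    rw [← _root_.mul_one (ι3 a), hL3, hL31]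
    exact _root_.mul_one a
  have core : spMap M3 ≫ θ * (spMap ι3 ≫ θ) = (spMap N3 ≫ θ) *
      ((spMap (ι3.comp iL) ≫ f) * (spMap R3 ≫ θ) * (spMap (ι3.comp iL) ≫ f)⁻¹) := by
    simp only [θ, MonObj.comp_mul, GrpObj.comp_inv, comp_spMap, hco, hMl, hMr, hNl, hNr, hRl]
    group
  have cocycle : (spMap mM ≫ y) * (spMap (A := ↥(E J ι3)) (sect ι3) ≫ θ) = (spMap mN ≫ y) *
      ((spMap (A := ↥(E J ι3)) (sect ι3) ≫ spMap iL ≫ f) * (spMap mR ≫ y) *
        (spMap (A := ↥(E J ι3)) (sect ι3) ≫ spMap iL ≫ f)⁻¹) := by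
    refine hom_ext ι3 ?_ ?_
    · simp only [MonObj.comp_mul, GrpObj.comp_inv, comp_spMap]
      rw [show (pSnd ι3).comp mM = M3.comp (pSnd (J := J) iL) from rfl,
        show (pSnd ι3).comp mN = N3.comp (pSnd (J := J) iL) from rfl,
        show (pSnd ι3).comp mR = R3.comp (pSnd (J := J) iL) from rfl,
        show (pSnd (J := J) ι3).comp (sect ι3) = ι3 from rfl,
        show (pSnd (J := J) ι3).comp ((sect ι3).comp iL) = ι3.comp iL from rfl,
        ← comp_spMap (pSnd iL) M3, ← comp_spMap (pSnd iL) N3, ← comp_spMap (pSnd iL) R3, hy1]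
      exact core
    · simp only [MonObj.comp_mul, GrpObj.comp_inv, comp_spMap]
      rw [show (pFst ι3).comp mM = (r3.comp M3).comp (pSnd (J := J) iL) from rfl,
        show (pFst ι3).comp mN = (r3.comp N3).comp (pSnd (J := J) iL) from rfl,
        show (pFst ι3).comp mR = (r3.comp R3).comp (pSnd (J := J) iL) from rfl,
        show (pFst (J := J) ι3).comp (sect ι3) = r3.comp ι3 from hr3.symm,
        show (pFst (J := J) ι3).comp ((sect ι3).comp iL) = r3.comp (ι3.comp iL) by
          rw [← AlgHom.comp_assoc, ← AlgHom.comp_assoc, hr3]; rfl,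
        ← comp_spMap (pSnd iL) (r3.comp M3), ← comp_spMap (pSnd iL) (r3.comp N3),
        ← comp_spMap (pSnd iL) (r3.comp R3), hy1]
      have h := congrArg (spMap r3 ≫ ·) core
      simpa only [MonObj.comp_mul, GrpObj.comp_inv, comp_spMap] using h
  have key := congrArg (spMap Λ3 ≫ ·) cocycle
  simp only [MonObj.comp_mul, GrpObj.comp_inv, comp_spMap] at key
  rw [← AlgHom.comp_assoc, eM, eN, eR, eS, ← comp_spMap Λ Δ, ← comp_spMap Λ iL, ← comp_spMap Λ iR,
    show spMap Λ ≫ y = c from rfl, spMap_id, Category.id_comp, AlgHom.id_comp] at key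
  show spMap Δ ≫ (c * f) = (spMap iL ≫ (c * f)) * (spMap iR ≫ (c * f))
  rw [MonObj.comp_mul, MonObj.comp_mul, MonObj.comp_mul]
  calc (spMap Δ ≫ c) * (spMap Δ ≫ f)
      = (spMap Δ ≫ c) * θ * ((spMap iL ≫ f) * (spMap iR ≫ f)) := by simp only [θ]; group
    _ = _ := by rw [key]; group

end Groth.Agent.Deform

namespace Groth.Agent.Deform

open GrpSchLib.AffineHopf (sp spMap spMap_comp spMap_id spMap_mul)

variable {R : Type u} [CommRing R] {J : Ideal R}

/-- Points over a closed subscheme of the base of an affine scheme factor through its reduction. -/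
theorem exists_factor_red {B : Type u} [CommRing B] [Algebra R B] {X : Over (Spec (CommRingCat.of R))}
    (p : X ⟶ closedPt J) (h : X ⟶ sp R B) : ∃ h₀ : X ⟶ sp R (B ⧸ J.map (algebraMap R B)), h₀ ≫ spMap (red J B) = h := by
  let hl : X.left ⟶ Spec (CommRingCat.of B) := h.left
  let φ : B →+* Γ(X.left, ⊤) := ((Scheme.ΓSpecIso (CommRingCat.of B)).inv ≫ hl.appTop).hom
  have hφ : ∀ b ∈ J.map (algebraMap R B), φ b = 0 := by
    suffices hle : J.map (algebraMap R B) ≤ RingHom.ker φ from fun b hb => hle hb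
    refine Ideal.map_le_iff_le_comap.mpr fun r hr => ?_
    let pl : X.left ⟶ Spec (CommRingCat.of (R ⧸ J)) := p.left
    have e : pl ≫ Spec.map (CommRingCat.ofHom (Ideal.Quotient.mk J)) =
        hl ≫ Spec.map (CommRingCat.ofHom (algebraMap R B)) := (Over.w p).trans (Over.w h).symm
    have e1 := congrArg (fun t => ((Scheme.ΓSpecIso (CommRingCat.of R)).inv ≫ t.appTop).hom r) e
    simp only [Scheme.Hom.comp_appTop, CommRingCat.hom_comp, RingHom.comp_apply] at e1
    have n1 := congrArg (fun t => t.hom r) (Scheme.ΓSpecIso_inv_naturality (CommRingCat.ofHom (Ideal.Quotient.mk J)))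
    have n2 := congrArg (fun t => t.hom r) (Scheme.ΓSpecIso_inv_naturality (CommRingCat.ofHom (algebraMap R B)))
    simp only [CommRingCat.hom_comp, RingHom.comp_apply, CommRingCat.hom_ofHom] at n1 n2
    rw [Ideal.mem_comap, RingHom.mem_ker]
    show hl.appTop.hom ((Scheme.ΓSpecIso (CommRingCat.of B)).inv.hom (algebraMap R B r)) = 0
    rw [n2, ← e1, ← n1, Ideal.Quotient.eq_zero_iff_mem.mpr hr, map_zero, map_zero]
  let φ₀ : B ⧸ J.map (algebraMap R B) →+* Γ(X.left, ⊤) := Ideal.Quotient.lift _ φ hφ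
  let g : X.left ⟶ Spec (CommRingCat.of (B ⧸ J.map (algebraMap R B))) :=
    X.left.toSpecΓ ≫ Spec.map (CommRingCat.ofHom φ₀)
  have hg : g ≫ Spec.map (CommRingCat.ofHom (red J B).toRingHom) = hl := by
    rw [Category.assoc, ← Spec.map_comp, ← CommRingCat.ofHom_comp]
    rw [show φ₀.comp (red J B).toRingHom = φ from rfl]
    show X.left.toSpecΓ ≫ Spec.map ((Scheme.ΓSpecIso (CommRingCat.of B)).inv ≫ hl.appTop) = _
    rw [Spec.map_comp, ← Scheme.toSpecΓ_naturality_assoc, toSpecΓ_SpecMap_ΓSpecIso_inv, Category.comp_id]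
  refine ⟨Over.homMk g ?_, Over.OverMorphism.ext hg⟩
  have h1 : Spec.map (CommRingCat.ofHom (red J B).toRingHom) ≫ (sp R B).hom =
      (sp R (B ⧸ J.map (algebraMap R B))).hom := Over.w (spMap (red J B))
  rw [← h1, ← Category.assoc]
  exact (congrArg (· ≫ (sp R B).hom) hg).trans (Over.w h)

/-- The reduction of an affine scheme lies over the closed subscheme of the base. -/
noncomputable def redBase (J : Ideal R) (B : Type u) [CommRing B] [Algebra R B] :
    sp R (B ⧸ J.map (algebraMap R B)) ⟶ closedPt J :=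
  Over.homMk (Spec.map (CommRingCat.ofHom (Ideal.Quotient.lift J
    ((Ideal.Quotient.mk (J.map (algebraMap R B))).comp (algebraMap R B))
    fun r hr => Ideal.Quotient.eq_zero_iff_mem.mpr (Ideal.mem_map_of_mem _ hr)))) (by
    show Spec.map _ ≫ Spec.map _ = Spec.map _
    rw [← Spec.map_comp, ← CommRingCat.ofHom_comp]
    rfl)

/-- A morphism over a closed subscheme, on points. -/
theorem exists_on_points {H : Over (Spec (CommRingCat.of R))}
    {X : Over (Spec (CommRingCat.of R))} (p : X ⟶ closedPt J) (h : X ⟶ H) :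
    ∃ (Y : Over (Spec (CommRingCat.of (R ⧸ J)))) (j : X ⟶ (Over.map (bm J)).obj Y) (h' : Y ⟶ Red.bc (bm J) H),
      IsIso j ∧ j ≫ DSPtsLib.theta (bm J) h' = h := by
  let Y : Over (Spec (CommRingCat.of (R ⧸ J))) := Over.mk p.left
  let j : X ⟶ (Over.map (bm J)).obj Y := Over.homMk (𝟙 _) ((Category.id_comp _).trans (Over.w p))
  let j' : (Over.map (bm J)).obj Y ⟶ X := Over.homMk (𝟙 _) ((Category.id_comp _).trans (Over.w p).symm)
  obtain ⟨h', hh'⟩ := (DSPtsLib.theta_bijective (bm J)).surjective (j' ≫ h)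
  have e : j ≫ j' = 𝟙 X := Over.OverMorphism.ext (Category.id_comp _)
  exact ⟨Y, j, h', ⟨j', e, Over.OverMorphism.ext (Category.id_comp _)⟩, by rw [hh', reassoc_of% e]⟩

/-- Morphisms out of an affine scheme into a smooth one lift along nilpotent thickenings of the base. -/
theorem exists_lift_morphism (hJ : IsNilpotent J) {H G : Over (Spec (CommRingCat.of R))} [IsAffine H.left]
    [Smooth G.hom] (ψ : Red.bc (bm J) H ⟶ Red.bc (bm J) G) : ∃ v : H ⟶ G, (Over.pullback (bm J)).map v = ψ := by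
  let B : Type u := Γ(H.left, ⊤)
  letI : Algebra R B := ((Scheme.ΓSpecIso (CommRingCat.of R)).inv ≫ H.hom.appTop).hom.toAlgebra
  have hw : H.left.isoSpec.hom ≫ (sp R B).hom = H.hom := by
    show H.left.toSpecΓ ≫ Spec.map ((Scheme.ΓSpecIso (CommRingCat.of R)).inv ≫ H.hom.appTop) = _
    rw [Spec.map_comp, ← Scheme.toSpecΓ_naturality_assoc, toSpecΓ_SpecMap_ΓSpecIso_inv, Category.comp_id]
  let e : H ≅ sp R B := Over.isoMk H.left.isoSpec hw
  obtain ⟨Y, j, h', hj, hh'⟩ := exists_on_points (redBase J B) (spMap (red J B) ≫ e.inv)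
  let m : sp R (B ⧸ J.map (algebraMap R B)) ⟶ G := j ≫ DSPtsLib.theta (bm J) (h' ≫ ψ)
  obtain ⟨l, hl, hl'⟩ := exists_lift_nilpotent G.hom
    (J := J.map (algebraMap R B)) (by
      obtain ⟨n, hn⟩ := hJ
      exact ⟨n, by rw [← Ideal.map_pow, hn]; exact Ideal.map_bot⟩)
    m.left (sp R B).hom ((Over.w (spMap (red J B))).trans (Over.w m).symm)
  let v₀ : sp R B ⟶ G := Over.homMk l hl'
  refine ⟨e.hom ≫ v₀, ?_⟩
  refine (Category.id_comp _).symm.trans (Eq.trans ?_ (Category.id_comp _))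
  apply (DSPtsLib.theta_bijective (bm J)).injective
  rw [theta_map, Category.id_comp]
  obtain ⟨h₀, hh₀⟩ := exists_factor_red (redPt J H) (DSPtsLib.theta (bm J) (𝟙 (Red.bc (bm J) H)) ≫ e.hom)
  rw [← Category.assoc, ← hh₀, Category.assoc, show spMap (red J B) ≫ v₀ = m from Over.OverMorphism.ext hl]
  haveI : IsClosedImmersion (bm J) := IsClosedImmersion.spec_of_surjective _ Ideal.Quotient.mk_surjective
  obtain ⟨k, hk⟩ : ∃ k : Red.bc (bm J) H ⟶ Y, (Over.map (bm J)).map k = h₀ ≫ j :=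
    ⟨Over.homMk (h₀ ≫ j).left (by
      have h1 := congrArg (fun t => t ≫ 𝟙 _) (Over.w (h₀ ≫ j))
      rw [← cancel_mono (bm J)]
      simpa using h1), Over.OverMorphism.ext rfl⟩
  have hk' : k ≫ h' = 𝟙 _ := by
    apply (DSPtsLib.theta_bijective (bm J)).injective
    rw [DSPtsLib.theta_comp, hk, Category.assoc, hh', reassoc_of% hh₀, e.hom_inv_id, Category.comp_id]
  show h₀ ≫ j ≫ DSPtsLib.theta (bm J) (h' ≫ ψ) = _
  rw [← Category.assoc, ← hk, ← DSPtsLib.theta_comp, reassoc_of% hk']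

end Groth.Agent.Deform

namespace Groth.Agent.Deform

open GrpSchLib.AffineHopf (sp spMap spMap_comp spMap_id spMap_mul)

variable {R : Type u} [CommRing R] {J : Ideal R}

/-- Being multiplicative on points over a closed subscheme of the base. -/
def HomOn (K : Ideal R) {H G : Over (Spec (CommRingCat.of R))} [GrpObj H] [GrpObj G] (f : H ⟶ G) : Prop :=
  ∀ (X : Over (Spec (CommRingCat.of R))) (_ : X ⟶ closedPt K) (a b : X ⟶ H), (a * b) ≫ f = (a ≫ f) * (b ≫ f)

variable {H G : Over (Spec (CommRingCat.of R))} [GrpObj H] [GrpObj G]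

theorem homOn_of_map (f : H ⟶ G) [IsMonHom ((Over.pullback (bm J)).map f)] : HomOn J f := fun X p a b => by
  let Y : Over (Spec (CommRingCat.of (R ⧸ J))) := Over.mk p.left
  let j : X ⟶ (Over.map (bm J)).obj Y := Over.homMk (𝟙 _) ((Category.id_comp _).trans (Over.w p))
  let j' : (Over.map (bm J)).obj Y ⟶ X := Over.homMk (𝟙 _) ((Category.id_comp _).trans (Over.w p).symm)
  have e : j ≫ j' = 𝟙 X := Over.OverMorphism.ext (Category.id_comp _)
  obtain ⟨a', ha⟩ := (DSPtsLib.theta_bijective (bm J)).surjective (j' ≫ a)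
  obtain ⟨b', hb⟩ := (DSPtsLib.theta_bijective (bm J)).surjective (j' ≫ b)
  have ha' : a = j ≫ DSPtsLib.theta (bm J) a' := by rw [ha, reassoc_of% e]
  have hb' : b = j ≫ DSPtsLib.theta (bm J) b' := by rw [hb, reassoc_of% e]
  rw [ha', hb', ← MonObj.comp_mul, ← DSPtsLib.theta_mul, Category.assoc, Category.assoc, Category.assoc,
    ← theta_map, ← theta_map, ← theta_map, MonObj.mul_comp, DSPtsLib.theta_mul, MonObj.comp_mul]

set_option maxHeartbeats 1000000 in
/-- The reductions are spectra of Hopf algebras of multiplicative type. -/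
def HopfMult (H : Over (Spec (CommRingCat.of R))) [GrpObj H] : Prop :=
  ∀ K : Ideal R, ∃ (B : Type u) (_ : CommRing B) (_ : HopfAlgebra (R ⧸ K) B),
    SGA3b.IsMultType (R ⧸ K) B ∧ Nonempty (Grp.mk (sp (R ⧸ K) B) ≅ Grp.mk (Red.bc (bm K) H))

/-- One step: a morphism multiplicative modulo `K` is congruent to one multiplicative modulo `K'`. -/
theorem exists_hom_step {K K' : Ideal R} (hle : K' ≤ K) (hsq : K * K ≤ K')
    (hlift : ∀ ψ : Red.bc (bm K') H ⟶ Red.bc (bm K') G, ∃ v : H ⟶ G, (Over.pullback (bm K')).map v = ψ)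
    (hH : HopfMult H) (f : H ⟶ G) (hf : HomOn K f) :
    ∃ v : H ⟶ G, HomOn K' v ∧
      ∀ (X : Over (Spec (CommRingCat.of R))) (_ : X ⟶ closedPt K) (h : X ⟶ H), h ≫ v = h ≫ f := by
  let R' : Type u := R ⧸ K'
  let I : Ideal R' := K.map (Ideal.Quotient.mk K')
  have hI : I ^ 2 = ⊥ := by
    rw [← Ideal.map_pow, Ideal.map_eq_bot_iff_le_ker, Ideal.mk_ker, pow_two]
    exact hsq
  let σ : R ⧸ K →+* R' ⧸ I := Ideal.Quotient.lift K ((Ideal.Quotient.mk I).comp (Ideal.Quotient.mk K'))
    fun r hr => Ideal.Quotient.eq_zero_iff_mem.mpr (Ideal.mem_map_of_mem _ hr)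
  let τ : R' ⧸ I →+* R ⧸ K := Ideal.Quotient.lift I (Ideal.Quotient.factor hle) fun x hx => by
    refine (Ideal.map_le_iff_le_comap.mpr (fun r hr => ?_) : I ≤ RingHom.ker (Ideal.Quotient.factor hle)) hx
    show Ideal.Quotient.factor hle (Ideal.Quotient.mk K' r) = 0
    rw [Ideal.Quotient.factor_mk]
    exact Ideal.Quotient.eq_zero_iff_mem.mpr hr
  have hσ : σ.comp (Ideal.Quotient.mk K) = (Ideal.Quotient.mk I).comp (Ideal.Quotient.mk K') := rfl
  obtain ⟨B, _, _, hB, ⟨e⟩⟩ := hH K'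
  obtain ⟨m₀⟩ := MultTypeLib.exists_mean hB
  haveI : IsMonHom e.hom.hom.hom := e.hom.hom.isMonHom_hom
  haveI : IsMonHom e.inv.hom.hom := e.inv.hom.isMonHom_hom
  let e' : sp R' B ⟶ Red.bc (bm K') H := e.hom.hom.hom
  let e'' : Red.bc (bm K') H ⟶ sp R' B := e.inv.hom.hom
  have he : e'' ≫ e' = 𝟙 _ :=
    congrArg (fun m : Grp.mk (Red.bc (bm K') H) ⟶ Grp.mk (Red.bc (bm K') H) => m.hom.hom) e.inv_hom_id
  let f' : sp R' B ⟶ Red.bc (bm K') G := e' ≫ (Over.pullback (bm K')).map f
  let P : Over (Spec (CommRingCat.of R')) := sp R' ((B ⊗[R'] B) ⧸ I.map (algebraMap R' (B ⊗[R'] B)))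
  let q : (Over.map (bm K')).obj P ⟶ closedPt K :=
    Over.homMk ((redBase I (B ⊗[R'] B)).left ≫ Spec.map (CommRingCat.ofHom σ)) (by
      show (_ ≫ Spec.map _) ≫ Spec.map _ = P.hom ≫ bm K'
      rw [Category.assoc, ← Spec.map_comp, ← CommRingCat.ofHom_comp, hσ, CommRingCat.ofHom_comp, Spec.map_comp,
        ← Category.assoc]
      exact congrArg (· ≫ bm K') (Over.w (redBase I (B ⊗[R'] B))))
  obtain ⟨v', hv', hvf⟩ := exists_hom_near hI m₀ f' (by
    apply (DSPtsLib.theta_bijective (bm K')).injective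
    simp only [f', MonObj.comp_mul, ← Category.assoc, DSPtsLib.theta_mul, theta_map]
    rw [← hf _ q, ← DSPtsLib.theta_mul, ← MonObj.mul_comp, ← MonObj.comp_mul, comul_eq_mul])
  obtain ⟨v, hv⟩ := hlift (e'' ≫ v')
  haveI : IsMonHom ((Over.pullback (bm K')).map v) := by rw [hv]; infer_instance
  refine ⟨v, homOn_of_map v, fun X p h => ?_⟩
  let p' : X ⟶ closedPt K' := p ≫ closedIncl hle
  let Y : Over (Spec (CommRingCat.of R')) := Over.mk p'.left
  let j : X ⟶ (Over.map (bm K')).obj Y := Over.homMk (𝟙 _) ((Category.id_comp _).trans (Over.w p'))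
  let j' : (Over.map (bm K')).obj Y ⟶ X := Over.homMk (𝟙 _) ((Category.id_comp _).trans (Over.w p').symm)
  have ej : j ≫ j' = 𝟙 X := Over.OverMorphism.ext (Category.id_comp _)
  obtain ⟨h', hh⟩ := (DSPtsLib.theta_bijective (bm K')).surjective (j' ≫ h)
  have hh' : h = j ≫ DSPtsLib.theta (bm K') h' := by rw [hh, reassoc_of% ej]
  let y : Y ⟶ closedPt I := Over.homMk (p.left ≫ Spec.map (CommRingCat.ofHom τ)) (by
    show (p.left ≫ Spec.map _) ≫ Spec.map _ = p.left ≫ Spec.map _
    rw [Category.assoc, ← Spec.map_comp, ← CommRingCat.ofHom_comp]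
    rfl)
  obtain ⟨h₀, hh₀⟩ := exists_factor_red y (h' ≫ e'')
  rw [hh', Category.assoc, Category.assoc, ← theta_map, ← theta_map, hv, ← Category.assoc, ← hh₀, Category.assoc, hvf,
    reassoc_of% hh₀]
  simp only [f']
  rw [reassoc_of% he]

/-- Homomorphisms from groups of multiplicative type into smooth groups lift along nilpotent thickenings. -/
theorem exists_hom_lift_smooth' (hJ : IsNilpotent J) [Smooth G.hom] [IsAffine H.left] (hH : HopfMult H)
    (ψ : Red.bc (bm J) H ⟶ Red.bc (bm J) G) [IsMonHom ψ] :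
    ∃ v : H ⟶ G, IsMonHom v ∧ (Over.pullback (bm J)).map v = ψ := by
  obtain ⟨n, hn⟩ := id hJ
  have main : ∀ k : ℕ, ∃ v : H ⟶ G, HomOn (J ^ (k + 1)) v ∧ (Over.pullback (bm J)).map v = ψ := by
    intro k
    induction k with
    | zero =>
      obtain ⟨v, hv⟩ := exists_lift_morphism hJ ψ
      haveI : IsMonHom ((Over.pullback (bm J)).map v) := by rw [hv]; infer_instance
      rw [zero_add, pow_one]
      exact ⟨v, homOn_of_map v, hv⟩
    | succ k ih =>
      obtain ⟨v, hvh, hv⟩ := ih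
      obtain ⟨w, hwh, hwv⟩ := exists_hom_step (K := J ^ (k + 1)) (K' := J ^ (k + 2))
        (Ideal.pow_le_pow_right (by omega)) (by rw [← pow_add]; exact Ideal.pow_le_pow_right (by omega))
        (fun ψ => exists_lift_morphism (hJ.pow_of_pos (by omega)) ψ) hH v hvh
      refine ⟨w, hwh, ?_⟩
      rw [← hv]
      exact map_eq_of_agree fun X p x => hwv X (p ≫ closedIncl (Ideal.pow_le_self (by omega))) x
  obtain ⟨v, hvh, hv⟩ := main n
  have hbot : J ^ (n + 1) = ⊥ := le_bot_iff.mp ((Ideal.pow_le_pow_right (Nat.le_succ n)).trans (le_of_eq hn))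
  refine ⟨v, WittEndoLib.isMonHom_of_mul v fun X a b => hvh X (Over.homMk (X.hom ≫ Spec.map (CommRingCat.ofHom
    (Ideal.Quotient.lift (J ^ (n + 1)) (RingHom.id R) fun r hr => by simpa [hbot] using hr))) ?_) a b, hv⟩
  show (X.hom ≫ Spec.map _) ≫ Spec.map _ = X.hom
  rw [Category.assoc, ← Spec.map_comp, ← CommRingCat.ofHom_comp,
    show (Ideal.Quotient.lift (J ^ (n + 1)) (RingHom.id R) fun r hr => by simpa [hbot] using hr).comp
      (Ideal.Quotient.mk (J ^ (n + 1))) = RingHom.id R from RingHom.ext fun r => rfl,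
    CommRingCat.ofHom_id, Spec.map_id, Category.comp_id]

/-- Homomorphisms from groups of multiplicative type, in the sense of group schemes, into smooth groups lift. -/
theorem exists_hom_lift_smooth (hJ : IsNilpotent J) [Smooth G.hom]
    (hH : TwC.Locally (Spec (CommRingCat.of R)) TwC.Topology.fpqc (fun S' f => ∃ (M : Type) (_ : AddCommGroup M),
      Nonempty (Grp.mk (Red.bc f H) ≅ Grp.mk (Red.DS S' M))))
    (ψ : Red.bc (bm J) H ⟶ Red.bc (bm J) G) [IsMonHom ψ] :
    ∃ v : H ⟶ G, IsMonHom v ∧ (Over.pullback (bm J)).map v = ψ := by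
  haveI := isAffineHom hH
  haveI : IsAffine H.left := isAffine_of_isAffineHom H.hom
  exact exists_hom_lift_smooth' hJ (fun K => exists_hopf_multType _ (locally_bc (bm K) hH)) ψ

end Groth.Agent.Deform
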