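import Groth.Agent.S4103
import Groth.Agent.GrpSchLib.NormalQuot
import Groth.Agent.MultByUnip.Points
import Groth.Agent.HopfPtLib.Conv3
import Groth.Prelude.Def_SGA3
import Mathlib.RingTheory.HopfAlgebra.Quotient
import Mathlib.RingTheory.Flat.FaithfullyFlat.Algebra

/-!
# Normal Hopf ideals and Hopf subalgebras over a field
-/

set_option autoImplicit false
set_option linter.style.haveILetI false

universe u

open TensorProduct WithConv

namespace Groth.Agent.Deform.HopfNormal

variable {k : Type u} [Field k] {A : Type u} [CommRing A] [HopfAlgebra k A]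

theorem conv_antipode {C : Type u} [CommRing C] [Algebra k C] (g : A →ₐ[k] C) :
    toConv g * toConv (g.comp (HopfAlgebra.antipodeAlgHom k A)) = 1 := by
  rw [← left_inv_eq_right_inv (HopfPtLib.antipode_comp_convMul (g.comp (HopfAlgebra.antipodeAlgHom k A)))
    (HopfPtLib.antipode_comp_convMul g)]
  exact HopfPtLib.antipode_comp_convMul (g.comp (HopfAlgebra.antipodeAlgHom k A))

theorem comp_antipode_antipode {C : Type u} [CommRing C] [Algebra k C] (g : A →ₐ[k] C) :
    (g.comp (HopfAlgebra.antipodeAlgHom k A)).comp (HopfAlgebra.antipodeAlgHom k A) = g :=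
  congrArg WithConv.ofConv (left_inv_eq_right_inv
    (HopfPtLib.antipode_comp_convMul (g.comp (HopfAlgebra.antipodeAlgHom k A)))
    (HopfPtLib.antipode_comp_convMul g))

theorem sub_counit_mem_augIdealSpan {B : Subalgebra k A} {b : A} (hb : b ∈ B) :
    b - algebraMap k A (Coalgebra.counit (R := k) b) ∈ SGA3.augIdealSpan k A B :=
  Ideal.subset_span ⟨B.sub_mem hb (B.algebraMap_mem _), by rw [map_sub, Bialgebra.counit_algebraMap, sub_self]⟩

theorem lTensor_counit_unit (x : A) :
    LinearMap.lTensor A ((Algebra.linearMap k A).comp (Coalgebra.counit (R := k) (A := A)))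
      (Coalgebra.comul (R := k) x) = x ⊗ₜ[k] (1 : A) := by
  rw [LinearMap.lTensor_comp, LinearMap.comp_apply, Coalgebra.lTensor_counit_comul]
  simp

/-- Elements of a Hopf subalgebra are invariant under the subgroup cut out by its augmentation ideal. -/
theorem coinv_of_mem {B : Subalgebra k A} (hB : SGA3.IsHopfSubalgebra k A B) {x : A} (hx : x ∈ B) :
    CoalgebraStruct.comul (R := k) (A := A) x - x ⊗ₜ[k] (1 : A) ∈
      LinearMap.range (LinearMap.lTensor A ((SGA3.augIdealSpan k A B).restrictScalars k).subtype) := by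
  obtain ⟨w, hw⟩ := hB.1 x hx
  have h : ∀ z : B ⊗[k] B, LinearMap.lTensor A
      (LinearMap.id - (Algebra.linearMap k A).comp (Coalgebra.counit (R := k) (A := A)))
      (TensorProduct.map B.val.toLinearMap B.val.toLinearMap z) ∈
      LinearMap.range (LinearMap.lTensor A ((SGA3.augIdealSpan k A B).restrictScalars k).subtype) := by
    intro z
    induction z using TensorProduct.induction_on with
    | zero => simp
    | tmul p q =>
      refine ⟨(p : A) ⊗ₜ[k] ⟨_, sub_counit_mem_augIdealSpan q.2⟩, ?_⟩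
      simp [TensorProduct.tmul_sub]
    | add p q hp hq =>
      rw [map_add, map_add]
      exact add_mem hp hq
  have := h w
  rwa [hw, LinearMap.lTensor_sub, LinearMap.sub_apply, LinearMap.lTensor_id, LinearMap.id_apply,
    lTensor_counit_unit] at this

/-- The elements invariant under the subgroup cut out by the augmentation ideal of a Hopf subalgebra lie in it. -/
theorem mem_of_coinv {B : Subalgebra k A} (hB : SGA3.IsHopfSubalgebra k A B) {x : A}
    (hx : CoalgebraStruct.comul (R := k) (A := A) x - x ⊗ₜ[k] (1 : A) ∈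
      LinearMap.range (LinearMap.lTensor A ((SGA3.augIdealSpan k A B).restrictScalars k).subtype)) : x ∈ B := by
  haveI : Module.FaithfullyFlat B A := Groth.Agent.S4103.result k A B hB
  let L : A →ₐ[k] A ⊗[B] A := Algebra.TensorProduct.includeLeft
  let R : A →ₐ[k] A ⊗[B] A := (Algebra.TensorProduct.includeRight : A →ₐ[B] A ⊗[B] A).restrictScalars k
  let g : A →ₐ[k] A ⊗[B] A := (toConv (L.comp (HopfAlgebra.antipodeAlgHom k A)) * toConv R).ofConv
  let Ψ : A ⊗[k] A →ₐ[k] A ⊗[B] A := Algebra.TensorProduct.lift L g fun _ _ => Commute.all _ _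
  have hcomul : ∀ y, Ψ (Coalgebra.comul (R := k) y) = R y := by
    intro y
    have h1 : (toConv L * toConv g) = toConv R := by
      show toConv L * (toConv (L.comp (HopfAlgebra.antipodeAlgHom k A)) * toConv R) = toConv R
      exact (_root_.mul_assoc (toConv L) (toConv (L.comp (HopfAlgebra.antipodeAlgHom k A))) (toConv R)).symm.trans
        ((congrArg (· * toConv R) (conv_antipode L)).trans (_root_.one_mul (toConv R)))
    have h2 := DFunLike.congr_fun (congrArg WithConv.ofConv h1) y
    refine Eq.trans ?_ h2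
    rw [AlgHom.convMul_apply]
  have hg : ∀ b ∈ B, g b = algebraMap k _ (Coalgebra.counit (R := k) b) := by
    intro b hb
    obtain ⟨w, hw⟩ := hB.1 b hb
    have hS : L (LinearMap.mul' k A ((HopfAlgebraStruct.antipode (R := k) (A := A)).rTensor A
        (Coalgebra.comul (R := k) b))) = algebraMap k _ (Coalgebra.counit (R := k) b) :=
      (congrArg L (HopfAlgebra.mul_antipode_rTensor_comul_apply b)).trans (L.commutes _)
    refine Eq.trans ?_ hS
    show (toConv (L.comp (HopfAlgebra.antipodeAlgHom k A)) * toConv R).ofConv b = _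
    rw [AlgHom.convMul_apply]
    show _ = L (LinearMap.mul' k A ((HopfAlgebraStruct.antipode (R := k) (A := A)).rTensor A
        (CoalgebraStruct.comul (R := k) b)))
    rw [← hw]
    clear hw hS
    induction w using TensorProduct.induction_on with
    | zero => simp
    | tmul p q =>
      simp only [TensorProduct.map_tmul, Algebra.TensorProduct.lift_tmul, AlgHom.comp_apply,
        LinearMap.rTensor_tmul, LinearMap.mul'_apply, AlgHom.toLinearMap_apply]
      show (HopfAlgebraStruct.antipode (R := k) (p : A)) ⊗ₜ[B] (1 : A) * (1 : A) ⊗ₜ[B] (q : A) = _ ⊗ₜ[B] (1 : A)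
      rw [Algebra.TensorProduct.tmul_mul_tmul, mul_one, one_mul]
      have e := TensorProduct.smul_tmul (R := B) q (HopfAlgebraStruct.antipode (R := k) (p : A)) (1 : A)
      rw [Algebra.smul_def, Algebra.smul_def, mul_one] at e
      rw [mul_comm]
      exact e.symm
    | add p q hp hq => simp only [map_add, hp, hq]
  have hgI : ∀ a ∈ SGA3.augIdealSpan k A B, g a = 0 := by
    intro a ha
    refine RingHom.mem_ker.mp ((Ideal.span_le (I := RingHom.ker g)).mpr ?_ ha)
    rintro b ⟨hb, hε⟩
    show g b = 0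
    rw [hg b hb]
    exact (congrArg (algebraMap k _) hε).trans (map_zero _)
  have h0 : Ψ (Coalgebra.comul (R := k) x - x ⊗ₜ[k] (1 : A)) = 0 := by
    obtain ⟨z, hz⟩ := hx
    rw [← hz]
    clear hz
    induction z using TensorProduct.induction_on with
    | zero => simp
    | tmul p q =>
      show Ψ (p ⊗ₜ[k] (q : A)) = 0
      rw [Algebra.TensorProduct.lift_tmul, hgI _ q.2, mul_zero]
    | add p q hp hq => rw [map_add, map_add, hp, hq, add_zero]
  rw [map_sub, hcomul, sub_eq_zero, Algebra.TensorProduct.lift_tmul, map_one, mul_one] at h0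
  have hinj : Function.Injective (TensorProduct.mk B A (A ⧸ LinearMap.range (Algebra.linearMap B A)) 1) :=
    Module.FaithfullyFlat.tensorProduct_mk_injective (B := A) _
  have hq : Submodule.Quotient.mk (p := LinearMap.range (Algebra.linearMap B A)) x = 0 := by
    refine hinj ?_
    have h := congrArg (LinearMap.lTensor A (LinearMap.range (Algebra.linearMap B A)).mkQ) h0
    rw [map_zero]
    refine Eq.trans ?_ (Eq.trans h ?_)
    · rfl
    · show x ⊗ₜ[B] (LinearMap.range (Algebra.linearMap B A)).mkQ (1 : A) = 0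
      rw [Submodule.mkQ_apply, (Submodule.Quotient.mk_eq_zero _).mpr (LinearMap.mem_range.mpr ⟨1, map_one (algebraMap B A)⟩), TensorProduct.tmul_zero]
  obtain ⟨b, hb⟩ := (Submodule.Quotient.mk_eq_zero _).mp hq
  rw [← hb]
  exact b.2

theorem comp_convMul {C D : Type u} [CommRing C] [CommRing D] [Algebra k C] [Algebra k D] (φ : C →ₐ[k] D)
    (f g : A →ₐ[k] C) : toConv (φ.comp (toConv f * toConv g).ofConv) = toConv (φ.comp f) * toConv (φ.comp g) := by
  refine WithConv.ext (AlgHom.ext fun a => ?_)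
  rw [AlgHom.convMul_apply]
  show φ ((toConv f * toConv g).ofConv a) = _
  rw [AlgHom.convMul_apply]
  induction CoalgebraStruct.comul (R := k) a using TensorProduct.induction_on with
  | zero => simp
  | tmul p q => simp
  | add p q hp hq => simp only [map_add, hp, hq]

/-- Points of a Hopf subalgebra extend after a faithfully flat extension. -/
theorem exists_extend {B : Subalgebra k A} (hB : SGA3.IsHopfSubalgebra k A B) (R : Type u) [CommRing R] [Algebra k R]
    (g : B →ₐ[k] R) : ∃ (R' : Type u) (_ : CommRing R') (_ : Algebra k R') (φ : R →ₐ[k] R') (g' : A →ₐ[k] R'),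
      Function.Injective φ ∧ g'.comp B.val = φ.comp g := by
  haveI : Module.FaithfullyFlat B A := Groth.Agent.S4103.result k A B hB
  letI : Algebra B R := g.toRingHom.toAlgebra
  haveI : IsScalarTower k B R := IsScalarTower.of_algebraMap_eq fun r => (g.commutes r).symm
  refine ⟨A ⊗[B] R, inferInstance, inferInstance,
    (Algebra.TensorProduct.includeRight : R →ₐ[B] A ⊗[B] R).restrictScalars k,
    Algebra.TensorProduct.includeLeft, Module.FaithfullyFlat.tensorProduct_mk_injective (B := A) R,
    AlgHom.ext fun b => ?_⟩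
  exact (Algebra.TensorProduct.algebraMap_apply (R := B) (S := B) (A := A) (B := R) b).symm.trans
    ((Algebra.TensorProduct.includeRight : R →ₐ[B] A ⊗[B] R).commutes b).symm

theorem isHopfSubalgebra_sSup {s : Set (Subalgebra k A)} (h : ∀ B ∈ s, SGA3.IsHopfSubalgebra k A B) :
    SGA3.IsHopfSubalgebra k A (sSup s) := by
  constructor
  · have : sSup s ≤ (Algebra.TensorProduct.map (sSup s).val (sSup s).val).range.comap (Bialgebra.comulAlgHom k A) := by
      refine sSup_le fun B hB b hb => ?_
      obtain ⟨w, hw⟩ := (h B hB).1 b hb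
      have hle : B ≤ sSup s := le_sSup hB
      refine ⟨TensorProduct.map (Subalgebra.inclusion hle).toLinearMap (Subalgebra.inclusion hle).toLinearMap w, ?_⟩
      refine Eq.trans ?_ hw
      clear hw
      induction w using TensorProduct.induction_on with
      | zero => simp
      | tmul p q => rfl
      | add p q hp hq => simp only [map_add, hp, hq]
    exact fun b hb => this hb
  · have : sSup s ≤ (sSup s).comap (HopfAlgebra.antipodeAlgHom k A) :=
      sSup_le fun B hB b hb => le_sSup (α := Subalgebra k A) hB ((h B hB).2 b hb)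
    exact fun b hb => this hb

variable (I : Ideal A) [I.IsHopfIdeal k]

omit [I.IsHopfIdeal k] in
theorem augIdealSpan_le_iff {B : Subalgebra k A} : SGA3.augIdealSpan k A B ≤ I ↔
    B ≤ AlgHom.equalizer (Ideal.Quotient.mkₐ k I) ((Algebra.ofId k (A ⧸ I)).comp (Bialgebra.counitAlgHom k A)) := by
  refine ⟨fun h b hb => ?_, fun h => Ideal.span_le.mpr fun b hb => Ideal.Quotient.eq_zero_iff_mem.mp ?_⟩
  · have := Ideal.Quotient.eq.mpr (h (sub_counit_mem_augIdealSpan hb))
    exact this
  · exact (h hb.1 : Ideal.Quotient.mk I b = _).trans ((congrArg (algebraMap k (A ⧸ I)) hb.2).trans (map_zero _))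

/-- A normal Hopf ideal is generated by the augmentation ideal of a Hopf subalgebra. -/
theorem exists_augIdealSpan (hI : SGA3.IsNormalHopfIdeal k A I) :
    ∃ B : Subalgebra k A, SGA3.IsHopfSubalgebra k A B ∧ I = SGA3.augIdealSpan k A B := by
  let s : Set (Subalgebra k A) := {C | SGA3.IsHopfSubalgebra k A C ∧ SGA3.augIdealSpan k A C ≤ I}
  have hs : SGA3.augIdealSpan k A (sSup s) ≤ I :=
    (augIdealSpan_le_iff I).mpr (sSup_le fun C hC => (augIdealSpan_le_iff I).mp hC.2)
  refine ⟨sSup s, isHopfSubalgebra_sSup fun C hC => hC.1, le_antisymm (fun x hx => ?_) hs⟩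
  obtain ⟨A₀, hxA, hfg, hA₀⟩ := Groth.Agent.S5375.result k A x
  letI := GrpSchLib.SubHopf.hopf A₀ hA₀
  haveI : Algebra.FiniteType k A₀ := (Subalgebra.fg_iff_finiteType A₀).mp hfg
  let j : A₀ →ₐc[k] A := BialgHom.ofAlgHom A₀.val rfl
    (AlgHom.ext fun c => GrpSchLib.SubHopf.map_comulRes A₀ hA₀ c)
  let f : A₀ →ₐc[k] A ⧸ I := (Bialgebra.Quotient.mkBialgHom I).comp j
  let B₀ : Subalgebra k (A ⧸ I) := (f : A₀ →ₐ[k] A ⧸ I).range
  have hB₀ : SGA3.IsHopfSubalgebra k (A ⧸ I) B₀ := MultByUnip.isHopfSubalgebra_range f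
  letI := GrpSchLib.SubHopf.hopf B₀ hB₀
  let p : A₀ →ₐc[k] B₀ := BialgHom.ofAlgHom (f : A₀ →ₐ[k] A ⧸ I).rangeRestrict
    (AlgHom.ext fun c => CoalgHomClass.counit_comp_apply f c)
    (AlgHom.ext fun c => GrpSchLib.SubHopf.map_val_injective B₀.val B₀.val Subtype.val_injective Subtype.val_injective (by
      refine Eq.trans ?_ (GrpSchLib.SubHopf.map_comulRes B₀ hB₀ _).symm
      refine Eq.trans ?_ (CoalgHomClass.map_comp_comul_apply f c)
      show Algebra.TensorProduct.map B₀.val B₀.val (TensorProduct.map _ _ (Coalgebra.comul (R := k) c)) = _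
      induction Coalgebra.comul (R := k) c using TensorProduct.induction_on with
      | zero => simp
      | tmul p q => rfl
      | add p q hp hq => simp only [map_add, hp, hq]))
  have hp : Function.Surjective p := fun y => by
    obtain ⟨y, c, rfl⟩ := y
    exact ⟨c, rfl⟩
  have hker : ∀ a : A₀, p a = 0 ↔ (a : A) ∈ I := fun a => by
    rw [← Ideal.Quotient.eq_zero_iff_mem]
    exact ⟨fun h => congrArg Subtype.val h, fun h => Subtype.val_injective h⟩
  have hN : ComodLib.Normal.IsNormalPts p := by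
    intro R _ _ g n
    obtain ⟨R₁, _, _, φ₁, g₁, hφ₁, hg₁⟩ := exists_extend hA₀ R g
    obtain ⟨R₂, _, _, φ₂, n₂, hφ₂, hn₂⟩ := exists_extend hB₀ R₁ (φ₁.comp n)
    let g₂ : A →ₐ[k] R₂ := φ₂.comp g₁
    let h₂ : A →ₐ[k] R₂ := n₂.comp (Ideal.Quotient.mkₐ k I)
    let φ : R →ₐ[k] R₂ := φ₂.comp φ₁
    let w : WithConv (A₀ →ₐ[k] R) :=
      toConv (g.comp (HopfAlgebra.antipodeAlgHom k A₀)) * toConv (n.comp (p : A₀ →ₐ[k] B₀)) * toConv g
    have hz : ∀ a ∈ I, (toConv (g₂.comp (HopfAlgebra.antipodeAlgHom k A)) * toConv h₂ * toConv g₂).ofConv a = 0 := by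
      intro a ha
      have h := hI R₂ (g₂.comp (HopfAlgebra.antipodeAlgHom k A)) h₂ (fun b hb => by
        show n₂ (Ideal.Quotient.mk I b) = 0
        rw [Ideal.Quotient.eq_zero_iff_mem.mpr hb, map_zero]) a ha
      rwa [HopfPtLib.conv3_eq, comp_antipode_antipode] at h
    have hwz : φ.comp w.ofConv = ((toConv (g₂.comp (HopfAlgebra.antipodeAlgHom k A)) * toConv h₂ * toConv g₂).ofConv).comp (j : A₀ →ₐ[k] A) := by
      have e1 : φ.comp g = g₂.comp (j : A₀ →ₐ[k] A) := by
        show φ₂.comp (φ₁.comp g) = _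
        rw [← hg₁]
        rfl
      have e2 : φ.comp (n.comp (p : A₀ →ₐ[k] B₀)) = h₂.comp (j : A₀ →ₐ[k] A) := by
        show (φ₂.comp (φ₁.comp n)).comp (p : A₀ →ₐ[k] B₀) = _
        rw [← hn₂]
        rfl
      refine congrArg WithConv.ofConv (show toConv (φ.comp w.ofConv) =
        toConv (((toConv (g₂.comp (HopfAlgebra.antipodeAlgHom k A)) * toConv h₂ * toConv g₂).ofConv).comp (j : A₀ →ₐ[k] A)) from ?_)
      rw [AlgHom.convMul_comp_bialgHom_distrib, AlgHom.convMul_comp_bialgHom_distrib]
      refine Eq.trans (comp_convMul φ (toConv (g.comp (HopfAlgebra.antipodeAlgHom k A₀)) *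
        toConv (n.comp (p : A₀ →ₐ[k] B₀))).ofConv g) ?_
      refine congrArg₂ (· * ·) ?_ (congrArg toConv e1)
      refine Eq.trans (comp_convMul φ (g.comp (HopfAlgebra.antipodeAlgHom k A₀)) (n.comp (p : A₀ →ₐ[k] B₀))) ?_
      refine congrArg₂ (· * ·) ?_ (congrArg toConv e2)
      refine congrArg toConv (AlgHom.ext fun a => ?_)
      show φ (g (HopfAlgebraStruct.antipode (R := k) a)) = g₂ (HopfAlgebraStruct.antipode (R := k) (a : A))
      exact DFunLike.congr_fun e1 _
    have hw : RingHom.ker (p : A₀ →ₐ[k] B₀) ≤ RingHom.ker w.ofConv := by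
      intro a ha
      refine (hφ₂.comp hφ₁) ((DFunLike.congr_fun hwz a).trans ((hz _ ((hker a).mp ha)).trans ?_))
      simp
    refine ⟨AlgHom.liftOfSurjective (p : A₀ →ₐ[k] B₀) hp w.ofConv hw, ?_⟩
    rw [AlgHom.liftOfSurjective_comp]
    show _ = toConv g * w
    simp only [w, ← _root_.mul_assoc, conv_antipode, _root_.one_mul]
  obtain ⟨C, -, hC, hCker⟩ := ComodLib.Normal.exists_hopf_subalgebra hN hp
  let C' : Subalgebra k A := C.map A₀.val
  have hC' : SGA3.IsHopfSubalgebra k A C' := by
    refine ⟨?_, ?_⟩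
    · rintro _ ⟨c, hc, rfl⟩
      obtain ⟨v, hv⟩ := hC.1 c hc
      let q := (A₀.val.comp C.val).codRestrict C' fun b => ⟨b.1, b.2, rfl⟩
      refine ⟨TensorProduct.map q.toLinearMap q.toLinearMap v, ?_⟩
      refine Eq.trans ?_ (GrpSchLib.SubHopf.map_comulRes A₀ hA₀ c)
      show _ = Algebra.TensorProduct.map A₀.val A₀.val (Coalgebra.comul (R := k) c)
      rw [← hv]
      clear hv
      induction v using TensorProduct.induction_on with
      | zero => simp
      | tmul a b => rfl
      | add a b ha hb => simp only [map_add, ha, hb]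
    · rintro _ ⟨c, hc, rfl⟩
      exact ⟨_, hC.2 c hc, rfl⟩
  have hC's : C' ∈ s := by
    refine ⟨hC', Ideal.span_le.mpr ?_⟩
    rintro _ ⟨⟨c, hc, rfl⟩, hε⟩
    exact (hker c).mp (RingHom.mem_ker.mp (hCker.symm.le (Ideal.subset_span ⟨hc, hε⟩)))
  have hle : C' ≤ sSup s := le_sSup hC's
  have h1 : (⟨x, hxA⟩ : A₀) ∈ Ideal.span {c : A₀ | c ∈ C ∧ Coalgebra.counit (R := k) c = 0} :=
    hCker.le (RingHom.mem_ker.mpr ((hker ⟨x, hxA⟩).mpr hx))
  have h2 : Ideal.span {c : A₀ | c ∈ C ∧ Coalgebra.counit (R := k) c = 0} ≤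
      (SGA3.augIdealSpan k A (sSup s)).comap A₀.val := by
    rw [Ideal.span_le]
    intro c hc
    exact Ideal.subset_span ⟨hle ⟨c, hc.1, rfl⟩, hc.2⟩
  exact h2 h1

end Groth.Agent.Deform.HopfNormal
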