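import Groth.Agent.GrpSchLib.AffineHopf
import Groth.Agent.GrpSchLib.MultTypeBC
import Groth.Agent.GrpLimLib.Basic
import Mathlib.RingTheory.Jacobson.Ring
import Mathlib.FieldTheory.IsAlgClosed.Basic

/-! Isomorphisms of Hopf algebras over an extension of an algebraically closed field specialise. -/

universe u

open WithConv TensorProduct Coalgebra Bialgebra

set_option linter.style.haveILetI false
set_option maxHeartbeats 1000000

noncomputable section

namespace Groth.Agent.Deform.IsoSpec

variable {K : Type u} [Field K] {A B : Type u} [CommRing A] [CommRing B]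

section Maps

variable [Algebra K A] (S : Type u) [CommRing S] [Algebra K S]

/-- The left factor of the square. -/
def i1 : S ⊗[K] A →ₐ[K] S ⊗[K] (A ⊗[K] A) :=
  Algebra.TensorProduct.map (AlgHom.id K S) Algebra.TensorProduct.includeLeft

/-- The right factor of the square. -/
def i2 : S ⊗[K] A →ₐ[K] S ⊗[K] (A ⊗[K] A) :=
  Algebra.TensorProduct.map (AlgHom.id K S) Algebra.TensorProduct.includeRight

theorem map_i1 {S T : Type u} [CommRing S] [Algebra K S] [CommRing T] [Algebra K T] (g : S →ₐ[K] T) :
    (Algebra.TensorProduct.map g (AlgHom.id K (A ⊗[K] A))).comp (i1 S) =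
      (i1 (A := A) T).comp (Algebra.TensorProduct.map g (AlgHom.id K A)) := by
  apply Algebra.TensorProduct.ext <;> ext x <;> simp [i1]

theorem map_i2 {S T : Type u} [CommRing S] [Algebra K S] [CommRing T] [Algebra K T] (g : S →ₐ[K] T) :
    (Algebra.TensorProduct.map g (AlgHom.id K (A ⊗[K] A))).comp (i2 S) =
      (i2 (A := A) T).comp (Algebra.TensorProduct.map g (AlgHom.id K A)) := by
  apply Algebra.TensorProduct.ext <;> ext x <;> simp [i2]

end Maps

variable [Bialgebra K A] [Bialgebra K B]

/-- Compatibility with comultiplication of a family of homomorphisms. -/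
def Compat {S : Type u} [CommRing S] [Algebra K S] (f : B →ₐ[K] S ⊗[K] A) : Prop :=
  (Algebra.TensorProduct.map (AlgHom.id K S) (comulAlgHom K A)).comp f =
    (Algebra.TensorProduct.lift ((i1 S).comp f) ((i2 S).comp f) fun _ _ => Commute.all _ _).comp (comulAlgHom K B)

theorem map_lift {S T : Type u} [CommRing S] [Algebra K S] [CommRing T] [Algebra K T] (g : S →ₐ[K] T)
    (f : B →ₐ[K] S ⊗[K] A) :
    (Algebra.TensorProduct.map g (AlgHom.id K (A ⊗[K] A))).comp
      (Algebra.TensorProduct.lift ((i1 S).comp f) ((i2 S).comp f) fun _ _ => Commute.all _ _) =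
    Algebra.TensorProduct.lift ((i1 T).comp ((Algebra.TensorProduct.map g (AlgHom.id K A)).comp f))
      ((i2 T).comp ((Algebra.TensorProduct.map g (AlgHom.id K A)).comp f)) fun _ _ => Commute.all _ _ := by
  refine AlgHom.ext fun z => ?_
  induction z using TensorProduct.induction_on with
  | zero => simp
  | add p q hp hq => simp only [map_add, hp, hq]
  | tmul x y =>
    simp only [AlgHom.comp_apply, Algebra.TensorProduct.lift_tmul, map_mul]
    have h1 := congr($(map_i1 (A := A) g) (f x))
    have h2 := congr($(map_i2 (A := A) g) (f y))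
    simp only [AlgHom.comp_apply] at h1 h2
    rw [h1, h2]

theorem compat_map {S T : Type u} [CommRing S] [Algebra K S] [CommRing T] [Algebra K T] (g : S →ₐ[K] T)
    {f : B →ₐ[K] S ⊗[K] A} (h : Compat f) : Compat ((Algebra.TensorProduct.map g (AlgHom.id K A)).comp f) := by
  unfold Compat at h ⊢
  have h' := congrArg (Algebra.TensorProduct.map g (AlgHom.id K (A ⊗[K] A))).comp h
  rw [← AlgHom.comp_assoc, ← AlgHom.comp_assoc] at h'
  have e1 : (Algebra.TensorProduct.map g (AlgHom.id K (A ⊗[K] A))).comp
      (Algebra.TensorProduct.map (AlgHom.id K S) (comulAlgHom K A)) =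
      (Algebra.TensorProduct.map (AlgHom.id K T) (comulAlgHom K A)).comp
        (Algebra.TensorProduct.map g (AlgHom.id K A)) := by
    apply Algebra.TensorProduct.ext <;> ext x <;> simp
  rw [e1, AlgHom.comp_assoc] at h'
  rw [h', map_lift]

theorem compat_of_injective {S T : Type u} [CommRing S] [Algebra K S] [CommRing T] [Algebra K T] (g : S →ₐ[K] T)
    (hg : Function.Injective g) {f : B →ₐ[K] S ⊗[K] A}
    (h : Compat ((Algebra.TensorProduct.map g (AlgHom.id K A)).comp f)) : Compat f := by
  unfold Compat at h ⊢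
  have hinj : Function.Injective (Algebra.TensorProduct.map g (AlgHom.id K (A ⊗[K] A))) :=
    Module.Flat.rTensor_preserves_injective_linearMap (M := A ⊗[K] A) g.toLinearMap hg
  refine AlgHom.ext fun b => hinj ?_
  have h' := congr($h b)
  simp only [AlgHom.comp_apply] at h' ⊢
  have e1 : ∀ x, Algebra.TensorProduct.map g (AlgHom.id K (A ⊗[K] A))
      (Algebra.TensorProduct.map (AlgHom.id K S) (comulAlgHom K A) x) =
      Algebra.TensorProduct.map (AlgHom.id K T) (comulAlgHom K A)
        (Algebra.TensorProduct.map g (AlgHom.id K A) x) := by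
    intro x
    induction x using TensorProduct.induction_on with
    | zero => simp
    | tmul s a => simp
    | add p q hp hq => simp only [map_add, hp, hq]
  rw [e1, h']
  exact (congr($(map_lift g f) _)).symm

/-- The counit on a base change. -/
def cu (S : Type u) [CommRing S] [Algebra K S] : S ⊗[K] A →ₐ[K] S :=
  (Algebra.TensorProduct.rid K K S).toAlgHom.comp (Algebra.TensorProduct.map (AlgHom.id K S) (counitAlgHom K A))

theorem cu_map {S T : Type u} [CommRing S] [Algebra K S] [CommRing T] [Algebra K T] (g : S →ₐ[K] T) (x : S ⊗[K] A) :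
    g (cu (A := A) S x) = cu T (Algebra.TensorProduct.map g (AlgHom.id K A) x) := by
  induction x using TensorProduct.induction_on with
  | zero => simp
  | tmul s a => simp [cu]
  | add p q hp hq => simp only [map_add, hp, hq]

/-- The specialisation at a rational point. -/
def sg {D : Type u} [CommRing D] [Algebra K D] (q : D →ₐ[K] K) : D ⊗[K] A →ₐ[K] A :=
  (Algebra.TensorProduct.lid K A).toAlgHom.comp (Algebra.TensorProduct.map q (AlgHom.id K A))

theorem sg_compat {D : Type u} [CommRing D] [Algebra K D] (q : D →ₐ[K] K) {f : B →ₐ[K] D ⊗[K] A} (h : Compat f) :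
    (Algebra.TensorProduct.map ((sg q).comp f) ((sg q).comp f)).comp (comulAlgHom K B) =
      (comulAlgHom K A).comp ((sg q).comp f) := by
  have h' := compat_map q h
  unfold Compat at h'
  refine AlgHom.ext fun b => (Algebra.TensorProduct.lid K (A ⊗[K] A)).symm.injective ?_
  have h1 := congr($h' b)
  simp only [AlgHom.comp_apply] at h1 ⊢
  have e1 : ∀ x : K ⊗[K] A, (Algebra.TensorProduct.lid K (A ⊗[K] A)).symm
      (comulAlgHom K A (Algebra.TensorProduct.lid K A x)) =
      Algebra.TensorProduct.map (AlgHom.id K K) (comulAlgHom K A) x := by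
    intro x
    induction x using TensorProduct.induction_on with
    | zero => simp
    | tmul c a =>
      simp [TensorProduct.tmul_smul, TensorProduct.smul_tmul']
    | add p q hp hq => simp only [map_add, hp, hq]
  refine Eq.trans ?_ (h1.symm.trans (e1 _).symm)
  generalize comulAlgHom K B b = z
  induction z using TensorProduct.induction_on with
  | zero => simp
  | tmul x y =>
    simp only [Algebra.TensorProduct.map_tmul, Algebra.TensorProduct.lift_tmul, AlgHom.comp_apply, sg,
      AlgEquiv.toAlgHom_eq_coe, AlgHom.coe_coe]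
    generalize Algebra.TensorProduct.map q (AlgHom.id K A) (f x) = u
    generalize Algebra.TensorProduct.map q (AlgHom.id K A) (f y) = v
    induction u using TensorProduct.induction_on with
    | zero => simp
    | tmul c a =>
      induction v using TensorProduct.induction_on with
      | zero => simp
      | tmul c' a' =>
        simp [i1, i2, TensorProduct.smul_tmul', TensorProduct.tmul_smul, smul_smul, mul_comm]
        rw [← TensorProduct.smul_tmul', ← TensorProduct.smul_tmul, smul_eq_mul, _root_.mul_one]
      | add p r hp hr => simp only [map_add, mul_add, TensorProduct.tmul_add, hp, hr]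
    | add p r hp hr => simp only [map_add, add_mul, TensorProduct.add_tmul, hp, hr]
  | add p r hp hr => simp only [map_add, hp, hr]

theorem sg_counit {D : Type u} [CommRing D] [Algebra K D] (q : D →ₐ[K] K) (x : D ⊗[K] A) :
    counit (R := K) (sg q x) = q (cu (A := A) D x) := by
  induction x using TensorProduct.induction_on with
  | zero => simp
  | tmul s a => simp [sg, cu, mul_comm]
  | add p q hp hq => simp only [map_add, hp, hq]

/-- An isomorphism of Hopf algebras over an extension of an algebraically closed field specialises. -/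
theorem nonempty_equiv [IsAlgClosed K] (hA : Algebra.FiniteType K A) (hB : Algebra.FiniteType K B)
    (L : Type u) [Field L] [Algebra K L] (e : (L ⊗[K] B) ≃ₐc[L] (L ⊗[K] A)) : Nonempty (B ≃ₐc[K] A) := by
  classical
  let f : B →ₐ[K] L ⊗[K] A :=
    ((e : L ⊗[K] B →ₐ[L] L ⊗[K] A).restrictScalars K).comp Algebra.TensorProduct.includeRight
  let g : A →ₐ[K] L ⊗[K] B :=
    ((e.symm : L ⊗[K] A →ₐ[L] L ⊗[K] B).restrictScalars K).comp Algebra.TensorProduct.includeRight
  obtain ⟨sA, hsA⟩ := hA
  obtain ⟨sB, hsB⟩ := hB
  have hrep : ∀ {C : Type u} [CommRing C] [Algebra K C] (z : L ⊗[K] C), ∃ t : Finset L, ∀ D : Subalgebra K L,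
      (↑t : Set L) ⊆ D → z ∈ (Algebra.TensorProduct.map D.val (AlgHom.id K C)).range := by
    intro C _ _ z
    induction z using TensorProduct.induction_on with
    | zero => exact ⟨∅, fun D _ => zero_mem _⟩
    | tmul l c => exact ⟨{l}, fun D hD => ⟨(⟨l, hD (Finset.mem_singleton_self l)⟩ : D) ⊗ₜ c, by simp⟩⟩
    | add p q hp hq =>
      obtain ⟨t₁, h₁⟩ := hp
      obtain ⟨t₂, h₂⟩ := hq
      refine ⟨t₁ ∪ t₂, fun D hD => ?_⟩
      rw [Finset.coe_union, Set.union_subset_iff] at hD
      exact add_mem (h₁ D hD.1) (h₂ D hD.2)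
  choose tA htA using fun a => hrep (g a)
  choose tB htB using fun b => hrep (f b)
  let D : Subalgebra K L := Algebra.adjoin K (↑(sA.biUnion tA ∪ sB.biUnion tB) : Set L)
  have hDA : ∀ a, g a ∈ (Algebra.TensorProduct.map D.val (AlgHom.id K B)).range := fun a => by
    have : Algebra.adjoin K (↑sA : Set A) ≤ (Algebra.TensorProduct.map D.val (AlgHom.id K B)).range.comap g :=
      Algebra.adjoin_le fun x hx => htA x D fun l hl => Algebra.subset_adjoin
        (Finset.mem_union_left _ (Finset.mem_biUnion.2 ⟨x, hx, hl⟩))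
    exact this (hsA ▸ Algebra.mem_top)
  have hDB : ∀ b, f b ∈ (Algebra.TensorProduct.map D.val (AlgHom.id K A)).range := fun b => by
    have : Algebra.adjoin K (↑sB : Set B) ≤ (Algebra.TensorProduct.map D.val (AlgHom.id K A)).range.comap f :=
      Algebra.adjoin_le fun x hx => htB x D fun l hl => Algebra.subset_adjoin
        (Finset.mem_union_right _ (Finset.mem_biUnion.2 ⟨x, hx, hl⟩))
    exact this (hsB ▸ Algebra.mem_top)
  let jA : (D ⊗[K] A) →ₐ[K] L ⊗[K] A := Algebra.TensorProduct.map D.val (AlgHom.id K A)
  let jB : (D ⊗[K] B) →ₐ[K] L ⊗[K] B := Algebra.TensorProduct.map D.val (AlgHom.id K B)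
  have hjA : Function.Injective jA :=
    Module.Flat.rTensor_preserves_injective_linearMap (M := A) D.val.toLinearMap Subtype.val_injective
  have hjB : Function.Injective jB :=
    Module.Flat.rTensor_preserves_injective_linearMap (M := B) D.val.toLinearMap Subtype.val_injective
  let fD : B →ₐ[K] D ⊗[K] A := (AlgEquiv.ofInjective jA hjA).symm.toAlgHom.comp (f.codRestrict jA.range hDB)
  let gD : A →ₐ[K] D ⊗[K] B := (AlgEquiv.ofInjective jB hjB).symm.toAlgHom.comp (g.codRestrict jB.range hDA)
  have hfD : jA.comp fD = f := AlgHom.ext fun b =>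
    congrArg Subtype.val ((AlgEquiv.ofInjective jA hjA).apply_symm_apply (f.codRestrict jA.range hDB b))
  have hgD : jB.comp gD = g := AlgHom.ext fun a =>
    congrArg Subtype.val ((AlgEquiv.ofInjective jB hjB).apply_symm_apply (g.codRestrict jB.range hDA a))
  -- the compatibilities over the extension
  have hc : Compat f := by
    let τ : (L ⊗[K] A) ⊗[L] (L ⊗[K] A) →ₐ[L] L ⊗[K] (A ⊗[K] A) :=
      Algebra.TensorProduct.lift
        (Algebra.TensorProduct.map (AlgHom.id L L) (Algebra.TensorProduct.includeLeft (R := K) (S := K)))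
        (Algebra.TensorProduct.map (AlgHom.id L L) (Algebra.TensorProduct.includeRight (R := K)))
        fun _ _ => Commute.all _ _
    have hτ : ∀ z : L ⊗[K] A, τ (comulAlgHom L (L ⊗[K] A) z) =
        Algebra.TensorProduct.map (AlgHom.id K L) (comulAlgHom K A) z := by
      intro z
      induction z using TensorProduct.induction_on with
      | zero => simp
      | add p q hp hq => simp only [map_add, hp, hq]
      | tmul l a =>
        simp only [Bialgebra.comulAlgHom_apply, TensorProduct.comul_tmul, CommSemiring.comul_apply,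
          Algebra.TensorProduct.map_tmul, AlgHom.coe_id, id_eq]
        generalize comul (R := K) a = w
        induction w using TensorProduct.induction_on with
        | zero => simp
        | add p q hp hq => simp only [map_add, TensorProduct.tmul_add, hp, hq]
        | tmul x y => simp [τ]
    unfold Compat
    refine AlgHom.ext fun b => ?_
    simp only [AlgHom.comp_apply]
    rw [← hτ]
    have h := CoalgHomClass.map_comp_comul_apply (R := L) (e : L ⊗[K] B →ₐc[L] L ⊗[K] A) ((1 : L) ⊗ₜ[K] b)
    simp only [f, AlgHom.comp_apply, AlgHom.restrictScalars_apply, Algebra.TensorProduct.includeRight_apply]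
    rw [Bialgebra.comulAlgHom_apply]
    refine (congrArg τ h.symm).trans ?_
    simp only [TensorProduct.comul_tmul, CommSemiring.comul_apply, Bialgebra.comulAlgHom_apply]
    generalize comul (R := K) b = w
    induction w using TensorProduct.induction_on with
    | zero => simp
    | add p q hp hq => simp only [map_add, TensorProduct.tmul_add, hp, hq]
    | tmul x y =>
      simp [τ, i1, i2]
      rfl
  have hcD : Compat fD := compat_of_injective D.val Subtype.val_injective (by
    show Compat (jA.comp fD)
    rw [hfD]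
    exact hc)
  have hεD : ∀ b, cu (A := A) D (fD b) = algebraMap K D (counit (R := K) b) := fun b => by
    apply Subtype.val_injective
    rw [← Subalgebra.coe_val]
    rw [cu_map, ← AlgHom.comp_apply (Algebra.TensorProduct.map D.val (AlgHom.id K A)) fD, AlgHom.commutes]
    show cu (A := A) L ((jA.comp fD) b) = _
    rw [hfD]
    have h := CoalgHomClass.counit_comp_apply (e : L ⊗[K] B →ₐc[L] L ⊗[K] A) ((1 : L) ⊗ₜ[K] b)
    have hcu : ∀ z : L ⊗[K] A, cu (A := A) L z = counit (R := L) z := by
      intro z
      induction z using TensorProduct.induction_on with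
      | zero => simp
      | tmul l a => simp [cu, Algebra.smul_def, mul_comm]
      | add p q hp hq => simp only [map_add, hp, hq]
    rw [hcu]
    refine h.trans ?_
    simp [Algebra.smul_def]
  -- a rational point
  haveI : Algebra.FiniteType K D := by
    rw [← Subalgebra.fg_iff_finiteType]
    exact ⟨_, rfl⟩
  obtain ⟨m, hm⟩ := Ideal.exists_maximal D
  letI := Ideal.Quotient.field m
  haveI : Algebra.FiniteType K (D ⧸ m) := Algebra.FiniteType.trans (S := D) inferInstance inferInstance
  haveI : Module.Finite K (D ⧸ m) := finite_of_finite_type_of_isJacobsonRing K (D ⧸ m)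
  let q : D →ₐ[K] K := ((AlgEquiv.ofBijective (Algebra.ofId K (D ⧸ m))
    IsAlgClosed.algebraMap_bijective_of_isIntegral).symm.toAlgHom).comp (Ideal.Quotient.mkₐ K m)
  let φ : B →ₐc[K] A := BialgHom.ofAlgHom ((sg q).comp fD)
    (AlgHom.ext fun b => by
      show counit (R := K) (sg q (fD b)) = _
      rw [sg_counit, hεD, AlgHom.commutes]
      rfl)
    (sg_compat q hcD)
  -- bijectivity
  let FD : (D ⊗[K] B) →ₐ[K] D ⊗[K] A :=
    Algebra.TensorProduct.lift Algebra.TensorProduct.includeLeft fD fun _ _ => Commute.all _ _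
  let GD : (D ⊗[K] A) →ₐ[K] D ⊗[K] B :=
    Algebra.TensorProduct.lift Algebra.TensorProduct.includeLeft gD fun _ _ => Commute.all _ _
  have hF : ∀ z, jA (FD z) = e (jB z) := by
    intro z
    induction z using TensorProduct.induction_on with
    | zero => simp
    | add p r hp hr => simp only [map_add, hp, hr]
    | tmul d b =>
      simp only [FD, jA, jB, Algebra.TensorProduct.lift_tmul, map_mul, Algebra.TensorProduct.includeLeft_apply,
        Algebra.TensorProduct.map_tmul, map_one, AlgHom.coe_id, id_eq]
      have h1 : ((d : L) ⊗ₜ[K] b) = (d : L) • ((1 : L) ⊗ₜ[K] b) := by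
        rw [TensorProduct.smul_tmul', smul_eq_mul, _root_.mul_one]
      have h2 := congr($hfD b)
      simp only [AlgHom.comp_apply, jA] at h2
      rw [Subalgebra.coe_val, h2, h1, map_smul, Algebra.smul_def]
      simp [f]
  have hG : ∀ z, jB (GD z) = e.symm (jA z) := by
    intro z
    induction z using TensorProduct.induction_on with
    | zero => simp
    | add p r hp hr => simp only [map_add, hp, hr]
    | tmul d a =>
      simp only [GD, jA, jB, Algebra.TensorProduct.lift_tmul, map_mul, Algebra.TensorProduct.includeLeft_apply,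
        Algebra.TensorProduct.map_tmul, map_one, AlgHom.coe_id, id_eq]
      have h1 : ((d : L) ⊗ₜ[K] a) = (d : L) • ((1 : L) ⊗ₜ[K] a) := by
        rw [TensorProduct.smul_tmul', smul_eq_mul, _root_.mul_one]
      have h2 := congr($hgD a)
      simp only [AlgHom.comp_apply, jB] at h2
      rw [Subalgebra.coe_val, h2, h1, map_smul, Algebra.smul_def]
      simp [g]
  let ψ : A →ₐ[K] B := (sg q).comp gD
  have hσF : ∀ z, φ (sg q z) = sg q (FD z) := by
    intro z
    induction z using TensorProduct.induction_on with
    | zero => simp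
    | add p r hp hr => simp only [map_add, hp, hr]
    | tmul d b => simp [φ, FD, sg, Algebra.smul_def]
  have hσG : ∀ z, ψ (sg q z) = sg q (GD z) := by
    intro z
    induction z using TensorProduct.induction_on with
    | zero => simp
    | add p r hp hr => simp only [map_add, hp, hr]
    | tmul d a => simp [ψ, GD, sg, Algebra.smul_def]
  have hsec : ∀ {C : Type u} [CommRing C] [Bialgebra K C] (c : C), sg q ((1 : D) ⊗ₜ[K] c) = c := fun c => by
    simp [sg]
  have hbij : Function.Bijective φ := by
    refine Function.bijective_iff_has_inverse.2 ⟨ψ, fun b => ?_, fun a => ?_⟩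
    · conv_lhs => rw [← hsec b]
      rw [hσF, hσG, show GD (FD ((1 : D) ⊗ₜ[K] b)) = (1 : D) ⊗ₜ[K] b from hjB (by rw [hG, hF]; exact e.symm_apply_apply _), hsec]
    · conv_lhs => rw [← hsec a]
      rw [hσG, hσF, show FD (GD ((1 : D) ⊗ₜ[K] a)) = (1 : D) ⊗ₜ[K] a from hjA (by rw [hF, hG]; exact e.apply_symm_apply _), hsec]
  exact ⟨BialgEquiv.ofBijective φ hbij⟩

open CategoryTheory CategoryTheory.Limits AlgebraicGeometry GrpSchLib.AffineHopf in
/-- Affine groups of finite type over an algebraically closed field which agree over an extension agree. -/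
theorem nonempty_grp_iso {K L : Type u} [Field K] [IsAlgClosed K] [Field L] [Algebra K L]
    (H H' : Over (Spec (CommRingCat.of K))) [GrpObj H] [GrpObj H'] [IsAffine H.left] [IsAffine H'.left]
    [LocallyOfFiniteType H.hom] [LocallyOfFiniteType H'.hom]
    (h : Nonempty (Grp.mk (Red.bc (Spec.map (CommRingCat.ofHom (algebraMap K L))) H) ≅
      Grp.mk (Red.bc (Spec.map (CommRingCat.ofHom (algebraMap K L))) H'))) :
    Nonempty (Grp.mk H ≅ Grp.mk H') := by
  obtain ⟨A, _, _, ⟨eA⟩⟩ := exists_hopf H
  obtain ⟨B, _, _, ⟨eB⟩⟩ := exists_hopf H'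
  have hft : ∀ {C : Type u} [CommRing C] [HopfAlgebra K C] {G : Over (Spec (CommRingCat.of K))} [GrpObj G]
      [LocallyOfFiniteType G.hom], (Grp.mk (sp K C) ≅ Grp.mk G) → Algebra.FiniteType K C := by
    intro C _ _ G _ _ e
    let e' := (Over.forget _).mapIso ((Grp.forget _).mapIso e)
    haveI : LocallyOfFiniteType (Spec.map (CommRingCat.ofHom (algebraMap K C))) := by
      have hw : e'.hom ≫ G.hom = Spec.map (CommRingCat.ofHom (algebraMap K C)) := Over.w ((Grp.forget _).mapIso e).hom
      haveI : IsIso e'.hom := e'.isIso_hom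
      exact hw ▸ (MorphismProperty.cancel_left_of_respectsIso @LocallyOfFiniteType e'.hom G.hom).2 ‹_›
    exact RingHom.finiteType_algebraMap.1 ((HasRingHomProperty.Spec_iff (P := @LocallyOfFiniteType)).1 this)
  let σ := Spec.map (CommRingCat.ofHom (algebraMap K L))
  obtain ⟨a⟩ := GrpSchLib.MultTypeBC.bc_iso σ eA
  obtain ⟨b⟩ := GrpSchLib.MultTypeBC.bc_iso σ eB
  obtain ⟨a'⟩ := nonempty_bc_sp (R := K) L A
  obtain ⟨b'⟩ := nonempty_bc_sp (R := K) L B
  obtain ⟨h⟩ := h
  let u := a'.symm ≪≫ a ≪≫ h ≪≫ b.symm ≪≫ b'
  obtain ⟨p, hp⟩ := exists_bialgHom u.hom.hom.hom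
  obtain ⟨r, hr⟩ := exists_bialgHom u.inv.hom.hom
  have h1 : (p : L ⊗[K] B →ₐ[L] L ⊗[K] A).comp (r : L ⊗[K] A →ₐ[L] L ⊗[K] B) = AlgHom.id L _ := by
    apply spMap_injective
    rw [← spMap_comp, ← hp, ← hr, spMap_id]
    exact congrArg (fun t => t.hom.hom) u.hom_inv_id
  have h2 : (r : L ⊗[K] A →ₐ[L] L ⊗[K] B).comp (p : L ⊗[K] B →ₐ[L] L ⊗[K] A) = AlgHom.id L _ := by
    apply spMap_injective
    rw [← spMap_comp, ← hp, ← hr, spMap_id]
    exact congrArg (fun t => t.hom.hom) u.inv_hom_id
  have hb : Function.Bijective p :=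
    Function.bijective_iff_has_inverse.2 ⟨r, fun x => congr($h2 x), fun x => congr($h1 x)⟩
  obtain ⟨ε⟩ := nonempty_equiv (hft eA) (hft eB) L (BialgEquiv.ofBijective p hb)
  exact ⟨eA.symm ≪≫ spIso ε ≪≫ eB⟩

end Groth.Agent.Deform.IsoSpec
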