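import Groth.Agent.GrpSchLib.FixedAffine
import Groth.Agent.Deform.Chev.Basic

/-! An isotropy group acting faithfully on rational points is affine. -/

universe u

open CategoryTheory Limits AlgebraicGeometry MonoidalCategory CartesianMonoidalCategory MonObj GrpObj
open scoped TensorProduct

namespace Groth.Agent.Deform.Isotropy

open Groth.Agent.GrpSchLib Kunneth LineGroups FixedAffine

variable {k : Type u} [Field k] {G X : Over (Spec (CommRingCat.of k))} [GrpObj G] [QuasiCompact G.hom]
  [LocallyOfFiniteType G.hom] [IsSeparated X.hom] [IsIntegral X.left] [IsLocallyNoetherian X.left]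
  (a : AlgGrp.Action G X) (x : 𝟙_ (Over (Spec (CommRingCat.of k))) ⟶ X)

/-- A representation whose kernel acts trivially, at a fixed point. -/
theorem exists_rep (hx : a.IsFixedPt x) :
    ∃ (H : Over (Spec (CommRingCat.of k))) (_ : GrpObj H) (ρ : G ⟶ H), IsAffine H.left ∧ LocallyOfFiniteType H.hom ∧
      IsMonHom ρ ∧ ∀ (R : Over (Spec (CommRingCat.of k))) (g : R ⟶ G), IsAffine R.left → g ≫ ρ = 1 →
        ∀ (T' : Over (Spec (CommRingCat.of k))) (t : T' ⟶ R) (y : T' ⟶ X), lift (t ≫ g) y ≫ a.act = y := by
  classical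
  haveI := AntiAffine.isSeparated_grp G
  obtain ⟨D⟩ := Adjoint.exists_nbhds' X x
  choose b hb using exists_action a x hx D
  choose d M w hM hfix hconv using fun p : (Σ m, Fn (D.N m)) => ActRep.exists_stable (b p.1) p.2
  obtain ⟨F, hF⟩ := RepFamily.exists_detect (G := G) M
  obtain ⟨N₀, B, hB, hBiff⟩ := RepFamily.exists_block M hM F
  let H : Over (Spec (CommRingCat.of k)) := FrB.GLn N₀ (Spec (CommRingCat.of k))
  haveI : IsAffine (FrB.GLZ.{u} N₀).left := inferInstanceAs (IsAffine (Spec _))
  haveI : IsAffineHom (FrB.GLZ.{u} N₀).hom := inferInstance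
  haveI : IsAffineHom H.hom := inferInstanceAs (IsAffineHom (pullback.snd _ _))
  haveI : IsAffine H.left := isAffine_of_isAffineHom H.hom
  haveI : LocallyOfFiniteType (FrB.GLZ.{u} N₀).hom := by
    refine (HasRingHomProperty.Spec_iff (P := @LocallyOfFiniteType)).mpr ?_
    refine RingHom.finiteType_algebraMap.mpr ?_
    have h : Algebra.FiniteType (ULift.{u} ℤ) (MvPolynomial (CoordGrp.GLPoly.Idx N₀) (ULift.{u} ℤ)) := inferInstance
    exact @Algebra.FiniteType.of_surjective _ _ _ _ _ _ _ _ h (CoordGrp.GLn.mk N₀ (ULift.{u} ℤ))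
      Ideal.Quotient.mk_surjective
  haveI : LocallyOfFiniteType H.hom := inferInstanceAs (LocallyOfFiniteType (pullback.snd _ _))
  haveI : QuasiCompact H.hom := inferInstance
  haveI : IsSeparated H.hom := inferInstance
  let ρ : G ⟶ H := hB.hom
  haveI : IsMonHom ρ := hB.isMonHom_hom
  -- points of trivial matrix act trivially
  have htriv : ∀ (R : Over (Spec (CommRingCat.of k))) (g : R ⟶ G), IsAffine R.left → B.map (ev g) = 1 →
      ∀ (T' : Over (Spec (CommRingCat.of k))) (t : T' ⟶ R) (y : T' ⟶ X), lift (t ≫ g) y ≫ a.act = y := by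
    intro R g _ hg
    have hall := hF R g ((hBiff R g).mp hg)
    have hact : ∀ m, (g ▷ D.N m) ≫ (b m).act = snd R (D.N m) := fun m => by
      refine ext_ev (AlgHom.ext fun f => ?_)
      rw [show g ▷ D.N m = lift (fst R (D.N m) ≫ g) (snd R (D.N m)) from
        CartesianMonoidalCategory.hom_ext _ _ (by simp) (by simp)]
      refine hfix ⟨m, f⟩ _ (fst R (D.N m) ≫ g) (snd R (D.N m)) ?_
      have h3 := congrArg (fun A : Matrix _ _ (Fn R) => A.map (ev (fst R (D.N m)))) (hall ⟨m, f⟩)
      simp only [Matrix.map_map, Matrix.map_one _ (map_zero (ev (fst R (D.N m)))) (map_one (ev (fst R (D.N m))))] at h3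
      exact h3
    have hU : (R ◁ D.uι) ≫ (g ▷ X) ≫ a.act = (R ◁ D.uι) ≫ snd R X := by
      refine (cancel_epi (β_ D.U R).hom).mp (InfNbhdEq.eq_of_joint D.j D.dense _ _ fun m => ?_)
      have h1 := congrArg (· ≫ D.j m ≫ D.uι) (hact m)
      simp only [Category.assoc, hb] at h1
      have e : (D.j m ▷ R) ≫ (β_ D.U R).hom = (β_ (D.N m) R).hom ≫ (R ◁ D.j m) :=
        BraidedCategory.braiding_naturality_left _ _
      rw [reassoc_of% e, reassoc_of% e, ← MonoidalCategory.whiskerLeft_comp_assoc,
        ← MonoidalCategory.whiskerLeft_comp_assoc, whisker_exchange_assoc, whiskerLeft_snd, h1]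
    haveI : IsSchemeTheoreticallyDominant (R ◁ D.uι).left := by
      haveI : Nonempty D.U.left := ⟨D.u₀.left (IsLocalRing.closedPoint k)⟩
      haveI : IsDominant D.uι.left :=
        ⟨D.uι.left.isOpenEmbedding.isOpen_range.dense (Set.range_nonempty _)⟩
      haveI : IsSchemeTheoreticallyDominant D.uι.left := .of_isDominant _
      haveI : Flat R.hom := inferInstance
      haveI : Flat (snd R X).left := inferInstanceAs (Flat (pullback.snd R.hom X.hom))
      exact IsSchemeTheoreticallyDominant.of_isPullback (isPullback_whiskerLeft (W := R) D.uι).flip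
    have hX := eq_of_dominant (R ◁ D.uι) _ _ hU
    intro T' t y
    have h4 := congrArg (lift t y ≫ ·) hX
    simp only [lift_snd] at h4
    rwa [← Category.assoc, lift_whiskerRight] at h4
  refine ⟨H, inferInstance, ρ, inferInstance, inferInstance, inferInstance, fun R g hR hg => ?_⟩
  refine htriv R g hR ?_
  have h3 : g ≫ matPt B hB.isUnit = 1 := hg
  rw [comp_matPt] at h3
  exact matPt_injective (hN := isUnit_one) (h3.trans matPt_one.symm)

/-- **A group fixing a point and acting faithfully on rational points is affine.** -/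
theorem isAffine_of_fixedPt [IsAlgClosed k] (hx : a.IsFixedPt x)
    (hf : ∀ g : 𝟙_ (Over (Spec (CommRingCat.of k))) ⟶ G, lift (toUnit X ≫ g) (𝟙 X) ≫ a.act = 𝟙 X → g = η[G]) :
    IsAffine G.left := by
  obtain ⟨H, _, ρ, hH, hHl, hρ, htriv⟩ := exists_rep a x hx
  haveI := hH; haveI := hHl; haveI := hρ
  haveI : IsAffineHom H.hom := isAffineHom_of_isAffine _
  haveI : QuasiCompact (ρ.left ≫ H.hom) := by rw [Over.w ρ]; infer_instance
  haveI : QuasiCompact ρ.left := QuasiCompact.of_comp ρ.left H.hom
  haveI : IsAffine (𝟙_ (Over (Spec (CommRingCat.of k)))).left := inferInstanceAs (IsAffine (Spec _))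
  have hker : ∀ g : 𝟙_ (Over (Spec (CommRingCat.of k))) ⟶ G, g ≫ ρ = 1 → g = η[G] := fun g hg => hf g (by
    have h := htriv _ g inferInstance hg X (toUnit X) (𝟙 X)
    exact h)
  let K := pullback ρ.left η[H].left
  let π : K ⟶ Spec (CommRingCat.of k) := pullback.snd ρ.left η[H].left
  haveI : IsSeparated G.hom := AntiAffine.isSeparated_grp G
  haveI : LocallyOfFiniteType ρ.left := by
    haveI : LocallyOfFiniteType (ρ.left ≫ H.hom) := by rw [Over.w ρ]; infer_instance
    exact locallyOfFiniteType_of_comp ρ.left H.hom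
  haveI : LocallyOfFiniteType π := inferInstanceAs (LocallyOfFiniteType (pullback.snd _ _))
  haveI : JacobsonSpace K := LocallyOfFiniteType.jacobsonSpace π
  have hpt : ∀ z w : K, IsClosed ({z} : Set K) → IsClosed ({w} : Set K) → z = w := by
    intro z w hz hw
    let c : closedPoints K → {p : Spec (CommRingCat.of k) ⟶ K // p ≫ π = 𝟙 _} := (pointEquivClosedPoint π).symm
    have hc : ∀ d, c d = c ⟨z, hz⟩ := by
      intro d
      have key : ∀ p : {p : Spec (CommRingCat.of k) ⟶ K // p ≫ π = 𝟙 _},
          p.1 ≫ pullback.fst ρ.left η[H].left = (η[G]).left := fun p => by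
        let g : 𝟙_ (Over (Spec (CommRingCat.of k))) ⟶ G := Over.homMk (p.1 ≫ pullback.fst ρ.left η[H].left) (by
          show (p.1 ≫ pullback.fst ρ.left η[H].left) ≫ G.hom = 𝟙 _
          rw [← Over.w ρ, Category.assoc, pullback.condition_assoc, Over.w η[H]]
          exact (congrArg (p.1 ≫ ·) (Category.comp_id π)).trans p.2)
        have : g ≫ ρ = 1 := by
          rw [← MonObj.one_eq_one]
          refine Over.OverMorphism.ext ?_
          show (p.1 ≫ pullback.fst ρ.left η[H].left) ≫ ρ.left = η[H].left
          rw [Category.assoc, pullback.condition, ← Category.assoc, show p.1 ≫ π = 𝟙 _ from p.2, Category.id_comp]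
        exact congrArg CommaMorphism.left (hker g this)
      refine Subtype.ext (pullback.hom_ext ((key _).trans (key _).symm) ?_)
      exact ((c d).2).trans (c ⟨z, hz⟩).2.symm
    have h2 := congrArg (pointEquivClosedPoint π) (hc ⟨w, hw⟩)
    simp only [c, Equiv.apply_symm_apply] at h2
    exact (congrArg Subtype.val h2).symm
  haveI : DiscreteTopology K := by
    have hsub : Subsingleton K := by
      refine ⟨fun z w => ?_⟩
      by_contra hne
      have hcl : closure (closedPoints K) = Set.univ := closure_closedPoints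
      rcases Set.eq_empty_or_nonempty (closedPoints K) with h0 | ⟨e, he⟩
      · rw [h0, closure_empty] at hcl
        exact (hcl.symm ▸ Set.mem_univ z : z ∈ (∅ : Set K)).elim
      · have h1 : closedPoints K = {e} := Set.eq_singleton_iff_unique_mem.2 ⟨he, fun y hy => hpt y e hy he⟩
        rw [h1, IsClosed.closure_eq he] at hcl
        exact hne ((hcl.symm ▸ Set.mem_univ z : z ∈ ({e} : Set K)).trans (hcl.symm ▸ Set.mem_univ w : w ∈ ({e} : Set K)).symm)
    infer_instance
  haveI : IsFinite ρ.left := HomFinite.isFinite_of_discrete_ker ρ ‹_›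
  exact isAffine_of_isAffineHom ρ.left

end Groth.Agent.Deform.Isotropy
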