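import Groth.Agent.H23.RatExtend
import Groth.Agent.GrpSchLib.AffineHopf
import Groth.Agent.Deform.Bundle.Isotrivial
import Groth.Prelude.Def_AlgGrp
import Groth.Agent.GrpSchLib.GaPts

/-!
# Fixed points of one-dimensional group actions on proper schemes
-/

open CategoryTheory CategoryTheory.Limits MonoidalCategory CartesianMonoidalCategory MonObj GrpObj AlgebraicGeometry
open Polynomial

set_option maxHeartbeats 1000000

universe u

namespace Groth.Agent.Deform.LineFixedPt

open GrpSchLib.AffineHopf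

variable {k : Type u} [Field k]

theorem isDominant_specMap {A B : Type u} [CommRing A] [CommRing B] (f : A →+* B) (hf : Function.Injective f) :
    IsDominant (Spec.map (CommRingCat.ofHom f)) :=
  ⟨(PrimeSpectrum.denseRange_comap_iff_ker_le_nilRadical f).2 (by
    rw [(RingHom.injective_iff_ker_eq_bot f).1 hf]; exact bot_le)⟩

/-- The generic point of an affine integral scheme, through the fraction field. -/
theorem exists_generic (R : CommRingCat.{u}) [IsDomain R] :
    ∃ r : FractionRing R →+* ((Spec R).presheaf.stalk (genericPoint (Spec R))),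
      Spec.map (CommRingCat.ofHom r) ≫ Spec.map (CommRingCat.ofHom (algebraMap R (FractionRing R))) =
        (Spec R).fromSpecStalk (genericPoint (Spec R)) := by
  refine ⟨IsLocalization.lift (M := nonZeroDivisors R) (g := algebraMap R (Spec R).functionField)
    (fun y => IsLocalization.map_units (Spec R).functionField y), ?_⟩
  rw [Spec.fromSpecStalk_eq', ← Spec.map_comp, ← CommRingCat.ofHom_comp]
  congr 1
  ext1
  exact IsLocalization.lift_comp _

/-- A rational map on the affine line to a proper scheme is everywhere defined. -/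
theorem exists_extend {X : Over (Spec (CommRingCat.of k))} [IsProper X.hom]
    (φ : sp k (FractionRing k[X]) ⟶ X) :
    ∃ E : sp k k[X] ⟶ X, spMap (IsScalarTower.toAlgHom k k[X] (FractionRing k[X])) ≫ E = φ := by
  let P : Scheme.{u} := Spec (CommRingCat.of k[X])
  let sP : P ⟶ Spec (CommRingCat.of k) := Spec.map (CommRingCat.ofHom (algebraMap k k[X]))
  haveI : IsDomain (CommRingCat.of k[X] : Type u) := inferInstanceAs (IsDomain k[X])
  obtain ⟨r, hr⟩ := exists_generic (CommRingCat.of k[X])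
  let φ₀ : Spec (P.presheaf.stalk (genericPoint P)) ⟶ X.left := Spec.map (CommRingCat.ofHom r) ≫ φ.left
  have h₀ : φ₀ ≫ X.hom = P.fromSpecStalk _ ≫ sP := by
    refine (Category.assoc _ _ _).trans ?_
    refine (congrArg (Spec.map (CommRingCat.ofHom r) ≫ ·) (Over.w φ)).trans ?_
    rw [← hr, Category.assoc]
    show _ ≫ Spec.map _ = Spec.map _ ≫ Spec.map _ ≫ Spec.map _
    rw [← Spec.map_comp, ← Spec.map_comp, ← Spec.map_comp]
    congr 1
  haveI : X.left.IsSeparated := by
    constructor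
    rw [← terminal.comp_from X.hom]
    infer_instance
  obtain ⟨W, hg, H, hTW, hH, hH0⟩ := H23.RatExtend.extend sP X.hom φ₀ h₀ Set.univ (fun p _ => by
    refine H23.RatExtend.exists_lift sP X.hom φ₀ h₀ p ?_
    haveI : ValuationRing (Localization.AtPrime (p : PrimeSpectrum k[X]).asIdeal) :=
      H23.RatExtend.valuationRing_atPrime _
    haveI : IsDomain (P.presheaf.stalk p) :=
      Function.Injective.isDomain _ (IsFractionRing.injective (P.presheaf.stalk p) P.functionField)
    haveI : IsDomain (Localization.AtPrime (p : PrimeSpectrum k[X]).asIdeal) :=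
      IsLocalization.isDomain_localization (Ideal.primeCompl_le_nonZeroDivisors _)
    exact H23.RatExtend.valuationRing_of_ringEquiv
      (StructureSheaf.stalkIso k[X] p).toRingEquiv)
  have hW : W = ⊤ := top_le_iff.1 fun p _ => hTW (Set.mem_univ p)
  subst hW
  refine ⟨Over.homMk (P.topIso.inv ≫ H) ?_, ?_⟩
  · show (P.topIso.inv ≫ H) ≫ X.hom = sP
    rw [Category.assoc, hH, ← Category.assoc, ← Scheme.topIso_hom, Iso.inv_hom_id, Category.id_comp]
  let ρ : Spec ((Spec (CommRingCat.of k[X])).presheaf.stalk (genericPoint P)) ⟶ (sp k (FractionRing k[X])).left :=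
    Spec.map (CommRingCat.ofHom r)
  haveI hdom : IsDominant ρ := isDominant_specMap r r.injective
  haveI : IsReduced (sp k (FractionRing k[X])).left :=
    inferInstanceAs (IsReduced (Spec (CommRingCat.of (FractionRing k[X]))))
  refine Over.OverMorphism.ext (ext_of_isDominant ρ ?_)
  show Spec.map (CommRingCat.ofHom r) ≫ Spec.map (CommRingCat.ofHom (algebraMap k[X] (FractionRing k[X]))) ≫
    P.topIso.inv ≫ H = φ₀
  refine (Category.assoc _ _ _).symm.trans ?_
  rw [hr, ← hH0, ← Category.assoc]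
  congr 1
  rw [← cancel_mono (⊤ : P.Opens).ι, Category.assoc, ← Scheme.topIso_hom, Iso.inv_hom_id, Category.comp_id,
    Scheme.topIso_hom,
    Scheme.Opens.fromSpecStalkOfMem_ι]

/-- Evaluation at the origin. -/
noncomputable abbrev ev0 (R : Type u) [CommRing R] [Algebra k R] : k[X] →ₐ[k] R :=
  (Algebra.ofId k R).comp (aeval (0 : k))

/-- A fixed point, from a "translation at infinity" of the group. -/
theorem exists_fixed {G X : Over (Spec (CommRingCat.of k))} [GrpObj G] [IsProper X.hom]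
    (a : AlgGrp.Action G X) (x₀ : 𝟙_ (Over (Spec (CommRingCat.of k))) ⟶ X)
    {R B : Type u} [CommRing R] [CommRing B] [IsDomain B] [Algebra k R] [Algebra k B]
    (π : sp k R ⟶ G) (h : G ⟶ sp k R) (hh : h ≫ π = 𝟙 G) (e : sp k (FractionRing k[X]) ⟶ G)
    (g : R →ₐ[k] B) (u v : k[X] →ₐ[k] B) (uK vK : FractionRing k[X] →ₐ[k] FractionRing B)
    (huK : ∀ p, uK (algebraMap k[X] _ p) = algebraMap B _ (u p))
    (hvK : ∀ p, vK (algebraMap k[X] _ p) = algebraMap B _ (v p))
    (ε : B →ₐ[k] R) (hg : ε.comp g = AlgHom.id k R) (hu : ε.comp u = ev0 R) (hv : ε.comp v = ev0 R)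
    (hid : (spMap ((IsScalarTower.toAlgHom k B (FractionRing B)).comp g) ≫ π) * (spMap uK ≫ e) =
      spMap vK ≫ e) :
    ∃ x : 𝟙_ (Over (Spec (CommRingCat.of k))) ⟶ X, a.IsFixedPt x := by
  haveI : X.left.IsSeparated := by
    constructor
    rw [← terminal.comp_from X.hom]
    infer_instance
  let orb := a.orbitMap x₀
  have horb : ∀ {T : Over (Spec (CommRingCat.of k))} (t : T ⟶ G), t ≫ orb = lift t (toUnit T ≫ x₀) ≫ a.act := by
    intro T t
    simp only [orb, AlgGrp.Action.orbitMap, ← Category.assoc, comp_lift, Category.comp_id, toUnit_unique (_ ≫ toUnit G) (toUnit T)]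
  obtain ⟨E, hE⟩ := exists_extend (e ≫ orb)
  let y : 𝟙_ (Over (Spec (CommRingCat.of k))) ⟶ X :=
    (Over.homMk (Spec.map (CommRingCat.ofHom (aeval (R := k) (0 : k)).toRingHom)) (by
      show Spec.map _ ≫ Spec.map _ = 𝟙 _
      rw [← Spec.map_comp, ← Spec.map_id]
      congr 1
      ext c
      exact (aeval (R := k) (0 : k)).commutes c) : 𝟙_ (Over (Spec (CommRingCat.of k))) ⟶ sp k k[X]) ≫ E
  have hy : spMap (ev0 R) ≫ E = toUnit _ ≫ y := by
    simp only [y, ← Category.assoc]
    congr 1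
    refine Over.OverMorphism.ext ?_
    show Spec.map _ = Spec.map _ ≫ Spec.map _
    rw [← Spec.map_comp]
    rfl
  let K := FractionRing B
  let i : B →ₐ[k] K := IsScalarTower.toAlgHom k B K
  have hi : IsDominant (spMap i).left := isDominant_specMap _ (IsFractionRing.injective B K)
  have key : lift (spMap g ≫ π) (spMap u ≫ E) ≫ a.act = spMap v ≫ E := by
    refine Over.OverMorphism.ext ?_
    haveI : IsReduced (sp k B).left := inferInstanceAs (IsReduced (Spec (CommRingCat.of B)))
    refine ext_of_isDominant (spMap i).left (congrArg CommaMorphism.left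
      (?_ : spMap i ≫ lift (spMap g ≫ π) (spMap u ≫ E) ≫ a.act = spMap i ≫ spMap v ≫ E))
    have e1 : ∀ (w : k[X] →ₐ[k] B) (wK : FractionRing k[X] →ₐ[k] K),
        (∀ p, wK (algebraMap k[X] _ p) = algebraMap B _ (w p)) →
        spMap i ≫ spMap w ≫ E = (spMap wK ≫ e) ≫ orb := by
      intro w wK hw
      rw [Category.assoc, ← hE, ← Category.assoc, ← Category.assoc, spMap_comp, spMap_comp]
      congr 2
      exact AlgHom.ext fun p => (hw p).symm
    rw [← Category.assoc, comp_lift, e1 v vK hvK, e1 u uK huK, ← Category.assoc, spMap_comp, horb,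
      horb, Bundle.act_act, hid]
  have h0 : lift π (toUnit _ ≫ y) ≫ a.act = toUnit _ ≫ y := by
    have h2 := congrArg (fun m => spMap ε ≫ m) key
    simp only [← Category.assoc, comp_lift, spMap_comp, hg, hu, hv, spMap_id, Category.id_comp] at h2
    rwa [hy] at h2
  refine ⟨y, fun T t => ?_⟩
  have h3 := congrArg (fun m => (t ≫ h) ≫ m) h0
  simp only [← Category.assoc, comp_lift, toUnit_unique _ (toUnit T)] at h3
  rwa [Category.assoc t h π, hh, Category.comp_id] at h3

open GrpSchLib.GaPts in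
/-- The coordinate presentation of the additive group. -/
theorem gaFn_spMap {A C : Type u} [CommRing A] [CommRing C] [Algebra k A] [Algebra k C] (f : C →ₐ[k] A)
    (c : C) (p : sp k C ⟶ Red.Ga (Spec (CommRingCat.of k)))
    (hp : Red.gaFn p = (Scheme.ΓSpecIso (CommRingCat.of C)).inv c) :
    Red.gaFn (spMap f ≫ p) = (Scheme.ΓSpecIso (CommRingCat.of A)).inv (f c) := by
  rw [gaFn_comp, hp]
  exact (congrArg (fun ψ => (ConcreteCategory.hom ψ) c)
    (Scheme.ΓSpecIso_inv_naturality (CommRingCat.ofHom f.toRingHom))).symm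

/-- Lifting an algebra map to the fraction field. -/
theorem exists_liftK {B : Type u} [CommRing B] [IsDomain B] [Algebra k B] (u : k[X] →ₐ[k] B)
    (hu : Function.Injective u) :
    ∃ uK : FractionRing k[X] →ₐ[k] FractionRing B,
      ∀ p, uK (algebraMap k[X] _ p) = algebraMap B _ (u p) := by
  have hu' : ∀ y : nonZeroDivisors k[X],
      IsUnit (((IsScalarTower.toAlgHom k B (FractionRing B)).comp u) y) := fun y =>
    isUnit_iff_ne_zero.2 fun h => nonZeroDivisors.coe_ne_zero y
      (hu ((IsFractionRing.injective B (FractionRing B) (h.trans (map_zero _).symm)).trans (map_zero u).symm))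
  exact ⟨IsLocalization.liftAlgHom hu', fun p => IsLocalization.lift_eq hu' p⟩

open GrpSchLib.GaPts in
theorem exists_fixed_Ga {G X : Over (Spec (CommRingCat.of k))} [GrpObj G] [IsProper X.hom]
    (a : AlgGrp.Action G X) (x₀ : 𝟙_ (Over (Spec (CommRingCat.of k))) ⟶ X)
    (j : Red.Ga (Spec (CommRingCat.of k)) ⟶ G) [IsMonHom j] (j' : G ⟶ Red.Ga (Spec (CommRingCat.of k)))
    (hj : j' ≫ j = 𝟙 G) :
    ∃ x : 𝟙_ (Over (Spec (CommRingCat.of k))) ⟶ X, a.IsFixedPt x := by
  -- coordinates
  let π₀ : sp k k[X] ⟶ Red.Ga (Spec (CommRingCat.of k)) := ptOfFn ((Scheme.ΓSpecIso (CommRingCat.of k[X])).inv Polynomial.X)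
  let F := Γ((Red.Ga (Spec (CommRingCat.of k))).left, ⊤)
  let φ : k →+* F := (Red.Ga (Spec (CommRingCat.of k))).hom.appTop.hom.comp (Scheme.ΓSpecIso (CommRingCat.of k)).inv.hom
  let ψ : CommRingCat.of k[X] ⟶ F := CommRingCat.ofHom (eval₂RingHom φ (Red.gaFn (𝟙 (Red.Ga (Spec (CommRingCat.of k))))))
  let l : (Red.Ga (Spec (CommRingCat.of k))).left ⟶ Spec (CommRingCat.of k[X]) :=
    ΓSpec.adjunction.homEquiv (Red.Ga (Spec (CommRingCat.of k))).left (Opposite.op (CommRingCat.of k[X])) ψ.op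
  have hl : ∀ z, l.appTop ((Scheme.ΓSpecIso (CommRingCat.of k[X])).inv z) = ψ z := fun z =>
    DFunLike.congr_fun (congrArg CommRingCat.Hom.hom (ΓSpecIso_inv_ΓSpec_adjunction_homEquiv ψ)) z
  let h₀ : Red.Ga (Spec (CommRingCat.of k)) ⟶ sp k k[X] := Over.homMk l (by
    apply ext_to_Spec
    show _ ≫ (l ≫ Spec.map (CommRingCat.ofHom (algebraMap k k[X]))).appTop = _ ≫ (Red.Ga (Spec (CommRingCat.of k))).hom.appTop
    rw [Scheme.Hom.comp_appTop, ← Category.assoc,
      ← Scheme.ΓSpecIso_inv_naturality, Category.assoc]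
    refine CommRingCat.hom_ext (RingHom.ext fun c => ?_)
    exact (hl _).trans (eval₂_C φ _))
  have hh₀ : h₀ ≫ π₀ = 𝟙 _ := by
    apply gaFn_injective
    show Red.gaFn (h₀ ≫ π₀) = Red.gaFn (𝟙 _)
    rw [gaFn_comp, gaFn_ptOfFn]
    exact (hl _).trans (eval₂_X φ _)
  let e₀ : sp k (FractionRing k[X]) ⟶ Red.Ga (Spec (CommRingCat.of k)) :=
    ptOfFn ((Scheme.ΓSpecIso (CommRingCat.of (FractionRing k[X]))).inv (algebraMap k[X] _ Polynomial.X)⁻¹)
  -- the chart
  let gQ : k[X][X] := C Polynomial.X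
  let s : k[X][X] := 1 + gQ * Polynomial.X
  let z : (k[X][X]) →ₐ[k] k[X] := Polynomial.mapAlgHom (aeval (0 : k) : k[X] →ₐ[k] k)
  have hzs : z s = 1 := by simp [z, s, gQ, Polynomial.coe_mapAlgHom]
  let B := Localization.Away s
  have hs0 : s ≠ 0 := fun h => by simp [h] at hzs
  haveI : IsDomain B := IsLocalization.isDomain_localization
    (powers_le_nonZeroDivisors_of_noZeroDivisors hs0)
  let inc : (k[X][X]) →ₐ[k] B := IsScalarTower.toAlgHom k (k[X][X]) B
  let si : B := IsLocalization.Away.invSelf s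
  have hsi : inc s * si = 1 := IsLocalization.Away.mul_invSelf s
  let g : k[X] →ₐ[k] B := aeval (inc gQ)
  let u : k[X] →ₐ[k] B := aeval (inc Polynomial.X)
  let v : k[X] →ₐ[k] B := aeval (inc Polynomial.X * si)
  let lif : ∀ (τ : (k[X][X]) →ₐ[k] k[X]), τ s = 1 → ∃ τ' : B →ₐ[k] k[X], ∀ q, τ' (inc q) = τ q := fun τ hτ => by
    have hu' : ∀ y : Submonoid.powers s, IsUnit (τ y) := by
      rintro ⟨_, n, rfl⟩; simp [hτ]
    exact ⟨IsLocalization.liftAlgHom hu', fun q => IsLocalization.lift_eq hu' q⟩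
  have si1 : ∀ (τ : B →ₐ[k] k[X]), τ (inc s) = 1 → τ si = 1 := fun τ hτ => by
    have := congrArg τ hsi
    rwa [map_mul, hτ, _root_.one_mul, map_one] at this
  obtain ⟨z', hz'⟩ := lif z hzs
  let etaB : (k[X][X]) →ₐ[k] k[X] := (aeval (0 : k[X])).restrictScalars k
  have hηs : etaB s = 1 := by simp [etaB, s, gQ]
  obtain ⟨ε, hε⟩ := lif etaB hηs
  have hzu : ∀ p, z' (u p) = p := by
    intro p
    rw [← aeval_algHom_apply, hz']
    simp [z, Polynomial.coe_mapAlgHom]
  have hzv : ∀ p, z' (v p) = p := by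
    intro p
    rw [← aeval_algHom_apply, map_mul, si1 z' (by rw [hz', hzs]), _root_.mul_one, hz']
    simp [z, Polynomial.coe_mapAlgHom]
  obtain ⟨uK, huK⟩ := exists_liftK u (Function.LeftInverse.injective hzu)
  obtain ⟨vK, hvK⟩ := exists_liftK v (Function.LeftInverse.injective hzv)
  refine exists_fixed a x₀ (π₀ ≫ j) (j' ≫ h₀)
    (by rw [Category.assoc, reassoc_of% hh₀, hj]) (e₀ ≫ j) g u v uK vK huK hvK ε
    (Polynomial.algHom_ext (by simp [g, hε, etaB, gQ]))
    (Polynomial.algHom_ext (by simp [u, hε, etaB]))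
    (Polynomial.algHom_ext (by simp [v, hε, etaB])) ?_
  simp only [← Category.assoc]
  refine (MonObj.mul_comp (M := Red.Ga (Spec (CommRingCat.of k))) _ _ j).symm.trans ?_
  congr 1
  apply gaFn_injective
  show Red.gaFn (_ * _) = Red.gaFn _
  rw [gaFn_mul, gaFn_spMap _ _ _ (gaFn_ptOfFn _), gaFn_spMap _ _ _ (gaFn_ptOfFn _),
    gaFn_spMap _ _ _ (gaFn_ptOfFn _)]
  refine (map_add (Scheme.ΓSpecIso (CommRingCat.of (FractionRing B))).inv.hom _ _).symm.trans (congrArg _ ?_)
  show _ + uK (algebraMap k[X] (FractionRing k[X]) Polynomial.X)⁻¹ = vK (algebraMap k[X] (FractionRing k[X]) Polynomial.X)⁻¹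
  rw [map_inv₀, map_inv₀, huK, hvK, AlgHom.comp_apply]
  simp only [g, u, v, aeval_X, map_mul, IsScalarTower.toAlgHom_apply]
  set κ : B →+* FractionRing B := algebraMap B (FractionRing B)
  have hx : κ (inc Polynomial.X) ≠ 0 := fun h => by
    have := (IsFractionRing.injective B (FractionRing B)) (h.trans (map_zero κ).symm)
    exact Polynomial.X_ne_zero (R := k) (by simpa [u, this] using (hzu Polynomial.X).symm)
  have h1 : κ si = (κ (inc s))⁻¹ := eq_inv_of_mul_eq_one_right (by rw [← map_mul, hsi, map_one])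
  rw [h1, _root_.mul_inv_rev, _root_.inv_inv]
  simp only [s, map_add, map_one, map_mul, IsScalarTower.toAlgHom_apply]
  field_simp
  ring

open GrpSchLib in
theorem exists_fixed_Gm {G X : Over (Spec (CommRingCat.of k))} [GrpObj G] [IsProper X.hom]
    (a : AlgGrp.Action G X) (x₀ : 𝟙_ (Over (Spec (CommRingCat.of k))) ⟶ X)
    (j : sp k (MonoidAlgebra k (Multiplicative ℤ)) ⟶ G) [IsMonHom j]
    (j' : G ⟶ sp k (MonoidAlgebra k (Multiplicative ℤ))) (hj : j' ≫ j = 𝟙 G) :
    ∃ x : 𝟙_ (Over (Spec (CommRingCat.of k))) ⟶ X, a.IsFixedPt x := by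
  let R := MonoidAlgebra k (Multiplicative ℤ)
  let T1 : R := MonoidAlgebra.single (Multiplicative.ofAdd (1 : ℤ)) 1
  let xu : (FractionRing k[X])ˣ := Units.mk0 (algebraMap k[X] _ Polynomial.X)
    (fun h => Polynomial.X_ne_zero ((IsFractionRing.injective k[X] (FractionRing k[X]))
      (h.trans (map_zero _).symm)))
  let e₀ : R →ₐ[k] FractionRing k[X] := MonoidAlgebra.lift k (FractionRing k[X]) (Multiplicative ℤ)
    ((Units.coeHom _).comp (zpowersHom _ xu))
  let g : R →ₐ[k] R[X] := IsScalarTower.toAlgHom k R R[X]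
  let u : k[X] →ₐ[k] R[X] := aeval Polynomial.X
  let v : k[X] →ₐ[k] R[X] := aeval (C T1 * Polynomial.X)
  let z : R[X] →ₐ[k] k[X] := Polynomial.mapAlgHom (MonoidAlgebra.lift k k (Multiplicative ℤ) 1)
  have hzT : MonoidAlgebra.lift k k (Multiplicative ℤ) 1 T1 = 1 := by simp [T1]
  have hzu : ∀ p, z (u p) = p := by
    intro p; rw [← aeval_algHom_apply]; simp [z, Polynomial.coe_mapAlgHom]
  have hzv : ∀ p, z (v p) = p := by
    intro p; rw [← aeval_algHom_apply]; simp [z, hzT, Polynomial.coe_mapAlgHom]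
  obtain ⟨uK, huK⟩ := exists_liftK u (Function.LeftInverse.injective hzu)
  obtain ⟨vK, hvK⟩ := exists_liftK v (Function.LeftInverse.injective hzv)
  let ε : R[X] →ₐ[k] R := (aeval (0 : R)).restrictScalars k
  refine exists_fixed a x₀ j j' hj (spMap e₀ ≫ j) g u v uK vK huK hvK ε
    (AlgHom.ext fun r => (eval_C : eval (0 : R) (C r) = r))
    (Polynomial.algHom_ext (by simp [u, ε]))
    (Polynomial.algHom_ext (by simp [v, ε])) ?_
  simp only [← Category.assoc, spMap_comp]
  rw [← MonObj.mul_comp, spMap_mul]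
  congr 2
  refine MonoidAlgebra.algHom_ext (fun m => ?_) (by ext)
  rw [AlgHom.convMul_apply, MonoidAlgebra.comul_single]
  simp only [Algebra.TensorProduct.lift_tmul, TensorProduct.map_tmul, LinearMap.mul'_apply,
    AlgHom.toLinearMap_apply, map_one]
  simp [e₀, g, IsScalarTower.toAlgHom_apply]
  rw [show (xu : FractionRing k[X]) = algebraMap k[X] _ Polynomial.X from rfl, huK, hvK]
  simp only [u, v, aeval_X, map_mul, mul_zpow]
  congr 1
  let χ : Multiplicative ℤ →* FractionRing R[X] :=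
    ((algebraMap R[X] (FractionRing R[X]) : R[X] →* FractionRing R[X]).comp (C : R →+* R[X]).toMonoidHom).comp
      (MonoidAlgebra.of k (Multiplicative ℤ))
  have hm : m = Multiplicative.ofAdd (1 : ℤ) ^ Multiplicative.toAdd m := by
    rw [← ofAdd_zsmul, smul_eq_mul, _root_.mul_one, ofAdd_toAdd]
  show χ m = χ (Multiplicative.ofAdd (1 : ℤ)) ^ Multiplicative.toAdd m
  rw [← map_zpow, ← hm]

end Groth.Agent.Deform.LineFixedPt
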