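import Groth.Agent.Deform.SplitQuot
import Groth.Agent.GrpSchLib.MonoSubgroup
import Groth.Agent.AlgSpDec.SchImageChart
import Groth.Agent.ExistEasy.ChowNR.Basic

/-!
# Scheme-theoretic images of homomorphisms, computed locally on the base

If a homomorphism factors locally on the base as a faithfully flat map followed by a closed subgroup, its
scheme-theoretic image is a closed subgroup which is locally that subgroup.
-/

set_option autoImplicit false
set_option linter.style.haveILetI false
set_option maxHeartbeats 400000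

universe u

open CategoryTheory CategoryTheory.Limits MonoidalCategory CartesianMonoidalCategory MonObj GrpObj AlgebraicGeometry

attribute [local instance] CategoryTheory.Hom.monoid CategoryTheory.Hom.group

namespace Groth.Agent.Deform.LocalImage

variable {S : Scheme.{u}}

theorem ker_eq_of_dominant {X P Y : Scheme.{u}} (p : X ⟶ P) (k : P ⟶ Y) (hp : p.ker = ⊥) :
    (p ≫ k).ker = k.ker := by
  rw [Scheme.Hom.ker_comp, hp, Scheme.IdealSheafData.map_bot]

theorem exists_iso_of_factor {X P P' Y : Scheme.{u}} {p : X ⟶ P} {p' : X ⟶ P'} (k : P ⟶ Y) (k' : P' ⟶ Y)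
    [IsClosedImmersion k] [IsClosedImmersion k'] (hp : p.ker = ⊥) (hp' : p'.ker = ⊥) (h : p ≫ k = p' ≫ k') :
    ∃ e : P ≅ P', e.hom ≫ k' = k := by
  have hk : k.ker = k'.ker := by rw [← ker_eq_of_dominant p k hp, h, ker_eq_of_dominant p' k' hp']
  exact ⟨{ hom := IsClosedImmersion.lift k' k hk.ge
           inv := IsClosedImmersion.lift k k' hk.le
           hom_inv_id := by rw [← cancel_mono k]; simp
           inv_hom_id := by rw [← cancel_mono k']; simp }, IsClosedImmersion.lift_fac _ _ _⟩

/-- A factorisation datum of `u` over an open piece of the base. -/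
structure Piece {X G : Over S} [GrpObj G] (u : X ⟶ G) where
  W : Scheme.{u}
  g : W ⟶ S
  isOpen : IsOpenImmersion g
  E : Over W
  grp : GrpObj E
  ψ : E ⟶ Red.bc g G
  hom : IsMonHom ψ
  closed : IsClosedImmersion ψ.left
  π : Red.bc g X ⟶ E
  flat : Flat π.left
  surj : Surjective π.left
  fac : π ≫ ψ = (Over.pullback g).map u

variable {X G : Over S} [GrpObj G]

omit [GrpObj G] in
theorem theta_map {T : Scheme.{u}} (g : T ⟶ S) {P : Over S} {Y : Over T} (a : Y ⟶ Red.bc g P) (v : P ⟶ G) :
    DSPtsLib.theta g (a ≫ (Over.pullback g).map v) = DSPtsLib.theta g a ≫ v :=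
  (Over.mapPullbackAdj g).homEquiv_naturality_right_symm a v

theorem exists_lift_cover {P : Over S} (j : P ⟶ G) [IsClosedImmersion j.left] {T : Over S} (a : T ⟶ G)
    (𝒰 : T.left.OpenCover) (h : ∀ i, ∃ l, l ≫ j.left = 𝒰.f i ≫ a.left) : ∃ l : T ⟶ P, l ≫ j = a := by
  choose l hl using h
  let L := 𝒰.glueMorphisms l fun i k => by
    rw [← cancel_mono j.left, Category.assoc, Category.assoc, hl, hl, ← Category.assoc, ← Category.assoc,
      pullback.condition]
  have hL : L ≫ j.left = a.left := 𝒰.hom_ext _ _ fun i => by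
    rw [← Category.assoc, Scheme.Cover.ι_glueMorphisms, hl]
  exact ⟨Over.homMk L (by rw [← Over.w j, ← Category.assoc, hL, Over.w a]), Over.OverMorphism.ext hL⟩

/-- The image of a homomorphism which is locally a faithfully flat map followed by a closed subgroup. -/
theorem exists_image (u : X ⟶ G) [QuasiCompact u.left] (h : ∀ s : S, ∃ D : Piece u, s ∈ Set.range D.g) :
    ∃ (P : Over S) (_ : GrpObj P) (j : P ⟶ G) (_ : IsMonHom j) (_ : IsClosedImmersion j.left) (p : X ⟶ P),
      p ≫ j = u ∧ ∀ D : Piece u, letI := D.grp; Nonempty (Grp.mk (Red.bc D.g P) ≅ Grp.mk D.E) := by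
  let P : Over S := Over.mk (u.left.imageι ≫ G.hom)
  let j : P ⟶ G := Over.homMk u.left.imageι rfl
  let p : X ⟶ P := Over.homMk u.left.toImage (by
    show u.left.toImage ≫ u.left.imageι ≫ G.hom = X.hom
    rw [Scheme.Hom.toImage_imageι_assoc, Over.w u])
  haveI : IsClosedImmersion j.left := inferInstanceAs (IsClosedImmersion u.left.imageι)
  haveI : Mono j := (Over.forget S).mono_of_mono_map (inferInstanceAs (Mono j.left))
  have hpj : p ≫ j = u := Over.OverMorphism.ext (Scheme.Hom.toImage_imageι _)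
  have hiso : ∀ D : Piece u, ∃ e : Red.bc D.g P ≅ D.E, e.hom ≫ D.ψ = (Over.pullback D.g).map j := by
    intro D
    haveI := D.isOpen
    haveI := D.closed
    haveI := D.flat
    haveI := D.surj
    haveI hd := ExistEasy.ChowNR.isSTDom_toImage u.left
    haveI : QuasiCompact p.left := inferInstanceAs (QuasiCompact u.left.toImage)
    haveI : IsSchemeTheoreticallyDominant p.left := hd
    haveI : Flat (pullback.fst P.hom D.g) := MorphismProperty.pullback_fst (P := @Flat) _ _ inferInstance
    haveI h1 : IsSchemeTheoreticallyDominant ((Over.pullback D.g).map p).left :=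
      IsSchemeTheoreticallyDominant.of_isPullback (GrpSchLib.HomSplitLocal.isPullback_map p D.g)
    haveI : IsClosedImmersion ((Over.pullback D.g).map j).left :=
      MorphismProperty.overPullbackMap (P := @IsClosedImmersion) _ _ (inferInstanceAs (IsClosedImmersion j.left))
    obtain ⟨e, he⟩ := exists_iso_of_factor (p := ((Over.pullback D.g).map p).left) (p' := D.π.left)
      ((Over.pullback D.g).map j).left D.ψ.left h1.ker_eq_bot (AlgSpDec.ker_eq_bot_of_flat_surjective _) (by
        rw [← Over.comp_left, ← Functor.map_comp, hpj, ← D.fac]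
        rfl)
    exact ⟨Over.isoMk e (by rw [← Over.w D.ψ, ← Category.assoc, he, Over.w]), Over.OverMorphism.ext he⟩
  -- lifting a combination of points of the image
  have hop : ∀ {T : Over S} (a b : T ⟶ P), (∃ l, l ≫ j = (a ≫ j) * (b ≫ j)⁻¹) := by
    intro T a b
    choose D hD using h
    let 𝒰 : T.left.OpenCover := Scheme.openCoverOfIsOpenCover T.left
      (fun s : S => T.hom ⁻¹ᵁ (haveI := (D s).isOpen; (D s).g.opensRange))
      (TopologicalSpace.Opens.ext (Set.eq_univ_of_forall fun t => by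
        simp only [TopologicalSpace.Opens.coe_iSup, Set.mem_iUnion]
        exact ⟨T.hom t, hD _⟩))
    refine exists_lift_cover j _ 𝒰 fun s => ?_
    haveI := (D s).isOpen
    letI := (D s).grp
    haveI := (D s).hom
    let O : T.left.Opens := T.hom ⁻¹ᵁ (D s).g.opensRange
    let t : (O : Scheme.{u}) ⟶ (D s).W := IsOpenImmersion.lift (D s).g (O.ι ≫ T.hom) (by
      rintro _ ⟨x, rfl⟩
      exact x.2)
    let T' : Over (D s).W := Over.mk t
    let o : (Over.map (D s).g).obj T' ⟶ T := Over.homMk O.ι (IsOpenImmersion.lift_fac _ _ _).symm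
    obtain ⟨a', ha'⟩ := (DSPtsLib.theta_bijective (H := P) (Y := T') (D s).g).2 (o ≫ a)
    obtain ⟨b', hb'⟩ := (DSPtsLib.theta_bijective (H := P) (Y := T') (D s).g).2 (o ≫ b)
    obtain ⟨e, he⟩ := hiso (D s)
    let c : T' ⟶ (D s).E := (a' ≫ e.hom) * (b' ≫ e.hom)⁻¹
    have hc : (c ≫ e.inv) ≫ (Over.pullback (D s).g).map j =
        (a' ≫ (Over.pullback (D s).g).map j) * (b' ≫ (Over.pullback (D s).g).map j)⁻¹ := by
      rw [← he, Category.assoc, e.inv_hom_id_assoc, MonObj.mul_comp, GrpObj.inv_comp, Category.assoc, Category.assoc]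
    have h2 := congrArg (DSPtsLib.theta (D s).g) hc
    rw [DSPtsLib.theta_mul, Deform.theta_inv, theta_map,
      theta_map, theta_map, ha', hb', Category.assoc,
      Category.assoc, ← GrpObj.comp_inv, ← MonObj.comp_mul] at h2
    exact ⟨(DSPtsLib.theta (D s).g (c ≫ e.inv)).left, congrArg (fun m => Over.Hom.left m) h2⟩
  have hone : ∀ {T : Over S}, (∃ l : T ⟶ P, l ≫ j = 1) := by
    intro T
    choose D hD using h
    let 𝒰 : T.left.OpenCover := Scheme.openCoverOfIsOpenCover T.left
      (fun s : S => T.hom ⁻¹ᵁ (haveI := (D s).isOpen; (D s).g.opensRange))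
      (TopologicalSpace.Opens.ext (Set.eq_univ_of_forall fun t => by
        simp only [TopologicalSpace.Opens.coe_iSup, Set.mem_iUnion]
        exact ⟨T.hom t, hD _⟩))
    refine exists_lift_cover j _ 𝒰 fun s => ?_
    haveI := (D s).isOpen
    letI := (D s).grp
    haveI := (D s).hom
    let O : T.left.Opens := T.hom ⁻¹ᵁ (D s).g.opensRange
    let t : (O : Scheme.{u}) ⟶ (D s).W := IsOpenImmersion.lift (D s).g (O.ι ≫ T.hom) (by
      rintro _ ⟨x, rfl⟩
      exact x.2)
    let T' : Over (D s).W := Over.mk t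
    let o : (Over.map (D s).g).obj T' ⟶ T := Over.homMk O.ι (IsOpenImmersion.lift_fac _ _ _).symm
    obtain ⟨e, he⟩ := hiso (D s)
    have hc : ((1 : T' ⟶ (D s).E) ≫ e.inv) ≫ (Over.pullback (D s).g).map j = 1 := by
      rw [← he, Category.assoc, e.inv_hom_id_assoc, MonObj.one_comp]
    have h2 := congrArg (DSPtsLib.theta (D s).g) hc
    rw [theta_map, GrpSchLib.HomUnitLocus.theta_one, ← MonObj.comp_one o] at h2
    exact ⟨(DSPtsLib.theta (D s).g ((1 : T' ⟶ (D s).E) ≫ e.inv)).left, congrArg (fun m => Over.Hom.left m) h2⟩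
  obtain ⟨η', hη⟩ := hone (T := 𝟙_ (Over S))
  have hη' : η' ≫ j = η[G] := by
    rw [hη, Hom.one_def, toUnit_unique (toUnit (𝟙_ (Over S))) (𝟙 _), Category.id_comp]
  obtain ⟨ι₀, hι₀⟩ := hone (T := P)
  obtain ⟨ι', hι'⟩ := hop ι₀ (𝟙 P)
  rw [hι₀, Category.id_comp, _root_.one_mul] at hι'
  obtain ⟨ι₁, hι₁⟩ := hone (T := P ⊗ P)
  obtain ⟨νs, hνs⟩ := hop ι₁ (snd P P)
  rw [hι₁, _root_.one_mul] at hνs
  obtain ⟨μ', hμ'⟩ := hop (fst P P) νs
  rw [hνs, _root_.inv_inv] at hμ'
  obtain ⟨str, hj⟩ := GrpSchLib.exists_grpObj_of_mono j η' hη' μ' hμ' ι' hι'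
  letI := str
  haveI := hj
  refine ⟨P, str, j, hj, inferInstance, p, hpj, fun D => ?_⟩
  letI := D.grp
  haveI := D.hom
  haveI := D.closed
  haveI : Mono D.ψ := (Over.forget _).mono_of_mono_map (inferInstanceAs (Mono D.ψ.left))
  obtain ⟨e, he⟩ := hiso D
  haveI : IsMonHom e.hom := Deform.isMonHom_of_comp e.hom D.ψ he
  exact ⟨Grp.mkIso' e⟩

end Groth.Agent.Deform.LocalImage
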