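import Groth.Agent.UnipComp.Max

/-!
# The largest subgroup of multiplicative type and the component of the unit

`UnipComp.exists_max_multType`, with the additional information that the quotient contains
the filtration at the unit.
-/

universe u

open TensorProduct
open Groth.Agent.UnipComp

namespace Groth.Agent.Deform.MultUnip

attribute [local instance] regComod

variable {k : Type u} [Field k] {A : Type u} [CommRing A] [HopfAlgebra k A] [Coalgebra.IsCocomm k A]

variable (k A) in
/-- As `exists_max_multType`, the quotient containing the component of the unit. -/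
theorem exists_max_multType_comp :
    ∃ (J : Ideal A) (_ : J.IsHopfIdeal k), SGA3b.IsMultTypeConst k (A ⧸ J) ∧
      (∀ (I : Ideal A) [I.IsHopfIdeal k], SGA3b.IsMultTypeConst k (A ⧸ I) → J ≤ I) ∧
      ∃ (B : Type u) (_ : CommRing B) (_ : HopfAlgebra k B) (φ : B →ₐc[k] A), Function.Injective φ ∧
        J = Ideal.map (φ : B →+* A) (RingHom.ker (Bialgebra.counitAlgHom k B)) ∧ HopfRep.IsUnipotent k B ∧
        ∀ n, ∀ x ∈ F k (1 : A) n, ∃ b, φ b = x := by
  let B := comp k A
  let j : B →ₐ[k] A := B.val
  have hj : Function.Injective j := Subtype.val_injective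
  letI iB : HopfAlgebra k B :=
    GrpSchLib.HopfTransfer.hopf j hj (fun b => comul_mem_map b) (fun b => antipode_mem_range b)
  have hcom : ∀ b : B, Algebra.TensorProduct.map j j (Coalgebra.comul (R := k) b) =
      Coalgebra.comul (R := k) (j b) :=
    fun b => GrpSchLib.HopfTransfer.map_comulRes j hj (fun b => comul_mem_map b) b
  let φ : B →ₐc[k] A := BialgHom.ofAlgHom j rfl (AlgHom.ext hcom)
  let J : Ideal A := Ideal.map (φ : B →+* A) (RingHom.ker (Bialgebra.counitAlgHom k B))
  have hJmem : ∀ n, ∀ x ∈ F k (1 : A) n, x - algebraMap k A (Coalgebra.counit (R := k) x) ∈ J := by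
    intro n x hx
    let b : B := ⟨x, n, hx⟩
    have hb : b - algebraMap k B (Coalgebra.counit (R := k) x) ∈
        RingHom.ker (Bialgebra.counitAlgHom k B) := by
      rw [RingHom.mem_ker, map_sub, AlgHom.commutes]
      exact sub_eq_zero.2 rfl
    exact Ideal.mem_map_of_mem (φ : B →+* A) hb
  have hJ : J.IsHopfIdeal k := MultTypeLib.isHopfIdeal_map_ker φ
  refine ⟨J, hJ, ?_, fun I _ hI => ?_, B, inferInstance, iB, φ, hj, rfl, ?_, fun n x hx => ⟨⟨x, n, hx⟩, rfl⟩⟩
  · let K := AlgebraicClosure k
    let q : K ⊗[k] A →ₐc[K] K ⊗[k] (A ⧸ J) :=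
      Bialgebra.TensorProduct.map (BialgHom.id K K) (Bialgebra.Quotient.mkBialgHom J)
    refine ⟨K, inferInstance, inferInstance, inferInstance, isDiag_of_span fun x => ?_⟩
    let G := Submodule.span K {g : K ⊗[k] (A ⧸ J) | IsGroupLikeElem K g}
    have hle : (⊤ : Submodule K (K ⊗[k] A)) ≤
        G.comap ((q : K ⊗[k] A →ₐ[K] K ⊗[k] (A ⧸ J))).toLinearMap := by
      refine top_le_iSup_F.trans (iSup₂_le fun g hg => iSup_le fun n => ?_)
      intro v hv
      let h := HopfAlgebraStruct.antipode (R := K) g
      have hhv : h * v ∈ F K (1 : K ⊗[k] A) n := by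
        have := mul_groupLike_mem hg.antipode n hv
        rwa [hg.antipode_mul_cancel] at this
      have hsc : ∀ y ∈ (F k (1 : A) n).baseChange K, q y ∈ Submodule.span K {(1 : K ⊗[k] (A ⧸ J))} := by
        intro y hy
        rw [Submodule.baseChange_eq_span] at hy
        induction hy using Submodule.span_induction with
        | mem y hy =>
          obtain ⟨b, hb, rfl⟩ := hy
          refine Submodule.mem_span_singleton.2 ⟨algebraMap k K (Coalgebra.counit (R := k) b), ?_⟩
          have h1 := Ideal.Quotient.mk_eq_mk_iff_sub_mem b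
            (algebraMap k A (Coalgebra.counit (R := k) b)) |>.2 (hJmem n b hb)
          show _ = (1 : K) ⊗ₜ[k] (Ideal.Quotient.mk J b)
          rw [h1, Ideal.Quotient.mk_algebraMap, Algebra.TensorProduct.one_def, algebraMap_smul,
            Algebra.algebraMap_eq_smul_one, TensorProduct.tmul_smul]
        | zero => simp
        | add p r _ _ hp hr => rw [map_add]; exact add_mem hp hr
        | smul c p _ hp => rw [map_smul]; exact Submodule.smul_mem _ c hp
      obtain ⟨c, hc⟩ := Submodule.mem_span_singleton.1 (hsc _ (F_baseChange_le n hhv))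
      show q v ∈ G
      rw [show v = g * (h * v) by rw [← mul_assoc, hg.mul_antipode_cancel, one_mul], map_mul, ← hc,
        mul_smul_comm, mul_one]
      exact G.smul_mem c (Submodule.subset_span (hg.map q))
    obtain ⟨y, rfl⟩ : ∃ y, q y = x := by
      obtain ⟨y, hy⟩ := LinearMap.lTensor_surjective K
        (g := (Ideal.Quotient.mkₐ k J).toLinearMap) Ideal.Quotient.mk_surjective x
      refine ⟨y, hy ▸ ?_⟩
      clear hy
      induction y using TensorProduct.induction_on with
      | zero => simp
      | add p r hp hr => simp only [map_add, hp, hr]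
      | tmul a b => rfl
    exact hle Submodule.mem_top
  · refine Ideal.map_le_iff_le_comap.2 fun b hb => ?_
    obtain ⟨n, hn⟩ := b.2
    show (φ : B →+* A) b ∈ I
    refine Ideal.Quotient.eq_zero_iff_mem.1 ?_
    rw [show Ideal.Quotient.mk I ((φ : B →+* A) b) = (Bialgebra.Quotient.mkBialgHom (R := k) I) (b : A) from rfl,
      map_mem_comp hI (Bialgebra.Quotient.mkBialgHom (R := k) I) n b hn,
      show Coalgebra.counit (R := k) (b : A) = 0 from hb, map_zero]
  · intro V _ _ _ hfin hnt
    classical
    let ρ := HopfRep.Comod.coact (k := k) (A := B) (V := V)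
    let c : Module.Dual k V → V → A := fun ψ v => j (TensorProduct.lid k B (ψ.rTensor B (ρ v)))
    let P : ℕ → Prop := fun n => ∃ v : V, v ≠ 0 ∧ ∀ ψ, c ψ v ∈ F k (1 : A) n
    have hP : ∃ n, P n := by
      obtain ⟨v, hv⟩ := exists_ne (0 : V)
      obtain ⟨S, hS⟩ := TensorProduct.exists_finset (ρ v)
      choose N hN using fun b : B => b.2
      refine ⟨S.sup fun i => N i.2, v, hv, fun ψ => ?_⟩
      show j (TensorProduct.lid k B (ψ.rTensor B (ρ v))) ∈ _
      rw [hS, map_sum, map_sum, map_sum]
      refine Submodule.sum_mem _ fun i hi => ?_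
      rw [LinearMap.rTensor_tmul, TensorProduct.lid_tmul, map_smul]
      exact Submodule.smul_mem _ _ (F_mono _ (Finset.le_sup (f := fun i => N i.2) hi) (hN i.2))
    obtain ⟨v, hv, hvn⟩ := Nat.find_spec hP
    rw [Submodule.ne_bot_iff]
    refine ⟨v, ?_, hv⟩
    have hzero : ∀ w : V, (∀ ψ, c ψ w ∈ F k (1 : A) 0) → w = 0 := fun w hw => by
      refine (Module.forall_dual_apply_eq_zero_iff k w).1 fun ψ => ?_
      have h0 : TensorProduct.lid k B (ψ.rTensor B (ρ w)) = 0 :=
        hj ((Submodule.mem_bot k).1 (hw ψ) |>.trans (map_zero j).symm)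
      have h1 : Coalgebra.counit (R := k) (TensorProduct.lid k B (ψ.rTensor B (ρ w))) =
          ψ (ComodLib.actF (Coalgebra.counit (R := k) (A := B)) w) := by
        rw [ComodLib.actF_apply]
        show Coalgebra.counit (R := k) (TensorProduct.lid k B (ψ.rTensor B (ρ w))) =
          ψ (ComodLib.slice _ (ρ w))
        generalize ρ w = z
        induction z using TensorProduct.induction_on with
        | zero => simp
        | add p r hp hr => simp only [map_add, hp, hr]
        | tmul p r => simp [mul_comm]
      rw [h0, map_zero, ComodLib.actF_counit] at h1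
      exact h1.symm
    cases hn0 : Nat.find hP with
    | zero => exact absurd (hzero v (hn0 ▸ hvn)) hv
    | succ m =>
      show ρ v = v ⊗ₜ[k] (1 : B)
      refine ComodLib.ext_of_forall_slice_eq fun φB => ?_
      obtain ⟨φA, hφA⟩ : ∃ φA : A →ₗ[k] k, φA ∘ₗ j.toLinearMap = φB := by
        obtain ⟨l, hl⟩ := j.toLinearMap.exists_leftInverse_of_injective (LinearMap.ker_eq_bot.2 hj)
        exact ⟨φB ∘ₗ l, by rw [LinearMap.comp_assoc, hl, LinearMap.comp_id]⟩
      rw [ComodLib.slice_tmul, ← sub_eq_zero]
      by_contra hne
      refine Nat.find_min hP (m := m) (by omega) ⟨_, hne, fun ψ => ?_⟩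
      have hshift : shift (1 : A) φA (c ψ v) = c ψ (ComodLib.slice φB (ρ v) - φB 1 • v) := by
        have hφ1 : φA 1 = φB 1 := by rw [← hφA]; simp
        have hlin : c ψ (ComodLib.slice φB (ρ v) - φB 1 • v) =
            c ψ (ComodLib.slice φB (ρ v)) - φB 1 • c ψ v := by
          simp only [c, map_sub, map_smul]
        rw [hlin]
        show ComodLib.actF φA (c ψ v) - φA 1 • c ψ v = _
        rw [hφ1]
        congr 1
        show ComodLib.slice φA (Coalgebra.comul (R := k) (j (TensorProduct.lid k B (ψ.rTensor B (ρ v))))) =
          j (TensorProduct.lid k B (ψ.rTensor B (ρ (ComodLib.slice φB (ρ v)))))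
        rw [← hcom]
        have hco := LinearMap.congr_fun (HopfRep.Comod.coassoc (k := k) (A := B) (V := V)) v
        simp only [LinearMap.comp_apply, LinearEquiv.coe_coe] at hco
        let T : V ⊗[k] (B ⊗[k] B) →ₗ[k] A := ComodLib.slice φA ∘ₗ
          (Algebra.TensorProduct.map j j).toLinearMap ∘ₗ
            (TensorProduct.lid k (B ⊗[k] B)).toLinearMap ∘ₗ ψ.rTensor (B ⊗[k] B)
        have e1 : ∀ z : V ⊗[k] B, ComodLib.slice φA (Algebra.TensorProduct.map j j
            (Coalgebra.comul (R := k) (TensorProduct.lid k B (ψ.rTensor B z)))) =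
            T ((CoalgebraStruct.comul (R := k) (A := B)).lTensor V z) := by
          intro z
          induction z using TensorProduct.induction_on with
          | zero => simp
          | add p r hp hr => simp only [map_add, hp, hr]
          | tmul p r =>
            simp [T]
            rfl
        have e2 : ∀ z : V ⊗[k] B, T (TensorProduct.assoc k V B B (ρ.rTensor B z)) =
            j (TensorProduct.lid k B (ψ.rTensor B (ρ (ComodLib.slice φB z)))) := by
          intro z
          induction z using TensorProduct.induction_on with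
          | zero => simp
          | add p r hp hr => simp only [map_add, hp, hr]
          | tmul p r =>
            rw [ComodLib.slice_tmul, map_smul, map_smul, map_smul, map_smul, LinearMap.rTensor_tmul]
            generalize ρ p = w
            induction w using TensorProduct.induction_on with
            | zero => simp
            | add p r hp hr => simp only [map_add, TensorProduct.add_tmul, smul_add, hp, hr]
            | tmul p' r' =>
              simp [T, ← hφA, mul_comm, smul_smul]
        rw [e1, ← e2]
        exact congrArg T hco.symm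
      rw [← hshift]
      exact mem_F_succ.1 (hn0 ▸ hvn ψ) φA


end Groth.Agent.Deform.MultUnip
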