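import Groth.Agent.GrpSchLib.HopfQuotEtale
import Groth.Agent.GrpSchLib.HopfGalois
import Groth.Agent.S7951

/-!
# Split extensions of affine groups, and group-likes under a change of coefficients
-/

universe u

open TensorProduct WithConv

set_option linter.unusedSimpArgs false

namespace Groth.Agent.Deform.MultUnip

variable {k : Type u} [Field k] {A D : Type u} [CommRing A] [HopfAlgebra k A] [CommRing D] [HopfAlgebra k D]

/-- Unipotence is kept by an extension of the field, without finiteness. -/
theorem isUnipotent_baseChange (K : Type u) [Field K] [Algebra k K] (hU : HopfRep.IsUnipotent k A) :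
    HopfRep.IsUnipotent K (K ⊗[k] A) := by
  refine Groth.Agent.ComodLib.isUnipotent_of_filtration
    (C := fun r => (Groth.Agent.ComodLib.uniLevel k A r).baseChange K) ?_ ?_ ?_ ?_
  · exact fun r s h => Submodule.baseChange_mono _ (Groth.Agent.ComodLib.uniLevel_mono h)
  · show (Groth.Agent.ComodLib.uniLevel k A 0).baseChange K = _
    rw [Groth.Agent.ComodLib.uniLevel_zero, Submodule.baseChange_span, Set.image_singleton]
    rfl
  · refine eq_top_iff.mpr fun x _ => ?_
    induction x using TensorProduct.induction_on with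
    | zero => exact Submodule.zero_mem _
    | add p q hp hq => exact Submodule.add_mem _ (hp trivial) (hq trivial)
    | tmul c a =>
      obtain ⟨r, hr⟩ := (Submodule.mem_iSup_of_directed _
        (Groth.Agent.ComodLib.uniLevel_mono (k := k) (A := A)).directed_le).mp
        (Groth.Agent.ComodLib.iSup_uniLevel_eq_top hU ▸ Submodule.mem_top :
          a ∈ ⨆ r, Groth.Agent.ComodLib.uniLevel k A r)
      exact Submodule.mem_iSup_of_mem r (Submodule.tmul_mem_baseChange_of_mem _ hr)
  · intro r
    rw [Submodule.baseChange_eq_span, Submodule.map_span, Submodule.span_le]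
    rintro _ ⟨_, ⟨a, ha, rfl⟩, rfl⟩
    rw [SetLike.mem_coe]
    erw [Groth.Agent.ComodLib.PrimDiag.comul_one_tmul]
    have h := Groth.Agent.ComodLib.map_comul_uniLevel (k := k) (A := A) r ⟨a, ha, rfl⟩
    revert h
    generalize CoalgebraStruct.comul (R := k) a = y
    intro h
    refine Submodule.iSup_induction _ (motive := fun y => TensorProduct.AlgebraTensorModule.distribBaseChange k K A A
      ((1 : K) ⊗ₜ[k] y) ∈ _) h (fun i y hy => ?_) (by simp) fun y z hy hz => by
        rw [TensorProduct.tmul_add, map_add]; exact Submodule.add_mem _ hy hz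
    refine Submodule.iSup_induction _ (motive := fun y => TensorProduct.AlgebraTensorModule.distribBaseChange k K A A
      ((1 : K) ⊗ₜ[k] y) ∈ _) hy (fun hi y hy => ?_) (by simp) fun y z hy hz => by
        rw [TensorProduct.tmul_add, map_add]; exact Submodule.add_mem _ hy hz
    refine Submodule.mem_iSup_of_mem i (Submodule.mem_iSup_of_mem hi ?_)
    obtain ⟨z, rfl⟩ := hy
    induction z using TensorProduct.induction_on with
    | zero => simp
    | add p q hp hq => rw [map_add, TensorProduct.tmul_add, map_add]; exact Submodule.add_mem _ hp hq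
    | tmul u w =>
      rw [TensorProduct.mapIncl, TensorProduct.map_tmul, TensorProduct.AlgebraTensorModule.distribBaseChange_tmul]
      exact ⟨(⟨(1 : K) ⊗ₜ[k] (u : A), Submodule.tmul_mem_baseChange_of_mem _ u.2⟩) ⊗ₜ[K]
        (⟨(1 : K) ⊗ₜ[k] (w : A), Submodule.tmul_mem_baseChange_of_mem _ w.2⟩), by simp⟩

section Split

variable (J : Ideal A) (r : A →ₐc[k] D)

/-- The map `A → A/J ⊗ D` of an extension with a retraction. -/
noncomputable def splitMap : A →ₐ[k] (A ⧸ J) ⊗[k] D :=
  (Algebra.TensorProduct.map (Ideal.Quotient.mkₐ k J) (r : A →ₐ[k] D)).comp (Bialgebra.comulAlgHom k A)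

theorem splitMap_eq :
    toConv (splitMap J r) =
      toConv ((Algebra.TensorProduct.includeLeft : A ⧸ J →ₐ[k] (A ⧸ J) ⊗[k] D).comp (Ideal.Quotient.mkₐ k J)) *
        toConv ((Algebra.TensorProduct.includeRight : D →ₐ[k] (A ⧸ J) ⊗[k] D).comp (r : A →ₐ[k] D)) := by
  refine WithConv.ext (AlgHom.ext fun a => ?_)
  rw [AlgHom.convMul_apply]
  show Algebra.TensorProduct.map (Ideal.Quotient.mkₐ k J) (r : A →ₐ[k] D) (Coalgebra.comul (R := k) a) = _
  induction Coalgebra.comul (R := k) a using TensorProduct.induction_on with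
  | zero => simp
  | tmul x y => simp
  | add p q hp hq => simp only [map_add, hp, hq]

theorem comp_antipode {B : Type u} [CommRing B] [HopfAlgebra k B] (g : B →ₐc[k] A) :
    (HopfAlgebra.antipodeAlgHom k A).comp (g : B →ₐ[k] A) =
      (g : B →ₐ[k] A).comp (HopfAlgebra.antipodeAlgHom k B) :=
  AlgHom.ext fun b => GrpSchLib.HopfGalois.antipode_bialgHom g b

/-- On a quotient group killed by the retraction, the split map is `q ⊗ 1`. -/
theorem splitMap_comp {B : Type u} [CommRing B] [HopfAlgebra k B] (g : B →ₐc[k] A)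
    (hg : ∀ b, r (g b) = algebraMap k D (Coalgebra.counit (R := k) b)) (b : B) :
    splitMap J r (g b) = Ideal.Quotient.mk J (g b) ⊗ₜ[k] 1 := by
  have h : toConv ((splitMap J r).comp (g : B →ₐ[k] A)) =
      toConv (((Algebra.TensorProduct.includeLeft : A ⧸ J →ₐ[k] (A ⧸ J) ⊗[k] D).comp
        (Ideal.Quotient.mkₐ k J)).comp (g : B →ₐ[k] A)) := by
    rw [show toConv ((splitMap J r).comp (g : B →ₐ[k] A)) =
      toConv ((toConv (splitMap J r)).ofConv.comp (g : B →ₐ[k] A)) from rfl, splitMap_eq,
      AlgHom.convMul_comp_bialgHom_distrib]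
    simp only [WithConv.ofConv_toConv, WithConv.toConv_ofConv, AlgHom.comp_assoc]
    rw [show toConv ((Algebra.TensorProduct.includeRight : D →ₐ[k] (A ⧸ J) ⊗[k] D).comp
      ((r : A →ₐ[k] D).comp (g : B →ₐ[k] A))) = 1 from WithConv.ext (AlgHom.ext fun x => ?_)]
    · exact _root_.mul_one (M := WithConv (B →ₐ[k] (A ⧸ J) ⊗[k] D)) _
    show (Algebra.TensorProduct.includeRight : D →ₐ[k] (A ⧸ J) ⊗[k] D) (r (g x)) = _
    rw [hg, AlgHom.commutes]
    rfl
  exact DFunLike.congr_fun (congrArg WithConv.ofConv h) b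

/-- An extension with a retraction is the product of the kernel and the quotient. -/
theorem bijective_splitMap (ψ : D →ₐc[k] A) (hr : ∀ d, r (ψ d) = d)
    (hJ : J = Ideal.map (ψ : D →+* A) (RingHom.ker (Bialgebra.counitAlgHom k D))) :
    Function.Bijective (splitMap J r) := by
  let g : A →ₐ[k] A := ((ψ : D →ₐ[k] A).comp (r : A →ₐ[k] D)).comp (HopfAlgebra.antipodeAlgHom k A)
  let f : A →ₐ[k] A := (toConv (AlgHom.id k A) * toConv g).ofConv
  have hfψ : toConv (f.comp (ψ : D →ₐ[k] A)) = (1 : WithConv (D →ₐ[k] A)) := by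
    show toConv ((toConv (AlgHom.id k A) * toConv g).ofConv.comp (ψ : D →ₐ[k] A)) = _
    rw [AlgHom.convMul_comp_bialgHom_distrib]
    simp only [WithConv.ofConv_toConv, WithConv.toConv_ofConv, AlgHom.id_comp, g, AlgHom.comp_assoc, comp_antipode]
    rw [← AlgHom.comp_assoc _ (ψ : D →ₐ[k] A), show (r : A →ₐ[k] D).comp (ψ : D →ₐ[k] A) = AlgHom.id k D from
      AlgHom.ext hr, AlgHom.id_comp]
    exact GrpSchLib.HopfQuot.self_convMul_inv _
  have hJf : ∀ a ∈ J, f a = 0 := fun a ha => by
    rw [hJ] at ha
    refine (Ideal.map_le_iff_le_comap.mpr fun d hd => ?_ : _ ≤ RingHom.ker f.toRingHom) ha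
    show f (ψ d) = 0
    rw [show f (ψ d) = algebraMap k A (Coalgebra.counit (R := k) d) from
      DFunLike.congr_fun (congrArg WithConv.ofConv hfψ) d, show Coalgebra.counit (R := k) d = 0 from hd, map_zero]
  let θ : (A ⧸ J) →ₐ[k] A := Ideal.Quotient.liftₐ J f hJf
  let G : (A ⧸ J) ⊗[k] D →ₐ[k] A := Algebra.TensorProduct.productMap θ (ψ : D →ₐ[k] A)
  have hθ : θ.comp (Ideal.Quotient.mkₐ k J) = f := AlgHom.ext fun _ => rfl
  have hGF : ∀ a, G (splitMap J r a) = a := fun a => by
    have h : toConv (G.comp (splitMap J r)) = toConv (AlgHom.id k A) := by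
      rw [show toConv (G.comp (splitMap J r)) = toConv (G.comp (toConv (splitMap J r)).ofConv) from rfl,
        splitMap_eq, AlgHom.comp_convMul_distrib]
      simp only [WithConv.ofConv_toConv, WithConv.toConv_ofConv, ← AlgHom.comp_assoc, G,
        Algebra.TensorProduct.productMap_left, Algebra.TensorProduct.productMap_right, hθ, f]
      rw [mul_assoc]
      rw [GrpSchLib.HopfQuot.inv_convMul_self, mul_one]
    exact DFunLike.congr_fun (congrArg WithConv.ofConv h) a
  let R := (Algebra.TensorProduct.includeRight : D →ₐ[k] (A ⧸ J) ⊗[k] D)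
  have hFψ : (splitMap J r).comp (ψ : D →ₐ[k] A) = R := by
    have h : toConv ((splitMap J r).comp (ψ : D →ₐ[k] A)) = toConv R := by
      rw [show toConv ((splitMap J r).comp (ψ : D →ₐ[k] A)) =
        toConv ((toConv (splitMap J r)).ofConv.comp (ψ : D →ₐ[k] A)) from rfl, splitMap_eq,
        AlgHom.convMul_comp_bialgHom_distrib]
      simp only [WithConv.ofConv_toConv, WithConv.toConv_ofConv, AlgHom.comp_assoc]
      rw [show (r : A →ₐ[k] D).comp (ψ : D →ₐ[k] A) = AlgHom.id k D from AlgHom.ext hr, AlgHom.comp_id,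
        show toConv ((Algebra.TensorProduct.includeLeft : A ⧸ J →ₐ[k] (A ⧸ J) ⊗[k] D).comp
          ((Ideal.Quotient.mkₐ k J).comp (ψ : D →ₐ[k] A))) = 1 from WithConv.ext (AlgHom.ext fun x => ?_)]
      · exact _root_.one_mul (M := WithConv (D →ₐ[k] (A ⧸ J) ⊗[k] D)) _
      show (Algebra.TensorProduct.includeLeft : A ⧸ J →ₐ[k] (A ⧸ J) ⊗[k] D) (Ideal.Quotient.mk J (ψ x)) = _
      rw [show Ideal.Quotient.mk J (ψ x) = algebraMap k (A ⧸ J) (Coalgebra.counit (R := k) x) from ?_,
        AlgHom.commutes]
      · rfl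
      · rw [← Ideal.Quotient.mk_algebraMap, Ideal.Quotient.eq, ← AlgHomClass.commutes ψ, ← map_sub, hJ]
        exact Ideal.mem_map_of_mem (ψ : D →+* A) (by simp)
    exact congrArg WithConv.ofConv h
  have hFf : (splitMap J r).comp f =
      (Algebra.TensorProduct.includeLeft : A ⧸ J →ₐ[k] (A ⧸ J) ⊗[k] D).comp (Ideal.Quotient.mkₐ k J) := by
    have h : toConv ((splitMap J r).comp f) = toConv
        ((Algebra.TensorProduct.includeLeft : A ⧸ J →ₐ[k] (A ⧸ J) ⊗[k] D).comp (Ideal.Quotient.mkₐ k J)) := by
      show toConv ((splitMap J r).comp (toConv (AlgHom.id k A) * toConv g).ofConv) = _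
      rw [AlgHom.comp_convMul_distrib]
      simp only [WithConv.ofConv_toConv, WithConv.toConv_ofConv, AlgHom.comp_id, g, ← AlgHom.comp_assoc, hFψ]
      rw [splitMap_eq]
      refine (mul_assoc (G := WithConv (A →ₐ[k] (A ⧸ J) ⊗[k] D)) _ _ _).trans ?_
      rw [GrpSchLib.HopfQuot.self_convMul_inv]
      exact _root_.mul_one (M := WithConv (A →ₐ[k] (A ⧸ J) ⊗[k] D)) _
    exact congrArg WithConv.ofConv h
  have hFG : (splitMap J r).comp G = AlgHom.id k _ := by
    refine Algebra.TensorProduct.ext (AlgHom.ext fun x => ?_) ?_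
    · obtain ⟨a, rfl⟩ := Ideal.Quotient.mk_surjective x
      show splitMap J r (G (Ideal.Quotient.mk J a ⊗ₜ[k] 1)) = _
      rw [show G (Ideal.Quotient.mk J a ⊗ₜ[k] (1 : D)) = f a from by
        refine (Algebra.TensorProduct.productMap_apply_tmul θ (ψ : D →ₐ[k] A) _ _).trans ?_
        rw [map_one, mul_one]; rfl]
      exact DFunLike.congr_fun hFf a
    · refine AlgHom.ext fun d => ?_
      show splitMap J r (G ((1 : A ⧸ J) ⊗ₜ[k] d)) = _
      rw [show G ((1 : A ⧸ J) ⊗ₜ[k] d) = ψ d from by
        refine (Algebra.TensorProduct.productMap_apply_tmul θ (ψ : D →ₐ[k] A) _ _).trans ?_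
        rw [map_one, one_mul]; rfl]
      exact DFunLike.congr_fun hFψ d
  exact Function.bijective_iff_has_inverse.mpr ⟨G, hGF, fun y => DFunLike.congr_fun hFG y⟩

end Split

/-- A change of coefficients carries group-like elements to group-like elements. -/
theorem isGroupLike_map {K : Type u} [Field K] [Algebra k K] (σ : K →ₐ[k] K) {g : K ⊗[k] A}
    (hg : IsGroupLikeElem K g) :
    IsGroupLikeElem K (Algebra.TensorProduct.map σ (AlgHom.id k A) g) := by
  let L₁ := Algebra.TensorProduct.map (AlgHom.id K K) (Algebra.TensorProduct.includeLeft : A →ₐ[k] A ⊗[k] A)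
  let L₂ := Algebra.TensorProduct.map (AlgHom.id K K) (Algebra.TensorProduct.includeRight : A →ₐ[k] A ⊗[k] A)
  let P : (K ⊗[k] A) ⊗[K] (K ⊗[k] A) →ₐ[K] K ⊗[k] (A ⊗[k] A) := Algebra.TensorProduct.productMap L₁ L₂
  let e := TensorProduct.AlgebraTensorModule.distribBaseChange k K A A
  have hP : ∀ z, e (P z) = z := fun z => by
    induction z using TensorProduct.induction_on with
    | zero => simp
    | add p q hp hq => simp only [map_add, hp, hq]
    | tmul u v =>
      induction u using TensorProduct.induction_on with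
      | zero => simp
      | add p q hp hq => simp only [TensorProduct.add_tmul, map_add, hp, hq]
      | tmul a x =>
        induction v using TensorProduct.induction_on with
        | zero => simp
        | add p q hp hq => simp only [TensorProduct.tmul_add, map_add, hp, hq]
        | tmul b y =>
          have h1 : P ((a ⊗ₜ[k] x) ⊗ₜ[K] (b ⊗ₜ[k] y)) = (a * b) ⊗ₜ[k] (x ⊗ₜ[k] y) := by simp [P, L₁, L₂]
          rw [h1, TensorProduct.AlgebraTensorModule.distribBaseChange_tmul,
            show (a * b) ⊗ₜ[k] x = b • (a ⊗ₜ[k] x) by rw [TensorProduct.smul_tmul', smul_eq_mul, mul_comm],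
            TensorProduct.smul_tmul, TensorProduct.smul_tmul', smul_eq_mul, mul_one]
  have hPΔ : ∀ z : K ⊗[k] A, P (Coalgebra.comul (R := K) z) =
      Algebra.TensorProduct.map (AlgHom.id k K) (Bialgebra.comulAlgHom k A) z := fun z => by
    induction z using TensorProduct.induction_on with
    | zero => simp
    | add p q hp hq => simp only [map_add, hp, hq]
    | tmul a x =>
      rw [TensorProduct.comul_tmul]
      show _ = a ⊗ₜ[k] Coalgebra.comul (R := k) x
      induction Coalgebra.comul (R := k) x using TensorProduct.induction_on with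
      | zero => simp
      | add p q hp hq => simp only [TensorProduct.tmul_add, map_add, hp, hq]
      | tmul u v => simp [P, L₁, L₂, CommSemiring.comul_apply]
  have hσL : ∀ (i : A →ₐ[k] A ⊗[k] A) (z : K ⊗[k] A),
      Algebra.TensorProduct.map σ (AlgHom.id k (A ⊗[k] A)) (Algebra.TensorProduct.map (AlgHom.id K K) i z) =
        Algebra.TensorProduct.map (AlgHom.id K K) i (Algebra.TensorProduct.map σ (AlgHom.id k A) z) := fun i z => by
    induction z using TensorProduct.induction_on with
    | zero => simp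
    | add p q hp hq => simp only [map_add, hp, hq]
    | tmul a x => simp
  refine ⟨?_, Function.LeftInverse.injective hP ?_⟩
  · have hε : ∀ z : K ⊗[k] A, Coalgebra.counit (R := K) (Algebra.TensorProduct.map σ (AlgHom.id k A) z) =
        σ (Coalgebra.counit (R := K) z) := fun z => by
      induction z using TensorProduct.induction_on with
      | zero => simp
      | add p q hp hq => simp only [map_add, hp, hq]
      | tmul a x => simp [TensorProduct.counit_tmul]
    rw [hε, hg.counit_eq_one, map_one]
  · have hm : ∀ u v : K ⊗[k] A, P (u ⊗ₜ[K] v) = L₁ u * L₂ v := fun u v =>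
      Algebra.TensorProduct.productMap_apply_tmul _ _ u v
    rw [hPΔ, hm]
    have h1 : Algebra.TensorProduct.map (AlgHom.id k K) (Bialgebra.comulAlgHom k A)
        (Algebra.TensorProduct.map σ (AlgHom.id k A) g) =
        Algebra.TensorProduct.map σ (AlgHom.id k (A ⊗[k] A))
          (Algebra.TensorProduct.map (AlgHom.id k K) (Bialgebra.comulAlgHom k A) g) := by
      clear hg
      induction g using TensorProduct.induction_on with
      | zero => simp
      | add p q hp hq => simp only [map_add, hp, hq]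
      | tmul a x => simp
    rw [h1, ← hPΔ, hg.comul_eq_tmul_self, hm, map_mul, hσL, hσL]

end Groth.Agent.Deform.MultUnip
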