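import Groth.Agent.Deform.QuasiIsotrivial
import Groth.Agent.Deform.LocSplitGlobal
import Groth.Agent.TwDescend.Components
import Groth.Agent.IntBC.Branch
import Groth.Agent.S2754
import Mathlib.AlgebraicGeometry.Morphisms.FlatRank
import Mathlib.AlgebraicGeometry.Morphisms.FlatMono
import Mathlib.AlgebraicGeometry.Morphisms.LocalFlatDescent

/-!
# Sections of twisted constant schemes over a normal base extend from a dense open

Also: extension of homomorphisms from a diagonalisable group to a group of multiplicative type and of finite type.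
-/

set_option autoImplicit false
set_option linter.style.haveILetI false

universe u

open CategoryTheory CategoryTheory.Limits MonoidalCategory CartesianMonoidalCategory MonObj GrpObj AlgebraicGeometry

attribute [local instance] CategoryTheory.Hom.monoid CategoryTheory.Hom.group

namespace Groth.Agent.Deform.NormalExtend

variable {S : Scheme.{u}}

theorem isGeomUnibranch (hnorm : ∀ x : ↥S, IsDomain (S.presheaf.stalk x) ∧ IsIntegrallyClosed (S.presheaf.stalk x))
    (x : S) : CAlg2.IsGeomUnibranch (S.presheaf.stalk x) :=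
  haveI := (hnorm x).1
  haveI := (hnorm x).2
  IntBC.isGeomUnibranch_of_branch (IntBC.branch_of_normal _)

/-- A quasi-isotrivial twisted constant scheme is etale over the base. -/
theorem etale_of_twConst {A : Over S} (hA : TwC.IsTwConst TwC.Topology.etale A) : Etale A.hom := by
  choose S' f hf ht I hI using hA
  haveI : ∀ t, Etale (f t) := hf
  haveI : Flat (Sigma.desc f) := IsZariskiLocalAtSource.sigmaDesc (P := @Flat) fun _ => inferInstance
  haveI : Surjective (Sigma.desc f) := ⟨fun t => by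
    obtain ⟨v, hv⟩ := ht t
    exact ⟨Sigma.ι S' t v, by rw [← Scheme.Hom.comp_apply, Sigma.ι_desc]; exact hv⟩⟩
  have hcov : FpqcDescLib.Covers (Sigma.desc f) := FpqcDescLib.covers_of_hcov _
    ⟨_, _, 𝟙 _, Category.id_comp _, inferInstance, inferInstance, fun V hV => by
    have hloc : ∀ t ∈ (V : Set S), ∃ A : Set ↥(∐ S'), IsOpen A ∧ IsCompact A ∧ IsOpen (Sigma.desc f '' A) ∧
        t ∈ Sigma.desc f '' A ∧ Sigma.desc f '' A ⊆ V := by
      intro t htV
      obtain ⟨v, hv⟩ := ht t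
      obtain ⟨A, hA, hvA, hAsub⟩ := exists_isAffineOpen_mem_and_subset
        (show v ∈ f t ⁻¹ᵁ V from show f t v ∈ V by rw [hv]; exact htV)
      have himg : Sigma.desc f '' (Sigma.ι S' t '' (A : Set _)) = f t '' (A : Set _) := by
        rw [Set.image_image]
        exact Set.image_congr fun x _ => by rw [← Scheme.Hom.comp_apply, Sigma.ι_desc]
      refine ⟨Sigma.ι S' t '' (A : Set _), (Sigma.ι S' t).isOpenEmbedding.isOpenMap _ A.2,
        hA.isCompact.image (Sigma.ι S' t).continuous, ?_⟩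
      rw [himg]
      exact ⟨(f t).isOpenMap _ A.2, ⟨v, hvA, hv⟩, Set.image_subset_iff.mpr fun x hx => hAsub hx⟩
    choose! A hAo hAc hAio htA hAV using hloc
    obtain ⟨F, hFV, hFfin, hF⟩ := hV.isCompact.elim_finite_subcover_image (b := (V : Set S))
      (c := fun t => Sigma.desc f '' A t) hAio (fun t ht => Set.mem_iUnion₂.mpr ⟨t, ht, htA t ht⟩)
    refine ⟨⟨⋃ t ∈ F, A t, isOpen_biUnion fun t h => hAo t (hFV h)⟩,
      hFfin.isCompact_biUnion fun t h => hAc t (hFV h), ?_⟩
    show Sigma.desc f '' (⋃ t ∈ F, A t) = _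
    rw [Set.image_iUnion₂]
    exact subset_antisymm (Set.iUnion₂_subset fun t h => hAV t (hFV h)) hF⟩
  refine hcov.descends @Etale A.hom (pullback.snd A.hom (Sigma.desc f)) (pullback.fst A.hom (Sigma.desc f))
    (IsPullback.of_hasPullback A.hom (Sigma.desc f)).flip ?_
  rw [IsZariskiLocalAtTarget.iff_of_openCover (P := @Etale) (sigmaOpenCover S')]
  intro t
  obtain ⟨e⟩ := hI t
  haveI : Etale (Sigma.desc fun _ : I t => 𝟙 (S' t)) :=
    IsZariskiLocalAtSource.sigmaDesc (P := @Etale) fun _ => inferInstance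
  have h1 : Etale (pullback.snd A.hom (f t)) := by
    have hw : e.hom.left ≫ (Sigma.desc fun _ : I t => 𝟙 (S' t)) = pullback.snd A.hom (f t) := Over.w e.hom
    haveI : IsIso e.hom.left := ((Over.forget _).mapIso e).isIso_hom
    rw [← hw]
    infer_instance
  have H : IsPullback (pullback.fst A.hom (f t)) (pullback.snd A.hom (f t)) A.hom (Sigma.ι S' t ≫ Sigma.desc f) := by
    rw [Sigma.ι_desc]
    exact IsPullback.of_hasPullback _ _
  show Etale (pullback.snd (pullback.snd A.hom (Sigma.desc f)) (Sigma.ι S' t))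
  have H' : IsPullback (pullback.fst (pullback.snd A.hom (Sigma.desc f)) (Sigma.ι S' t) ≫
      pullback.fst A.hom (Sigma.desc f)) (pullback.snd (pullback.snd A.hom (Sigma.desc f)) (Sigma.ι S' t)) A.hom
      (Sigma.ι S' t ≫ Sigma.desc f) :=
    (IsPullback.of_hasPullback _ _).paste_horiz (IsPullback.of_hasPullback _ _)
  rw [← H'.isoIsPullback_hom_snd _ _ H, MorphismProperty.cancel_left_of_respectsIso (P := @Etale)]
  exact h1

/-- An open subspace of an irreducible space is preconnected. -/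
theorem isPreconnected_opens [IrreducibleSpace ↥S] (U : S.Opens) : PreconnectedSpace ↥(U : Scheme.{u}) := by
  haveI : PreirreducibleSpace ↥(U : Scheme.{u}) := by
    refine ⟨?_⟩
    rintro A B hA hB ⟨a, -, ha⟩ ⟨b, -, hb⟩
    obtain ⟨z, -, ⟨za, hza, hza'⟩, ⟨zb, hzb, hzb'⟩⟩ := (PreirreducibleSpace.isPreirreducible_univ (X := ↥S))
      (U.ι '' A) (U.ι '' B) (U.ι.isOpenEmbedding.isOpenMap _ hA) (U.ι.isOpenEmbedding.isOpenMap _ hB)
      ⟨U.ι a, trivial, a, ha, rfl⟩ ⟨U.ι b, trivial, b, hb, rfl⟩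
    exact ⟨za, trivial, hza, by rwa [U.ι.isOpenEmbedding.injective (hza'.trans hzb'.symm)]⟩
  infer_instance

/-- Sections over a non-empty open extend. -/
theorem exists_section_extends [ConnectedSpace ↥S] [IsLocallyNoetherian S]
    (hnorm : ∀ x : ↥S, IsDomain (S.presheaf.stalk x) ∧ IsIntegrallyClosed (S.presheaf.stalk x))
    {A : Over S} (hA : TwC.IsTwConst TwC.Topology.etale A) {U : S.Opens} (hU : (U : Set S).Nonempty)
    (a : (U : Scheme.{u}) ⟶ A.left) (ha : a ≫ A.hom = U.ι) :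
    ∃ σ : S ⟶ A.left, σ ≫ A.hom = 𝟙 S ∧ U.ι ≫ σ = a ∧
      ∀ σ' : S ⟶ A.left, σ' ≫ A.hom = 𝟙 S → U.ι ≫ σ' = a → σ' = σ := by
  haveI := LocSplitGlobal.irreducibleSpace_of_domain (S := S) fun x => (hnorm x).1
  obtain ⟨x₀, hx₀⟩ := hU
  haveI := isPreconnected_opens U
  haveI hAe := etale_of_twConst hA
  obtain ⟨Z, hZ, hfin⟩ := TwDescend.exists_finite_component (isGeomUnibranch hnorm) A hA (a ⟨x₀, hx₀⟩)
  let q := Z.ι ≫ A.hom
  haveI : Etale q := inferInstance
  haveI : IsFinite q := hfin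
  haveI : IsLocallyNoetherian (Z : Scheme.{u}) := LocallyOfFiniteType.isLocallyNoetherian q
  haveI : ConnectedSpace ↥(Z : Scheme.{u}) := by
    refine isConnected_iff_connectedSpace.mp ?_
    rw [hZ]
    exact isConnected_connectedComponent
  haveI : IrreducibleSpace ↥(Z : Scheme.{u}) := LocSplitGlobal.irreducibleSpace_of_domain fun z =>
    (S2754.result q z (hnorm _).1 (isGeomUnibranch hnorm _) ⟨⊤, trivial, inferInstance⟩).1
  have hsub : Set.range a ⊆ Set.range Z.ι := by
    rw [Scheme.Opens.range_ι, hZ]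
    exact (isPreconnected_range a.continuous).subset_connectedComponent ⟨_, rfl⟩
  let a' : (U : Scheme.{u}) ⟶ Z := IsOpenImmersion.lift Z.ι a hsub
  have ha' : a' ≫ q = U.ι := by rw [IsOpenImmersion.lift_fac_assoc, ha]
  let b : (U : Scheme.{u}) ⟶ (q ⁻¹ᵁ U : (Z : Scheme.{u}).Opens) :=
    IsOpenImmersion.lift (q ⁻¹ᵁ U).ι a' (by
      rw [Scheme.Opens.range_ι]
      rintro _ ⟨u, rfl⟩
      show q (a' u) ∈ U
      rw [← Scheme.Hom.comp_apply, ha']
      exact u.2)
  have hb : b ≫ q ∣_ U = 𝟙 _ := by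
    rw [← cancel_mono U.ι, Category.assoc, morphismRestrict_ι, IsOpenImmersion.lift_fac_assoc, ha', Category.id_comp]
  haveI : Etale (b ≫ q ∣_ U) := by rw [hb]; infer_instance
  haveI : Etale b := Etale.of_comp b (q ∣_ U)
  haveI : IsClosedImmersion (b ≫ q ∣_ U) := by rw [hb]; infer_instance
  haveI : IsClosedImmersion b := IsClosedImmersion.of_comp b (q ∣_ U)
  haveI : IsOpenImmersion b := IsOpenImmersion.of_flat_of_mono b
  haveI := isPreconnected_opens (S := (Z : Scheme.{u})) (q ⁻¹ᵁ U)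
  have hrange : Set.range b = Set.univ :=
    IsClopen.eq_univ ⟨b.isClosedEmbedding.isClosed_range, b.isOpenEmbedding.isOpen_range⟩ ⟨_, ⟨x₀, hx₀⟩, rfl⟩
  haveI : Surjective b := ⟨Set.range_eq_univ.mp hrange⟩
  haveI : IsIso b := Flat.isIso_of_surjective_of_mono b
  haveI : IsIso (q ∣_ U) := by
    rw [show q ∣_ U = inv b from IsIso.eq_inv_of_hom_inv_id hb]
    infer_instance
  have h1 : q.finrank = 1 := by
    funext y
    have hlc := q.isLocallyConstant_finrank.apply_eq_of_preconnectedSpace y x₀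
    have h2 : (q ∣_ U).finrank ⟨x₀, hx₀⟩ = q.finrank x₀ :=
      Scheme.Hom.finrank_of_isPullback _ _ _ _ (isPullback_morphismRestrict q U).flip _
    rw [hlc, ← h2, Scheme.Hom.finrank_eq_one_of_isIso]
    rfl
  haveI : IsIso q := (Scheme.Hom.isIso_iff_finrank_eq q).mpr h1
  refine ⟨inv q ≫ Z.ι, by rw [Category.assoc, IsIso.inv_hom_id],
    by rw [← ha', Category.assoc, IsIso.hom_inv_id_assoc, IsOpenImmersion.lift_fac], fun σ' h₁ h₂ => ?_⟩
  have hsub' : Set.range σ' ⊆ Set.range Z.ι := by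
    rw [Scheme.Opens.range_ι, hZ]
    exact (isPreconnected_range σ'.continuous).subset_connectedComponent ⟨U.ι ⟨x₀, hx₀⟩, by
      rw [← Scheme.Hom.comp_apply, h₂]⟩
  have h3 : IsOpenImmersion.lift Z.ι σ' hsub' ≫ q = 𝟙 S := by rw [IsOpenImmersion.lift_fac_assoc, h₁]
  rw [← IsOpenImmersion.lift_fac Z.ι σ' hsub', (IsIso.eq_inv_of_inv_hom_id h3 : _ = inv q)]

section Fam

open DSPtsLib (theta theta_left theta_bijective)

variable {X : Scheme.{u}} {g : X ⟶ S} {H G : Over S} [GrpObj H] [GrpObj G]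

/-- A homomorphism over `X`, as a family parametrised by `X`. -/
noncomputable def famOf (v : Red.bc g H ⟶ Red.bc g G) : H ⊗ Over.mk g ⟶ G :=
  Over.homMk (v.left ≫ pullback.fst G.hom g) (by
    rw [Category.assoc, pullback.condition, ← Category.assoc,
      show v.left ≫ pullback.snd G.hom g = pullback.snd H.hom g from Over.w v]
    exact Over.w (snd H (Over.mk g)))

omit [GrpObj H] [GrpObj G] in
theorem lift_famOf (v : Red.bc g H ⟶ Red.bc g G) {T : Over S} (t : T ⟶ Over.mk g)
    (a : Over.mk t.left ⟶ Red.bc g H) :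
    lift (Dual.jMap t ≫ theta g a) t ≫ famOf v = Dual.jMap t ≫ theta g (a ≫ v) := by
  refine Over.OverMorphism.ext ?_
  have h : (lift (Dual.jMap t ≫ theta g a) t : T ⟶ H ⊗ Over.mk g).left = a.left := by
    apply pullback.hom_ext
    · refine (congrArg CommaMorphism.left (lift_fst (Dual.jMap t ≫ theta g a) t)).trans ?_
      show (Dual.jMap t).left ≫ (theta g a).left = _
      rw [theta_left]
      exact Category.id_comp _
    · exact (congrArg CommaMorphism.left (lift_snd (Dual.jMap t ≫ theta g a) t)).trans (Over.w a).symm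
  show (lift (Dual.jMap t ≫ theta g a) t : T ⟶ H ⊗ Over.mk g).left ≫ v.left ≫ pullback.fst G.hom g =
    (Dual.jMap t).left ≫ (theta g (a ≫ v)).left
  rw [h, theta_left, Over.comp_left, Category.assoc]
  exact (Category.id_comp _).symm

theorem famOf_hom (v : Red.bc g H ⟶ Red.bc g G) [IsMonHom v] : AutFam.IsHomFamily H G (famOf v) := by
  intro T g₁ g₂ t
  obtain ⟨a₁, rfl⟩ := (Dual.jMap_bij t H).2 g₁
  obtain ⟨a₂, rfl⟩ := (Dual.jMap_bij t H).2 g₂
  simp only [← MonObj.comp_mul, ← DSPtsLib.theta_mul, lift_famOf, MonObj.mul_comp]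

end Fam

/-- Homomorphisms from a diagonalisable group to a group of multiplicative type and of finite type are classified
by a quasi-isotrivial twisted constant scheme. -/
theorem exists_homScheme (M : Type) [AddCommGroup M] {G : Over S} [GrpObj G] (hG : SGA3x.IsMultTypeFT G) :
    ∃ (A : Over S) (w : Red.DS S M ⊗ A ⟶ G), AutFam.RepresentsHom (Red.DS S M) G A w ∧
      TwC.IsTwConst TwC.Topology.etale A := by
  choose X g N iN hg hs hN hiso using QuasiIsotrivial.exists_etale_split hG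
  letI := iN
  haveI := hg
  obtain ⟨A, w, hA, hchart⟩ := Dual.exists_homs (H := Red.DS S M) (G := G) g (fun s => ⟨s, hs s⟩) (fun _ => M) N hN
    (fun s => (GrpSchLib.MultTypeBC.bc_DS (g s) M).some) (fun s => (hiso s).some)
  exact ⟨A, w, hA, fun s => ⟨X s, g s, hg s, hs s, _, ⟨(hchart s).choose⟩⟩⟩

/-- The homomorphism of a section of the classifying scheme. -/
theorem exists_hom_of_section {H G A : Over S} [GrpObj H] [GrpObj G] {w : H ⊗ A ⟶ G}
    (hA : AutFam.RepresentsHom H G A w) (σ : 𝟙_ (Over S) ⟶ A) :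
    ∃ f : H ⟶ G, IsMonHom f ∧ ∀ {X : Scheme.{u}} (g : X ⟶ S) (v : Red.bc g H ⟶ Red.bc g G) (a : Over.mk g ⟶ A),
      (H ◁ a) ≫ w = famOf v → g ≫ σ.left = a.left → (Over.pullback g).map f = v := by
  let f : H ⟶ G := lift (𝟙 _) (toUnit _) ≫ (H ◁ σ) ≫ w
  have hf : ∀ (Y : Over S) (y : Y ⟶ H), y ≫ f = lift y (toUnit Y) ≫ (H ◁ σ) ≫ w := fun Y y => by
    rw [← Category.assoc, comp_lift, Category.comp_id, comp_toUnit]
  haveI : IsMonHom f := LocSplitGlobal.isMonHom_of_mul f fun Y y₁ y₂ => by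
    rw [hf, hf, hf, lift_whiskerLeft_assoc, lift_whiskerLeft_assoc, lift_whiskerLeft_assoc]
    exact hA.1 Y y₁ y₂ _
  refine ⟨f, inferInstance, fun {X} g v a ha hσ => (DSPtsLib.theta_bijective g).1 ?_⟩
  rw [← Category.id_comp ((Over.pullback g).map f), GrpSchLib.HomUnitLocus.theta_comp_map, hf]
  let P := (Over.map g).obj (Red.bc g H)
  let t : P ⟶ Over.mk g := Over.homMk (pullback.snd H.hom g) rfl
  let unitS : Over S := 𝟙_ (Over S)
  let inc : Over.mk g ⟶ unitS := Over.homMk g (Category.comp_id _)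
  have h1 : inc ≫ σ = a := Over.OverMorphism.ext hσ
  rw [lift_whiskerLeft_assoc, toUnit_unique (toUnit P) (t ≫ inc), Category.assoc, h1, ← lift_whiskerLeft_assoc, ha]
  refine Over.OverMorphism.ext ?_
  rw [DSPtsLib.theta_left, Over.comp_left]
  have h2 : (lift (DSPtsLib.theta g (𝟙 (Red.bc g H))) t).left = 𝟙 _ := by
    apply pullback.hom_ext
    · refine (congrArg (fun m => Over.Hom.left m) (lift_fst (DSPtsLib.theta g (𝟙 (Red.bc g H))) t)).trans ?_
      rw [DSPtsLib.theta_left]
      exact Category.id_comp _ |>.trans (Category.id_comp _).symm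
    · exact (congrArg (fun m => Over.Hom.left m) (lift_snd (DSPtsLib.theta g (𝟙 (Red.bc g H))) t)).trans
        (Category.id_comp _).symm
  rw [h2]
  exact Category.id_comp _

/-- A homomorphism over a non-empty open of a group diagonalisable on the base to a group of multiplicative type
and of finite type extends to the base. -/
theorem exists_hom_extends [ConnectedSpace ↥S] [IsLocallyNoetherian S]
    (hnorm : ∀ x : ↥S, IsDomain (S.presheaf.stalk x) ∧ IsIntegrallyClosed (S.presheaf.stalk x))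
    {M : Type} [AddCommGroup M] {G : Over S} [GrpObj G] (hG : SGA3x.IsMultTypeFT G) {U : S.Opens}
    (hU : (U : Set S).Nonempty) (v : Red.bc U.ι (Red.DS S M) ⟶ Red.bc U.ι G) [IsMonHom v] :
    ∃ f : Red.DS S M ⟶ G, IsMonHom f ∧ (Over.pullback U.ι).map f = v := by
  obtain ⟨A, w, hA, htw⟩ := exists_homScheme M hG
  obtain ⟨a₀, ha₀, -⟩ := hA.2 _ (famOf v) (famOf_hom v)
  obtain ⟨σ, hσ1, hσ2, -⟩ := exists_section_extends hnorm htw hU a₀.left (Over.w a₀)
  obtain ⟨f, hf, hmap⟩ := exists_hom_of_section hA (Over.homMk σ hσ1)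
  exact ⟨f, hf, hmap _ v a₀ ha₀ hσ2⟩

/-- Homomorphisms over an integral normal base extend uniquely from the generic point. -/
theorem existsUnique_hom_extends [IsIntegral S] [IsLocallyNoetherian S]
    (hnorm : ∀ x : ↥S, IsDomain (S.presheaf.stalk x) ∧ IsIntegrallyClosed (S.presheaf.stalk x))
    {M : Type} [AddCommGroup M] {G : Over S} [GrpObj G] (hG : SGA3x.IsMultTypeFT G)
    (v : Red.bc (S.fromSpecStalk (genericPoint S)) (Red.DS S M) ⟶ Red.bc (S.fromSpecStalk (genericPoint S)) G)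
    [IsMonHom v] :
    ∃! f : Red.DS S M ⟶ G, IsMonHom f ∧ (Over.pullback (S.fromSpecStalk (genericPoint S))).map f = v := by
  let j := S.fromSpecStalk (genericPoint S)
  obtain ⟨A, w, hA, htw⟩ := exists_homScheme M hG
  obtain ⟨a, ha, hau⟩ := hA.2 _ (famOf v) (famOf_hom v)
  haveI := etale_of_twConst htw
  obtain ⟨U, hξU, aU, haU, haU'⟩ := spread_out_of_isGermInjective' (𝟙 S) A.hom a.left
    (by rw [Category.comp_id]; exact Over.w a)
  rw [Category.comp_id] at haU'
  obtain ⟨σ, hσ1, hσ2, -⟩ := exists_section_extends hnorm htw ⟨_, hξU⟩ aU haU'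
  obtain ⟨f, hf, hmap⟩ := exists_hom_of_section hA (Over.homMk σ hσ1)
  refine ⟨f, ⟨hf, hmap _ v a ha ?_⟩, ?_⟩
  · show j ≫ σ = a.left
    rw [haU, ← hσ2, ← Category.assoc, Scheme.Opens.fromSpecStalkOfMem_ι]
  rintro f' ⟨hf', hf'v⟩
  -- sections classify homomorphisms
  let unitS : Over S := 𝟙_ (Over S)
  let inc : Over.mk j ⟶ unitS := Over.homMk j (Category.comp_id _)
  have hfam : ∀ u : Red.DS S M ⟶ G, IsMonHom u → AutFam.IsHomFamily (Red.DS S M) G (fst (Red.DS S M) unitS ≫ u) :=
    fun u hu T g₁ g₂ t => by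
      haveI := hu
      simp only [lift_fst_assoc, MonObj.mul_comp]
  have hj : ∀ u : Red.DS S M ⟶ G, (Over.pullback j).map u = v →
      (Red.DS S M ◁ inc) ≫ fst (Red.DS S M) unitS ≫ u = famOf v := by
    intro u hu
    rw [whiskerLeft_fst_assoc, ← hu]
    exact Over.OverMorphism.ext (pullback.lift_fst _ _ _).symm
  obtain ⟨τ, hτ, -⟩ := hA.2 unitS _ (hfam f hf)
  obtain ⟨τ', hτ', -⟩ := hA.2 unitS _ (hfam f' hf')
  have h1 : inc ≫ τ = a := hau _ (by dsimp only; rw [whiskerLeft_comp, Category.assoc, hτ, hj f (hmap _ v a ha (by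
    show j ≫ σ = a.left
    rw [haU, ← hσ2, ← Category.assoc, Scheme.Opens.fromSpecStalkOfMem_ι]))])
  have h2 : inc ≫ τ' = a := hau _ (by dsimp only; rw [whiskerLeft_comp, Category.assoc, hτ', hj f' hf'v])
  have h3 : j ≫ τ.left = j ≫ τ'.left := congrArg (fun m => m.left) (h1.trans h2.symm)
  obtain ⟨W, hW, hWe⟩ := spread_out_unique_of_isGermInjective' (X := S) (x := genericPoint S) τ.left τ'.left h3
  obtain ⟨ρ, -, -, huniq⟩ := exists_section_extends hnorm htw ⟨_, hW⟩ (W.ι ≫ τ.left)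
    (by rw [Category.assoc, Over.w τ]; exact Category.comp_id _)
  have h4 : τ' = τ := Over.OverMorphism.ext ((huniq _ (Over.w τ') hWe.symm).trans (huniq _ (Over.w τ) rfl).symm)
  have h5 : fst (Red.DS S M) unitS ≫ f' = fst (Red.DS S M) unitS ≫ f := by rw [← hτ', h4, hτ]
  have h6 := congrArg (lift (𝟙 (Red.DS S M)) (toUnit _) ≫ ·) h5
  simpa only [lift_fst_assoc, Category.id_comp, unitS] using h6

end Groth.Agent.Deform.NormalExtend
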