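import Groth.Agent.Deform.ObsSolvable
import Mathlib.LinearAlgebra.Matrix.NonsingularInverse

/-! Modules of an observable subgroup extend to modules of the group. -/

universe u

open CategoryTheory MonoidalCategory CartesianMonoidalCategory MonObj GrpObj AlgebraicGeometry
open scoped TensorProduct

namespace Groth.Agent.Deform.ObsExt
attribute [local instance] CategoryTheory.Hom.monoid CategoryTheory.Hom.group
set_option linter.style.haveILetI false
set_option linter.unusedSectionVars false
set_option maxHeartbeats 1000000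
open GModStable RTrans Observ ObsVanish ObsSemi ObsSolvable
attribute [local instance] GModStable.algΓ

variable {k : Type u} [Field k] {G : Over (Spec (CommRingCat.of k))} [GrpObj G]
variable {M : Type u} [AddCommGroup M] [Module k M]

/-- The action of a rational point. -/
noncomputable def act (m : VecGrp.GMod G M) (g : VecGrp.pt k k ⟶ G) : M →ₗ[k] M :=
  (TensorProduct.lid k M).toLinearMap ∘ₗ (m.ρ k g).toLinearMap ∘ₗ (TensorProduct.mk k k M 1)

theorem act_apply (m : VecGrp.GMod G M) (g : VecGrp.pt k k ⟶ G) (v : M) :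
    m.ρ k g ((1 : k) ⊗ₜ[k] v) = (1 : k) ⊗ₜ[k] act m g v := by
  apply (TensorProduct.lid k M).injective
  rw [TensorProduct.lid_tmul, one_smul]
  rfl

theorem act_one (m : VecGrp.GMod G M) (v : M) : act m 1 v = v := by
  show TensorProduct.lid k M (m.ρ k 1 ((1 : k) ⊗ₜ[k] v)) = v
  rw [map_one]
  exact (TensorProduct.lid_tmul _ _).trans (one_smul _ _)

theorem act_mul (m : VecGrp.GMod G M) (g h : VecGrp.pt k k ⟶ G) (v : M) :
    act m (g * h) v = act m g (act m h v) := by
  show TensorProduct.lid k M (m.ρ k (g * h) ((1 : k) ⊗ₜ[k] v)) = _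
  rw [map_mul, LinearEquiv.mul_apply, act_apply, act_apply, TensorProduct.lid_tmul, one_smul]

variable [IsAffine G.left]

theorem pr_one_tmul (φ : M →ₗ[k] k) (v : M) : pr φ k ((1 : k) ⊗ₜ[k] v) = φ v := by
  rw [← one_smul k ((1 : k) ⊗ₜ[k] v), pr_smul_one]
  simp

theorem fn_mc_act [IsAlgClosed k] (m : VecGrp.GMod G M) (φ : M →ₗ[k] k) (v : M) (x : VecGrp.pt k k ⟶ G) :
    fn x (mc m φ v) = φ (act m x v) := by
  rw [fn_mc, act_apply, pr_one_tmul]

variable [IsAlgClosed k] [IsReduced G.left] [LocallyOfFiniteType G.hom]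

theorem piMod_act {ι' : Type u} [Fintype ι'] [DecidableEq ι'] (x : VecGrp.pt k k ⟶ G) (w : ι' → Γ(G.left, ⊤))
    (j : ι') : act (piMod (reg (G := G)) ι') x w j = tr x (w j) := by
  have h := piMod_apply (reg (G := G)) ι' x ((1 : k) ⊗ₜ[k] w) j
  rw [act_apply, TensorProduct.piRight_apply, TensorProduct.piRightHom_tmul, TensorProduct.piRight_apply,
    TensorProduct.piRightHom_tmul] at h
  have h2 := congrArg (Algebra.TensorProduct.lid k Γ(G.left, ⊤)) h
  rw [Algebra.TensorProduct.lid_tmul, one_smul] at h2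
  rw [h2, lid_reg]

/-- Right translation by a rational point of a left translate. -/
noncomputable def lt (x₀ : VecGrp.pt k k ⟶ G) : Γ(G.left, ⊤) →ₐ[k] Γ(G.left, ⊤) :=
  fn ((VecGrp.ptMap (Algebra.ofId k Γ(G.left, ⊤)) ≫ x₀) * uPt G)

theorem fn_lt (x₀ x : VecGrp.pt k k ⟶ G) (f : Γ(G.left, ⊤)) : fn x (lt x₀ f) = fn (x₀ * x) f := by
  rw [lt, ← AlgHom.comp_apply, ← fn_ptMap, MonObj.comp_mul, ptMap_fn_uPt, ← Category.assoc,
    show VecGrp.ptMap (fn x) ≫ VecGrp.ptMap (Algebra.ofId k Γ(G.left, ⊤)) = 𝟙 _ from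
      (to_pt_unique _).trans (to_pt_unique _).symm, Category.id_comp]

variable [Smooth G.hom] {H : Over (Spec (CommRingCat.of k))} [GrpObj H] [Smooth H.hom] (i : H ⟶ G) [IsMonHom i]
  [IsClosedImmersion i.left]

/-- The dual of a module is a quotient of a stable subspace of a module of the group. -/
theorem exists_cover_dual [IsAffine H.left] [IsReduced H.left]
    {V : Type u} [AddCommGroup V] [Module k V] [Module.Finite k V] (σ : VecGrp.GMod H V) :
    ∃ (W : Type u) (_ : AddCommGroup W) (_ : Module k W) (_ : Module.Finite k W) (σW : VecGrp.GMod G W)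
      (W' : Submodule k W) (π : W' →ₗ[k] (V →ₗ[k] k)), Function.Surjective π ∧
      ∀ (h : VecGrp.pt k k ⟶ H) (w : W'), ∃ hm : act σW (h ≫ i) w.1 ∈ W',
        π ⟨_, hm⟩ = (π w).comp (act σ h⁻¹) := by
  classical
  let bV := Module.Free.chooseBasis k V
  let ι' := Module.Free.ChooseBasisIndex k V
  -- coefficients of the dual module
  let T : (V →ₗ[k] k) →ₗ[k] (ι' → Γ(H.left, ⊤)) :=
    { toFun := fun φ j => (GrpObj.inv : H ⟶ H).left.appTop (mc σ φ (bV j))
      map_add' := fun φ φ' => funext fun j => eq_of_rational (G := H) fun y => by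
        rw [Pi.add_apply, map_add (fn y)]
        show fn (y ≫ GrpObj.inv) _ = fn (y ≫ GrpObj.inv) _ + fn (y ≫ GrpObj.inv) _
        rw [fn_mc_act, fn_mc_act, fn_mc_act, LinearMap.add_apply]
      map_smul' := fun c φ => funext fun j => eq_of_rational (G := H) fun y => by
        rw [Pi.smul_apply, RingHom.id_apply, map_smul (fn y)]
        show fn (y ≫ GrpObj.inv) _ = c • fn (y ≫ GrpObj.inv) _
        rw [fn_mc_act, fn_mc_act, LinearMap.smul_apply] }
  have hT : ∀ φ j (y : VecGrp.pt k k ⟶ H), fn y (T φ j) = φ (act σ y⁻¹ (bV j)) := fun φ j y => by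
    rw [← fn_mc_act]
    rfl
  have hTinj : Function.Injective T := fun φ φ' h => bV.ext fun j => by
    have h1 := hT φ j 1
    rw [h, hT, inv_one, act_one] at h1
    exact h1.symm
  -- lift to a stable space of functions on the group
  let res : (ι' → Γ(G.left, ⊤)) →ₗ[k] (ι' → Γ(H.left, ⊤)) :=
    LinearMap.pi fun j => (fn (uPt H ≫ i)).toLinearMap ∘ₗ LinearMap.proj j
  have hres : ∀ w j (y : VecGrp.pt k k ⟶ H), fn y (res w j) = fn (y ≫ i) (w j) := fun w j y => by
    show fn y (fn (uPt H ≫ i) (w j)) = _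
    rw [← AlgHom.comp_apply, ← fn_ptMap, ← Category.assoc, ptMap_fn_uPt]
  have hressurj : Function.Surjective res := fun t => by
    have : ∀ j, ∃ f : Γ(G.left, ⊤), fn (uPt H ≫ i) f = t j := fun j => by
      obtain ⟨f, hf⟩ := (IsClosedImmersion.isAffine_surjective_of_isAffine (f := i.left)).2 (t j)
      refine ⟨f, ?_⟩
      show fn (uPt H) (i.left.appTop f) = _
      rw [fn_uPt, hf]
    choose f hf using this
    exact ⟨f, funext hf⟩
  let bd := Module.finBasis k (V →ₗ[k] k)
  choose lifts hlifts using fun l => hressurj (T (bd l))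
  obtain ⟨W, hlW, hW, hst⟩ := GModStable.exists_fg_stable (piMod (reg (G := G)) ι')
    (Submodule.span k (Set.range lifts)) (Submodule.fg_span (Set.finite_range lifts))
  haveI : Module.Finite k W := Module.Finite.iff_fg.2 hW
  obtain ⟨σW, hσW⟩ := exists_restrict _ W hst
  have hact : ∀ (x : VecGrp.pt k k ⟶ G) (w : W), (act σW x w : ι' → Γ(G.left, ⊤)) = act (piMod reg ι') x w := by
    intro x w
    have h := hσW k x ((1 : k) ⊗ₜ[k] w)
    rw [act_apply, LinearMap.baseChange_tmul, LinearMap.baseChange_tmul, Submodule.subtype_apply,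
      Submodule.subtype_apply, act_apply] at h
    have h2 := congrArg (TensorProduct.lid k (ι' → Γ(G.left, ⊤))) h
    rwa [TensorProduct.lid_tmul, TensorProduct.lid_tmul, one_smul, one_smul] at h2
  let W' : Submodule k W := (LinearMap.range T).comap (res ∘ₗ W.subtype)
  obtain ⟨π, hπ⟩ : ∃ π : W' →ₗ[k] (V →ₗ[k] k), ∀ w : W', T (π w) = res (w.1 : ι' → Γ(G.left, ⊤)) :=
    ⟨(LinearEquiv.ofInjective T hTinj).symm.toLinearMap ∘ₗ
      LinearMap.codRestrict (LinearMap.range T) (res ∘ₗ W.subtype ∘ₗ W'.subtype) (fun w => w.2), fun w =>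
    congrArg Subtype.val ((LinearEquiv.ofInjective T hTinj).apply_symm_apply _)⟩
  have hπsurj : Function.Surjective π := by
    rw [← LinearMap.range_eq_top, eq_top_iff, ← bd.span_eq, Submodule.span_le]
    rintro _ ⟨l, rfl⟩
    refine ⟨⟨⟨lifts l, hlW (Submodule.subset_span ⟨l, rfl⟩)⟩, ⟨bd l, (hlifts l).symm⟩⟩, hTinj ?_⟩
    rw [hπ]
    exact hlifts l
  have hW'st : ∀ (h : VecGrp.pt k k ⟶ H) (w : W'), res ((act σW (h ≫ i) w.1 : W) : ι' → Γ(G.left, ⊤)) =
      T ((π w).comp (act σ h⁻¹)) := by
    intro h w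
    funext j
    refine eq_of_rational (G := H) fun y => ?_
    rw [hres, hact, piMod_act, fn_tr, ← MonObj.mul_comp, ← hres, ← hπ, hT, hT, LinearMap.comp_apply, ← act_mul,
      _root_.mul_inv_rev]
  have hmem : ∀ (h : VecGrp.pt k k ⟶ H) (w : W'), act σW (h ≫ i) w.1 ∈ W' := fun h w => ⟨_, (hW'st h w).symm⟩
  exact ⟨W, inferInstance, inferInstance, inferInstance, σW, W', π, hπsurj, fun h w =>
    ⟨hmem h w, hTinj ((hπ _).trans (hW'st h w))⟩⟩

/-- Equivariant maps of a module of an observable subgroup into the functions, separating vectors. -/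
theorem exists_separating_maps (hobs : AGF.IsObservableIn k i) [IsAffine H.left] [IsReduced H.left]
    {V : Type u} [AddCommGroup V] [Module k V] [Module.Finite k V] (σ : VecGrp.GMod H V) :
    ∃ (J : Type u) (_ : Fintype J) (_ : DecidableEq J) (Φ : V →ₗ[k] (J → Γ(G.left, ⊤))),
      Function.Injective Φ ∧ ∀ (h : VecGrp.pt k k ⟶ H) (v : V) (j : J), tr (h ≫ i) (Φ v j) = Φ (act σ h v) j := by
  classical
  obtain ⟨W, _, _, _, σW, W', π, hπsurj, hst⟩ := exists_cover_dual i σ
  have hmem : ∀ (h : VecGrp.pt k k ⟶ H) (w : W'), act σW (h ≫ i) w.1 ∈ W' := fun h w => (hst h w).1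
  let u := Module.finBasis k W'
  let d := Module.finrank k W'
  have hli : LinearIndependent k (fun b : Fin d => ((u b : W') : W)) :=
    u.linearIndependent.map' W'.subtype W'.ker_subtype
  let ψ : Fin d → W →ₗ[k] k := fun a =>
    (LinearMap.exists_extend (p := W') (u.coord a)).choose
  have hψ : ∀ a b, ψ a (u b).1 = if b = a then 1 else 0 := fun a b => by
    have := (LinearMap.exists_extend (p := W') (u.coord a)).choose_spec
    rw [show ψ a (u b).1 = (LinearMap.exists_extend (p := W') (u.coord a)).choose.comp W'.subtype (u b) from rfl, this]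
    simp [Finsupp.single_apply]
  let P : Matrix (Fin d) (Fin d) Γ(G.left, ⊤) := fun a b => mc σW (ψ a) (u b).1
  let Mh : (VecGrp.pt k k ⟶ H) → Matrix (Fin d) (Fin d) k := fun h c b => u.repr ⟨_, hmem h (u b)⟩ c
  let Px : (VecGrp.pt k k ⟶ G) → Matrix (Fin d) (Fin d) k := fun x => (fn x).mapMatrix P
  have hPx : ∀ (x : VecGrp.pt k k ⟶ G) (h : VecGrp.pt k k ⟶ H), Px (x * (h ≫ i)) = Px x * Mh h := by
    intro x h
    ext a b
    show fn (x * (h ≫ i)) (mc σW (ψ a) (u b).1) = ∑ c, fn x (mc σW (ψ a) (u c).1) * Mh h c b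
    rw [fn_mc_act, act_mul]
    have hs : (act σW (h ≫ i) (u b).1 : W) = ∑ c, Mh h c b • (u c).1 := by
      have := congrArg Subtype.val (u.sum_repr ⟨_, hmem h (u b)⟩)
      rw [Submodule.coe_sum] at this
      simp only [Submodule.coe_smul] at this
      exact this.symm
    rw [hs, map_sum, map_sum]
    refine Finset.sum_congr rfl fun c _ => ?_
    rw [map_smul, map_smul, smul_eq_mul, fn_mc_act, mul_comm]
  have hP1 : Px 1 = 1 := by
    ext a b
    show fn 1 (mc σW (ψ a) (u b).1) = _
    rw [fn_mc_act, act_one, hψ, Matrix.one_apply]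
    simp only [eq_comm]
  have hdet : ∀ x, fn x P.det = (Px x).det := fun x => AlgHom.map_det _ _
  have hMunit : ∀ h, (Mh h).det ≠ 0 := by
    intro h h0
    have h2 := congrArg Matrix.det (hPx (h ≫ i)⁻¹ h)
    rw [inv_mul_cancel, hP1, Matrix.det_one, Matrix.det_mul, h0, mul_zero] at h2
    exact one_ne_zero h2
  have hD : ∀ x h, fn (x * (h ≫ i)) P.det = fn x P.det * (Mh h).det := fun x h => by
    rw [hdet, hdet, hPx, Matrix.det_mul]
  obtain ⟨a, hainv, harad, ha0⟩ := exists_invariant_vanishing i hobs (Ideal.span {P.det}) (fun x y h g hg => by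
      obtain ⟨r, rfl⟩ := Ideal.mem_span_singleton.1 hg
      rw [map_mul, hD, h _ (Ideal.mem_span_singleton_self _), zero_mul, zero_mul])
    (fun h0 => by
      rw [Ideal.span_singleton_eq_bot] at h0
      have := hdet 1
      rw [h0, map_zero, hP1, Matrix.det_one] at this
      exact zero_ne_one this)
  obtain ⟨n, hn⟩ := Ideal.mem_radical_iff.1 harad
  obtain ⟨q₀, hq₀⟩ := Ideal.mem_span_singleton.1 hn
  let q' := q₀ * a
  have hzero : ∀ x : VecGrp.pt k k ⟶ G, fn x P.det = 0 → fn x q' = 0 := by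
    intro x hx
    have h1 : fn x (a ^ n) = 0 := by rw [hq₀, map_mul, hx, zero_mul]
    rw [map_pow] at h1
    rw [map_mul, eq_zero_of_pow_eq_zero h1, mul_zero]
  have hval : ∀ x : VecGrp.pt k k ⟶ G, fn x P.det * fn x q' = fn x a ^ (n + 1) := fun x => by
    rw [map_mul, pow_succ, ← map_pow, hq₀, map_mul]
    ring
  have hq' : ∀ (x : VecGrp.pt k k ⟶ G) (h : VecGrp.pt k k ⟶ H),
      (Mh h).det * fn (x * (h ≫ i)) q' = fn x q' := by
    intro x h
    by_cases hx : fn x P.det = 0
    · rw [hzero x hx, hzero _ (by rw [hD, hx, zero_mul]), mul_zero]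
    · have h1 := hval (x * (h ≫ i))
      rw [hD, eval_of_rTransInv i a hainv, ← hval x] at h1
      exact mul_left_cancel₀ hx (by rw [← h1]; ring)
  obtain ⟨x₀, hx₀⟩ : ∃ x₀ : VecGrp.pt k k ⟶ G, fn x₀ q' ≠ 0 := by
    by_contra hh
    push_neg at hh
    refine ha0 (eq_zero_of_rational a fun x => eq_zero_of_pow_eq_zero (n := n + 1) ?_)
    rw [← hval x, hh x, mul_zero]
  let q := lt x₀ q'
  have hq : ∀ (x : VecGrp.pt k k ⟶ G) (h : VecGrp.pt k k ⟶ H), (Mh h).det * fn (x * (h ≫ i)) q = fn x q := by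
    intro x h
    rw [fn_lt, fn_lt, ← _root_.mul_assoc x₀]
    exact hq' _ h
  let row : V → Fin d → k := fun v b => π (u b) v
  let Φf : V → ULift.{u} (Fin d) → Γ(G.left, ⊤) := fun v j =>
    (P.updateRow j.down (fun b => algebraMap k _ (row v b))).det * q
  have hΦx : ∀ v j x, fn x (Φf v j) = ((Px x).updateRow j.down (row v)).det * fn x q := by
    intro v j x
    rw [map_mul, AlgHom.map_det]
    congr 2
    ext a b
    simp only [AlgHom.mapMatrix_apply, Matrix.map_apply, Matrix.updateRow_apply, Px]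
    split_ifs <;> simp
  let Φ : V →ₗ[k] (ULift.{u} (Fin d) → Γ(G.left, ⊤)) :=
    { toFun := Φf
      map_add' := fun v v' => funext fun j => eq_of_rational fun x => by
        rw [Pi.add_apply, map_add (fn x), hΦx, hΦx, hΦx, show row (v + v') = row v + row v' from
          funext fun b => map_add _ _ _, Matrix.det_updateRow_add, add_mul]
      map_smul' := fun c v => funext fun j => eq_of_rational fun x => by
        rw [Pi.smul_apply, RingHom.id_apply, map_smul (fn x), hΦx, hΦx, show row (c • v) = c • row v from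
          funext fun b => map_smul _ _ _, Matrix.det_updateRow_smul, smul_eq_mul, _root_.mul_assoc] }
  refine ⟨ULift.{u} (Fin d), inferInstance, inferInstance, Φ, ?_, fun h v j => eq_of_rational fun x => ?_⟩
  · rw [injective_iff_map_eq_zero]
    intro v hv
    refine (Module.forall_dual_apply_eq_zero_iff k v).1 fun φ => ?_
    obtain ⟨w, rfl⟩ := hπsurj φ
    have hj : ∀ b, row v b = 0 := fun b => by
      have h1 := hΦx v ⟨b⟩ 1
      have h0 : Φf v ⟨b⟩ = 0 := congrFun hv ⟨b⟩
      rw [h0, map_zero, hP1, fn_lt, _root_.mul_one] at h1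
      have h2 : ((1 : Matrix (Fin d) (Fin d) k).updateRow b (row v)).det = row v b := by
        rw [← Matrix.cramer_transpose_apply, Matrix.transpose_one, Matrix.cramer_one]
        rfl
      rw [h2] at h1
      exact (mul_eq_zero.1 h1.symm).resolve_right hx₀
    conv_lhs => rw [← u.sum_repr w]
    rw [map_sum, LinearMap.sum_apply]
    refine Finset.sum_eq_zero fun b _ => ?_
    rw [map_smul, LinearMap.smul_apply]
    show u.repr w b • row v b = 0
    rw [hj, smul_zero]
  · rw [fn_tr]
    show fn _ (Φf v j) = fn x (Φf (act σ h v) j)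
    rw [hΦx, hΦx, hPx]
    have hrow : Matrix.vecMul (row (act σ h v)) (Mh h) = row v := by
      funext b
      have h1 : π ⟨_, hmem h (u b)⟩ = (π (u b)).comp (act σ h⁻¹) := (hst h (u b)).2
      have h2 := congrArg (fun t : V →ₗ[k] k => t (act σ h v)) h1
      rw [LinearMap.comp_apply, ← act_mul, inv_mul_cancel, act_one] at h2
      rw [← u.sum_repr ⟨_, hmem h (u b)⟩, map_sum, LinearMap.sum_apply] at h2
      rw [show row v b = π (u b) v from rfl, ← h2]
      show ∑ c, row (act σ h v) c * Mh h c b = _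
      refine Finset.sum_congr rfl fun c _ => ?_
      rw [map_smul, LinearMap.smul_apply, smul_eq_mul, mul_comm]
    have hmul : (Px x * Mh h).updateRow j.down (row v) = (Px x).updateRow j.down (row (act σ h v)) * Mh h := by
      ext a b
      rw [Matrix.updateRow_apply]
      by_cases ha : a = j.down
      · subst ha
        rw [if_pos rfl, ← hrow, Matrix.mul_apply]
        simp only [Matrix.updateRow_self]
        rfl
      · rw [if_neg ha, Matrix.mul_apply, Matrix.mul_apply]
        simp only [Matrix.updateRow_ne ha]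
    rw [hmul, Matrix.det_mul, _root_.mul_assoc, hq]

/-- Modules of an observable subgroup extend. -/
theorem extends_of_observable (hobs : AGF.IsObservableIn k i) {V : Type u} [AddCommGroup V] [Module k V]
    [Module.Finite k V] (σ : VecGrp.GMod H V) : σ.ExtendsAlong i := by
  haveI : IsAffine H.left := isAffine_of_isAffineHom i.left
  haveI : IsReduced H.left := Groth.Agent.GrpSchLib.isReduced_of_smooth_field H.hom
  obtain ⟨J, _, _, Φ, hΦ, heq⟩ := exists_separating_maps i hobs σ
  obtain ⟨N, hΦN, hN, hst⟩ := GModStable.exists_fg_stable (piMod (reg (G := G)) J) (LinearMap.range Φ)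
    (Submodule.fg_iff_finiteDimensional _ |>.2 inferInstance)
  haveI : Module.Finite k N := Module.Finite.iff_fg.2 hN
  obtain ⟨ρ, hρ⟩ := exists_restrict _ N hst
  let φ : V →ₗ[k] N := LinearMap.codRestrict N Φ fun v => hΦN ⟨v, rfl⟩
  refine ⟨N, inferInstance, inferInstance, inferInstance, ρ, φ, fun v v' h => hΦ (congrArg Subtype.val h),
    fun B _ _ h x => ?_⟩
  apply Module.Flat.lTensor_preserves_injective_linearMap N.subtype N.injective_subtype
  show N.subtype.baseChange B _ = N.subtype.baseChange B _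
  rw [hρ]
  have e : ∀ z : B ⊗[k] V, N.subtype.baseChange B (φ.baseChange B z) = Φ.baseChange B z := fun z => by
    induction z using TensorProduct.induction_on with
    | zero => simp
    | tmul b v => simp [φ]
    | add p q hp hq => simp only [map_add, hp, hq]
  rw [e, e]
  induction x using TensorProduct.induction_on with
  | zero => simp
  | add p q hp hq => simp only [map_add, hp, hq]
  | tmul b v =>
    have eb : (b ⊗ₜ[k] v : B ⊗[k] V) = b • ((1 : B) ⊗ₜ[k] v) := by
      rw [TensorProduct.smul_tmul', smul_eq_mul, _root_.mul_one]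
    rw [eb, map_smul, map_smul, map_smul, map_smul]
    congr 1
    have huniv : Φ.baseChange _ (σ.ρ _ (uPt H) ((1 : Γ(H.left, ⊤)) ⊗ₜ[k] v)) =
        (piMod (reg (G := G)) J).ρ _ (uPt H ≫ i) ((1 : Γ(H.left, ⊤)) ⊗ₜ[k] Φ v) := by
      refine ext_pts (T := H) fun y => ?_
      rw [VecGrp.baseChange_natural, GModStable.ρ_naturality σ, ptMap_fn_uPt,
        GModStable.ρ_naturality (piMod (reg (G := G)) J), ← Category.assoc, ptMap_fn_uPt, act_apply, act_apply,
        LinearMap.baseChange_tmul]
      congr 1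
      funext j
      rw [piMod_act, heq]
    conv_lhs => rw [← ptMap_fn_uPt h, ← GModStable.ρ_naturality σ, ← VecGrp.baseChange_natural, huniv,
      GModStable.ρ_naturality (piMod (reg (G := G)) J), ← Category.assoc, ptMap_fn_uPt]
    rw [LinearMap.baseChange_tmul]

end Groth.Agent.Deform.ObsExt
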