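import Groth.Agent.Deform.ObsSemi
import Groth.Agent.GrpSchLib.SepPoints
import Groth.Agent.GrpSchLib.AffineHopf
import Groth.Agent.ComodLib.Chevalley
import Groth.Agent.S6094

/-! Chevalley's line for a closed subgroup of an affine group, in module-functor form. -/

universe u

open CategoryTheory MonoidalCategory CartesianMonoidalCategory MonObj GrpObj AlgebraicGeometry
open scoped TensorProduct

namespace Groth.Agent.Deform.ObsLine
attribute [local instance] CategoryTheory.Hom.monoid CategoryTheory.Hom.group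
set_option backward.isDefEq.respectTransparency false
set_option linter.style.haveILetI false
set_option maxHeartbeats 1000000
open Groth.Agent.GrpSchLib.AffineHopf in
open WithConv Bialgebra Coalgebra in
/-- A line with stabilizer the given subgroup. -/
theorem exists_line {k : Type u} [Field k] [IsAlgClosed k]
    {G : Over (Spec (CommRingCat.of k))} [GrpObj G] [IsAffine G.left] [Smooth G.hom]
    {H : Over (Spec (CommRingCat.of k))} [GrpObj H] [Smooth H.hom] (i : H ⟶ G) [IsMonHom i]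
    [IsClosedImmersion i.left] :
    ∃ (V : Type u) (_ : AddCommGroup V) (_ : Module k V) (_ : Module.Finite k V) (ρ : VecGrp.GMod G V) (v : V),
      v ≠ 0 ∧ (∀ g : VecGrp.pt k k ⟶ G, (∃ c : k, ρ.ρ k g ((1 : k) ⊗ₜ[k] v) = c • ((1 : k) ⊗ₜ[k] v)) →
        ∃ h : VecGrp.pt k k ⟶ H, h ≫ i = g) ∧
      ∃ χ : H ⟶ Red.Gm (Spec (CommRingCat.of k)),
        ∀ (B : Type u) [CommRing B] [Algebra k B] (y : VecGrp.pt k B ⟶ H),
          ρ.ρ B (y ≫ i) ((1 : B) ⊗ₜ[k] v) = VecGrp.chiVal χ y • ((1 : B) ⊗ₜ[k] v) := by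
  haveI : IsAffine H.left := isAffine_of_isAffineHom i.left
  haveI : IsReduced G.left := Groth.Agent.GrpSchLib.isReduced_of_smooth_field G.hom
  haveI : IsReduced H.left := Groth.Agent.GrpSchLib.isReduced_of_smooth_field H.hom
  haveI : IsAffine H.left := isAffine_of_isAffineHom i.left
  obtain ⟨A, _, _, ⟨eG⟩⟩ := exists_hopf G
  obtain ⟨B, _, _, ⟨eH⟩⟩ := exists_hopf H
  let εH : sp k B ≅ H := (Grp.forget _).mapIso eH
  let εG : sp k A ≅ G := (Grp.forget _).mapIso eG
  haveI : IsIso εH.hom.left := ((Over.forget _).mapIso εH).isIso_hom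
  haveI : IsIso εG.inv.left := ((Over.forget _).mapIso εG).isIso_inv
  haveI : IsIso εG.hom.left := ((Over.forget _).mapIso εG).isIso_hom
  haveI : IsMonHom εH.hom := inferInstanceAs (IsMonHom eH.hom.hom.hom)
  haveI : IsMonHom εH.inv := inferInstanceAs (IsMonHom eH.inv.hom.hom)
  haveI : IsMonHom εG.inv := inferInstanceAs (IsMonHom eG.inv.hom.hom)
  obtain ⟨π, hπ⟩ := exists_bialgHom (εH.hom ≫ i ≫ εG.inv)
  have hcl : IsClosedImmersion (Spec.map (CommRingCat.ofHom (π : A →ₐ[k] B).toRingHom)) := by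
    have e : Spec.map (CommRingCat.ofHom (π : A →ₐ[k] B).toRingHom) =
        εH.hom.left ≫ i.left ≫ εG.inv.left := congrArg CommaMorphism.left hπ.symm
    rw [e]
    exact (MorphismProperty.cancel_left_of_respectsIso @IsClosedImmersion _ _).2
      ((MorphismProperty.cancel_right_of_respectsIso @IsClosedImmersion i.left _).2 ‹_›)
  have hs : Function.Surjective π := by
    intro y
    obtain ⟨x, hx⟩ := (IsClosedImmersion.isAffine_surjective_of_isAffine
      (f := Spec.map (CommRingCat.ofHom (π : A →ₐ[k] B).toRingHom))).2 ((Scheme.ΓSpecIso (CommRingCat.of B)).inv y)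
    refine ⟨(Scheme.ΓSpecIso (CommRingCat.of A)).hom x, ?_⟩
    show (CommRingCat.ofHom (π : A →ₐ[k] B).toRingHom) ((Scheme.ΓSpecIso (CommRingCat.of A)).hom x) = y
    rw [← CommRingCat.comp_apply, ← Scheme.ΓSpecIso_naturality, CommRingCat.comp_apply, hx,
      ← CommRingCat.comp_apply, Iso.inv_hom_id]
    rfl
  haveI : Algebra.FiniteType k A := by
    have hw : εG.hom.left ≫ G.hom = Spec.map (CommRingCat.ofHom (algebraMap k A)) := Over.w εG.hom
    haveI : LocallyOfFiniteType (Spec.map (CommRingCat.ofHom (algebraMap k A))) :=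
      hw ▸ (MorphismProperty.cancel_left_of_respectsIso @LocallyOfFiniteType _ G.hom).2 inferInstance
    exact RingHom.finiteType_algebraMap.1 ((HasRingHomProperty.Spec_iff (P := @LocallyOfFiniteType)).1 this)
  obtain ⟨d, e, M, hM, hblock, hkill⟩ := Groth.Agent.ComodLib.exists_block_matrix π hs
  obtain ⟨c₀, -, heig⟩ := Groth.Agent.ComodLib.orbit_block hM π hblock
  let M₁ := Groth.Agent.ComodLib.powMatrix M d
  let v₁ := Groth.Agent.ComodLib.minorVec k (Sum.inl : Fin d → Fin d ⊕ Fin e)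
  have hv₁ : v₁ ≠ 0 := fun h => one_ne_zero ((Groth.Agent.ComodLib.minorVec_self (k := k) Sum.inl_injective).symm.trans (congrFun h Sum.inl))
  let cV : HopfRep.Comod k A _ := Groth.Agent.ComodLib.ofMatrix M₁ (hM.powMatrix d)
  obtain ⟨m, hm, -⟩ := @(Groth.Agent.S6094.result k A ((Fin d → Fin d ⊕ Fin e) → k)).1 cV
  let ρ : VecGrp.GMod G ((Fin d → Fin d ⊕ Fin e) → k) :=
    { ρ := fun R _ _ =>
        { toFun := fun g => m.ρ R (g ≫ εG.inv)
          map_one' := by rw [MonObj.one_comp, map_one]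
          map_mul' := fun g g' => by rw [MonObj.mul_comp, map_mul] }
      naturality := fun {R R'} _ _ _ _ φ g x => by
        show _ = m.ρ R' ((VecGrp.ptMap φ ≫ g) ≫ εG.inv) _
        rw [Category.assoc]
        exact m.naturality φ (g ≫ εG.inv) x }
  have hline : ∀ (g : VecGrp.pt k k ⟶ G) (a : A →ₐ[k] k) (c : k), g ≫ εG.inv = spMap a →
      (ρ.ρ k g ((1 : k) ⊗ₜ[k] v₁) = c • ((1 : k) ⊗ₜ[k] v₁) ↔ ∀ x, a (Groth.Agent.ComodLib.orbit k M₁ v₁ x) = v₁ x • c) := by
    intro g a c hga
    show m.ρ k (g ≫ εG.inv) ((1 : k) ⊗ₜ[k] v₁) = _ ↔ _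
    have ha : (Spec.mapMulEquiv.symm (g ≫ εG.inv)).ofConv = a := spMap_injective
      ((Spec.mapMulEquiv.apply_symm_apply (g ≫ εG.inv)).trans hga)
    rw [hm, ha, TensorProduct.smul_tmul', smul_eq_mul, _root_.mul_one, ← TensorProduct.comm_tmul (R := k) (m := v₁) (n := c),
      (TensorProduct.comm k _ k).injective.eq_iff]
    exact Groth.Agent.ComodLib.lTensor_ofMatrix_coact_eq_iff M₁ (hM.powMatrix d) v₁ a.toLinearMap c
  obtain ⟨χ, hχm, hχ⟩ := Groth.Agent.Deform.ObsSemi.exists_char i ρ hv₁ (fun y => by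
    obtain ⟨b, hb⟩ := exists_eq_spMap (y ≫ εH.inv)
    refine ⟨b c₀, (hline _ (b.comp (π : A →ₐ[k] B)) _ ?_).2 fun x => ?_⟩
    · rw [← spMap_comp, ← hb, ← hπ, Category.assoc, Category.assoc, reassoc_of% εH.inv_hom_id]
    · show b (π (Groth.Agent.ComodLib.orbit k M₁ v₁ x)) = _
      rw [heig, map_smul, smul_eq_mul])
  refine ⟨_, inferInstance, inferInstance, inferInstance, ρ, v₁, hv₁, fun g ⟨c, hc⟩ => ?_, χ, hχ⟩
  have hc0 : c ≠ 0 := fun h0 => by
    rw [h0, zero_smul, LinearEquiv.map_eq_zero_iff] at hc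
    exact hv₁ (by simpa using congrArg (TensorProduct.lid k _) hc)
  obtain ⟨a, hga⟩ := exists_eq_spMap (g ≫ εG.inv)
  have horb := (hline g a c hga).1 hc
  have hk : ∀ x ∈ RingHom.ker (π : A →+* B), a x = 0 := hkill k a fun r t =>
    Groth.Agent.ComodLib.eq_zero_of_minors ((Matrix.of M).map a) c hc0.isUnit
      (fun x => (Groth.Agent.ComodLib.map_orbit_minorVec M a x).symm.trans (horb x)) r t
  have hle : ∀ x y : A, π x = π y → a x = a y := fun x y h => sub_eq_zero.1 (by
    rw [← map_sub]; exact hk _ (by show π (x - y) = 0; rw [map_sub, h, sub_self]))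
  let b : B →ₐ[k] k := AlgHom.ofLinearMap
    { toFun := fun y => a (Function.surjInv hs y)
      map_add' := fun y y' => (hle _ (Function.surjInv hs y + Function.surjInv hs y')
        (by simp [Function.surjInv_eq])).trans (map_add a _ _)
      map_smul' := fun c y => (hle _ (c • Function.surjInv hs y)
        (by simp [Function.surjInv_eq])).trans (map_smul a c _) }
    ((hle _ 1 (by simp [Function.surjInv_eq])).trans (map_one a))
    (fun y y' => (hle _ (Function.surjInv hs y * Function.surjInv hs y')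
      (by simp [Function.surjInv_eq])).trans (map_mul a _ _))
  have hb : b.comp (π : A →ₐ[k] B) = a := AlgHom.ext fun x => hle _ x (Function.surjInv_eq hs _)
  refine ⟨spMap b ≫ εH.hom, ?_⟩
  have i2 : εG.inv ≫ εG.hom = 𝟙 _ := εG.inv_hom_id
  have h3 : spMap b ≫ εH.hom ≫ i ≫ εG.inv = spMap a := by rw [hπ, spMap_comp, hb]
  have h4 := congrArg (· ≫ εG.hom) (h3.trans hga.symm)
  simp only [Category.assoc, i2, Category.comp_id] at h4
  rw [Category.assoc]
  exact h4

end Groth.Agent.Deform.ObsLine
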