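import Groth.Agent.Deform.ObsLine
import Groth.Agent.GrpSchLib.HomClosedRange
import Groth.Agent.GrpSchLib.SepPoints

/-! Observable subgroups and open subgroups. -/

universe u

open CategoryTheory MonoidalCategory CartesianMonoidalCategory MonObj GrpObj AlgebraicGeometry
open scoped TensorProduct

namespace Groth.Agent.Deform.ObsOpen
attribute [local instance] CategoryTheory.Hom.monoid CategoryTheory.Hom.group
set_option linter.style.haveILetI false
set_option linter.unusedSectionVars false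
set_option maxHeartbeats 1000000
open GModStable RTrans ObsVanish ObsSemi
attribute [local instance] GModStable.algΓ

theorem isDomain_functions {k : Type u} [Field k] [IsAlgClosed k] (G : Over (Spec (CommRingCat.of k)))
    [IsAffine G.left] [Smooth G.hom] [IsReduced G.left] [ConnectedSpace G.left] : IsDomain Γ(G.left, ⊤) := by
  haveI : ConnectedSpace (PrimeSpectrum Γ(G.left, ⊤)) :=
    (Scheme.homeoOfIso G.left.isoSpec).surjective.connectedSpace (Scheme.homeoOfIso G.left.isoSpec).continuous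
  haveI : Nonempty G.left := ConnectedSpace.toNonempty
  haveI : Nontrivial Γ(G.left, ⊤) := PrimeSpectrum.nonempty_iff_nontrivial.1 inferInstance
  obtain ⟨P, hP⟩ : (minimalPrimes Γ(G.left, ⊤)).Nonempty := by
    obtain ⟨p, hp, -⟩ := Ideal.exists_minimalPrimes_le (I := (⊥ : Ideal Γ(G.left, ⊤)))
      (J := (Classical.arbitrary (PrimeSpectrum Γ(G.left, ⊤))).asIdeal) bot_le
    exact ⟨p, hp⟩
  haveI := Ideal.minimalPrimes_isPrime hP
  obtain ⟨e, he, hePt⟩ := exists_idempotent hP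
  have hP0 : P = ⊥ := by
    refine (Submodule.eq_bot_iff _).2 fun p hp => eq_zero_of_rational (G := G) p fun x => (hePt x).1 ?_ p hp
    obtain rfl | rfl : e = 0 ∨ e = 1 := by
      have hcl : IsClopen (PrimeSpectrum.basicOpen e : Set (PrimeSpectrum Γ(G.left, ⊤))) :=
        PrimeSpectrum.isClopen_basicOpen_of_mul_add e (1 - e) (by rw [mul_sub, _root_.mul_one, he.eq, sub_self]) (by ring)
      rcases isClopen_iff.1 hcl with h | h
      · exact Or.inl (PrimeSpectrum.basicOpen_injOn_isIdempotentElem he IsIdempotentElem.zero (SetLike.ext' (by simpa using h)))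
      · exact Or.inr (PrimeSpectrum.basicOpen_injOn_isIdempotentElem he IsIdempotentElem.one (SetLike.ext' (by simpa using h)))
    · obtain ⟨c, hc, -⟩ := exists_pt_of_not_mem_radical (G := G) (I := P) (a := 1) (by
        rw [Ideal.IsPrime.radical ‹_›]; exact fun h => Ideal.IsPrime.ne_top ‹_› ((Ideal.eq_top_iff_one _).2 h))
      exact absurd ((map_zero (fn c)).symm.trans ((hePt c).2 hc)) zero_ne_one
    · exact map_one _
  haveI : (⊥ : Ideal Γ(G.left, ⊤)).IsPrime := hP0 ▸ inferInstance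
  exact IsDomain.of_bot_isPrime _
variable {k : Type u} [Field k] [IsAlgClosed k]

theorem isClosedImmersion_of_open {G G₀ : Over (Spec (CommRingCat.of k))} [GrpObj G] [GrpObj G₀]
    [LocallyOfFiniteType G.hom] (j : G₀ ⟶ G) [IsMonHom j] [IsOpenImmersion j.left] : IsClosedImmersion j.left := by
  haveI : IsLocallyNoetherian G.left := LocallyOfFiniteType.isLocallyNoetherian G.hom
  haveI : LocallyOfFiniteType G₀.hom := by rw [← Over.w j]; infer_instance
  haveI : QuasiCompact j.left := inferInstance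
  exact IsClosedImmersion.of_isPreimmersion j.left (GrpSchLib.HomClosedRange.isClosed_range j)

theorem smooth_of_open {G G₀ : Over (Spec (CommRingCat.of k))} (j : G₀ ⟶ G) [IsOpenImmersion j.left]
    [Smooth G.hom] : Smooth G₀.hom := by
  rw [← Over.w j]; infer_instance

/-- The indicator function of an open subgroup. -/
theorem exists_indicator {G G₀ : Over (Spec (CommRingCat.of k))} [GrpObj G] [GrpObj G₀] [IsAffine G.left]
    [LocallyOfFiniteType G.hom] [IsReduced G.left] (j : G₀ ⟶ G) [IsMonHom j] [IsOpenImmersion j.left] :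
    ∃ e : Γ(G.left, ⊤), IsIdempotentElem e ∧
      ∀ x : VecGrp.pt k k ⟶ G, fn x e = 1 ↔ ∃ z : VecGrp.pt k k ⟶ G₀, z ≫ j = x := by
  haveI := isClosedImmersion_of_open j
  let φ := G.left.isoSpec
  have hcl : IsClopen ((Scheme.homeoOfIso φ) '' Set.range j.left : Set (PrimeSpectrum Γ(G.left, ⊤))) :=
    ⟨(Scheme.homeoOfIso φ).isClosedMap _ j.left.isClosedEmbedding.isClosed_range,
      (Scheme.homeoOfIso φ).isOpenMap _ j.left.isOpenEmbedding.isOpen_range⟩
  obtain ⟨e, e', hee', he1, hs⟩ := PrimeSpectrum.isClopen_iff_mul_add.1 hcl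
  refine ⟨e, (IsIdempotentElem.of_mul_add hee' he1).1, fun x => ?_⟩
  have hpt : φ.hom (x.left (IsLocalRing.closedPoint k)) ∈ PrimeSpectrum.basicOpen e ↔ fn x e ≠ 0 := by
    have h1 : φ.hom (x.left (IsLocalRing.closedPoint k)) =
        PrimeSpectrum.comap (fn x).toRingHom (IsLocalRing.closedPoint k) := by
      conv_lhs => rw [← ptMap_fn_uPt x]
      show φ.hom (φ.inv _) = _
      rw [← Scheme.Hom.comp_apply, Iso.inv_hom_id]
      rfl
    rw [h1]
    show ¬ fn x e ∈ IsLocalRing.maximalIdeal k ↔ _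
    rw [IsLocalRing.isField_iff_maximalIdeal_eq.mp (Field.toIsField k), Ideal.mem_bot]
  have h01 : fn x e = 0 ∨ fn x e = 1 :=
    IsIdempotentElem.iff_eq_zero_or_one.1 ((IsIdempotentElem.of_mul_add hee' he1).1.map (fn x))
  have hiff : fn x e = 1 ↔ x.left (IsLocalRing.closedPoint k) ∈ Set.range j.left := by
    rw [((Scheme.homeoOfIso φ).injective.mem_set_image.symm.trans ((Set.ext_iff.1 hs _).trans hpt))]
    constructor
    · intro h; rw [h]; exact one_ne_zero
    · exact h01.resolve_left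
  rw [hiff]
  constructor
  · intro h
    haveI : Subsingleton (Spec (CommRingCat.of k)) := inferInstance
    have hr : Set.range x.left ⊆ Set.range j.left := by
      rintro _ ⟨p, rfl⟩
      rwa [@Subsingleton.elim (Spec (CommRingCat.of k)) _ p (IsLocalRing.closedPoint k)]
    refine ⟨Over.homMk (IsOpenImmersion.lift j.left x.left hr) (by
      rw [← Over.w j, ← Category.assoc, IsOpenImmersion.lift_fac]
      exact Over.w x), ?_⟩
    apply Over.OverMorphism.ext
    exact IsOpenImmersion.lift_fac _ _ _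
  · rintro ⟨z, rfl⟩
    exact ⟨_, (Scheme.Hom.comp_apply z.left j.left _).symm⟩

/-- An open subgroup of an affine group has finitely many cosets of rational points. -/
theorem exists_cosets {G G₀ : Over (Spec (CommRingCat.of k))} [GrpObj G] [GrpObj G₀] [IsAffine G.left]
    [LocallyOfFiniteType G.hom] [IsReduced G.left] (j : G₀ ⟶ G) [IsMonHom j] [IsOpenImmersion j.left] :
    ∃ R : Finset (VecGrp.pt k k ⟶ G), ∀ h, ∃ r ∈ R, ∃ h₀ : VecGrp.pt k k ⟶ G₀, h = r * (h₀ ≫ j) := by
  classical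
  haveI := finiteType G
  haveI : IsNoetherianRing Γ(G.left, ⊤) := Algebra.FiniteType.isNoetherianRing k _
  haveI : _root_.IsReduced Γ(G.left, ⊤) := inferInstance
  obtain ⟨e, he, hej⟩ := exists_indicator j
  let K : Set Γ(G.left, ⊤) := Set.range fun h : VecGrp.pt k k ⟶ G => tr h e
  have hK : K.Finite := (finite_idempotents _).subset (by rintro _ ⟨h, rfl⟩; exact he.map _)
  choose rep hrep using fun t : K => t.2
  haveI := hK.fintype
  refine ⟨Finset.univ.image rep, fun h => ?_⟩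
  refine ⟨rep ⟨tr h e, h, rfl⟩, Finset.mem_image_of_mem _ (Finset.mem_univ _), ?_⟩
  have h1 : fn h⁻¹ (tr (rep ⟨tr h e, h, rfl⟩) e) = fn h⁻¹ (tr h e) := congrArg (fn h⁻¹) (hrep ⟨tr h e, h, rfl⟩)
  rw [fn_tr, fn_tr, inv_mul_cancel, (hej 1).2 ⟨1, MonObj.one_comp j⟩] at h1
  obtain ⟨z, hz⟩ := (hej _).1 h1
  exact ⟨z⁻¹, by rw [GrpObj.inv_comp, hz, _root_.mul_inv_rev, _root_.inv_inv, mul_inv_cancel_left]⟩

theorem tr_tr {G : Over (Spec (CommRingCat.of k))} [GrpObj G] [IsAffine G.left] [LocallyOfFiniteType G.hom]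
    [IsReduced G.left] (d d' : VecGrp.pt k k ⟶ G) (f : Γ(G.left, ⊤)) : tr d (tr d' f) = tr (d * d') f :=
  eq_of_rational fun x => by rw [fn_tr, fn_tr, fn_tr, _root_.mul_assoc]

theorem tr_injective {G : Over (Spec (CommRingCat.of k))} [GrpObj G] [IsAffine G.left] [LocallyOfFiniteType G.hom]
    [IsReduced G.left] (d : VecGrp.pt k k ⟶ G) : Function.Injective (tr d) := fun f f' h =>
  eq_of_rational fun x => by
    have := congrArg (fn (x * d⁻¹)) h
    rwa [fn_tr, fn_tr, inv_mul_cancel_right] at this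

variable {G H G₀ H₀ : Over (Spec (CommRingCat.of k))} [GrpObj G] [GrpObj H] [GrpObj G₀] [GrpObj H₀]
  [IsAffine G.left] [Smooth G.hom] [Smooth H.hom] (i : H ⟶ G) [IsMonHom i] [IsClosedImmersion i.left]
  (jG : G₀ ⟶ G) [IsMonHom jG] [IsOpenImmersion jG.left] [ConnectedSpace G₀.left]
  (jH : H₀ ⟶ H) [IsMonHom jH] [IsOpenImmersion jH.left] (i₀ : H₀ ⟶ G₀) [IsMonHom i₀]
  (hc : i₀ ≫ jG = jH ≫ i)

include hc

theorem isClosedImmersion_restrict : IsClosedImmersion i₀.left := by
  haveI := isClosedImmersion_of_open jG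
  haveI := isClosedImmersion_of_open jH
  haveI : IsClosedImmersion (i₀.left ≫ jG.left) := by
    rw [← Over.comp_left, hc, Over.comp_left]; infer_instance
  exact IsClosedImmersion.of_comp i₀.left jG.left

theorem fwd (hobs : AGF.IsObservableIn k i) : AGF.IsObservableIn k i₀ := by
  classical
  haveI := isClosedImmersion_of_open jG
  haveI := isClosedImmersion_of_open jH
  haveI := isClosedImmersion_restrict i jG jH i₀ hc
  haveI : IsAffine H.left := isAffine_of_isAffineHom i.left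
  haveI : IsAffine G₀.left := isAffine_of_isAffineHom jG.left
  haveI : IsAffine H₀.left := isAffine_of_isAffineHom jH.left
  haveI := smooth_of_open jG
  haveI := smooth_of_open jH
  haveI : IsReduced G.left := Groth.Agent.GrpSchLib.isReduced_of_smooth_field G.hom
  haveI : IsReduced H.left := Groth.Agent.GrpSchLib.isReduced_of_smooth_field H.hom
  haveI : IsReduced G₀.left := Groth.Agent.GrpSchLib.isReduced_of_smooth_field G₀.hom
  haveI : IsReduced H₀.left := Groth.Agent.GrpSchLib.isReduced_of_smooth_field H₀.hom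
  haveI : IsDomain Γ(G₀.left, ⊤) := isDomain_functions G₀
  obtain ⟨V, _, _, _, ρ, v, hv, hst, χ, hχ⟩ := ObsLine.exists_line i₀
  obtain ⟨φ, hφ⟩ := exists_dual_one (k := k) hv
  let f := mc ρ φ v
  have hf : ∀ (x : VecGrp.pt k k ⟶ G₀) (y : VecGrp.pt k k ⟶ H₀),
      fn (x * (y ≫ i₀)) f = fn y (Red.gmFn χ) * fn x f := by
    intro x y
    simp only [f, fn_mc, map_mul, LinearEquiv.mul_apply, hχ, map_smul, smul_eq_mul, chiVal_eq]
  have hf1 : fn (1 : VecGrp.pt k k ⟶ G₀) f = 1 := by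
    simp only [f, fn_mc, map_one]
    show pr φ k ((1 : k) ⊗ₜ[k] v) = 1
    rw [← one_smul k ((1 : k) ⊗ₜ[k] v), pr_smul_one, hφ, map_one, _root_.mul_one]
  have hzero : ∀ (x : VecGrp.pt k k ⟶ G₀) (y : VecGrp.pt k k ⟶ H₀), fn (x * (y ≫ i₀)) f = 0 → fn x f = 0 :=
    fun x y h => (mul_eq_zero.1 ((hf x y).symm.trans h)).resolve_left fun h0 => by
      have := gmFn_inv_fn χ y
      rw [h0, mul_zero] at this
      exact zero_ne_one this
  let P : (VecGrp.pt k k ⟶ G) → Prop := fun x => ∃ z : VecGrp.pt k k ⟶ G₀, z ≫ jG = x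
  let Bad : (VecGrp.pt k k ⟶ G) → Prop := fun x => (∀ h : VecGrp.pt k k ⟶ H, ¬ P (x * (h ≫ i))) ∨
    ∃ (h : VecGrp.pt k k ⟶ H) (z : VecGrp.pt k k ⟶ G₀), z ≫ jG = x * (h ≫ i) ∧ fn z f = 0
  have hBad : ∀ x (y : VecGrp.pt k k ⟶ H), Bad x → Bad (x * (y ≫ i)) := by
    intro x y hx
    rcases hx with hx | ⟨h, z, hz, hz0⟩
    · refine Or.inl fun h => ?_
      rw [_root_.mul_assoc, ← MonObj.mul_comp]
      exact hx _
    · refine Or.inr ⟨y⁻¹ * h, z, ?_, hz0⟩
      rw [hz, _root_.mul_assoc, ← MonObj.mul_comp, mul_inv_cancel_left]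
  let I : Ideal Γ(G.left, ⊤) :=
    { carrier := {q | ∀ x, Bad x → fn x q = 0}
      add_mem' := fun {p q} hp hq x hx => by rw [map_add, hp x hx, hq x hx, add_zero]
      zero_mem' := fun x _ => map_zero _
      smul_mem' := fun c q hq x hx => by rw [smul_eq_mul, map_mul, hq x hx, mul_zero] }
  obtain ⟨e, he, hej⟩ := exists_indicator jG
  obtain ⟨F, hF⟩ := (IsClosedImmersion.isAffine_surjective_of_isAffine (f := jG.left)).2 f
  have hFz : ∀ z : VecGrp.pt k k ⟶ G₀, fn (z ≫ jG) F = fn z f := fun z => by rw [← hF]; rfl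
  obtain ⟨R, hR⟩ := exists_cosets jH
  let R' := R.filter fun r => P (r ≫ i)
  have hI : e * ∏ r ∈ R', tr (r ≫ i) F ∈ I := by
    intro x hx
    rw [map_mul]
    by_cases hxe : fn x e = 1
    · obtain ⟨z₀, hz₀⟩ := (hej x).1 hxe
      rcases hx with hx | ⟨h, z, hz, hz0⟩
      · exact absurd ⟨z₀, by rw [MonObj.one_comp, _root_.mul_one]; exact hz₀⟩ (hx 1)
      · obtain ⟨r, hr, h₀, hh⟩ := hR h
        have hxr : (z * (h₀ ≫ i₀)⁻¹) ≫ jG = x * (r ≫ i) := by
          rw [MonObj.mul_comp, GrpObj.inv_comp, Category.assoc, hc, hz, hh, MonObj.mul_comp, Category.assoc,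
            _root_.mul_assoc, mul_inv_cancel_right]
        have hPr : P (r ≫ i) := ⟨z₀⁻¹ * (z * (h₀ ≫ i₀)⁻¹), by
          rw [MonObj.mul_comp, hxr, GrpObj.inv_comp, hz₀, inv_mul_cancel_left]⟩
        rw [map_prod, Finset.prod_eq_zero (Finset.mem_filter.2 ⟨hr, hPr⟩), mul_zero]
        rw [fn_tr, ← hxr, hFz]
        exact hzero _ h₀ (by rw [inv_mul_cancel_right]; exact hz0)
    · rw [(IsIdempotentElem.iff_eq_zero_or_one.1 (he.map (fn x))).resolve_right hxe, zero_mul]
  choose ρ' hρ' using fun r : R' => (Finset.mem_filter.1 r.2).2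
  obtain ⟨a, hainv, harad, ha0⟩ := exists_invariant_vanishing i hobs I (fun x y h q hq => by
      rw [← fn_tr]
      exact h _ fun x' hx' => by rw [fn_tr]; exact hq _ (hBad x' y hx'))
    (fun h0 => by
      have hd := (Submodule.eq_bot_iff _).1 h0 _ hI
      have hpr : ∏ r : R', tr (ρ' r) f = 0 := eq_of_rational fun z => by
        have h1 := congrArg (fn (z ≫ jG)) hd
        rw [map_mul, (hej _).2 ⟨z, rfl⟩, _root_.one_mul, map_prod, map_zero, ← Finset.prod_coe_sort] at h1
        rw [map_zero, ← h1, map_prod]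
        refine Finset.prod_congr rfl fun r _ => ?_
        rw [fn_tr, fn_tr, ← hρ' r, ← MonObj.mul_comp, hFz]
      obtain ⟨r, -, hr⟩ := Finset.prod_eq_zero_iff.1 hpr
      have := congrArg (fn (ρ' r)⁻¹) hr
      rw [fn_tr, inv_mul_cancel, hf1, map_zero] at this
      exact one_ne_zero this)
  obtain ⟨n, hn⟩ := Ideal.mem_radical_iff.1 harad
  have hbad0 : ∀ x, Bad x → fn x a = 0 := fun x hx => by
    have := hn x hx
    rw [map_pow] at this
    exact eq_zero_of_pow_eq_zero this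
  let a₀ : Γ(G₀.left, ⊤) := jG.left.appTop a
  have ha₀ : ∀ z : VecGrp.pt k k ⟶ G₀, fn z a₀ = fn (z ≫ jG) a := fun z => rfl
  obtain ⟨N, _, _, _, σ, w, hw, hσ⟩ := exists_inverse_of_vanish i₀ χ f hf a₀
    (rTransInv_of_pts i₀ a₀ fun z y => by
      rw [ha₀, ha₀, MonObj.mul_comp, Category.assoc, hc, ← Category.assoc, eval_of_rTransInv i a hainv])
    (by
      by_contra hh
      obtain ⟨z, hz, hza⟩ := exists_pt_of_not_mem_radical hh
      refine hza ((ha₀ z).trans (hbad0 _ (Or.inr ⟨1, z, ?_, hz f (Ideal.mem_span_singleton_self f)⟩)))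
      rw [MonObj.one_comp, _root_.mul_one])
    (fun h0 => ha0 (eq_zero_of_rational a fun x => by
      by_cases hx : Bad x
      · exact hbad0 x hx
      · simp only [Bad, not_or, not_forall, not_not] at hx
        obtain ⟨⟨h, z, hz⟩, -⟩ := hx
        rw [← eval_of_rTransInv i a hainv x h, ← hz, ← ha₀, h0, map_zero]))
  exact observable_of_line i₀ ρ hv χ hχ σ hw hσ fun g ⟨c, _, hc'⟩ => hst g ⟨c, hc'⟩

theorem bwd (hobs : AGF.IsObservableIn k i₀) : AGF.IsObservableIn k i := by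
  classical
  haveI := isClosedImmersion_of_open jG
  haveI := isClosedImmersion_of_open jH
  haveI := isClosedImmersion_restrict i jG jH i₀ hc
  haveI : IsAffine H.left := isAffine_of_isAffineHom i.left
  haveI : IsAffine G₀.left := isAffine_of_isAffineHom jG.left
  haveI : IsAffine H₀.left := isAffine_of_isAffineHom jH.left
  haveI := smooth_of_open jG
  haveI := smooth_of_open jH
  haveI : IsReduced G.left := Groth.Agent.GrpSchLib.isReduced_of_smooth_field G.hom
  haveI : IsReduced H.left := Groth.Agent.GrpSchLib.isReduced_of_smooth_field H.hom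
  haveI : IsReduced G₀.left := Groth.Agent.GrpSchLib.isReduced_of_smooth_field G₀.hom
  haveI : IsReduced H₀.left := Groth.Agent.GrpSchLib.isReduced_of_smooth_field H₀.hom
  haveI : IsDomain Γ(G₀.left, ⊤) := isDomain_functions G₀
  obtain ⟨V, _, _, _, ρ, v, hv, hst, χ, hχ⟩ := ObsLine.exists_line i
  obtain ⟨φ, hφ⟩ := exists_dual_one (k := k) hv
  let f := mc ρ φ v
  have hf : ∀ (x : VecGrp.pt k k ⟶ G) (y : VecGrp.pt k k ⟶ H),
      fn (x * (y ≫ i)) f = fn y (Red.gmFn χ) * fn x f := by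
    intro x y
    simp only [f, fn_mc, map_mul, LinearEquiv.mul_apply, hχ, map_smul, smul_eq_mul, chiVal_eq]
  have hf1 : fn (1 : VecGrp.pt k k ⟶ G) f = 1 := by
    simp only [f, fn_mc, map_one]
    show pr φ k ((1 : k) ⊗ₜ[k] v) = 1
    rw [← one_smul k ((1 : k) ⊗ₜ[k] v), pr_smul_one, hφ, map_one, _root_.mul_one]
  let f₀ : Γ(G₀.left, ⊤) := jG.left.appTop f
  have hf₀ : ∀ z : VecGrp.pt k k ⟶ G₀, fn z f₀ = fn (z ≫ jG) f := fun z => rfl
  obtain ⟨a₀, ha₀inv, ha₀rad, ha₀0⟩ := exists_invariant_vanishing i₀ hobs (Ideal.span {f₀}) (fun z y h q hq => by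
      obtain ⟨r, rfl⟩ := Ideal.mem_span_singleton.1 hq
      rw [map_mul, hf₀, MonObj.mul_comp, Category.assoc, hc, ← Category.assoc, hf, ← hf₀,
        h f₀ (Ideal.mem_span_singleton_self f₀), mul_zero, zero_mul])
    (fun h0 => by
      rw [Ideal.span_singleton_eq_bot] at h0
      have := hf₀ 1
      rw [h0, map_zero, MonObj.one_comp, hf1] at this
      exact zero_ne_one this)
  obtain ⟨e, he, hej⟩ := exists_indicator jG
  have he01 : ∀ x : VecGrp.pt k k ⟶ G, fn x e ≠ 0 → ∃ z, z ≫ jG = x := fun x hx =>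
    (hej x).1 ((IsIdempotentElem.iff_eq_zero_or_one.1 (he.map (fn x))).resolve_left hx)
  obtain ⟨F', hF'⟩ := (IsClosedImmersion.isAffine_surjective_of_isAffine (f := jG.left)).2 a₀
  let F := F' * e
  have hFz : ∀ z : VecGrp.pt k k ⟶ G₀, fn (z ≫ jG) F = fn z a₀ := fun z => by
    rw [map_mul, (hej _).2 ⟨z, rfl⟩, _root_.mul_one, ← hF']; rfl
  have hF0 : ∀ x : VecGrp.pt k k ⟶ G, fn (x : VecGrp.pt k k ⟶ G) F ≠ 0 → ∃ z, z ≫ jG = x := fun x hx => by
    rw [map_mul] at hx
    exact he01 x (right_ne_zero_of_mul hx)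
  have hFinv : ∀ h₀ : VecGrp.pt k k ⟶ H₀, tr ((h₀ ≫ jH) ≫ i) F = F := fun h₀ => eq_of_rational fun x => by
    rw [fn_tr, Category.assoc, ← hc, ← Category.assoc]
    by_cases hx : ∃ z, z ≫ jG = x
    · obtain ⟨z, rfl⟩ := hx
      rw [← MonObj.mul_comp, hFz, hFz, eval_of_rTransInv i₀ a₀ ha₀inv]
    · have h1 : fn x F = 0 := by by_contra h; exact hx (hF0 x h)
      rw [h1]
      by_contra h
      obtain ⟨z, hz⟩ := hF0 _ h
      exact hx ⟨z * (h₀ ≫ i₀)⁻¹, by rw [MonObj.mul_comp, GrpObj.inv_comp, hz, mul_inv_cancel_right]⟩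
  let P : (VecGrp.pt k k ⟶ H) → Prop := fun h => ∃ z : VecGrp.pt k k ⟶ G₀, z ≫ jG = h ≫ i
  have hPmul : ∀ h h', P h → P h' → P (h * h') := fun h h' ⟨z, hz⟩ ⟨z', hz'⟩ =>
    ⟨z * z', by rw [MonObj.mul_comp, MonObj.mul_comp, hz, hz']⟩
  have hPjH : ∀ h₀ : VecGrp.pt k k ⟶ H₀, P (h₀ ≫ jH) := fun h₀ =>
    ⟨h₀ ≫ i₀, by rw [Category.assoc, hc, Category.assoc]⟩
  obtain ⟨R, hR⟩ := exists_cosets jH
  let T : Finset Γ(G.left, ⊤) := (R.filter P).image fun r => tr (r ≫ i) F
  have hT : ∀ h, P h → tr (h ≫ i) F ∈ T := by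
    intro h hh
    obtain ⟨r, hr, h₀, rfl⟩ := hR h
    have hPr : P r := by
      obtain ⟨z, hz⟩ := hh
      obtain ⟨z', hz'⟩ := hPjH h₀
      exact ⟨z * z'⁻¹, by rw [MonObj.mul_comp, GrpObj.inv_comp, hz, hz', MonObj.mul_comp, mul_inv_cancel_right]⟩
    refine Finset.mem_image.2 ⟨r, Finset.mem_filter.2 ⟨hr, hPr⟩, ?_⟩
    rw [MonObj.mul_comp, ← tr_tr, hFinv]
  have hTimg : ∀ h, P h → T.image (tr (h ≫ i)) = T := fun h hh => by
    refine Finset.eq_of_subset_of_card_le ?_ (le_of_eq (Finset.card_image_of_injective T (tr_injective _)).symm)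
    intro t ht
    obtain ⟨t', ht', rfl⟩ := Finset.mem_image.1 ht
    obtain ⟨r, hr, rfl⟩ := Finset.mem_image.1 ht'
    rw [tr_tr, ← MonObj.mul_comp]
    exact hT _ (hPmul _ _ hh (Finset.mem_filter.1 hr).2)
  let A := e * ∏ t ∈ T, t
  have hA : ∀ h, P h → tr (h ≫ i) A = A := fun h hh => by
    have he' : tr (h ≫ i) e = e := eq_of_rational fun x => by
      obtain ⟨w, hw⟩ := hh
      rw [fn_tr]
      rcases IsIdempotentElem.iff_eq_zero_or_one.1 (he.map (fn x)) with h0 | h0
      · rw [h0]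
        by_contra h1
        obtain ⟨z, hz⟩ := he01 _ h1
        have := (hej x).2 ⟨z * w⁻¹, by rw [MonObj.mul_comp, GrpObj.inv_comp, hz, hw, mul_inv_cancel_right]⟩
        exact zero_ne_one (h0.symm.trans this)
      · rw [h0, (hej _).2]
        obtain ⟨z, hz⟩ := (hej x).1 h0
        exact ⟨z * w, by rw [MonObj.mul_comp, hz, hw]⟩
    rw [map_mul, he', map_prod]
    congr 1
    conv_rhs => rw [← hTimg h hh]
    rw [Finset.prod_image fun a _ b _ hab => tr_injective _ hab]
  let T2 : Finset Γ(G.left, ⊤) := R.image fun r => tr (r ≫ i) A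
  have hT2 : ∀ h, tr (h ≫ i) A ∈ T2 := by
    intro h
    obtain ⟨r, hr, h₀, rfl⟩ := hR h
    exact Finset.mem_image.2 ⟨r, hr, by rw [MonObj.mul_comp, ← tr_tr, hA _ (hPjH h₀)]⟩
  have hA0 : ∀ x : VecGrp.pt k k ⟶ G, fn x A ≠ 0 → ∃ z, z ≫ jG = x := fun x hx => by
    rw [map_mul] at hx
    exact he01 x (left_ne_zero_of_mul hx)
  obtain ⟨N, _, _, _, σ, w, hw, hσ⟩ := exists_inverse_of_vanish i χ f hf (∑ t ∈ T2, t)
    (rTransInv_of_pts i _ fun x y => by
      rw [← fn_tr, map_sum (tr (y ≫ i))]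
      congr 1
      have himg : T2.image (tr (y ≫ i)) = T2 := by
        refine Finset.eq_of_subset_of_card_le ?_ (le_of_eq (Finset.card_image_of_injective T2 (tr_injective _)).symm)
        intro t ht
        obtain ⟨t', ht', rfl⟩ := Finset.mem_image.1 ht
        obtain ⟨r, hr, rfl⟩ := Finset.mem_image.1 ht'
        rw [tr_tr, ← MonObj.mul_comp]
        exact hT2 _
      conv_rhs => rw [← himg]
      rw [Finset.sum_image fun a _ b _ hab => tr_injective _ hab])
    (by
      by_contra hh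
      obtain ⟨x, hx, hxa⟩ := exists_pt_of_not_mem_radical hh
      refine hxa ?_
      rw [map_sum]
      refine Finset.sum_eq_zero fun t ht => ?_
      obtain ⟨r, -, rfl⟩ := Finset.mem_image.1 ht
      rw [fn_tr]
      by_contra hne
      obtain ⟨z, hz⟩ := hA0 _ hne
      refine hne ?_
      rw [map_mul, map_prod, Finset.prod_eq_zero (hT 1 ⟨1, by rw [MonObj.one_comp, MonObj.one_comp]⟩), mul_zero]
      rw [fn_tr, MonObj.one_comp, _root_.mul_one, ← hz, hFz]
      have hz0 : fn z f₀ = 0 := by rw [hf₀, hz, hf, hx f (Ideal.mem_span_singleton_self f), mul_zero]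
      obtain ⟨n, hn⟩ := Ideal.mem_radical_iff.1 ha₀rad
      obtain ⟨q, hq⟩ := Ideal.mem_span_singleton.1 hn
      refine eq_zero_of_pow_eq_zero (n := n) ?_
      rw [← map_pow, hq, map_mul, hz0, zero_mul])
    (fun h0 => by
      choose ρ' hρ' using fun r : R.filter P => (Finset.mem_filter.1 r.2).2
      choose rt hrt hrt' using fun t : T => Finset.mem_image.1 t.2
      have hpr : ∏ t : T, tr (ρ' ⟨rt t, hrt t⟩) a₀ = 0 := eq_of_rational fun z => by
        have h1 := congrArg (fn (z ≫ jG)) h0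
        rw [map_sum, map_zero, Finset.sum_eq_single_of_mem A] at h1
        · rw [map_mul, (hej _).2 ⟨z, rfl⟩, _root_.one_mul, map_prod, ← Finset.prod_coe_sort] at h1
          rw [map_zero, ← h1, map_prod]
          refine Finset.prod_congr rfl fun t _ => ?_
          rw [← hrt' t, fn_tr, fn_tr, ← hρ' ⟨rt t, hrt t⟩, ← MonObj.mul_comp, hFz]
        · have := hT2 1
          rwa [MonObj.one_comp, show tr (1 : VecGrp.pt k k ⟶ G) A = A from
            eq_of_rational fun x => by rw [fn_tr, _root_.mul_one]] at this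
        · intro t ht htA
          obtain ⟨r, -, rfl⟩ := Finset.mem_image.1 ht
          rw [fn_tr]
          by_contra hne
          obtain ⟨z', hz'⟩ := hA0 _ hne
          exact htA (hA r ⟨z⁻¹ * z', by rw [MonObj.mul_comp, hz', GrpObj.inv_comp, inv_mul_cancel_left]⟩)
      obtain ⟨t, -, ht⟩ := Finset.prod_eq_zero_iff.1 hpr
      exact ha₀0 (tr_injective _ (ht.trans (map_zero _).symm)))
  exact observable_of_line i ρ hv χ hχ σ hw hσ fun g ⟨c, _, hc'⟩ => hst g ⟨c, hc'⟩

end Groth.Agent.Deform.ObsOpen
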