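import Groth.Agent.Deform.ObsRadical
import Groth.Agent.Deform.ObsLine

/-! Observability is detected on the radical. -/

universe u

open CategoryTheory MonoidalCategory CartesianMonoidalCategory MonObj GrpObj AlgebraicGeometry
open scoped TensorProduct

namespace Groth.Agent.Deform.ObsRadObs
attribute [local instance] CategoryTheory.Hom.monoid CategoryTheory.Hom.group
set_option linter.style.haveILetI false
set_option linter.unusedSectionVars false
set_option maxHeartbeats 1000000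
open GModStable RTrans Observ ObsVanish ObsSemi ObsSolvable ObsExt ObsUnip
attribute [local instance] GModStable.algΓ
open Chev (Pt)

variable {k : Type u} [Field k] [IsAlgClosed k]
variable {G : Over (Spec (CommRingCat.of k))} [GrpObj G] [IsAffine G.left] [Smooth G.hom] [ConnectedSpace G.left]

theorem act_reg (d : VecGrp.pt k k ⟶ G) (f : Γ(G.left, ⊤)) : act (reg (G := G)) d f = tr d f := by
  have h := lid_reg d f
  generalize hz : (reg (G := G)).ρ k d ((1 : k) ⊗ₜ[k] f) = z at h
  have h2 : act (reg (G := G)) d f = TensorProduct.lid k Γ(G.left, ⊤) z := hz ▸ rfl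
  rw [h2]
  rw [← h]
  clear hz h2 h
  induction z using TensorProduct.induction_on with
  | zero => exact (map_zero _).trans (map_zero _).symm
  | tmul c a => exact (TensorProduct.lid_tmul _ _).trans (Algebra.TensorProduct.lid_tmul _ _).symm
  | add p q hp hq => exact (map_add (TensorProduct.lid k Γ(G.left, ⊤)) p q).trans ((congrArg₂ (· + ·) hp hq).trans (map_add (Algebra.TensorProduct.lid k Γ(G.left, ⊤)) p q).symm)

/-- The unit point. -/
theorem exists_uo : ∃ s : 𝟙_ (Over (Spec (CommRingCat.of k))) ⟶ VecGrp.pt k k, s ≫ toUnit _ = 𝟙 _ :=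
  ⟨Over.homMk (𝟙 _) (by
    show 𝟙 _ ≫ Spec.map (CommRingCat.ofHom (algebraMap k k)) = 𝟙 _
    rw [Category.id_comp, show algebraMap k k = RingHom.id k from rfl, CommRingCat.ofHom_id, Spec.map_id]),
    toUnit_unique _ _⟩

variable {H : Over (Spec (CommRingCat.of k))} [GrpObj H] [Smooth H.hom] [ConnectedSpace H.left]
  (i : H ⟶ G) [IsMonHom i] [IsClosedImmersion i.left]
variable {R : Over (Spec (CommRingCat.of k))} [GrpObj R] [Smooth R.hom] (r : R ⟶ H) [IsMonHom r]
  [IsClosedImmersion r.left]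

omit [ConnectedSpace G.left] [GrpObj G] [IsAffine G.left] [Smooth G.hom] in
/-- Conjugates of points of a normal subgroup. -/
theorem exists_conj (hn : AlgGrp.IsNormalHom r) (h : VecGrp.pt k k ⟶ H) (y : VecGrp.pt k k ⟶ R) :
    ∃ y' : VecGrp.pt k k ⟶ R, y' ≫ r = h⁻¹ * (y ≫ r) * h := by
  obtain ⟨y', hy'⟩ := hn _ h⁻¹ y
  exact ⟨y', by rw [← hy', _root_.inv_inv]⟩

/-- **A subgroup with observable radical is observable.** -/
theorem observable_of_radical [Group.IsSolvable (Pt R)] (hn : AlgGrp.IsNormalHom r)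
    (huniv : ∀ (U : Over (Spec (CommRingCat.of k))) [GrpObj U] [IsAffine U.left] [Smooth U.hom] [ConnectedSpace U.left]
        [Group.IsSolvable (Pt U)] (f : U ⟶ H) [IsMonHom f],
        (∀ (g : Pt H) (x : Pt U), ∃ x' : Pt U, x' ≫ f = g * (x ≫ f) * g⁻¹) → ∃ f' : U ⟶ R, f' ≫ r = f)
    (hobs : AGF.IsObservableIn k (r ≫ i)) : AGF.IsObservableIn k i := by
  classical
  haveI : IsAffine H.left := isAffine_of_isAffineHom i.left
  haveI : IsAffine R.left := isAffine_of_isAffineHom r.left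
  haveI : IsReduced G.left := Groth.Agent.GrpSchLib.isReduced_of_smooth_field G.hom
  haveI : IsReduced H.left := Groth.Agent.GrpSchLib.isReduced_of_smooth_field H.hom
  haveI : IsReduced R.left := Groth.Agent.GrpSchLib.isReduced_of_smooth_field R.hom
  haveI : IsDomain Γ(G.left, ⊤) := ObsOpen.isDomain_functions G
  obtain ⟨V, _, _, _, ρ, v, hv, hstab, χ, hχ⟩ := ObsLine.exists_line i
  obtain ⟨φ, hφ⟩ := exists_dual_one (k := k) hv
  -- the semi-invariant function of the line
  let f₀ := mc ρ φ v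
  have hχk : ∀ h : VecGrp.pt k k ⟶ H, act ρ (h ≫ i) v = VecGrp.chiVal χ h • v := fun h => by
    apply (TensorProduct.lid k V).symm.injective
    show (1 : k) ⊗ₜ[k] _ = (1 : k) ⊗ₜ[k] _
    rw [← act_apply, hχ k h, TensorProduct.tmul_smul]
  have hχne : ∀ h : VecGrp.pt k k ⟶ H, VecGrp.chiVal χ h ≠ 0 := fun h h0 =>
    act_ne_zero ρ (h ≫ i) hv (by rw [hχk, h0, zero_smul])
  have hf₀ : ∀ (x : VecGrp.pt k k ⟶ G) (h : VecGrp.pt k k ⟶ H),
      fn (x * (h ≫ i)) f₀ = VecGrp.chiVal χ h * fn x f₀ := fun x h => by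
    rw [fn_mc_act, fn_mc_act, act_mul, hχk, map_smul, map_smul, smul_eq_mul]
  have hf₀1 : fn (1 : VecGrp.pt k k ⟶ G) f₀ = 1 := by rw [fn_mc_act, act_one, hφ]
  have hχmul : ∀ h h' : VecGrp.pt k k ⟶ H,
      VecGrp.chiVal χ (h * h') = VecGrp.chiVal χ h * VecGrp.chiVal χ h' := fun h h' => by
    have e := hχk (h * h')
    rw [MonObj.mul_comp, act_mul, hχk, map_smul, hχk, smul_smul] at e
    rw [_root_.mul_comm (VecGrp.chiVal χ h)]
    exact (smul_left_injective k hv e).symm
  have hχm : IsMonHom χ := by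
    obtain ⟨χ₁, hm, hχ₁⟩ := exists_char i ρ hv (fun y => ⟨VecGrp.chiVal χ y, hχ k y⟩)
    have : χ = χ₁ := GmPts.gmFn_injective (eq_of_rational (G := H) fun y => by
      rw [← chiVal_eq, ← chiVal_eq]
      exact smul_left_injective k hv ((hχk y).symm.trans (by
        apply (TensorProduct.lid k V).symm.injective
        show (1 : k) ⊗ₜ[k] _ = (1 : k) ⊗ₜ[k] _
        rw [← act_apply, hχ₁ k y, TensorProduct.tmul_smul])))
    rw [this]; exact hm
  haveI := hχm
  -- a function with the inverse weight on the radical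
  obtain ⟨N, _, _, _, σ, w, hw, hσ⟩ := exists_inverse (r ≫ i) hobs (r ≫ χ) ρ hv (fun B _ _ y => by
    rw [← Category.assoc, hχ B (y ≫ r), VecGrp.chiVal, Category.assoc]
    rfl)
  obtain ⟨ψ, hψ⟩ := exists_dual_one (k := k) hw
  let q := mc σ ψ w
  have hq : ∀ (x : VecGrp.pt k k ⟶ G) (y : VecGrp.pt k k ⟶ R),
      fn (x * ((y ≫ r) ≫ i)) q = (VecGrp.chiVal χ (y ≫ r))⁻¹ * fn x q := fun x y => by
    have e := gmFn_inv_fn (r ≫ χ) y
    have e2 : fn y (Red.gmFn (r ≫ χ)) = VecGrp.chiVal χ (y ≫ r) := by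
      rw [← chiVal_eq, VecGrp.chiVal, VecGrp.chiVal, Category.assoc]
    rw [e2] at e
    rw [fn_mc_act, fn_mc_act, act_mul, show act σ ((y ≫ r) ≫ i) w = (VecGrp.chiVal χ (y ≫ r))⁻¹ • w by
      apply (TensorProduct.lid k N).symm.injective
      show (1 : k) ⊗ₜ[k] _ = (1 : k) ⊗ₜ[k] _
      rw [← act_apply, Category.assoc, hσ k y, TensorProduct.tmul_smul, chiVal_eq,
        eq_inv_of_mul_eq_one_left e], map_smul, map_smul, smul_eq_mul]
  have hq1 : fn (1 : VecGrp.pt k k ⟶ G) q = 1 := by rw [fn_mc_act, act_one, hψ]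
  let E : Submodule k Γ(G.left, ⊤) :=
    { carrier := {f | ∀ (x : VecGrp.pt k k ⟶ G) (y : VecGrp.pt k k ⟶ R),
        fn (x * ((y ≫ r) ≫ i)) f = (VecGrp.chiVal χ (y ≫ r))⁻¹ * fn x f}
      add_mem' := fun ha hb x y => by rw [map_add, map_add, ha x y, hb x y, mul_add]
      zero_mem' := fun x y => by rw [map_zero, map_zero, mul_zero]
      smul_mem' := fun c a ha x y => by rw [map_smul, map_smul, ha x y, smul_eq_mul, smul_eq_mul]; ring }
  have hEst : ∀ (h : VecGrp.pt k k ⟶ H) (f : Γ(G.left, ⊤)), f ∈ E → tr (h ≫ i) f ∈ E := by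
    intro h f hf x y
    obtain ⟨y', hy'⟩ := exists_conj r hn h y
    have ei : x * ((y ≫ r) ≫ i) * (h ≫ i) = x * (h ≫ i) * ((y' ≫ r) ≫ i) := by
      rw [hy', MonObj.mul_comp, MonObj.mul_comp, GrpObj.inv_comp]; group
    have ec : VecGrp.chiVal χ (y' ≫ r) = VecGrp.chiVal χ (y ≫ r) := by
      have e1 : h * (y' ≫ r) = (y ≫ r) * h := by rw [hy']; group
      have e2 := congrArg (VecGrp.chiVal χ) e1
      rw [hχmul, hχmul, _root_.mul_comm (VecGrp.chiVal χ (y ≫ r))] at e2
      exact mul_left_cancel₀ (hχne h) e2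
    rw [fn_tr, fn_tr, ei, hf, ec]
  obtain ⟨N₁, hle, hfg, hN₁⟩ := GModStable.exists_fg_stable (pull (reg (G := G)) i) (k ∙ q)
    (Submodule.fg_span_singleton q)
  haveI : Module.Finite k N₁ := Module.Finite.iff_fg.2 hfg
  let W := E ⊓ N₁
  haveI : Module.Finite k W := Submodule.finiteDimensional_inf_right E N₁
  have hWst : ∀ (h : VecGrp.pt k k ⟶ H) (f : Γ(G.left, ⊤)), f ∈ W → tr (h ≫ i) f ∈ W := by
    intro h f hf
    refine ⟨hEst h f hf.1, ?_⟩
    obtain ⟨z, hz⟩ := hN₁ k h f hf.2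
    have : tr (h ≫ i) f = (TensorProduct.lid k N₁ z : Γ(G.left, ⊤)) := by
      rw [← act_reg, ← act_pull]
      show TensorProduct.lid k _ ((pull (reg (G := G)) i).ρ k h ((1 : k) ⊗ₜ[k] f)) = _
      rw [← hz]
      clear hz
      induction z using TensorProduct.induction_on with
      | zero => simp
      | tmul c w => rw [LinearMap.baseChange_tmul, TensorProduct.lid_tmul, TensorProduct.lid_tmul]; rfl
      | add p q hp hq => rw [map_add, map_add, hp, hq, map_add, Submodule.coe_add]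
    rw [this]
    exact Submodule.coe_mem _
  have hqW : q ∈ W := ⟨hq, hle (Submodule.mem_span_singleton_self q)⟩
  -- evaluation points
  let ev : (VecGrp.pt k k ⟶ G) → Module.Dual k W := fun x => (fn x).toLinearMap ∘ₗ W.subtype
  obtain ⟨b, hb, hspan, hli⟩ := exists_linearIndependent k (Set.range ev)
  haveI : Fintype b := (hli.setFinite).fintype
  have htop : Submodule.span k (Set.range ev) = ⊤ := by
    by_contra hne
    obtain ⟨Φ, hΦ, hΦz⟩ := (Submodule.span k (Set.range ev)).exists_dual_map_eq_bot_of_lt_top (lt_top_iff_ne_top.2 hne)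
      inferInstance
    obtain ⟨e, he⟩ := (Module.evalEquiv k W).surjective Φ
    refine hΦ ?_
    rw [← he, show e = 0 from ?_, map_zero]
    refine Subtype.ext (eq_of_rational (G := G) fun x => ?_)
    have h2 := Submodule.mem_map_of_mem (f := Φ) (Submodule.subset_span (s := Set.range ev) ⟨x, rfl⟩)
    rw [hΦz, Submodule.mem_bot, ← he, Module.evalEquiv_apply] at h2
    exact h2.trans (map_zero (fn x)).symm
  let B₀ : Module.Basis b k (Module.Dual k W) := Module.Basis.mk hli (by rw [Subtype.range_coe, hspan, htop])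
  have hx : ∀ j : b, ∃ x, ev x = j.1 := fun j => hb j.2
  choose x hx using hx
  let e₁ : W →ₗ[k] (b → k) := LinearMap.pi fun j => j.1
  have he₁inj : Function.Injective e₁ := fun f g h => by
    refine (Module.evalEquiv k W).injective (B₀.ext fun j => ?_)
    rw [Module.evalEquiv_apply, Module.evalEquiv_apply, Module.Basis.mk_apply]
    exact congrFun h j
  have hcard : Module.finrank k W = Module.finrank k (b → k) := by
    rw [Module.finrank_fintype_fun_eq_card, ← Subspace.dual_finrank_eq, Module.finrank_eq_card_basis B₀]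
  let e : W ≃ₗ[k] (b → k) := LinearEquiv.ofInjectiveOfFinrankEq e₁ he₁inj hcard
  have he : ∀ (f : W) (j : b), e f j = fn (x j) (f : Γ(G.left, ⊤)) := fun f j => by
    show j.1 f = _
    rw [← hx j]; rfl
  let wf : b → W := fun l => e.symm (Pi.single l 1)
  let F : Γ(G.left, ⊤) := Matrix.det (Matrix.of fun j l => lt (x j) (wf l).1)
  have hFev : ∀ y, fn y F = Matrix.det (Matrix.of fun j l => fn (x j * y) (wf l).1) := fun y => by
    rw [AlgHom.map_det]
    congr 1
    ext j l
    exact fn_lt _ _ _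
  have hF1 : fn (1 : VecGrp.pt k k ⟶ G) F = 1 := by
    rw [hFev, show (Matrix.of fun j l => fn (x j * 1) (wf l).1) = (1 : Matrix b b k) from ?_, Matrix.det_one]
    ext j l
    rw [Matrix.of_apply, _root_.mul_one, ← he, e.apply_symm_apply, Matrix.one_apply, Pi.single_apply]
  let A : (VecGrp.pt k k ⟶ H) → Matrix b b k := fun h => Matrix.of fun m l =>
    e ⟨tr (h ≫ i) (wf l).1, hWst h _ (wf l).2⟩ m
  have hmat : ∀ (y : VecGrp.pt k k ⟶ G) (h : VecGrp.pt k k ⟶ H),
      (Matrix.of fun j l => fn (x j * (y * (h ≫ i))) (wf l).1) =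
        (Matrix.of fun j l => fn (x j * y) (wf l).1) * A h := by
    intro y h
    ext j l
    rw [Matrix.mul_apply, Matrix.of_apply, ← _root_.mul_assoc, ← fn_tr]
    let f : W := ⟨tr (h ≫ i) (wf l).1, hWst h _ (wf l).2⟩
    have hf : f = ∑ m, e f m • wf m := e.injective (by
      rw [map_sum]
      ext m
      simp [wf, Pi.single_apply])
    show fn (x j * y) f.1 = _
    conv_lhs => rw [hf]
    rw [Submodule.coe_sum, map_sum]
    refine Finset.sum_congr rfl fun m _ => ?_
    rw [Submodule.coe_smul, map_smul, smul_eq_mul, _root_.mul_comm]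
    rfl
  have hFsemi : ∀ (y : VecGrp.pt k k ⟶ G) (h : VecGrp.pt k k ⟶ H),
      fn (y * (h ≫ i)) F = fn (h ≫ i) F * fn y F := by
    intro y h
    have h1 := congrArg Matrix.det (hmat y h)
    have h2 := congrArg Matrix.det (hmat 1 h)
    rw [Matrix.det_mul, ← hFev, ← hFev] at h1 h2
    rw [hF1, _root_.one_mul, _root_.one_mul] at h2
    rw [h1, h2, _root_.mul_comm]
  have hFtr : ∀ h : VecGrp.pt k k ⟶ H, tr (h ≫ i) F = fn (h ≫ i) F • F := fun h =>
    eq_of_rational fun y => by rw [fn_tr, hFsemi, map_smul, smul_eq_mul]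
  have hF0 : F ≠ 0 := fun h => by rw [h, map_zero] at hF1; exact zero_ne_one hF1
  let n := Fintype.card b
  have hn0 : 0 < n := by
    rw [Fintype.card_pos_iff]
    by_contra hem
    rw [not_nonempty_iff] at hem
    have : (⟨q, hqW⟩ : W) = 0 := e.injective (funext fun j => (hem.false j).elim)
    have := congrArg Subtype.val this
    rw [show q = 0 from this, map_zero] at hq1
    exact zero_ne_one hq1
  have hFR : ∀ y : VecGrp.pt k k ⟶ R,
      fn ((y ≫ r) ≫ i) F = (VecGrp.chiVal χ (y ≫ r))⁻¹ ^ n := fun y => by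
    rw [hFev, show (Matrix.of fun j l => fn (x j * ((y ≫ r) ≫ i)) (wf l).1) =
      (VecGrp.chiVal χ (y ≫ r))⁻¹ • (1 : Matrix b b k) from ?_, Matrix.det_smul, Matrix.det_one, _root_.mul_one]
    ext j l
    rw [Matrix.of_apply, Matrix.smul_apply, (wf l).2.1 (x j) y, smul_eq_mul]
    congr 1
    rw [← he, e.apply_symm_apply, Matrix.one_apply, Pi.single_apply]
  have hT : Red.IsTorus (Red.Gm (Spec (CommRingCat.of k))) := Deform.isTorus_of_split 1
    (Deform.SplitQuot.nonempty_DS_congr (LinearEquiv.funUnique (Fin 1) ℤ ℤ).toAddEquiv)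
  obtain ⟨hGa, hGl, hGs, hGc⟩ := Deform.TorusBasic.props hT
  haveI : IsAffineHom (Red.Gm (Spec (CommRingCat.of k))).hom := isAffineHom_of_isAffine _
  haveI : IsSeparated (Red.Gm (Spec (CommRingCat.of k))).hom := inferInstance
  have hFn0 : F * f₀ ^ n ≠ 0 := fun h => by
    have h1 := congrArg (fn (1 : VecGrp.pt k k ⟶ G)) h
    rw [map_mul, map_pow, hF1, hf₀1, one_pow, _root_.mul_one, map_zero] at h1
    exact one_ne_zero h1
  have hFn : ∀ h : VecGrp.pt k k ⟶ H,
      tr (h ≫ i) (F * f₀ ^ n) = (fn (h ≫ i) F * VecGrp.chiVal χ h ^ n) • (F * f₀ ^ n) := fun h =>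
    eq_of_rational fun y => by
      rw [fn_tr, map_smul, map_mul, map_mul, map_pow, map_pow, hFsemi, hf₀, smul_eq_mul]
      ring
  obtain ⟨ω, hωm, hω'⟩ := exists_char i (reg (G := G)) hFn0 (fun h => ⟨fn (h ≫ i) F * VecGrp.chiVal χ h ^ n, by
    rw [act_apply, act_reg, hFn, TensorProduct.tmul_smul]⟩)
  haveI := hωm
  have hωval : ∀ h : VecGrp.pt k k ⟶ H, VecGrp.chiVal ω h = fn (h ≫ i) F * VecGrp.chiVal χ h ^ n := fun h => by
    have e1 := hω' k h
    rw [act_apply, act_reg, hFn, ← TensorProduct.tmul_smul] at e1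
    exact (smul_left_injective k hFn0 ((TensorProduct.lid k _).symm.injective e1)).symm
  have hω : ω = 1 := ObsRadical.hom_gm_trivial_of r hn huniv ω (Borel.comp_inj_pt _ _ fun y => by
    rw [MonObj.comp_one]
    have h1 : VecGrp.chiVal ω ((toUnit (VecGrp.pt k k) ≫ y) ≫ r) = 1 := by
      rw [hωval, hFR, ← mul_pow, inv_mul_cancel₀ (hχne _), one_pow]
    rw [VecGrp.chiVal] at h1
    have h2 : ((toUnit (VecGrp.pt k k) ≫ y) ≫ r) ≫ ω = 1 := GmPts.gmFn_injective <| by
      show Red.gmFn _ = Red.gmFn 1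
      rw [GmPts.gmFn_one]
      exact (Scheme.ΓSpecIso (CommRingCat.of k)).commRingCatIsoToRingEquiv.injective (h1.trans (map_one _).symm)
    obtain ⟨uo, huo⟩ := exists_uo (k := k)
    have h3 := congrArg (uo ≫ ·) h2
    simp only [Category.assoc, MonObj.comp_one] at h3
    rwa [← Category.assoc uo, huo, Category.id_comp] at h3)
  have key : ∀ h : VecGrp.pt k k ⟶ H, fn (h ≫ i) F * VecGrp.chiVal χ h ^ n = 1 := fun h => by
    rw [← hωval, hω]
    exact chiVal_of_comp_eq_one (MonObj.comp_one _)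
  let G₁ : Γ(G.left, ⊤) := F * f₀ ^ (n - 1)
  have hG₁ : ∀ (h : VecGrp.pt k k ⟶ H), tr (h ≫ i) G₁ = (VecGrp.chiVal χ h)⁻¹ • G₁ := fun h =>
    eq_of_rational fun y => by
      have e1 := key h
      obtain ⟨m, hm⟩ : ∃ m, n = m + 1 := ⟨n - 1, by omega⟩
      rw [fn_tr, map_smul, map_mul, map_mul, map_pow, map_pow, hFsemi, hf₀, smul_eq_mul, hm, Nat.add_sub_cancel,
        eq_inv_mul_iff_mul_eq₀ (hχne h)]
      rw [hm, pow_succ] at e1
      linear_combination (fn y F * fn y f₀ ^ m) * e1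
  have hG₁0 : G₁ ≠ 0 := fun h => by
    have h1 := congrArg (fn (1 : VecGrp.pt k k ⟶ G)) h
    rw [map_mul, map_pow, hF1, hf₀1, one_pow, _root_.mul_one, map_zero] at h1
    exact one_ne_zero h1
  refine observable_of_line i ρ hv χ hχ (reg (G := G)) hG₁0 (fun B _ _ y => ?_) (fun g ⟨c, _, hc⟩ => hstab g ⟨c, hc⟩)
  rw [chiVal_eq]
  refine semi_of_pts i reg G₁ _ (fun z => ?_) B y
  rw [act_apply, act_reg, hG₁, TensorProduct.tmul_smul, eq_inv_of_mul_eq_one_left (gmFn_inv_fn χ z), chiVal_eq]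

end Groth.Agent.Deform.ObsRadObs

namespace Groth.Agent.Deform.ObsRadObs
attribute [local instance] CategoryTheory.Hom.monoid CategoryTheory.Hom.group
open GModStable RTrans Observ ObsVanish
attribute [local instance] GModStable.algΓ
open Chev (Pt)
open CategoryTheory.Limits

variable {k : Type u} [Field k] [IsAlgClosed k]
variable {H R : Over (Spec (CommRingCat.of k))} [GrpObj H] [GrpObj R] [IsAffine H.left] [Smooth H.hom]
  [ConnectedSpace H.left] [Smooth R.hom] (r : R ⟶ H) [IsMonHom r] [IsClosedImmersion r.left]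

set_option maxHeartbeats 1000000 in
/-- **The radical is observable.** -/
theorem observable_radical [Group.IsSolvable (Pt R)] (hn : AlgGrp.IsNormalHom r)
    (huniv : ∀ (U : Over (Spec (CommRingCat.of k))) [GrpObj U] [IsAffine U.left] [Smooth U.hom] [ConnectedSpace U.left]
        [Group.IsSolvable (Pt U)] (f : U ⟶ H) [IsMonHom f],
        (∀ (g : Pt H) (x : Pt U), ∃ x' : Pt U, x' ≫ f = g * (x ≫ f) * g⁻¹) → ∃ f' : U ⟶ R, f' ≫ r = f) :
    AGF.IsObservableIn k r := by
  haveI : IsAffineHom H.hom := isAffineHom_of_isAffine _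
  haveI : QuasiCompact H.hom := inferInstance
  haveI : IsAffine R.left := isAffine_of_isAffineHom r.left
  haveI : IsReduced H.left := Groth.Agent.GrpSchLib.isReduced_of_smooth_field H.hom
  haveI : IsReduced R.left := Groth.Agent.GrpSchLib.isReduced_of_smooth_field R.hom
  haveI : Mono r := (Over.forget _).mono_of_mono_map (inferInstanceAs (Mono r.left))
  obtain ⟨Q, p, hpf, hps, hpl, sq, hQsep, hQl⟩ := Deform.QuotField.exists_quot r
  haveI := hpf; haveI := hps; haveI := hpl; haveI := hQsep; haveI := hQl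
  obtain ⟨gQ, hpm, hk⟩ := Deform.QuotGroup.exists_grpObj r p sq hn
  haveI := hpm
  have hrp : r ≫ p = 1 := by rw [Hom.one_def]; exact hk.w
  have hss := ObsRadical.semisimple_quot r huniv p (fun y => by rw [Category.assoc, hrp, MonObj.comp_one])
    (fun x hx => ⟨hk.lift x (toUnit _) (by rw [← Hom.one_def, hx]), hk.lift_fst _ _ _⟩)
  haveI : IsAffine Q.left := hss.1.1
  intro g hg
  have hgp : g ≫ p = 1 := by
    have key : ∀ f : Γ(Q.left, ⊤), fn (g ≫ p) f = fn (1 : VecGrp.pt k k ⟶ Q) f := by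
      intro f
      have hf : ∀ x : VecGrp.pt k k ⟶ H, fn (x ≫ p) f = fn x (fn (uPt H ≫ p) f) := fun x => by
        conv_lhs => rw [← ptMap_fn_uPt x, Category.assoc, fn_ptMap, AlgHom.comp_apply]
      have hinv : AGF.IsRTransInv r (fn (uPt H ≫ p) f) := rTransInv_of_pts r _ fun x y => by
        rw [← hf, ← hf, MonObj.mul_comp, Category.assoc, hrp, MonObj.comp_one, _root_.mul_one]
      have h1 := eval_of_rTransInv g _ (hg _ hinv) (1 : VecGrp.pt k k ⟶ H) (𝟙 _)
      rw [Category.id_comp, _root_.one_mul, ← hf, ← hf, MonObj.one_comp] at h1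
      exact h1
    calc g ≫ p = VecGrp.ptMap (fn (g ≫ p)) ≫ uPt Q := (ptMap_fn_uPt _).symm
      _ = VecGrp.ptMap (fn (1 : VecGrp.pt k k ⟶ Q)) ≫ uPt Q := by rw [AlgHom.ext key]
      _ = 1 := ptMap_fn_uPt _
  exact ⟨hk.lift g (toUnit _) (by rw [← Hom.one_def, hgp]), hk.lift_fst _ _ _⟩

/-- Open connected subgroups of rational normal closure are normal. -/
theorem isNormalHom_component {G G₀ : Over (Spec (CommRingCat.of k))} [GrpObj G] [GrpObj G₀] [Smooth G.hom]
    [IsSeparated G.hom] (j : G₀ ⟶ G) [IsMonHom j] [IsOpenImmersion j.left] [Smooth G₀.hom] [IsClosedImmersion j.left]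
    [ConnectedSpace G₀.left]
    (hr : Set.range j.left = connectedComponent (η[G].left (IsLocalRing.closedPoint k))) : AlgGrp.IsNormalHom j := by
  refine Luna.isNormalHom_of_pts j fun g x => ?_
  have hsub : Set.range (j ≫ Borel.conj g).left ⊆ Set.range j.left := by
    have h1 : _root_.IsPreconnected (Set.range (j ≫ Borel.conj g).left) :=
      isPreconnected_range (j ≫ Borel.conj g).left.continuous
    rw [hr]
    refine h1.subset_connectedComponent ⟨η[G₀].left (IsLocalRing.closedPoint k), ?_⟩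
    rw [← Scheme.Hom.comp_apply, ← Over.comp_left, IsMonHom.one_hom (j ≫ Borel.conj g)]
  let s : G₀ ⟶ G₀ := Over.homMk (IsOpenImmersion.lift j.left (j ≫ Borel.conj g).left hsub) (by
    rw [← Over.w j, ← Category.assoc, IsOpenImmersion.lift_fac, Over.w (j ≫ Borel.conj g), Over.w j])
  have hs : s ≫ j = j ≫ Borel.conj g := Over.OverMorphism.ext (IsOpenImmersion.lift_fac _ _ _)
  refine ⟨x ≫ s, ?_⟩
  rw [Category.assoc, hs, ← Category.assoc, Borel.pt_conj]

end Groth.Agent.Deform.ObsRadObs
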