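import Groth.Agent.Deform.ObsExt
import Groth.Agent.Deform.Borel.UnipRad
import Groth.Agent.Deform.Borel.Conj
import Groth.Agent.Deform.Luna.Radical
import Groth.Agent.Deform.TorusAlg
import Groth.Agent.Deform.SplitQuot

/-! Fixed vectors and eigenvectors for actions of connected unipotent and solvable groups on algebras. -/

universe u

open CategoryTheory MonoidalCategory CartesianMonoidalCategory MonObj GrpObj AlgebraicGeometry
open scoped TensorProduct

namespace Groth.Agent.Deform.ObsUnip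
attribute [local instance] CategoryTheory.Hom.monoid CategoryTheory.Hom.group
set_option linter.style.haveILetI false
set_option linter.unusedSectionVars false
set_option maxHeartbeats 1000000
open GModStable RTrans Observ ObsVanish ObsSemi ObsSolvable ObsExt
attribute [local instance] GModStable.algΓ

variable {k : Type u} [Field k] {G H : Over (Spec (CommRingCat.of k))} [GrpObj G] [GrpObj H]
variable {M : Type u} [AddCommGroup M] [Module k M]

/-- The module obtained through a homomorphism. -/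
noncomputable def pull (σ : VecGrp.GMod G M) (f : H ⟶ G) [IsMonHom f] : VecGrp.GMod H M where
  ρ B _ _ :=
    { toFun := fun h => σ.ρ B (h ≫ f)
      map_one' := by rw [MonObj.one_comp, map_one]
      map_mul' := fun x y => by rw [MonObj.mul_comp, map_mul] }
  naturality φ g x := by
    show VecGrp.Wmap φ (σ.ρ _ (g ≫ f) x) = σ.ρ _ ((VecGrp.ptMap φ ≫ g) ≫ f) (VecGrp.Wmap φ x)
    rw [Category.assoc]
    exact σ.naturality φ (g ≫ f) x

theorem act_pull (σ : VecGrp.GMod G M) (f : H ⟶ G) [IsMonHom f] (h : VecGrp.pt k k ⟶ H) (v : M) :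
    act (pull σ f) h v = act σ (h ≫ f) v := rfl

theorem act_inv_act (σ : VecGrp.GMod G M) (g : VecGrp.pt k k ⟶ G) (v : M) : act σ g⁻¹ (act σ g v) = v := by
  rw [← act_mul, inv_mul_cancel, act_one]

theorem act_ne_zero (σ : VecGrp.GMod G M) (g : VecGrp.pt k k ⟶ G) {v : M} (hv : v ≠ 0) : act σ g v ≠ 0 := fun h =>
  hv (by rw [← act_inv_act σ g v, h, map_zero])

/-- The group is fixing `v`. -/
def Fixes (σ : VecGrp.GMod G M) (v : M) : Prop :=
  ∀ (B : Type u) [CommRing B] [Algebra k B] (g : VecGrp.pt k B ⟶ G),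
    σ.ρ B g ((1 : B) ⊗ₜ[k] v) = (1 : B) ⊗ₜ[k] v

theorem act_of_fixes {σ : VecGrp.GMod G M} {v : M} (h : Fixes σ v) (g : VecGrp.pt k k ⟶ G) : act σ g v = v := by
  show TensorProduct.lid k M (σ.ρ k g ((1 : k) ⊗ₜ[k] v)) = v
  rw [h k g, TensorProduct.lid_tmul, one_smul]

theorem mem_fixedUnder_iff (σ : VecGrp.GMod G M) (f : H ⟶ G) [IsMonHom f] (v : M) :
    v ∈ σ.fixedUnder f ↔ Fixes (pull σ f) v := Iff.rfl

section Alg

variable {A : Type u} [CommRing A] [Algebra k A]

theorem act_alg_mul (ρ : VecGrp.GMod G A) (hρ : ρ.IsMult) (g : VecGrp.pt k k ⟶ G) (x y : A) :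
    act ρ g (x * y) = act ρ g x * act ρ g y := by
  have h := (hρ k g).1 ((1 : k) ⊗ₜ[k] x) ((1 : k) ⊗ₜ[k] y)
  rw [Algebra.TensorProduct.tmul_mul_tmul, _root_.one_mul, act_apply, act_apply, act_apply,
    Algebra.TensorProduct.tmul_mul_tmul, _root_.one_mul] at h
  have h2 := congrArg (TensorProduct.lid k A) h
  rwa [TensorProduct.lid_tmul, TensorProduct.lid_tmul, one_smul, one_smul] at h2

theorem act_alg_one (ρ : VecGrp.GMod G A) (hρ : ρ.IsMult) (g : VecGrp.pt k k ⟶ G) : act ρ g 1 = 1 := by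
  have h := (hρ k g).2
  rw [Algebra.TensorProduct.one_def, act_apply] at h
  have h2 := congrArg (TensorProduct.lid k A) h
  rwa [TensorProduct.lid_tmul, TensorProduct.lid_tmul, one_smul, one_smul] at h2

theorem act_alg_pow (ρ : VecGrp.GMod G A) (hρ : ρ.IsMult) (g : VecGrp.pt k k ⟶ G) (x : A) (n : ℕ) :
    act ρ g (x ^ n) = act ρ g x ^ n := by
  induction n with
  | zero => rw [pow_zero, pow_zero, act_alg_one ρ hρ]
  | succ n ih => rw [pow_succ, pow_succ, act_alg_mul ρ hρ, ih]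

theorem isMult_pull {ρ : VecGrp.GMod G A} (hρ : ρ.IsMult) (f : H ⟶ G) [IsMonHom f] : (pull ρ f).IsMult :=
  fun B _ _ h => hρ B (h ≫ f)

end Alg

variable [IsAlgClosed k] [IsAffine G.left] [Smooth G.hom]

/-- Invariance under rational points is invariance. -/
theorem fixes_of_pts (σ : VecGrp.GMod G M) (v : M) (h : ∀ g : VecGrp.pt k k ⟶ G, act σ g v = v) : Fixes σ v := by
  haveI : IsReduced G.left := Groth.Agent.GrpSchLib.isReduced_of_smooth_field G.hom
  intro B _ _ g
  have := semi_of_pts (𝟙 G) σ v 1 (fun y => by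
    rw [Category.comp_id, act_apply, h, map_one, one_smul]) B g
  rwa [Category.comp_id, map_one, one_smul] at this

/-- Semi-invariance under rational points is semi-invariance. -/
theorem semi_of_act (σ : VecGrp.GMod G M) (v : M) (χ : G ⟶ Red.Gm (Spec (CommRingCat.of k)))
    (h : ∀ g : VecGrp.pt k k ⟶ G, act σ g v = VecGrp.chiVal χ g • v)
    (B : Type u) [CommRing B] [Algebra k B] (g : VecGrp.pt k B ⟶ G) :
    σ.ρ B g ((1 : B) ⊗ₜ[k] v) = VecGrp.chiVal χ g • ((1 : B) ⊗ₜ[k] v) := by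
  haveI : IsReduced G.left := Groth.Agent.GrpSchLib.isReduced_of_smooth_field G.hom
  have := semi_of_pts (𝟙 G) σ v (Red.gmFn χ) (fun y => by
    rw [Category.comp_id, act_apply, h, TensorProduct.tmul_smul, chiVal_eq]) B g
  rwa [Category.comp_id, ← chiVal_eq] at this

variable [ConnectedSpace G.left]

/-- A stable nonzero subspace of a module of a connected solvable group has an eigenvector. -/
theorem exists_eigen_mem (hs : Red.IsSolvableGrp G) (σ : VecGrp.GMod G M) (N : Submodule k M) (hne : N ≠ ⊥)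
    (hst : ∀ (g : VecGrp.pt k k ⟶ G) (x : M), x ∈ N → act σ g x ∈ N) :
    ∃ x ∈ N, x ≠ 0 ∧ ∃ χ : G ⟶ Red.Gm (Spec (CommRingCat.of k)), IsMonHom χ ∧
      ∀ g : VecGrp.pt k k ⟶ G, act σ g x = VecGrp.chiVal χ g • x := by
  haveI : IsReduced G.left := Groth.Agent.GrpSchLib.isReduced_of_smooth_field G.hom
  haveI : QuasiCompact G.hom := inferInstance
  haveI : IsSeparated G.hom := inferInstance
  obtain ⟨x₀, hx₀, hx₀0⟩ := N.ne_bot_iff.1 hne
  obtain ⟨N₁, hle, hfg, hN₁⟩ := GModStable.exists_fg_stable σ (k ∙ x₀) (Submodule.fg_span_singleton x₀)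
  have hN₁' : ∀ (g : VecGrp.pt k k ⟶ G) (x : M), x ∈ N₁ → act σ g x ∈ N₁ := by
    intro g x hx
    obtain ⟨z, hz⟩ := hN₁ k g x hx
    have : act σ g x = (TensorProduct.lid k N₁ z : M) := by
      show TensorProduct.lid k M (σ.ρ k g ((1 : k) ⊗ₜ[k] x)) = _
      rw [← hz]
      clear hz
      induction z using TensorProduct.induction_on with
      | zero => simp
      | tmul c w => rw [LinearMap.baseChange_tmul, TensorProduct.lid_tmul, TensorProduct.lid_tmul]; rfl
      | add p q hp hq => rw [map_add, map_add, hp, hq, map_add, Submodule.coe_add]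
    rw [this]
    exact Submodule.coe_mem _
  have hstB := stable_of_pts σ (N ⊓ N₁) fun g x hx =>
    ⟨act σ g x, ⟨hst g x hx.1, hN₁' g x hx.2⟩, act_apply σ g x⟩
  obtain ⟨τ, hτ⟩ := exists_restrict σ (N ⊓ N₁) hstB
  haveI : Module.Finite k N₁ := Module.Finite.iff_fg.2 hfg
  haveI : Module.Finite k ↥(N ⊓ N₁) := Submodule.finiteDimensional_inf_right N N₁
  haveI : Nontrivial ↥(N ⊓ N₁) := ⟨⟨⟨x₀, hx₀, hle (Submodule.mem_span_singleton_self x₀)⟩, 0,
    fun h => hx₀0 (congrArg Subtype.val h)⟩⟩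
  obtain ⟨w, hw, hwc⟩ := exists_eigen hs τ
  have hw' : (w : M) ≠ 0 := fun h => hw (Subtype.ext h)
  have hc : ∀ g : VecGrp.pt k k ⟶ G, ∃ c : k, σ.ρ k g ((1 : k) ⊗ₜ[k] (w : M)) = c • ((1 : k) ⊗ₜ[k] (w : M)) := by
    intro g
    obtain ⟨c, hc⟩ := hwc g
    refine ⟨c, ?_⟩
    have := hτ k g ((1 : k) ⊗ₜ[k] w)
    rw [hc, map_smul, LinearMap.baseChange_tmul] at this
    exact this.symm
  obtain ⟨χ, hχm, hχ⟩ := exists_char (𝟙 G) σ hw' (fun y => by rw [Category.comp_id]; exact hc y)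
  refine ⟨w, w.2.1, hw', χ, hχm, fun g => ?_⟩
  have := hχ k g
  rw [Category.comp_id] at this
  show TensorProduct.lid k M (σ.ρ k g ((1 : k) ⊗ₜ[k] (w : M))) = _
  rw [this, map_smul, TensorProduct.lid_tmul, one_smul]

omit [GrpObj H] [IsAffine G.left] [Smooth G.hom] [ConnectedSpace G.left] in
theorem chiVal_of_comp_eq_one {χ : G ⟶ Red.Gm (Spec (CommRingCat.of k))} {g : VecGrp.pt k k ⟶ G}
    (h : g ≫ χ = 1) : VecGrp.chiVal χ g = 1 := by
  rw [VecGrp.chiVal, h, GmPts.gmFn_one]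
  exact map_one _

/-- Groups without subtori are solvable. -/
theorem isSolvable_of_noSubtorus (hU : Red.HasNoSubtorus k G) : Red.IsSolvableGrp G := by
  haveI : QuasiCompact G.hom := inferInstance
  haveI := Deform.Borel.isNilpotent_pts_of_noSubtorus G hU
  haveI : Group.IsSolvable (Chev.Pt G) := inferInstance
  exact Deform.Borel.isSolvableGrp_of_pts G

/-- Groups without subtori have no characters. -/
theorem chiVal_eq_one (hU : Red.HasNoSubtorus k G) (χ : G ⟶ Red.Gm (Spec (CommRingCat.of k))) [IsMonHom χ]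
    (g : VecGrp.pt k k ⟶ G) : VecGrp.chiVal χ g = 1 := by
  apply chiVal_of_comp_eq_one
  let s : 𝟙_ (Over (Spec (CommRingCat.of k))) ⟶ VecGrp.pt k k := Over.homMk (𝟙 _) (by
    show 𝟙 _ ≫ Spec.map (CommRingCat.ofHom (algebraMap k k)) = 𝟙 _
    rw [Category.id_comp, show algebraMap k k = RingHom.id k from rfl, CommRingCat.ofHom_id, Spec.map_id])
  have e : toUnit (VecGrp.pt k k) ≫ s ≫ g = g := by
    rw [← Category.assoc, show toUnit (VecGrp.pt k k) ≫ s = 𝟙 _ from (to_pt_unique _).trans (to_pt_unique _).symm, Category.id_comp]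
  have h := Deform.Borel.hom_torus_trivial hU (Deform.isTorus_of_split 1
    (Deform.SplitQuot.nonempty_DS_congr (LinearEquiv.funUnique (Fin 1) ℤ ℤ).toAddEquiv)) χ (s ≫ g)
  rw [← e, Category.assoc, h, MonObj.comp_one]

/-- A stable nonzero subspace of a module of a connected group without subtori has a fixed vector. -/
theorem exists_fixed_mem (hU : Red.HasNoSubtorus k G) (σ : VecGrp.GMod G M) (N : Submodule k M) (hne : N ≠ ⊥)
    (hst : ∀ (g : VecGrp.pt k k ⟶ G) (x : M), x ∈ N → act σ g x ∈ N) :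
    ∃ x ∈ N, x ≠ 0 ∧ Fixes σ x := by
  obtain ⟨x, hx, hx0, χ, hχm, hχ⟩ := exists_eigen_mem (isSolvable_of_noSubtorus hU) σ N hne hst
  haveI := hχm
  exact ⟨x, hx, hx0, fixes_of_pts σ x fun g => by rw [hχ g, chiVal_eq_one hU χ g, one_smul]⟩

/-- For a connected group acting on an algebra, of two elements with product in a prime ideal
one has all its translates in the ideal. -/
theorem orbit_dichotomy {A : Type u} [CommRing A] [Algebra k A] (ρ : VecGrp.GMod G A) (hρ : ρ.IsMult)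
    (p : Ideal A) [p.IsPrime] {a b : A} (hab : a * b = 0) :
    (∀ g : VecGrp.pt k k ⟶ G, act ρ g a ∈ p) ∨ (∀ g : VecGrp.pt k k ⟶ G, act ρ g b ∈ p) := by
  haveI : IsReduced G.left := Groth.Agent.GrpSchLib.isReduced_of_smooth_field G.hom
  haveI : IsDomain Γ(G.left, ⊤) := ObsOpen.isDomain_functions G
  by_contra hc
  rw [not_or, not_forall, not_forall] at hc
  obtain ⟨⟨g₁, h₁⟩, ⟨g₂, h₂⟩⟩ := hc
  let W : Submodule k A := p.restrictScalars k
  have dual : ∀ z : A, z ∉ p → ∃ φ : A →ₗ[k] k, (∀ w ∈ p, φ w = 0) ∧ φ z ≠ 0 := by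
    intro z hz
    obtain ⟨φ, hφ, hφW⟩ := W.exists_dual_map_eq_bot_of_notMem (show z ∉ W from hz) inferInstance
    refine ⟨φ, fun w hw => ?_, hφ⟩
    have : φ w ∈ W.map φ := Submodule.mem_map_of_mem (show w ∈ W from hw)
    rwa [hφW, Submodule.mem_bot] at this
  obtain ⟨φ₁, hφ₁, hne₁⟩ := dual _ h₁
  obtain ⟨φ₂, hφ₂, hne₂⟩ := dual _ h₂
  have hzero : mc ρ φ₁ a * mc ρ φ₂ b = 0 := eq_of_rational fun g => by
    rw [map_mul, map_zero, fn_mc_act, fn_mc_act]
    rcases ‹p.IsPrime›.mem_or_mem (show act ρ g a * act ρ g b ∈ p by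
      rw [← act_alg_mul ρ hρ, hab, map_zero]; exact p.zero_mem) with h | h
    · rw [hφ₁ _ h, zero_mul]
    · rw [hφ₂ _ h, mul_zero]
  rcases mul_eq_zero.1 hzero with h | h
  · exact hne₁ (by rw [← fn_mc_act, h, map_zero])
  · exact hne₂ (by rw [← fn_mc_act, h, map_zero])

end Groth.Agent.Deform.ObsUnip
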