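import Groth.Agent.Deform.Luna.CharRad
import Groth.Agent.Deform.Luna.RuImage
import Groth.Agent.Deform.Luna.Perfect
import Groth.Agent.Deform.QuotField
import Groth.Agent.Deform.QuotGroup
import Groth.Agent.Deform.ObsUnip
import Groth.Agent.Deform.DiagMaps
import Groth.Agent.S14762

/-! The quotient by the radical is semisimple; groups with unipotent radical have no characters. -/

universe u

open CategoryTheory CategoryTheory.Limits MonoidalCategory CartesianMonoidalCategory MonObj GrpObj AlgebraicGeometry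

namespace Groth.Agent.Deform.ObsRadical
attribute [local instance] CategoryTheory.Hom.monoid CategoryTheory.Hom.group
set_option linter.style.haveILetI false
set_option linter.unusedSectionVars false
set_option maxHeartbeats 1000000
open Chev (Pt)

variable {k : Type u} [Field k] [IsAlgClosed k]
variable {G : Over (Spec (CommRingCat.of k))} [GrpObj G] [IsAffine G.left] [Smooth G.hom] [ConnectedSpace G.left]

/-- **The quotient by the radical is semisimple.** -/
theorem semisimple_quot {J Q : Over (Spec (CommRingCat.of k))} [GrpObj J] [GrpObj Q]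
    [LocallyOfFiniteType Q.hom] (j : J ⟶ G) [IsMonHom j] [Group.IsSolvable (Pt J)]
    (huniv : ∀ (U : Over (Spec (CommRingCat.of k))) [GrpObj U] [IsAffine U.left] [Smooth U.hom] [ConnectedSpace U.left]
        [Group.IsSolvable (Pt U)] (f : U ⟶ G) [IsMonHom f],
        (∀ (g : Pt G) (x : Pt U), ∃ x' : Pt U, x' ≫ f = g * (x ≫ f) * g⁻¹) → ∃ f' : U ⟶ J, f' ≫ j = f)
    (q : G ⟶ Q) [IsMonHom q] [Flat q.left] [Surjective q.left]
    (hjq : ∀ y : Pt J, (y ≫ j) ≫ q = 1) (hker : ∀ x : Pt G, x ≫ q = 1 → ∃ y : Pt J, y ≫ j = x) :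
    Red.IsSemisimpleOver k Q := by
  haveI : IsAffineHom G.hom := isAffineHom_of_isAffine _
  haveI : QuasiCompact G.hom := inferInstance
  haveI : IsReduced G.left := GrpSchLib.isReduced_of_smooth_field G.hom
  haveI := GrpSchLib.AntiAffine.isSeparated_grp Q
  haveI : CompactSpace Q.left := ⟨by rw [← q.left.surjective.range_eq]; exact isCompact_range q.left.continuous⟩
  haveI : QuasiCompact Q.hom := (quasiCompact_iff_compactSpace _).mpr inferInstance
  haveI : QuasiCompact (q.left ≫ Q.hom) := by rw [Over.w q]; infer_instance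
  haveI : QuasiCompact q.left := QuasiCompact.of_comp q.left Q.hom
  haveI : IsReduced Q.left := FBaseLib.isReduced_of_flat_surjective q.left
  haveI : Smooth Q.hom := GrpSchLib.smooth_of_isReduced_of_isAlgClosed Q
  haveI : ConnectedSpace Q.left := q.left.surjective.connectedSpace q.left.continuous
  haveI : IsAffine Q.left := by
    obtain ⟨N, gN, iN, K, gK, κ, hiN, hiNc, hNs, hNc, hNa, -, -, -, -, -, -, -, hlift, -⟩ :=
      Deform.Borel.exists_affine_mul_central (G := Q)
    haveI := hiNc; haveI := hNa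
    obtain ⟨π', hπ'⟩ := hlift G q
    haveI : Surjective iN.left := ⟨fun z => by
      obtain ⟨x, hx⟩ := q.left.surjective z
      exact ⟨π'.left x, by rw [← hx, ← hπ']; rfl⟩⟩
    haveI : IsIso iN.left := isIso_of_isClosedImmersion_of_surjective iN.left
    exact IsAffine.of_isIso (inv iN.left)
  have key : ∀ (V : Over (Spec (CommRingCat.of k))) [GrpObj V] (v' : V ⟶ Q) [IsMonHom v'] [IsClosedImmersion v'.left]
      [Smooth V.hom] [ConnectedSpace V.left] [Group.IsSolvable (Pt V)], AlgGrp.IsNormalHom v' → Red.IsTrivialGrp V := by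
    intro V _ v' _ _ _ _ _ hn
    haveI : IsAffine V.left := isAffine_of_isAffineHom v'.left
    haveI : IsAffineHom V.hom := isAffineHom_of_isAffine _
    haveI : QuasiCompact V.hom := inferInstance
    haveI : Mono v' := (Over.forget _).mono_of_mono_map (inferInstanceAs (Mono v'.left))
    obtain ⟨J', gJ', j', v, hj, hjc, hJs, hJc, hvm, hv, hvs, hjn, -⟩ := Luna.exists_preimage q v' hn
    haveI := hj; haveI := hjc; haveI := hJs; haveI := hJc; haveI := hvm; haveI := hvs
    haveI : IsAffine J'.left := isAffine_of_isAffineHom j'.left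
    haveI : IsAffineHom J'.hom := isAffineHom_of_isAffine _
    haveI : QuasiCompact J'.hom := inferInstance
    haveI : Mono j' := (Over.forget _).mono_of_mono_map (inferInstanceAs (Mono j'.left))
    have hmem : ∀ x : (Borel.ptsMap v).ker, ∃ y : Pt J, y ≫ j = x.1 ≫ j' := fun x => by
      refine hker _ ?_
      rw [Category.assoc, ← hv, ← Category.assoc, show x.1 ≫ v = 1 from x.2, MonObj.one_comp]
    have hle : ((Borel.ptsMap j').comp (Borel.ptsMap v).ker.subtype).range ≤ (Borel.ptsMap j).range := by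
      rintro _ ⟨x, rfl⟩
      exact hmem x
    haveI : Group.IsSolvable (Borel.ptsMap j).range :=
      Group.isSolvable_of_surjective (Borel.ptsMap j).rangeRestrict_surjective
    haveI : Group.IsSolvable (Borel.ptsMap v).ker :=
      Group.isSolvable_of_isSolvable_injective
        (f := (((Borel.ptsMap j').comp (Borel.ptsMap v).ker.subtype).codRestrict (Borel.ptsMap j).range
          fun x => hle ⟨x, rfl⟩))
        (fun a b h => Subtype.ext ((cancel_mono j').1 (congrArg Subtype.val h)))
    haveI : Group.IsSolvable (Pt J') := Group.isSolvable_of_ker_le_range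
      (Borel.ptsMap v).ker.subtype (Borel.ptsMap v) (le_of_eq (Subgroup.range_subtype _).symm)
    obtain ⟨f', hf'⟩ := huniv J' j' fun g x => (hjn _ g x).imp fun _ h => h.symm
    haveI : IsSeparated V.hom := GrpSchLib.AntiAffine.isSeparated_grp V
    haveI : IsReduced V.left := GrpSchLib.isReduced_of_smooth_field V.hom
    refine Borel.isTrivialGrp_of_pts fun y => ?_
    obtain ⟨x, rfl⟩ := Borel.exists_pt_over v y
    refine (cancel_mono v').1 ?_
    rw [Category.assoc, hv, MonObj.one_comp, ← hf', ← Category.assoc, ← Category.assoc x f' j, hjq]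
  refine ⟨⟨inferInstance, inferInstance, inferInstance, fun V _ i _ hic hVs hVc hn hV => ?_⟩,
    fun T _ i _ hic hn hT => ?_⟩
  · haveI := hic; haveI := hVs; haveI := hVc
    haveI : IsAffine V.left := isAffine_of_isAffineHom i.left
    haveI := Borel.isNilpotent_pts_of_noSubtorus V hV
    haveI : Group.IsSolvable (Pt V) := inferInstance
    exact key V i hn
  · obtain ⟨hTa, hTl, hTs, hTc⟩ := Deform.TorusBasic.props hT
    haveI := hic; haveI := hTs; haveI := hTc
    haveI : Group.IsSolvable (Pt T) :=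
      Group.isSolvable_of_comm (GrpSchLib.MultTypeComm.points_comm (Deform.isMultTypeFT_of_isTorus hT))
    exact key T i hn

/-- **A character trivial on the radical is trivial.** -/
theorem hom_gm_trivial_of {J : Over (Spec (CommRingCat.of k))} [GrpObj J] (j : J ⟶ G) [IsMonHom j]
    [IsClosedImmersion j.left] [Smooth J.hom] [Group.IsSolvable (Pt J)] (hjn : AlgGrp.IsNormalHom j)
    (huniv : ∀ (U : Over (Spec (CommRingCat.of k))) [GrpObj U] [IsAffine U.left] [Smooth U.hom] [ConnectedSpace U.left]
        [Group.IsSolvable (Pt U)] (f : U ⟶ G) [IsMonHom f],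
        (∀ (g : Pt G) (x : Pt U), ∃ x' : Pt U, x' ≫ f = g * (x ≫ f) * g⁻¹) → ∃ f' : U ⟶ J, f' ≫ j = f)
    (χ : G ⟶ Red.Gm (Spec (CommRingCat.of k))) [IsMonHom χ] (hjχ : j ≫ χ = 1) : χ = 1 := by
  haveI : IsAffineHom G.hom := isAffineHom_of_isAffine _
  haveI : QuasiCompact G.hom := inferInstance
  haveI : Mono j := (Over.forget _).mono_of_mono_map (inferInstanceAs (Mono j.left))
  obtain ⟨Q, p, hpf, hps, hpl, sq, hQsep, hQl⟩ := Deform.QuotField.exists_quot j
  haveI := hpf; haveI := hps; haveI := hpl; haveI := hQsep; haveI := hQl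
  obtain ⟨gQ, hpm, hk⟩ := Deform.QuotGroup.exists_grpObj j p sq hjn
  haveI := hpm
  have hjp : j ≫ p = 1 := by rw [Hom.one_def]; exact hk.w
  have hss := semisimple_quot j huniv p (fun y => by rw [Category.assoc, hjp, MonObj.comp_one])
    (fun x hx => ⟨hk.lift x (toUnit _) (by rw [← Hom.one_def, hx]), hk.lift_fst _ _ _⟩)
  have hT : Red.IsTorus (Red.Gm (Spec (CommRingCat.of k))) := Deform.isTorus_of_split 1
    (Deform.SplitQuot.nonempty_DS_congr (LinearEquiv.funUnique (Fin 1) ℤ ℤ).toAddEquiv)
  haveI : IsAffine Q.left := hss.1.1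
  obtain ⟨hGa, hGl, hGs, hGc⟩ := Deform.TorusBasic.props hT
  haveI : IsAffineHom (Red.Gm (Spec (CommRingCat.of k))).hom := isAffineHom_of_isAffine _
  haveI : IsSeparated (Red.Gm (Spec (CommRingCat.of k))).hom := inferInstance
  haveI : Smooth Q.hom := hss.1.2.1
  haveI : ConnectedSpace Q.left := hss.1.2.2.1
  obtain ⟨χ', hχ'⟩ := Deform.QuotDescent.exists_descOver p χ fun T x y h => by
    obtain ⟨r, hr1, hr2⟩ := sq.exists_lift x y h
    have hμ : (j ▷ G) ≫ μ[G] = (fst J G ≫ j) * snd J G := by
      rw [Hom.mul_def]; congr 1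
    rw [← hr1, ← hr2, Category.assoc r, Category.assoc r, hμ, MonObj.mul_comp, Category.assoc, hjχ, MonObj.comp_one,
      _root_.one_mul]
  haveI : IsMonHom χ' := Deform.DiagMaps.isMonHom_of_epi_comp p χ' χ hχ'
  have h1 := Luna.hom_comm_trivial hss
    (fun a b => GrpSchLib.MultTypeComm.points_comm (Deform.isMultTypeFT_of_isTorus hT) a b) χ'
  rw [← hχ', h1, MonObj.comp_one]

/-- **A connected group whose radical has no subtorus has no characters.** -/
theorem hom_gm_trivial
    (hrad : ∀ (R : Over (Spec (CommRingCat.of k))) [GrpObj R] (r : R ⟶ G) [IsMonHom r], IsClosedImmersion r.left →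
      Smooth R.hom → ConnectedSpace R.left → AlgGrp.IsNormalHom r → Group.IsSolvable (Pt R) →
      (∀ (σ : G ⟶ G) [IsIso σ] [IsMonHom σ] (x : Pt R), ∃ x' : Pt R, x' ≫ r = x ≫ r ≫ σ) →
      Red.HasNoSubtorus k R)
    (χ : G ⟶ Red.Gm (Spec (CommRingCat.of k))) [IsMonHom χ] : χ = 1 := by
  obtain ⟨J, gJ, j, hj, hjc, hJs, hJc, hJsol, hjn, hchar, huniv⟩ := Luna.exists_radical G
  haveI := hj; haveI := hjc; haveI := hJs; haveI := hJc; haveI := hJsol
  haveI : IsAffine J.left := isAffine_of_isAffineHom j.left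
  haveI : IsAffineHom J.hom := isAffineHom_of_isAffine _
  haveI : QuasiCompact J.hom := inferInstance
  haveI : IsReduced J.left := GrpSchLib.isReduced_of_smooth_field J.hom
  have hT : Red.IsTorus (Red.Gm (Spec (CommRingCat.of k))) := Deform.isTorus_of_split 1
    (Deform.SplitQuot.nonempty_DS_congr (LinearEquiv.funUnique (Fin 1) ℤ ℤ).toAddEquiv)
  obtain ⟨hGa, hGl, hGs, hGc⟩ := Deform.TorusBasic.props hT
  haveI : IsAffineHom (Red.Gm (Spec (CommRingCat.of k))).hom := isAffineHom_of_isAffine _
  haveI : IsSeparated (Red.Gm (Spec (CommRingCat.of k))).hom := inferInstance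
  have hJU := hrad J j hjc hJs hJc hjn hJsol hchar
  exact hom_gm_trivial_of j hjn huniv χ (Borel.comp_inj_pt _ _ fun y => by
    rw [MonObj.comp_one, Borel.hom_torus_trivial hJU hT (j ≫ χ) y])

end Groth.Agent.Deform.ObsRadical
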