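import Groth.Agent.Deform.ObsVanish
import Groth.Prelude.Def_GmPts

/-! Semi-invariant vectors and observable subgroups. -/

universe u

open CategoryTheory Limits AlgebraicGeometry MonoidalCategory CartesianMonoidalCategory MonObj GrpObj
open scoped TensorProduct

attribute [local instance] CategoryTheory.Hom.monoid CategoryTheory.Hom.group
set_option linter.style.haveILetI false
set_option linter.unusedSectionVars false
set_option maxHeartbeats 1000000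

namespace Groth.Agent.Deform.ObsSemi

open GModStable RTrans Observ ObsVanish
attribute [local instance] GModStable.algΓ

variable {k : Type u} [Field k] {G : Over (Spec (CommRingCat.of k))} [GrpObj G] [IsAffine G.left]
variable {M : Type u} [AddCommGroup M] [Module k M]

/-- The matrix coefficient of a vector and a linear form. -/
noncomputable def mc (ρ : VecGrp.GMod G M) (φ : M →ₗ[k] k) (v : M) : Γ(G.left, ⊤) :=
  pr φ Γ(G.left, ⊤) (ρ.ρ _ (uPt G) ((1 : Γ(G.left, ⊤)) ⊗ₜ[k] v))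

theorem fn_mc (ρ : VecGrp.GMod G M) (φ : M →ₗ[k] k) (v : M) {B : Type u} [CommRing B] [Algebra k B]
    (x : VecGrp.pt k B ⟶ G) : fn x (mc ρ φ v) = pr φ B (ρ.ρ B x ((1 : B) ⊗ₜ[k] v)) := by
  rw [mc, pr_natural, GModStable.ρ_naturality ρ, ptMap_fn_uPt]

theorem pr_smul_one (φ : M →ₗ[k] k) {B : Type u} [CommRing B] [Algebra k B] (c : B) (v : M) :
    pr φ B (c • ((1 : B) ⊗ₜ[k] v)) = c * algebraMap k B (φ v) := by
  rw [map_smul, smul_eq_mul]
  simp [pr, Algebra.algebraMap_eq_smul_one]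

theorem exists_dual_one {v : M} (hv : v ≠ 0) : ∃ φ : M →ₗ[k] k, φ v = 1 := by
  obtain ⟨φ, hφ⟩ : ∃ φ : Module.Dual k M, φ v ≠ 0 := by
    by_contra h
    push_neg at h
    exact hv ((Module.forall_dual_apply_eq_zero_iff k v).1 h)
  exact ⟨(φ v)⁻¹ • φ, by simp [hφ]⟩

variable [IsAlgClosed k]

/-- Elements of a base change to a reduced affine scheme are determined on rational points. -/
theorem ext_pts {T : Over (Spec (CommRingCat.of k))} [IsAffine T.left] [IsReduced T.left]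
    [LocallyOfFiniteType T.hom] {z z' : Γ(T.left, ⊤) ⊗[k] M}
    (h : ∀ y : VecGrp.pt k k ⟶ T, VecGrp.Wmap (fn y) z = VecGrp.Wmap (fn y) z') : z = z' := by
  let b := Module.Free.chooseBasis k M
  apply (Algebra.TensorProduct.basis Γ(T.left, ⊤) b).repr.injective
  refine Finsupp.ext fun j => ?_
  rw [← sub_eq_zero]
  refine eq_zero_of_rational (G := T) _ fun y => ?_
  have hx : ∀ w : Γ(T.left, ⊤) ⊗[k] M, fn y ((Algebra.TensorProduct.basis Γ(T.left, ⊤) b).repr w j) =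
      (Algebra.TensorProduct.basis k b).repr (VecGrp.Wmap (fn y) w) j := by
    intro w
    induction w using TensorProduct.induction_on with
    | zero => simp
    | add p q hp hq => simp only [map_add, Finsupp.add_apply, hp, hq]
    | tmul c e => simp
  rw [map_sub, sub_eq_zero, hx, hx, h]

variable [IsReduced G.left] [LocallyOfFiniteType G.hom]
variable {T : Over (Spec (CommRingCat.of k))} [GrpObj T] [IsAffine T.left] [IsReduced T.left]
  [LocallyOfFiniteType T.hom] (i : T ⟶ G) [IsMonHom i]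

/-- Semi-invariance may be tested on rational points. -/
theorem semi_of_pts (ρ : VecGrp.GMod G M) (v : M) (c : Γ(T.left, ⊤))
    (h : ∀ y : VecGrp.pt k k ⟶ T, ρ.ρ k (y ≫ i) ((1 : k) ⊗ₜ[k] v) = fn y c • ((1 : k) ⊗ₜ[k] v))
    (B : Type u) [CommRing B] [Algebra k B] (y : VecGrp.pt k B ⟶ T) :
    ρ.ρ B (y ≫ i) ((1 : B) ⊗ₜ[k] v) = fn y c • ((1 : B) ⊗ₜ[k] v) := by
  have hz : ρ.ρ _ (uPt T ≫ i) ((1 : Γ(T.left, ⊤)) ⊗ₜ[k] v) = c • ((1 : Γ(T.left, ⊤)) ⊗ₜ[k] v) := by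
    refine ext_pts fun x => ?_
    rw [GModStable.ρ_naturality ρ, ← Category.assoc, ptMap_fn_uPt, VecGrp.Wmap_smul,
      VecGrp.Wmap_tmul, map_one]
    exact h x
  conv_lhs => rw [← ptMap_fn_uPt y, Category.assoc, ← GModStable.ρ_naturality ρ, hz, VecGrp.Wmap_smul, VecGrp.Wmap_tmul, map_one]

theorem chiVal_eq (χ : T ⟶ Red.Gm (Spec (CommRingCat.of k))) {B : Type u} [CommRing B] [Algebra k B]
    (y : VecGrp.pt k B ⟶ T) : VecGrp.chiVal χ y = fn y (Red.gmFn χ) := by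
  rw [VecGrp.chiVal, GmPts.gmFn_comp]
  rfl

/-- The character of a stable line. -/
theorem exists_char (ρ : VecGrp.GMod G M) {v : M} (hv : v ≠ 0)
    (h : ∀ y : VecGrp.pt k k ⟶ T, ∃ c : k, ρ.ρ k (y ≫ i) ((1 : k) ⊗ₜ[k] v) = c • ((1 : k) ⊗ₜ[k] v)) :
    ∃ χ : T ⟶ Red.Gm (Spec (CommRingCat.of k)), IsMonHom χ ∧
      ∀ (B : Type u) [CommRing B] [Algebra k B] (y : VecGrp.pt k B ⟶ T),
        ρ.ρ B (y ≫ i) ((1 : B) ⊗ₜ[k] v) = VecGrp.chiVal χ y • ((1 : B) ⊗ₜ[k] v) := by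
  obtain ⟨φ, hφ⟩ := exists_dual_one (k := k) hv
  let c : Γ(T.left, ⊤) := fn (uPt T ≫ i) (mc ρ φ v)
  have hc : ∀ {B : Type u} [CommRing B] [Algebra k B] (y : VecGrp.pt k B ⟶ T),
      fn y c = pr φ B (ρ.ρ B (y ≫ i) ((1 : B) ⊗ₜ[k] v)) := by
    intro B _ _ y
    show fn y (fn (uPt T ≫ i) _) = _
    rw [← AlgHom.comp_apply, ← fn_ptMap, ← Category.assoc, ptMap_fn_uPt, fn_mc]
  have hsemi := semi_of_pts i ρ v c fun y => by
    obtain ⟨a, ha⟩ := h y
    rw [hc, ha, pr_smul_one, hφ, map_one, _root_.mul_one]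
  have hmul : ∀ {B : Type u} [CommRing B] [Algebra k B] (y y' : VecGrp.pt k B ⟶ T),
      fn (y * y') c = fn y c * fn y' c := by
    intro B _ _ y y'
    have e : ρ.ρ B ((y * y') ≫ i) ((1 : B) ⊗ₜ[k] v) = (fn y c * fn y' c) • ((1 : B) ⊗ₜ[k] v) := by
      rw [MonObj.mul_comp, map_mul, LinearEquiv.mul_apply, hsemi, map_smul, hsemi, smul_smul, mul_comm]
    rw [hc, e, pr_smul_one, hφ, map_one, _root_.mul_one]
  have hone : ∀ {B : Type u} [CommRing B] [Algebra k B], fn (1 : VecGrp.pt k B ⟶ T) c = 1 := by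
    intro B _ _
    rw [hc, MonObj.one_comp, map_one]
    show pr φ B ((1 : B) ⊗ₜ[k] v) = 1
    rw [← one_smul B ((1 : B) ⊗ₜ[k] v), pr_smul_one, hφ, map_one, _root_.mul_one]
  let u : Γ(T.left, ⊤)ˣ := Units.mkOfMulEqOne c (fn (uPt T)⁻¹ c) (by
    conv_lhs => arg 1; rw [← fn_uPt c]
    rw [← hmul, mul_inv_cancel, hone])
  let χ : T ⟶ Red.Gm (Spec (CommRingCat.of k)) := GmPts.ptOfUnit u
  have hχ : Red.gmFn χ = c := GmPts.gmFn_ptOfUnit u
  refine ⟨χ, ?_, fun B _ _ y => by rw [chiVal_eq, hχ]; exact hsemi B y⟩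
  constructor
  · apply GmPts.gmFn_injective
    show Red.gmFn (η[T] ≫ χ) = Red.gmFn _
    rw [show η[Red.Gm (Spec (CommRingCat.of k))] = (1 : 𝟙_ _ ⟶ Red.Gm (Spec (CommRingCat.of k))) from
      MonObj.one_eq_one _, GmPts.gmFn_one, GmPts.gmFn_comp, hχ]
    haveI : IsAffine (𝟙_ (Over (Spec (CommRingCat.of k)))).left := inferInstanceAs (IsAffine (Spec (CommRingCat.of k)))
    have h1 := hone (B := Γ((𝟙_ (Over (Spec (CommRingCat.of k)))).left, ⊤))
    rw [show (1 : VecGrp.pt k _ ⟶ T) = uPt (𝟙_ (Over (Spec (CommRingCat.of k)))) ≫ η[T] by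
      rw [MonObj.one_eq_one, MonObj.comp_one]] at h1
    change fn (uPt (𝟙_ (Over (Spec (CommRingCat.of k))))) (η[T].left.appTop c) = 1 at h1
    rwa [fn_uPt] at h1
  · apply GmPts.gmFn_injective
    haveI : IsAffine (T ⊗ T).left := inferInstanceAs (IsAffine (pullback T.hom T.hom))
    show Red.gmFn (μ[T] ≫ χ) = Red.gmFn ((χ ⊗ₘ χ) ≫ μ)
    rw [show (χ ⊗ₘ χ) ≫ μ = (fst T T ≫ χ) * (snd T T ≫ χ) by
      rw [Hom.mul_def, ← lift_map, lift_fst_snd, Category.id_comp], GmPts.gmFn_mul, GmPts.gmFn_comp, GmPts.gmFn_comp,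
      GmPts.gmFn_comp, hχ]
    have h1 := hmul (uPt (T ⊗ T) ≫ fst T T) (uPt (T ⊗ T) ≫ snd T T)
    rw [show uPt (T ⊗ T) ≫ fst T T * uPt (T ⊗ T) ≫ snd T T = uPt (T ⊗ T) ≫ μ[T] by
      rw [← MonObj.comp_mul, Hom.mul_def, lift_fst_snd, Category.id_comp]] at h1
    change fn (uPt (T ⊗ T)) (μ[T].left.appTop c) =
      fn (uPt (T ⊗ T)) ((fst T T).left.appTop c) * fn (uPt (T ⊗ T)) ((snd T T).left.appTop c) at h1
    rwa [fn_uPt, fn_uPt, fn_uPt] at h1

theorem gmFn_inv_fn (χ : T ⟶ Red.Gm (Spec (CommRingCat.of k))) {B : Type u} [CommRing B] [Algebra k B]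
    (y : VecGrp.pt k B ⟶ T) : fn y (Red.gmFn χ⁻¹) * fn y (Red.gmFn χ) = 1 := by
  rw [← map_mul, GmPts.gmFn_inv, map_one]

/-- A subgroup stabilising a line whose inverse character occurs is observable. -/
theorem observable_of_line (ρ : VecGrp.GMod G M) {v : M} (hv : v ≠ 0)
    (χ : T ⟶ Red.Gm (Spec (CommRingCat.of k)))
    (hχ : ∀ (B : Type u) [CommRing B] [Algebra k B] (y : VecGrp.pt k B ⟶ T),
      ρ.ρ B (y ≫ i) ((1 : B) ⊗ₜ[k] v) = VecGrp.chiVal χ y • ((1 : B) ⊗ₜ[k] v))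
    {N : Type u} [AddCommGroup N] [Module k N] (σ : VecGrp.GMod G N) {w : N} (hw : w ≠ 0)
    (hσ : ∀ (B : Type u) [CommRing B] [Algebra k B] (y : VecGrp.pt k B ⟶ T),
      σ.ρ B (y ≫ i) ((1 : B) ⊗ₜ[k] w) = VecGrp.chiVal χ⁻¹ y • ((1 : B) ⊗ₜ[k] w))
    (hst : ∀ g : VecGrp.pt k k ⟶ G, (∃ c : k, c ≠ 0 ∧ ρ.ρ k g ((1 : k) ⊗ₜ[k] v) = c • ((1 : k) ⊗ₜ[k] v)) →
      ∃ h : VecGrp.pt k k ⟶ T, h ≫ i = g) :
    AGF.IsObservableIn k i := by
  intro g hg
  obtain ⟨φ₀, hφ₀⟩ := exists_dual_one (k := k) hv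
  obtain ⟨ψ, hψ⟩ := exists_dual_one (k := k) hw
  let c := pr ψ k (σ.ρ k g ((1 : k) ⊗ₜ[k] w))
  have key : ∀ φ : M →ₗ[k] k, pr φ k (ρ.ρ k g ((1 : k) ⊗ₜ[k] v)) * c = φ v := by
    intro φ
    have hinv : AGF.IsRTransInv i (mc ρ φ v * mc σ ψ w) := rTransInv_of_pts i _ fun x y => by
      simp only [map_mul, fn_mc, LinearEquiv.mul_apply, hχ, hσ, map_smul, smul_eq_mul, chiVal_eq]
      linear_combination (pr φ k (ρ.ρ k x ((1 : k) ⊗ₜ[k] v)) * pr ψ k (σ.ρ k x ((1 : k) ⊗ₜ[k] w))) * gmFn_inv_fn χ y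
    have h1 := eval_of_rTransInv g _ (hg _ hinv) (1 : VecGrp.pt k k ⟶ G) (𝟙 _)
    rw [Category.id_comp, _root_.one_mul, map_mul, map_mul, fn_mc, fn_mc, fn_mc, fn_mc, map_one, map_one] at h1
    refine h1.trans ?_
    show pr φ k ((1 : k) ⊗ₜ[k] v) * pr ψ k ((1 : k) ⊗ₜ[k] w) = _
    rw [← one_smul k ((1 : k) ⊗ₜ[k] v), ← one_smul k ((1 : k) ⊗ₜ[k] w), pr_smul_one, pr_smul_one, hψ]
    simp
  have hc : c ≠ 0 := fun h0 => by
    have := key φ₀
    rw [hφ₀, h0, mul_zero] at this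
    exact zero_ne_one this
  refine hst g ⟨c⁻¹, inv_ne_zero hc, ?_⟩
  apply (TensorProduct.lid k M).injective
  rw [← sub_eq_zero, ← Module.forall_dual_apply_eq_zero_iff k]
  intro φ
  have e : ∀ z : k ⊗[k] M, pr φ k z = φ (TensorProduct.lid k M z) := by
    intro z
    induction z using TensorProduct.induction_on with
    | zero => simp
    | tmul b m => simp [pr, mul_comm]
    | add p q hp hq => simp only [map_add, hp, hq]
  rw [map_sub, sub_eq_zero, ← e, ← e, pr_smul_one, Algebra.algebraMap_self, RingHom.id_apply,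
    eq_inv_mul_iff_mul_eq₀ hc, mul_comm]
  exact key φ

/-- An invariant function vanishing on the zeros of a semi-invariant one yields the inverse character. -/
theorem exists_inverse_of_vanish (χ : T ⟶ Red.Gm (Spec (CommRingCat.of k))) (f : Γ(G.left, ⊤))
    (hf : ∀ (x : VecGrp.pt k k ⟶ G) (y : VecGrp.pt k k ⟶ T),
      fn (x * (y ≫ i)) f = fn y (Red.gmFn χ) * fn x f)
    (a : Γ(G.left, ⊤)) (hainv : AGF.IsRTransInv i a) (harad : a ∈ (Ideal.span {f}).radical) (ha0 : a ≠ 0) :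
    ∃ (N : Type u) (_ : AddCommGroup N) (_ : Module k N) (_ : Module.Finite k N) (σ : VecGrp.GMod G N) (w : N),
      w ≠ 0 ∧ ∀ (B : Type u) [CommRing B] [Algebra k B] (y : VecGrp.pt k B ⟶ T),
        σ.ρ B (y ≫ i) ((1 : B) ⊗ₜ[k] w) = VecGrp.chiVal χ⁻¹ y • ((1 : B) ⊗ₜ[k] w) := by
  obtain ⟨n, hn⟩ := Ideal.mem_radical_iff.1 harad
  obtain ⟨q, hq⟩ := Ideal.mem_span_singleton.1 hn
  let q' := q * a
  have hzero : ∀ x : VecGrp.pt k k ⟶ G, fn x f = 0 → fn x q' = 0 := by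
    intro x hx
    have h1 : fn x (a ^ n) = 0 := by rw [hq, map_mul, hx, zero_mul]
    rw [map_pow] at h1
    rw [map_mul, eq_zero_of_pow_eq_zero h1, mul_zero]
  have hval : ∀ x : VecGrp.pt k k ⟶ G, fn x f * fn x q' = fn x a ^ (n + 1) := fun x => by
    rw [map_mul, pow_succ, ← map_pow, hq, map_mul]
    ring
  have hq' : ∀ (x : VecGrp.pt k k ⟶ G) (y : VecGrp.pt k k ⟶ T),
      fn (x * (y ≫ i)) q' = fn y (Red.gmFn χ⁻¹) * fn x q' := by
    intro x y
    by_cases hx : fn x f = 0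
    · rw [hzero x hx, hzero _ (by rw [hf, hx, mul_zero]), mul_zero]
    · have h1 := hval (x * (y ≫ i))
      rw [hf, eval_of_rTransInv i a hainv, ← hval x] at h1
      refine mul_left_cancel₀ hx ?_
      linear_combination (fn y (Red.gmFn χ⁻¹)) * h1 - (fn x f * fn (x * (y ≫ i)) q') * gmFn_inv_fn χ y
  have hq'0 : q' ≠ 0 := by
    intro h0
    refine ha0 (eq_zero_of_pow_eq_zero (n := n + 1) ?_)
    rw [pow_succ, hq, _root_.mul_assoc]
    show f * q' = 0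
    rw [h0, mul_zero]
  obtain ⟨N, hMN, hN, hst⟩ := GModStable.exists_fg_stable (reg (G := G)) (k ∙ q') (Submodule.fg_span_singleton q')
  obtain ⟨σ, hσ⟩ := exists_restrict _ N hst
  haveI : Module.Finite k N := Module.Finite.iff_fg.2 hN
  let w : N := ⟨q', hMN (Submodule.mem_span_singleton_self q')⟩
  refine ⟨N, inferInstance, inferInstance, inferInstance, σ, w, fun h => hq'0 (congrArg Subtype.val h),
    fun B _ _ y => ?_⟩
  rw [chiVal_eq]
  apply Module.Flat.lTensor_preserves_injective_linearMap N.subtype N.injective_subtype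
  show N.subtype.baseChange B _ = N.subtype.baseChange B _
  rw [hσ, map_smul, LinearMap.baseChange_tmul]
  refine semi_of_pts i reg q' _ (fun z => ?_) B y
  rw [reg_ρ, Φ_one_tmul]
  apply (Algebra.TensorProduct.lid k Γ(G.left, ⊤)).injective
  show (Algebra.TensorProduct.lid k Γ(G.left, ⊤)).toAlgHom (fn (shift (z ≫ i)) q') = _
  rw [← AlgHom.comp_apply, ← fn_ptMap, shift, MonObj.comp_mul, ← Category.assoc, ← Category.assoc, ptMap_comp,
    ptMap_comp]
  have e1 : (Algebra.TensorProduct.lid k Γ(G.left, ⊤)).toAlgHom.comp Algebra.TensorProduct.includeRight =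
      AlgHom.id k _ := by ext s; simp
  have e2 : (Algebra.TensorProduct.lid k Γ(G.left, ⊤)).toAlgHom.comp (Algebra.TensorProduct.includeLeft (S := k)) =
      Algebra.ofId k _ := by ext
  rw [e1, e2, show VecGrp.ptMap (AlgHom.id k Γ(G.left, ⊤)) ≫ uPt G = uPt G by
    conv_rhs => rw [← ptMap_fn_uPt (uPt G), show fn (uPt G) = AlgHom.id k Γ(G.left, ⊤) from
      AlgHom.ext fun w => fn_uPt (X := G) w]]
  show tr (z ≫ i) q' = _
  rw [map_smul, Algebra.TensorProduct.lid_tmul, one_smul]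
  refine eq_of_rational fun x => ?_
  rw [fn_tr, map_smul, hq', smul_eq_mul]

/-- For an observable subgroup inverse characters occur. -/
theorem exists_inverse [Smooth G.hom] (hobs : AGF.IsObservableIn k i) (χ : T ⟶ Red.Gm (Spec (CommRingCat.of k)))
    (ρ : VecGrp.GMod G M) {v : M} (hv : v ≠ 0)
    (hχ : ∀ (B : Type u) [CommRing B] [Algebra k B] (y : VecGrp.pt k B ⟶ T),
      ρ.ρ B (y ≫ i) ((1 : B) ⊗ₜ[k] v) = VecGrp.chiVal χ y • ((1 : B) ⊗ₜ[k] v)) :
    ∃ (N : Type u) (_ : AddCommGroup N) (_ : Module k N) (_ : Module.Finite k N) (σ : VecGrp.GMod G N) (w : N),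
      w ≠ 0 ∧ ∀ (B : Type u) [CommRing B] [Algebra k B] (y : VecGrp.pt k B ⟶ T),
        σ.ρ B (y ≫ i) ((1 : B) ⊗ₜ[k] w) = VecGrp.chiVal χ⁻¹ y • ((1 : B) ⊗ₜ[k] w) := by
  obtain ⟨φ, hφ⟩ := exists_dual_one (k := k) hv
  let f := mc ρ φ v
  have hf : ∀ (x : VecGrp.pt k k ⟶ G) (y : VecGrp.pt k k ⟶ T),
      fn (x * (y ≫ i)) f = fn y (Red.gmFn χ) * fn x f := by
    intro x y
    simp only [f, fn_mc, map_mul, LinearEquiv.mul_apply, hχ, map_smul, smul_eq_mul, chiVal_eq]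
  have hf1 : fn (1 : VecGrp.pt k k ⟶ G) f = 1 := by
    simp only [f, fn_mc, map_one]
    show pr φ k ((1 : k) ⊗ₜ[k] v) = 1
    rw [← one_smul k ((1 : k) ⊗ₜ[k] v), pr_smul_one, hφ, map_one, _root_.mul_one]
  obtain ⟨a, hainv, harad, ha0⟩ := exists_invariant_vanishing i hobs (Ideal.span {f}) (fun x y h g hg => by
      obtain ⟨r, rfl⟩ := Ideal.mem_span_singleton.1 hg
      rw [map_mul, hf, h f (Ideal.mem_span_singleton_self f), mul_zero, zero_mul])
    (fun h0 => by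
      rw [Ideal.span_singleton_eq_bot] at h0
      rw [h0, map_zero] at hf1
      exact zero_ne_one hf1)
  exact exists_inverse_of_vanish i χ f hf a hainv harad ha0

end Groth.Agent.Deform.ObsSemi
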