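import Groth.Agent.Deform.ObsOpen
import Groth.Agent.S3266
import Groth.Agent.ComodLib.Trig

/-! Closed subgroups of solvable groups are observable. -/

universe u

open CategoryTheory MonoidalCategory CartesianMonoidalCategory MonObj GrpObj AlgebraicGeometry
open scoped TensorProduct

namespace Groth.Agent.Deform.ObsSolvable
attribute [local instance] CategoryTheory.Hom.monoid CategoryTheory.Hom.group
set_option linter.style.haveILetI false
set_option linter.unusedSectionVars false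
set_option maxHeartbeats 1000000
set_option backward.isDefEq.respectTransparency false
open GModStable RTrans Observ ObsVanish ObsSemi
open Groth.Agent.GrpSchLib.AffineHopf
open WithConv
attribute [local instance] GModStable.algΓ

variable {k : Type u} [Field k] [IsAlgClosed k] {G : Over (Spec (CommRingCat.of k))} [GrpObj G] [IsAffine G.left]

theorem lid_reg [LocallyOfFiniteType G.hom] (d : VecGrp.pt k k ⟶ G) (q : Γ(G.left, ⊤)) :
    Algebra.TensorProduct.lid k Γ(G.left, ⊤) ((reg (G := G)).ρ k d ((1 : k) ⊗ₜ[k] q)) = tr d q := by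
  rw [reg_ρ, Φ_one_tmul]
  show (Algebra.TensorProduct.lid k Γ(G.left, ⊤)).toAlgHom (fn (shift d) q) = _
  rw [← AlgHom.comp_apply, ← fn_ptMap, shift, MonObj.comp_mul, ← Category.assoc, ← Category.assoc, Observ.ptMap_comp,
    Observ.ptMap_comp]
  have e1 : (Algebra.TensorProduct.lid k Γ(G.left, ⊤)).toAlgHom.comp Algebra.TensorProduct.includeRight =
      AlgHom.id k _ := by ext s; simp
  have e2 : (Algebra.TensorProduct.lid k Γ(G.left, ⊤)).toAlgHom.comp (Algebra.TensorProduct.includeLeft (S := k)) =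
      Algebra.ofId k _ := by ext
  rw [e1, e2, show VecGrp.ptMap (AlgHom.id k Γ(G.left, ⊤)) ≫ uPt G = uPt G by
    conv_rhs => rw [← ptMap_fn_uPt (uPt G), show fn (uPt G) = AlgHom.id k Γ(G.left, ⊤) from
      AlgHom.ext fun w => fn_uPt (X := G) w]]
  rfl

variable {M : Type u} [AddCommGroup M] [Module k M]

/-- A subspace stable under rational points is stable. -/
theorem stable_of_pts [IsReduced G.left] [LocallyOfFiniteType G.hom] (m : VecGrp.GMod G M) (N : Submodule k M)
    (hN : ∀ (g : VecGrp.pt k k ⟶ G) (x : M), x ∈ N → ∃ y ∈ N, m.ρ k g ((1 : k) ⊗ₜ[k] x) = (1 : k) ⊗ₜ[k] y)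
    (B : Type u) [CommRing B] [Algebra k B] (g : VecGrp.pt k B ⟶ G) (x : M) (hx : x ∈ N) :
    m.ρ B g ((1 : B) ⊗ₜ[k] x) ∈ LinearMap.range (N.subtype.baseChange B) := by
  let z := m.ρ _ (uPt G) ((1 : Γ(G.left, ⊤)) ⊗ₜ[k] x)
  have hex : ∀ (B : Type u) [CommRing B] [Algebra k B] (w : B ⊗[k] M),
      N.mkQ.baseChange B w = 0 → w ∈ LinearMap.range (N.subtype.baseChange B) := fun B _ _ w hw =>
    (lTensor_exact B (LinearMap.exact_subtype_mkQ N) N.mkQ_surjective w).1 hw
  have hz : z ∈ LinearMap.range (N.subtype.baseChange Γ(G.left, ⊤)) := by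
    refine hex _ z (ext_pts (T := G) fun y => ?_)
    rw [VecGrp.baseChange_natural]
    show N.mkQ.baseChange k (VecGrp.Wmap (fn y) (m.ρ _ (uPt G) _)) = _
    rw [GModStable.ρ_naturality m, ptMap_fn_uPt]
    obtain ⟨y', hy', e⟩ := hN y x hx
    rw [e, LinearMap.baseChange_tmul, map_zero, Submodule.mkQ_apply, (Submodule.Quotient.mk_eq_zero N).2 hy',
      TensorProduct.tmul_zero]
  obtain ⟨w, hw⟩ := hz
  refine ⟨VecGrp.Wmap (fn g) w, ?_⟩
  rw [← VecGrp.baseChange_natural, hw]
  show VecGrp.Wmap (fn g) (m.ρ _ (uPt G) _) = _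
  rw [GModStable.ρ_naturality m, ptMap_fn_uPt]

variable [Smooth G.hom] [ConnectedSpace G.left]

/-- Lie–Kolchin: a common eigenvector. -/
theorem exists_eigen (hs : Red.IsSolvableGrp G) [Module.Finite k M] [Nontrivial M] (σ : VecGrp.GMod G M) :
    ∃ w : M, w ≠ 0 ∧ ∀ g : VecGrp.pt k k ⟶ G, ∃ c : k, σ.ρ k g ((1 : k) ⊗ₜ[k] w) = c • ((1 : k) ⊗ₜ[k] w) := by
  haveI : IsReduced G.left := Groth.Agent.GrpSchLib.isReduced_of_smooth_field G.hom
  haveI : IsDomain Γ(G.left, ⊤) := ObsOpen.isDomain_functions G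
  obtain ⟨A, _, _, ⟨eG⟩⟩ := exists_hopf G
  let εG : sp k A ≅ G := (Grp.forget _).mapIso eG
  haveI : IsMonHom εG.hom := inferInstanceAs (IsMonHom eG.hom.hom.hom)
  haveI : IsMonHom εG.inv := inferInstanceAs (IsMonHom eG.inv.hom.hom)
  haveI : IsIso εG.hom.left := ((Over.forget _).mapIso εG).isIso_hom
  haveI : Algebra.FiniteType k A := by
    have hw : εG.hom.left ≫ G.hom = Spec.map (CommRingCat.ofHom (algebraMap k A)) := Over.w εG.hom
    haveI : LocallyOfFiniteType (Spec.map (CommRingCat.ofHom (algebraMap k A))) :=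
      hw ▸ (MorphismProperty.cancel_left_of_respectsIso @LocallyOfFiniteType _ G.hom).2 inferInstance
    exact RingHom.finiteType_algebraMap.1 ((HasRingHomProperty.Spec_iff (P := @LocallyOfFiniteType)).1 this)
  let e : Γ(G.left, ⊤) ≃+* A := ((asIso εG.hom.left.appTop) ≪≫ Scheme.ΓSpecIso (CommRingCat.of A)).commRingCatIsoToRingEquiv
  haveI : IsDomain A := e.symm.toMulEquiv.isDomain
  have hconn : ∀ a : A, IsIdempotentElem a → a = 0 ∨ a = 1 := fun a ha => IsIdempotentElem.iff_eq_zero_or_one.1 ha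
  let Ψ : (VecGrp.pt k k ⟶ G) →* WithConv (A →ₐ[k] k) :=
    { toFun := fun g => Spec.mapMulEquiv.symm (g ≫ εG.inv)
      map_one' := by rw [MonObj.one_comp]; exact map_one _
      map_mul' := fun g g' => by rw [MonObj.mul_comp]; exact map_mul _ _ _ }
  have hΨ : Function.Surjective Ψ := fun a =>
    ⟨Spec.mapMulEquiv a ≫ εG.hom, by
      show Spec.mapMulEquiv.symm ((Spec.mapMulEquiv a ≫ εG.hom) ≫ εG.inv) = a
      rw [Category.assoc, εG.hom_inv_id, Category.comp_id]
      exact Spec.mapMulEquiv.symm_apply_apply a⟩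
  haveI : Group.IsSolvable (VecGrp.pt k k ⟶ G) := ⟨let ⟨n, hn⟩ := hs; ⟨n, hn _⟩⟩
  haveI : Group.IsSolvable (WithConv (A →ₐ[k] k)) := Group.isSolvable_of_surjective hΨ
  let m : VecGrp.GMod (sp k A) M :=
    { ρ := fun R _ _ =>
        { toFun := fun g => σ.ρ R (g ≫ εG.hom)
          map_one' := by rw [MonObj.one_comp, map_one]
          map_mul' := fun g g' => by rw [MonObj.mul_comp, map_mul] }
      naturality := fun {R R'} _ _ _ _ φ g x => by
        show _ = σ.ρ R' ((VecGrp.ptMap φ ≫ g) ≫ εG.hom) _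
        rw [Category.assoc]
        exact σ.naturality φ (g ≫ εG.hom) x }
  obtain ⟨δ, ⟨⟨hco, hcu⟩, hδ⟩, -⟩ := (Groth.Agent.S6094.result k A M).2 m
  letI cM : HopfRep.Comod k A M := ⟨δ, hco, hcu⟩
  obtain ⟨F, hmono, hsub, htop, hrank⟩ := Groth.Agent.ComodLib.exists_flag (Groth.Agent.S3266.result k A hconn) M
  have h1 : Module.finrank k (F 1) = 1 := hrank 1 Module.finrank_pos
  obtain ⟨w, hw0, hspan⟩ := finrank_eq_one_iff'.1 h1
  refine ⟨w, fun h => hw0 (Subtype.ext h), fun g => ?_⟩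
  let a := (Spec.mapMulEquiv.symm (g ≫ εG.inv)).ofConv
  obtain ⟨c, hc⟩ := hspan ⟨Groth.Agent.ComodLib.actF a.toLinearMap (w : M),
    Groth.Agent.ComodLib.subcomod_actF_mem (hsub 1) a.toLinearMap w.2⟩
  refine ⟨c, ?_⟩
  have h := hδ k (g ≫ εG.inv) (w : M)
  change σ.ρ k ((g ≫ εG.inv) ≫ εG.hom) _ = _ at h
  rw [Category.assoc, εG.inv_hom_id, Category.comp_id] at h
  rw [h]
  apply (TensorProduct.lid k M).injective
  have key : ∀ z : M ⊗[k] A, TensorProduct.lid k M (TensorProduct.comm k M k (LinearMap.lTensor M a.toLinearMap z)) =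
      Groth.Agent.ComodLib.slice a.toLinearMap z := by
    intro z
    induction z using TensorProduct.induction_on with
    | zero => simp
    | tmul x y => simp [Groth.Agent.ComodLib.slice_tmul]
    | add p q hp hq => simp only [map_add, hp, hq]
  rw [key, map_smul, TensorProduct.lid_tmul, one_smul]
  exact (congrArg Subtype.val hc).symm

variable {H : Over (Spec (CommRingCat.of k))} [GrpObj H] [Smooth H.hom] (i : H ⟶ G) [IsMonHom i]
  [IsClosedImmersion i.left]

theorem observable_of_solvable_connected (hs : Red.IsSolvableGrp G) : AGF.IsObservableIn k i := by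
  classical
  haveI : IsAffine H.left := isAffine_of_isAffineHom i.left
  haveI : IsReduced G.left := Groth.Agent.GrpSchLib.isReduced_of_smooth_field G.hom
  haveI : IsReduced H.left := Groth.Agent.GrpSchLib.isReduced_of_smooth_field H.hom
  obtain ⟨V, _, _, _, ρ, v, hv, hst, χ, hχ⟩ := ObsLine.exists_line i
  obtain ⟨φ, hφ⟩ := exists_dual_one (k := k) hv
  let f := mc ρ φ v
  have hf : ∀ (x : VecGrp.pt k k ⟶ G) (y : VecGrp.pt k k ⟶ H),
      fn (x * (y ≫ i)) f = fn y (Red.gmFn χ) * fn x f := by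
    intro x y
    simp only [f, fn_mc, map_mul, LinearEquiv.mul_apply, hχ, map_smul, smul_eq_mul, chiVal_eq]
  have hf1 : fn (1 : VecGrp.pt k k ⟶ G) f = 1 := by
    simp only [f, fn_mc, map_one]
    show pr φ k ((1 : k) ⊗ₜ[k] v) = 1
    rw [← one_smul k ((1 : k) ⊗ₜ[k] v), pr_smul_one, hφ, map_one, _root_.mul_one]
  let f' : Γ(G.left, ⊤) := (GrpObj.inv : G ⟶ G).left.appTop f
  have hf' : ∀ x : VecGrp.pt k k ⟶ G, fn x f' = fn x⁻¹ f := fun x => by
    rw [show x⁻¹ = x ≫ (GrpObj.inv : G ⟶ G) from rfl]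
    rfl
  let gen : Set Γ(G.left, ⊤) := Set.range fun d : VecGrp.pt k k ⟶ G => tr d f'
  let W := Submodule.span k gen
  obtain ⟨N, hfN, hN, hst'⟩ := GModStable.exists_fg_stable (reg (G := G)) (k ∙ f') (Submodule.fg_span_singleton f')
  haveI : Module.Finite k N := Module.Finite.iff_fg.2 hN
  have hWN : W ≤ N := Submodule.span_le.2 (by
    rintro _ ⟨d, rfl⟩
    obtain ⟨z, hz⟩ := hst' k d f' (hfN (Submodule.mem_span_singleton_self f'))
    show tr d f' ∈ N
    rw [← lid_reg, ← hz]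
    clear hz
    induction z using TensorProduct.induction_on with
    | zero => rw [map_zero, map_zero]; exact N.zero_mem
    | tmul b x =>
      rw [LinearMap.baseChange_tmul, Algebra.TensorProduct.lid_tmul]
      exact N.smul_mem b x.2
    | add p q hp hq => rw [map_add, map_add]; exact N.add_mem hp hq)
  haveI : Module.Finite k W := Submodule.finiteDimensional_of_le hWN
  have hWst : ∀ (d : VecGrp.pt k k ⟶ G) (w : Γ(G.left, ⊤)), w ∈ W → tr d w ∈ W := by
    intro d w hw
    induction hw using Submodule.span_induction with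
    | mem _ h =>
      obtain ⟨d', rfl⟩ := h
      exact Submodule.subset_span ⟨d * d', (ObsOpen.tr_tr d d' f').symm⟩
    | zero => rw [map_zero]; exact W.zero_mem
    | add p q _ _ hp hq => rw [map_add]; exact W.add_mem hp hq
    | smul c p _ hp => rw [map_smul]; exact W.smul_mem c hp
  obtain ⟨σ, hσ⟩ := exists_restrict (reg (G := G)) W (stable_of_pts _ W fun g x hx => ⟨tr g x, hWst g x hx, by
    apply (Algebra.TensorProduct.lid k Γ(G.left, ⊤)).injective
    rw [lid_reg, Algebra.TensorProduct.lid_tmul, one_smul]⟩)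
  haveI : Nontrivial W := by
    refine nontrivial_of_ne ⟨f', Submodule.subset_span ⟨1, eq_of_rational fun x => by rw [fn_tr, _root_.mul_one]⟩⟩ 0
      fun h => ?_
    have := congrArg (fn (1 : VecGrp.pt k k ⟶ G)) (congrArg Subtype.val h)
    rw [hf', inv_one, hf1, ZeroMemClass.coe_zero, map_zero] at this
    exact one_ne_zero this
  obtain ⟨w, hw0, hw⟩ := exists_eigen hs σ
  have htr : ∀ d, ∃ c : k, tr d (w : Γ(G.left, ⊤)) = c • (w : Γ(G.left, ⊤)) := fun d => by
    obtain ⟨c, hc⟩ := hw d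
    refine ⟨c, ?_⟩
    have h := congrArg (fun z => Algebra.TensorProduct.lid k Γ(G.left, ⊤) (W.subtype.baseChange k z)) hc
    simp only [hσ, map_smul, LinearMap.baseChange_tmul] at h
    rw [Submodule.subtype_apply, lid_reg, Algebra.TensorProduct.lid_tmul, one_smul] at h
    exact h
  let u₀ := fn (1 : VecGrp.pt k k ⟶ G) (w : Γ(G.left, ⊤))
  have hmul : ∀ x d : VecGrp.pt k k ⟶ G, fn (x * d) (w : Γ(G.left, ⊤)) * u₀ =
      fn x (w : Γ(G.left, ⊤)) * fn d (w : Γ(G.left, ⊤)) := by
    intro x d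
    obtain ⟨c, hc⟩ := htr d
    have h1 := congrArg (fn x) hc
    have h2 := congrArg (fn (1 : VecGrp.pt k k ⟶ G)) hc
    rw [fn_tr, map_smul, smul_eq_mul] at h1 h2
    rw [_root_.one_mul] at h2
    rw [h1, h2]
    ring
  have hwH : ∀ (x : Γ(G.left, ⊤)), x ∈ W → ∀ (y : VecGrp.pt k k ⟶ H) (d : VecGrp.pt k k ⟶ G),
      fn y (Red.gmFn χ) * fn ((y ≫ i) * d) x = fn d x := by
    intro x hx y d
    induction hx using Submodule.span_induction with
    | mem _ h =>
      obtain ⟨d', rfl⟩ := h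
      rw [fn_tr, fn_tr, hf', hf', _root_.mul_assoc, _root_.mul_inv_rev (y ≫ i), ← GrpObj.inv_comp, ← hf,
        _root_.mul_assoc, GrpObj.inv_comp, inv_mul_cancel, _root_.mul_one]
    | zero => simp
    | add p q _ _ hp hq => rw [map_add, map_add, mul_add, hp, hq]
    | smul c p _ hp => rw [map_smul, map_smul, smul_eq_mul, smul_eq_mul, mul_left_comm, hp]
  have hu₀ : u₀ ≠ 0 := fun h0 => hw0 (Subtype.ext (eq_zero_of_rational _ fun x => by
    obtain ⟨c, hc⟩ := htr x
    have h2 := congrArg (fn (1 : VecGrp.pt k k ⟶ G)) hc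
    rw [fn_tr, map_smul, smul_eq_mul, _root_.one_mul] at h2
    rw [h2]
    exact mul_eq_zero_of_right c h0))
  obtain ⟨N', _, _, _, σ', w', hw', hσ'⟩ := exists_inverse_of_vanish i χ f hf (f * (w : Γ(G.left, ⊤)))
    (rTransInv_of_pts i _ fun x y => by
      refine mul_right_cancel₀ hu₀ ?_
      rw [map_mul, map_mul, hf, _root_.mul_assoc, hmul x (y ≫ i)]
      have h := hwH _ w.2 y 1
      rw [_root_.mul_one] at h
      change fn y (Red.gmFn χ) * fn (y ≫ i) (w : Γ(G.left, ⊤)) = u₀ at h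
      linear_combination (fn x f * fn x (w : Γ(G.left, ⊤))) * h)
    (Ideal.le_radical (Ideal.mem_span_singleton.2 (dvd_mul_right f _)))
    (fun h0 => by
      have := congrArg (fn (1 : VecGrp.pt k k ⟶ G)) h0
      rw [map_mul, hf1, map_zero, _root_.one_mul] at this
      exact hu₀ this)
  exact observable_of_line i ρ hv χ hχ σ' hw' hσ' fun g ⟨c, _, hc'⟩ => hst g ⟨c, hc'⟩

end Groth.Agent.Deform.ObsSolvable
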