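import Groth.Agent.Deform.ObsLine
import Groth.Agent.Deform.ObsUnip
import Groth.Agent.Deform.Luna.Curve

/-! Tori are observable. -/

universe u

open CategoryTheory MonoidalCategory CartesianMonoidalCategory MonObj GrpObj AlgebraicGeometry
open scoped TensorProduct

namespace Groth.Agent.Deform.ObsTorus
attribute [local instance] CategoryTheory.Hom.monoid CategoryTheory.Hom.group
set_option linter.style.haveILetI false
set_option linter.unusedSectionVars false
set_option maxHeartbeats 1000000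
open GModStable RTrans Observ ObsVanish ObsSemi ObsExt ObsUnip ObsSolvable
attribute [local instance] GModStable.algΓ

variable {k : Type u} [Field k] [IsAlgClosed k]
variable {G : Over (Spec (CommRingCat.of k))} [GrpObj G] [IsAffine G.left] [Smooth G.hom]

/-- The regular action of a rational point is right translation. -/
theorem act_reg (d : VecGrp.pt k k ⟶ G) (f : Γ(G.left, ⊤)) : act (reg (G := G)) d f = tr d f := by
  have h := lid_reg d f
  generalize hz : (reg (G := G)).ρ k d ((1 : k) ⊗ₜ[k] f) = z at h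
  have h2 : act (reg (G := G)) d f = TensorProduct.lid k Γ(G.left, ⊤) z := hz ▸ rfl
  rw [h2]
  rw [← h]
  clear hz h2 h
  induction z using TensorProduct.induction_on with
  | zero => exact (map_zero _).trans (map_zero _).symm
  | tmul c a => exact (TensorProduct.lid_tmul _ _).trans (Algebra.TensorProduct.lid_tmul _ _).symm
  | add p q hp hq => exact (map_add (TensorProduct.lid k Γ(G.left, ⊤)) p q).trans ((congrArg₂ (· + ·) hp hq).trans (map_add (Algebra.TensorProduct.lid k Γ(G.left, ⊤)) p q).symm)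

/-- **A torus is observable.** -/
theorem observable_of_torus {T : Over (Spec (CommRingCat.of k))} [GrpObj T] (hT : Red.IsTorus T) (i : T ⟶ G)
    [IsMonHom i] [IsClosedImmersion i.left] : AGF.IsObservableIn k i := by
  classical
  obtain ⟨hTa, hTl, hTs, hTc⟩ := Deform.TorusBasic.props hT
  haveI := hTs; haveI := hTa
  haveI : IsReduced G.left := Groth.Agent.GrpSchLib.isReduced_of_smooth_field G.hom
  haveI : IsReduced T.left := Groth.Agent.GrpSchLib.isReduced_of_smooth_field T.hom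
  haveI : QuasiCompact G.hom := inferInstance
  haveI : IsSeparated G.hom := inferInstance
  obtain ⟨V, _, _, _, ρ, v, hv, hst, χ₀, hχ₀⟩ := ObsLine.exists_line i
  obtain ⟨χ, hχm, hχ⟩ := ObsSemi.exists_char i ρ hv fun y => ⟨_, hχ₀ k y⟩
  obtain ⟨s, hs⟩ : ∃ s : 𝟙_ (Over (Spec (CommRingCat.of k))) ⟶ VecGrp.pt k k, toUnit _ ≫ s = 𝟙 _ :=
    ⟨Over.homMk (𝟙 _) (by
      show 𝟙 _ ≫ Spec.map (CommRingCat.ofHom (algebraMap k k)) = 𝟙 _
      rw [Category.id_comp, show algebraMap k k = RingHom.id k from rfl, CommRingCat.ofHom_id, Spec.map_id]),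
    Over.OverMorphism.ext (by
      show Spec.map (CommRingCat.ofHom (algebraMap k k)) ≫ 𝟙 _ = 𝟙 _
      rw [Category.comp_id, show algebraMap k k = RingHom.id k from rfl, CommRingCat.ofHom_id, Spec.map_id])⟩
  let ψ : Γ(T.left, ⊤) := Red.gmFn χ⁻¹
  have hχmul : ∀ y y' : VecGrp.pt k k ⟶ T, fn (y * y') (Red.gmFn χ) = fn y (Red.gmFn χ) * fn y' (Red.gmFn χ) := by
    intro y y'
    simp only [← chiVal_eq, VecGrp.chiVal, MonObj.mul_comp, GmPts.gmFn_mul, map_mul]
  have hψinv : ∀ y : VecGrp.pt k k ⟶ T, fn y ψ = (fn y (Red.gmFn χ))⁻¹ := fun y =>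
    eq_inv_of_mul_eq_one_left (gmFn_inv_fn χ y)
  have hψmul : ∀ y y' : VecGrp.pt k k ⟶ T, fn (y * y') ψ = fn y ψ * fn y' ψ := fun y y' => by
    rw [hψinv, hψinv, hψinv, hχmul, _root_.mul_inv]
  have hψne : ∀ y : VecGrp.pt k k ⟶ T, fn y ψ ≠ 0 := fun y h => by
    have := gmFn_inv_fn χ y
    rw [show fn y (Red.gmFn χ⁻¹) = fn y ψ from rfl, h, zero_mul] at this
    exact zero_ne_one this
  obtain ⟨f₀, hf₀⟩ := (IsClosedImmersion.isAffine_surjective_of_isAffine i.left).2 ψ
  have hf₀' : ∀ y : VecGrp.pt k k ⟶ T, fn (y ≫ i) f₀ = fn y ψ := fun y => by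
    rw [← hf₀]
    rfl
  obtain ⟨W, hle, hfg, hW⟩ := GModStable.exists_fg_stable (reg (G := G)) (k ∙ f₀) (Submodule.fg_span_singleton f₀)
  haveI : Module.Finite k W := Module.Finite.iff_fg.2 hfg
  have hmem : ∀ g : VecGrp.pt k k ⟶ G, tr g f₀ ∈ W := fun g => by
    obtain ⟨z, hz⟩ := hW k g f₀ (hle (Submodule.mem_span_singleton_self f₀))
    have : tr g f₀ = (TensorProduct.lid k W z : Γ(G.left, ⊤)) := by
      rw [← act_reg]
      show TensorProduct.lid k Γ(G.left, ⊤) ((reg (G := G)).ρ k g ((1 : k) ⊗ₜ[k] f₀)) = _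
      rw [← hz]
      clear hz
      induction z using TensorProduct.induction_on with
      | zero => simp
      | tmul c w => rw [LinearMap.baseChange_tmul, TensorProduct.lid_tmul, TensorProduct.lid_tmul]; rfl
      | add p q hp hq => rw [map_add, map_add, hp, hq, map_add, Submodule.coe_add]
    rw [this]
    exact Submodule.coe_mem _
  let b := Module.finBasis k W
  choose φ hφ using fun j => LinearMap.exists_extend (b.coord j)
  let F : Fin (Module.finrank k W) → Γ(T.left, ⊤) := fun j => fn (uPt T ≫ i) (mc (reg (G := G)) (φ j) f₀)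
  obtain ⟨D, X, a, lam, hF, hX, hlam⟩ := Luna.exists_curve T hT F
  let P : (𝟙_ (Over (Spec (CommRingCat.of k))) ⟶ T) → (VecGrp.pt k k ⟶ T) := fun t => toUnit _ ≫ t
  have hPs : ∀ y : VecGrp.pt k k ⟶ T, ∃ t, P t = y := fun y => ⟨s ≫ y, by
    show toUnit _ ≫ s ≫ y = y
    rw [← Category.assoc, hs, Category.id_comp]⟩
  have hPmul : ∀ t t', P (t * t') = P t * P t' := fun t t' => MonObj.comp_mul _ _ _
  have hev : ∀ (t) (q : Γ(T.left, ⊤)), GrpSchLib.Kunneth.evPt t q = fn (P t) q := fun t q => by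
    show (Scheme.ΓSpecIso (CommRingCat.of k)).hom (t.left.appTop q) = (Scheme.ΓSpecIso (CommRingCat.of k)).hom ((toUnit (VecGrp.pt k k) ≫ t).left.appTop q)
    have : (toUnit (VecGrp.pt k k)).left.appTop = 𝟙 _ := by
      have e : (toUnit (VecGrp.pt k k)).left = 𝟙 _ := by
        show Spec.map (CommRingCat.ofHom (algebraMap k k)) = 𝟙 _
        rw [show algebraMap k k = RingHom.id k from rfl, CommRingCat.ofHom_id, Spec.map_id]
      rw [e]; rfl
    rw [Over.comp_left, Scheme.Hom.comp_appTop, this]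
    rfl
  let w : ℤ → Γ(G.left, ⊤) := fun d => ∑ j, a j d • (b j : Γ(G.left, ⊤))
  have htr : ∀ t, tr (P t ≫ i) f₀ = ∑ d ∈ D, X d t • w d := fun t => by
    have hc : ∀ j, b.repr ⟨_, hmem (P t ≫ i)⟩ j = ∑ d ∈ D, a j d * X d t := fun j => by
      rw [← hF, hev]
      show b.coord j _ = fn (P t) (F j)
      rw [show fn (P t) (F j) = fn (P t ≫ i) (mc (reg (G := G)) (φ j) f₀) by
        show fn (P t) (fn (uPt T ≫ i) _) = _
        rw [← AlgHom.comp_apply, ← fn_ptMap, ← Category.assoc, ptMap_fn_uPt], fn_mc_act, act_reg, ← hφ j]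
      rfl
    conv_lhs => rw [show tr (P t ≫ i) f₀ = ((⟨_, hmem (P t ≫ i)⟩ : W) : Γ(G.left, ⊤)) from rfl,
      ← b.sum_repr ⟨_, hmem (P t ≫ i)⟩, Submodule.coe_sum]
    simp only [hc, Finset.sum_smul, w, Finset.smul_sum, smul_smul, Submodule.coe_sum, Submodule.coe_smul]
    rw [Finset.sum_comm]
    simp only [_root_.mul_comm]
  have hevt : ∀ (t) (z : VecGrp.pt k k ⟶ G), fn z (tr (P t ≫ i) f₀) = ∑ d ∈ D, X d t * fn z (w d) := fun t z => by
    rw [htr, map_sum]
    exact Finset.sum_congr rfl fun d _ => by rw [map_smul, smul_eq_mul]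
  have hsemi : ∀ d ∈ D, ∀ t, tr (P t ≫ i) (w d) = X d t • w d := fun d hd t => eq_of_rational fun z => by
    rw [fn_tr, map_smul, smul_eq_mul, ← sub_eq_zero]
    refine Luna.coeff_eq_zero (a := fun d => fn (z * (P t ≫ i)) (w d) - X d t * fn z (w d)) (fun u => ?_) d hd
    simp only [mul_sub, Finset.sum_sub_distrib, sub_eq_zero]
    calc ∑ e ∈ D, (u : k) ^ e * fn (z * (P t ≫ i)) (w e)
        = ∑ e ∈ D, X e (lam u) * fn (z * (P t ≫ i)) (w e) :=
          Finset.sum_congr rfl fun e he => by rw [hlam e he u]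
      _ = fn (z * (P t ≫ i)) (tr (P (lam u) ≫ i) f₀) := (hevt _ _).symm
      _ = fn z (tr (P (t * lam u) ≫ i) f₀) := by
          rw [fn_tr, fn_tr, _root_.mul_assoc, ← MonObj.mul_comp, hPmul]
      _ = ∑ e ∈ D, (u : k) ^ e * (X e t * fn z (w e)) := by
          rw [hevt]
          exact Finset.sum_congr rfl fun e he => by rw [hX, hlam e he u]; ring
  have hψsum : ∀ t, fn (P t) ψ = ∑ d ∈ D, X d t * fn (1 : VecGrp.pt k k ⟶ G) (w d) := fun t => by
    rw [← hevt, fn_tr, _root_.one_mul, hf₀']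
  have hex : ∃ d ∈ D, fn (1 : VecGrp.pt k k ⟶ G) (w d) ≠ 0 := by
    by_contra hc
    push_neg at hc
    refine hψne (P 1) ?_
    rw [hψsum]
    exact Finset.sum_eq_zero fun d hd => by rw [hc d hd, mul_zero]
  obtain ⟨d, hd, hd0⟩ := hex
  have hXd : ∀ t, X d t = fn (P t) ψ := fun t => by
    refine sub_eq_zero.1 ((mul_eq_zero.1 (Luna.coeff_eq_zero
      (a := fun e => (X e t - fn (P t) ψ) * fn (1 : VecGrp.pt k k ⟶ G) (w e)) (fun u => ?_) d hd)).resolve_right hd0)
    simp only [sub_mul, mul_sub, Finset.sum_sub_distrib, sub_eq_zero]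
    calc ∑ e ∈ D, (u : k) ^ e * (X e t * fn (1 : VecGrp.pt k k ⟶ G) (w e))
        = ∑ e ∈ D, X e (t * lam u) * fn (1 : VecGrp.pt k k ⟶ G) (w e) :=
          Finset.sum_congr rfl fun e he => by rw [hX, hlam e he u]; ring
      _ = fn (P (t * lam u)) ψ := (hψsum _).symm
      _ = fn (P t) ψ * fn (P (lam u)) ψ := by rw [hPmul, hψmul]
      _ = ∑ e ∈ D, (u : k) ^ e * (fn (P t) ψ * fn (1 : VecGrp.pt k k ⟶ G) (w e)) := by
          rw [hψsum (lam u), Finset.mul_sum]
          exact Finset.sum_congr rfl fun e he => by rw [hlam e he u]; ring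
  have hw0 : w d ≠ 0 := fun h => hd0 (by rw [h, map_zero])
  refine observable_of_line i ρ hv χ hχ reg hw0 (fun B _ _ y => ?_) fun g ⟨c, _, hc⟩ => hst g ⟨c, hc⟩
  rw [chiVal_eq]
  refine semi_of_pts i reg (w d) _ (fun z => ?_) B y
  obtain ⟨t, rfl⟩ := hPs z
  rw [act_apply, act_reg, hsemi d hd t, hXd, TensorProduct.tmul_smul]

end Groth.Agent.Deform.ObsTorus
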