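import Groth.Agent.Deform.Observ
import Groth.Agent.GrpSchLib.SmoothRegular
import Groth.Agent.RegLoc6.Basic
import Groth.Agent.ComodLib.Orbits

/-! Invariant functions of an observable subgroup vanishing on a given stable closed subset. -/

universe u

open CategoryTheory Limits AlgebraicGeometry MonoidalCategory CartesianMonoidalCategory MonObj GrpObj
open scoped TensorProduct

attribute [local instance] CategoryTheory.Hom.monoid CategoryTheory.Hom.group
set_option linter.style.haveILetI false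
set_option maxHeartbeats 1000000

namespace Groth.Agent.Deform.ObsVanish

open GModStable RTrans Observ
attribute [local instance] GModStable.algΓ

variable {k : Type u} [Field k] {G : Over (Spec (CommRingCat.of k))} [IsAffine G.left] [LocallyOfFiniteType G.hom]

theorem finiteType (G : Over (Spec (CommRingCat.of k))) [IsAffine G.left] [LocallyOfFiniteType G.hom] :
    Algebra.FiniteType k Γ(G.left, ⊤) := by
  haveI : LocallyOfFiniteType (Spec.map (CommRingCat.ofHom (algebraMap k Γ(G.left, ⊤)))) := by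
    have e : Spec.map (CommRingCat.ofHom (algebraMap k Γ(G.left, ⊤))) = G.left.isoSpec.inv ≫ G.hom :=
      (Over.w (uPt G)).symm
    rw [e]
    infer_instance
  exact RingHom.finiteType_algebraMap.1 ((HasRingHomProperty.Spec_iff (P := @LocallyOfFiniteType)).1 this)

/-- Every character of the ring of functions is evaluation at a rational point. -/
theorem exists_fn_eq (ψ : Γ(G.left, ⊤) →ₐ[k] k) : ∃ x : VecGrp.pt k k ⟶ G, ∀ f, fn x f = ψ f := by
  refine ⟨VecGrp.ptMap ψ ≫ uPt G, fun f => ?_⟩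
  rw [fn_ptMap, AlgHom.comp_apply, fn_uPt]

/-- Rational points are dense in closed subschemes. -/
theorem exists_pt_of_not_mem_radical [IsAlgClosed k] {I : Ideal Γ(G.left, ⊤)} {a : Γ(G.left, ⊤)}
    (ha : a ∉ I.radical) : ∃ x : VecGrp.pt k k ⟶ G, (∀ f ∈ I, fn x f = 0) ∧ fn x a ≠ 0 := by
  haveI := finiteType G
  haveI : IsJacobsonRing Γ(G.left, ⊤) := isJacobsonRing_of_finiteType (A := k)
  rw [Ideal.radical_eq_jacobson, Ideal.jacobson, Ideal.mem_sInf] at ha
  push_neg at ha
  obtain ⟨m, ⟨hIm, hm⟩, ham⟩ := ha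
  obtain ⟨ψ, hψ⟩ := ComodLib.exists_point (k := k) m hm.ne_top
  obtain ⟨x, hx⟩ := exists_fn_eq ψ
  refine ⟨x, fun f hf => (hx f).trans (hψ (hIm hf)), fun h0 => ham ?_⟩
  rw [hm.eq_of_le (RingHom.ker_ne_top _) hψ]
  show ψ a = 0
  rw [← hx, h0]

theorem eq_of_rational [IsAlgClosed k] [IsReduced G.left] {f g : Γ(G.left, ⊤)}
    (h : ∀ x : VecGrp.pt k k ⟶ G, fn x f = fn x g) : f = g :=
  sub_eq_zero.1 (eq_zero_of_rational _ fun x => by rw [map_sub, h, sub_self])

theorem comax_minimalPrimes [Smooth G.hom] {P Q : Ideal Γ(G.left, ⊤)} (hP : P ∈ minimalPrimes Γ(G.left, ⊤))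
    (hQ : Q ∈ minimalPrimes Γ(G.left, ⊤)) (hne : P ≠ Q) : P ⊔ Q = ⊤ := by
  by_contra htop
  obtain ⟨m, hm, hle⟩ := Ideal.exists_le_maximal _ htop
  haveI := hm.isPrime
  let y : G.left := (isAffineOpen_top G.left).fromSpec ⟨m, hm.isPrime⟩
  let : Algebra Γ(G.left, ⊤) (G.left.presheaf.stalk y) :=
    TopCat.Presheaf.algebra_section_stalk (U := ⊤) G.left.presheaf ⟨y, trivial⟩
  haveI : IsLocalization.AtPrime (G.left.presheaf.stalk y) m :=
    (isAffineOpen_top G.left).isLocalization_stalk' ⟨m, hm.isPrime⟩ trivial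
  haveI := GrpSchLib.isRegularLocalRing_stalk_of_smooth G.hom y
  haveI : IsDomain (G.left.presheaf.stalk y) := RegLoc6.isDomain_of_isRegularLocalRing _
  let K : Ideal Γ(G.left, ⊤) := RingHom.ker (algebraMap Γ(G.left, ⊤) (G.left.presheaf.stalk y))
  haveI : K.IsPrime := RingHom.ker_isPrime _
  have key : ∀ P' : Ideal Γ(G.left, ⊤), P' ∈ minimalPrimes Γ(G.left, ⊤) → P' ≤ m → P' = K := by
    intro P' hP' hPm
    have hK : K ≤ P' := by
      intro a ha
      obtain ⟨s, hs⟩ := (IsLocalization.map_eq_zero_iff m.primeCompl (G.left.presheaf.stalk y) a).1 ha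
      exact ((Ideal.minimalPrimes_isPrime hP').mem_or_mem (by rw [hs]; exact P'.zero_mem)).resolve_left
        fun h => s.2 (hPm h)
    exact le_antisymm (hP'.2 ⟨inferInstance, bot_le⟩ hK) hK
  exact hne ((key P hP (le_sup_left.trans hle)).trans (key Q hQ (le_sup_right.trans hle)).symm)

/-- The indicator function of an irreducible component. -/
theorem exists_idempotent [IsAlgClosed k] [Smooth G.hom] [IsReduced G.left] {P : Ideal Γ(G.left, ⊤)}
    (hP : P ∈ minimalPrimes Γ(G.left, ⊤)) :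
    ∃ e : Γ(G.left, ⊤), IsIdempotentElem e ∧ ∀ x : VecGrp.pt k k ⟶ G, fn x e = 1 ↔ ∀ p ∈ P, fn x p = 0 := by
  classical
  haveI := finiteType G
  haveI : IsNoetherianRing Γ(G.left, ⊤) := Algebra.FiniteType.isNoetherianRing k _
  let others := (minimalPrimes.finite_of_isNoetherianRing Γ(G.left, ⊤)).toFinset.erase P
  have hsup : P ⊔ others.inf id = ⊤ := by
    rw [Finset.inf_eq_iInf]
    exact Ideal.sup_iInf_eq_top fun Q hQ =>
      comax_minimalPrimes hP ((Set.Finite.mem_toFinset _).1 (Finset.mem_of_mem_erase hQ))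
        (Finset.ne_of_mem_erase hQ).symm
  obtain ⟨p, hp, q, hq, hpq⟩ := Submodule.mem_sup.1 (hsup ▸ Submodule.mem_top : (1 : Γ(G.left, ⊤)) ∈ _)
  have hpt : ∀ x : VecGrp.pt k k ⟶ G, (fn x q = 1 ↔ ∀ a ∈ P, fn x a = 0) ∧ (fn x q = 0 ∨ fn x q = 1) := by
    intro x
    have h1 : (∀ a ∈ P, fn x a = 0) → fn x q = 1 := fun h => by
      have := congrArg (fn x) hpq
      rwa [map_add, map_one, h p hp, zero_add] at this
    haveI : (RingHom.ker (fn x)).IsPrime := RingHom.ker_isPrime _
    obtain ⟨Q, hQ, hQle⟩ := Ideal.exists_minimalPrimes_le (I := (⊥ : Ideal Γ(G.left, ⊤))) (J := RingHom.ker (fn x)) bot_le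
    by_cases hPQ : Q = P
    · subst hPQ
      exact ⟨⟨fun _ a ha => hQle ha, h1⟩, Or.inr (h1 fun a ha => hQle ha)⟩
    · have hq0 : fn x q = 0 := hQle ((Finset.inf_le (f := id) (Finset.mem_erase.2
        ⟨hPQ, (Set.Finite.mem_toFinset _).2 hQ⟩) : others.inf id ≤ Q) hq)
      exact ⟨⟨fun h => absurd (hq0.symm.trans h) zero_ne_one, h1⟩, Or.inl hq0⟩
  refine ⟨q, eq_of_rational fun x => ?_, fun x => (hpt x).1⟩
  rw [map_mul]
  rcases (hpt x).2 with h | h <;> simp [h]

theorem finite_idempotents (R : Type u) [CommRing R] [IsNoetherianRing R] [_root_.IsReduced R] :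
    {e : R | IsIdempotentElem e}.Finite := by
  classical
  have hfin := minimalPrimes.finite_of_isNoetherianRing R
  refine Set.Finite.of_finite_image (f := fun e => {P ∈ minimalPrimes R | e ∈ P})
    (hfin.finite_subsets.subset ?_) ?_
  · rintro _ ⟨e, -, rfl⟩
    exact Set.sep_subset _ _
  · intro e he e' he' h
    have key : ∀ a b : R, IsIdempotentElem b → (∀ P ∈ minimalPrimes R, b ∈ P → a ∈ P) → a * b = a := by
      intro a b hb hab
      have h0 : a * (1 - b) ∈ nilradical R := by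
        rw [nilradical, ← Ideal.sInf_minimalPrimes, Ideal.mem_sInf]
        intro P hP
        haveI := Ideal.minimalPrimes_isPrime hP
        by_cases hbP : b ∈ P
        · exact P.mul_mem_right _ (hab P hP hbP)
        · refine P.mul_mem_left _ (((Ideal.IsPrime.mem_or_mem ‹_› (x := b) (y := 1 - b) ?_)).resolve_left hbP)
          rw [mul_sub, _root_.mul_one, hb.eq, sub_self]
          exact P.zero_mem
      rw [nilradical_eq_zero, Ideal.zero_eq_bot, Ideal.mem_bot, mul_sub, _root_.mul_one, sub_eq_zero] at h0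
      exact h0.symm
    have h1 := key e e' he' fun P hP h' => ((Set.ext_iff.1 h P).2 ⟨hP, h'⟩).2
    have h2 := key e' e he fun P hP h' => ((Set.ext_iff.1 h P).1 ⟨hP, h'⟩).2
    rw [← h1, mul_comm, h2]

section Group

variable [GrpObj G]

/-- Right translation of functions by a rational point. -/
noncomputable def tr (d : VecGrp.pt k k ⟶ G) : Γ(G.left, ⊤) →ₐ[k] Γ(G.left, ⊤) :=
  fn (uPt G * (VecGrp.ptMap (Algebra.ofId k Γ(G.left, ⊤)) ≫ d))

omit [LocallyOfFiniteType G.hom] in
theorem fn_tr (d x : VecGrp.pt k k ⟶ G) (f : Γ(G.left, ⊤)) : fn x (tr d f) = fn (x * d) f := by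
  rw [tr, ← AlgHom.comp_apply, ← fn_ptMap, MonObj.comp_mul, ptMap_fn_uPt, ← Category.assoc,
    show VecGrp.ptMap (fn x) ≫ VecGrp.ptMap (Algebra.ofId k Γ(G.left, ⊤)) = 𝟙 _ from
      (to_pt_unique _).trans (to_pt_unique _).symm, Category.id_comp]

omit [LocallyOfFiniteType G.hom] in
/-- Invariance may be tested on rational points. -/
theorem rTransInv_of_pts [IsAlgClosed k] [IsReduced G.left] [LocallyOfFiniteType G.hom]
    {T : Over (Spec (CommRingCat.of k))} [IsAffine T.left] [IsReduced T.left] [LocallyOfFiniteType T.hom]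
    (i : T ⟶ G) (f : Γ(G.left, ⊤))
    (h : ∀ (x : VecGrp.pt k k ⟶ G) (y : VecGrp.pt k k ⟶ T), fn (x * (y ≫ i)) f = fn x f) :
    AGF.IsRTransInv i f := by
  let B := Γ(T.left, ⊤) ⊗[k] Γ(G.left, ⊤)
  let x₀ : VecGrp.pt k B ⟶ G := VecGrp.ptMap Algebra.TensorProduct.includeRight ≫ uPt G
  let y₀ : VecGrp.pt k B ⟶ T := VecGrp.ptMap (Algebra.TensorProduct.includeLeft (S := k)) ≫ uPt T
  have key : fn (x₀ * (y₀ ≫ i)) f = fn x₀ f := by
    let b := Module.Free.chooseBasis k Γ(G.left, ⊤)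
    apply (Algebra.TensorProduct.basis Γ(T.left, ⊤) b).repr.injective
    refine Finsupp.ext fun j => ?_
    rw [← sub_eq_zero]
    refine eq_zero_of_rational (G := T) _ fun y => ?_
    let a : B →ₐ[k] Γ(G.left, ⊤) := Algebra.TensorProduct.lift ((Algebra.ofId k _).comp (fn y))
      (AlgHom.id k _) fun _ _ => Commute.all _ _
    have hy : ∀ z : B, fn y ((Algebra.TensorProduct.basis Γ(T.left, ⊤) b).repr z j) = b.repr (a z) j := by
      intro z
      induction z using TensorProduct.induction_on with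
      | zero => simp
      | add p q hp hq => simp only [map_add, Finsupp.add_apply, hp, hq]
      | tmul c e =>
        have ha : a (c ⊗ₜ[k] e) = fn y c • e := (Algebra.TensorProduct.lift_tmul _ _ _ _ _).trans (by rw [Algebra.smul_def]; rfl)
        rw [ha, map_smul, Finsupp.smul_apply, smul_eq_mul, Algebra.TensorProduct.basis_repr_tmul,
          Finsupp.smul_apply, Finsupp.mapRange_apply, smul_eq_mul, map_mul, AlgHom.commutes,
          Algebra.algebraMap_self, RingHom.id_apply]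
    rw [map_sub, sub_eq_zero, hy, hy, ← AlgHom.comp_apply, ← AlgHom.comp_apply, ← fn_ptMap, ← fn_ptMap]
    have e1 : a.comp Algebra.TensorProduct.includeRight = AlgHom.id k Γ(G.left, ⊤) := Algebra.TensorProduct.lift_comp_includeRight _ _ fun _ _ => Commute.all _ _
    have e2 : a.comp (Algebra.TensorProduct.includeLeft (S := k)) = (Algebra.ofId k _).comp (fn y) :=
      Algebra.TensorProduct.lift_comp_includeLeft _ _ _
    have hx₀ : VecGrp.ptMap a ≫ x₀ = uPt G := by
      simp only [x₀]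
      rw [← Category.assoc, ptMap_comp, e1]
      conv_rhs => rw [← ptMap_fn_uPt (uPt G)]
      rw [show fn (uPt G) = AlgHom.id k Γ(G.left, ⊤) from AlgHom.ext fun w => fn_uPt (X := G) w]
    have hy₀ : VecGrp.ptMap a ≫ y₀ = VecGrp.ptMap (Algebra.ofId k Γ(G.left, ⊤)) ≫ y := by
      simp only [y₀]
      rw [← Category.assoc, ptMap_comp, e2, ← ptMap_comp, Category.assoc, ptMap_fn_uPt]
    congr 2
    rw [MonObj.comp_mul, hx₀, ← Category.assoc, hy₀, Category.assoc]
    show tr (y ≫ i) f = fn (uPt G) f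
    rw [fn_uPt]
    exact eq_of_rational fun x => by rw [fn_tr]; exact h x y
  refine rTransInv_of_forall i f fun C _ _ x y => ?_
  let c : B →ₐ[k] C := Algebra.TensorProduct.lift (fn y) (fn x) (fun p q => Commute.all (fn y p) (fn x q))
  have hx : VecGrp.ptMap c ≫ x₀ = x := by
    simp only [x₀]
    rw [← Category.assoc, ptMap_comp, show c.comp Algebra.TensorProduct.includeRight = fn x from Algebra.TensorProduct.lift_comp_includeRight (fn y) (fn x) fun p q => Commute.all (fn y p) (fn x q),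
      ptMap_fn_uPt]
  have hy : VecGrp.ptMap c ≫ y₀ = y := by
    simp only [y₀]
    rw [← Category.assoc, ptMap_comp,
      show c.comp (Algebra.TensorProduct.includeLeft (S := k)) = fn y from Algebra.TensorProduct.lift_comp_includeLeft (fn y) (fn x) fun p q => Commute.all (fn y p) (fn x q), ptMap_fn_uPt]
  have h2 := congrArg c key
  rwa [← AlgHom.comp_apply, ← AlgHom.comp_apply, ← fn_ptMap, ← fn_ptMap, MonObj.comp_mul, hx, ← Category.assoc, hy]
    at h2

variable [IsAlgClosed k] [Smooth G.hom] [IsReduced G.left]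
variable {T : Over (Spec (CommRingCat.of k))} [GrpObj T] (i : T ⟶ G) [IsMonHom i] [IsAffine T.left] [IsReduced T.left]
  [LocallyOfFiniteType T.hom]

/-- An ideal with a stable zero set other than the whole group contains a nonzero invariant function up to
radical: some nonzero invariant function vanishes on the zero set. -/
theorem exists_invariant_vanishing (hobs : AGF.IsObservableIn k i) (I : Ideal Γ(G.left, ⊤))
    (hst : ∀ (x : VecGrp.pt k k ⟶ G) (h : VecGrp.pt k k ⟶ T), (∀ f ∈ I, fn x f = 0) →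
      ∀ f ∈ I, fn (x * (h ≫ i)) f = 0)
    (hne : I ≠ ⊥) :
    ∃ a : Γ(G.left, ⊤), AGF.IsRTransInv i a ∧ a ∈ I.radical ∧ a ≠ 0 := by
  classical
  haveI := finiteType G
  haveI : IsNoetherianRing Γ(G.left, ⊤) := Algebra.FiniteType.isNoetherianRing k _
  haveI : _root_.IsReduced Γ(G.left, ⊤) := inferInstance
  -- a component not contained in the zero set
  obtain ⟨d, hdI, hd0⟩ := Submodule.exists_mem_ne_zero_of_ne_bot hne
  obtain ⟨P, hP, hdP⟩ : ∃ P ∈ minimalPrimes Γ(G.left, ⊤), d ∉ P := by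
    by_contra hh
    push_neg at hh
    have : d ∈ nilradical Γ(G.left, ⊤) := by
      rw [nilradical, ← Ideal.sInf_minimalPrimes, Ideal.mem_sInf]
      exact fun Q hQ => hh Q hQ
    rw [nilradical_eq_zero, Ideal.zero_eq_bot, Ideal.mem_bot] at this
    exact hd0 this
  haveI := Ideal.minimalPrimes_isPrime hP
  -- the image in the space of separating invariant functions
  obtain ⟨s, hs, hsep⟩ := exists_separating i hobs
  let Θ : MvPolynomial s k →ₐ[k] Γ(G.left, ⊤) ⧸ P := MvPolynomial.aeval fun f : s => Ideal.Quotient.mkₐ k P f.1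
  let d' : Γ(G.left, ⊤) ⧸ P := Ideal.Quotient.mk P d
  have hd' : d' ≠ 0 := fun h => hdP (Ideal.Quotient.eq_zero_iff_mem.1 h)
  let Rs : Subalgebra k (Γ(G.left, ⊤) ⧸ P) := Θ.range
  let A := Localization.Away d'
  let φ : Rs →ₐ[k] A := (IsScalarTower.toAlgHom k (Γ(G.left, ⊤) ⧸ P) A).comp Rs.val
  haveI : Algebra.FiniteType k Rs :=
    Algebra.FiniteType.of_surjective (f := Θ.rangeRestrict) Θ.rangeRestrict_surjective
  haveI : Algebra.FiniteType k (Γ(G.left, ⊤) ⧸ P) :=
    Algebra.FiniteType.of_surjective (f := Ideal.Quotient.mkₐ k P) Ideal.Quotient.mk_surjective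
  haveI : Algebra.FiniteType k A :=
    Algebra.FiniteType.trans (S := Γ(G.left, ⊤) ⧸ P) inferInstance
      inferInstance
  haveI : IsNoetherianRing Rs := Algebra.FiniteType.isNoetherianRing k _
  have hinjA : Function.Injective (algebraMap (Γ(G.left, ⊤) ⧸ P) A) :=
    IsLocalization.injective A (powers_le_nonZeroDivisors_of_noZeroDivisors hd')
  haveI : Nontrivial A := hinjA.nontrivial
  have hφ : φ.toRingHom.FinitePresentation := by
    refine RingHom.FinitePresentation.of_finiteType.1 ?_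
    have h1 : (algebraMap k A).FiniteType := RingHom.finiteType_algebraMap.2 inferInstance
    rw [← φ.comp_algebraMap] at h1
    exact RingHom.FiniteType.of_comp_finiteType h1
  obtain ⟨r, hrn, hr⟩ := ComodLib.exists_basicOpen_subset_range φ.toRingHom hφ (hinjA.comp Subtype.val_injective)
  obtain ⟨p, hp⟩ := r.2
  let a₀ : Γ(G.left, ⊤) := MvPolynomial.aeval (R := k) (fun f : s => (f.1 : Γ(G.left, ⊤))) p
  have hmk : ∀ q, Θ q = Ideal.Quotient.mkₐ k P (MvPolynomial.aeval (R := k) (fun f : s => (f.1 : Γ(G.left, ⊤))) q) :=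
    fun q => by rw [← AlgHom.comp_apply, MvPolynomial.comp_aeval]
  have ha₀P : a₀ ∉ P := fun h => hrn (by
    have : r = 0 := Subtype.ext (hp.symm.trans ((hmk p).trans (Ideal.Quotient.eq_zero_iff_mem.2 h)))
    rw [this]; exact IsNilpotent.zero)
  have hev : ∀ (q) (x y : VecGrp.pt k k ⟶ G), (∀ f ∈ s, fn x f = fn y f) →
      fn x (MvPolynomial.aeval (R := k) (fun f : s => (f.1 : Γ(G.left, ⊤))) q) =
        fn y (MvPolynomial.aeval (R := k) (fun f : s => (f.1 : Γ(G.left, ⊤))) q) := by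
    intro q x y hxy
    rw [← AlgHom.comp_apply, ← AlgHom.comp_apply, MvPolynomial.comp_aeval, MvPolynomial.comp_aeval]
    congr 2
    funext f
    exact hxy f.1 f.2
  -- on the component, `a₀` vanishes on the zero set
  have hvan : ∀ x : VecGrp.pt k k ⟶ G, (∀ f ∈ P, fn x f = 0) → (∀ f ∈ I, fn x f = 0) → fn x a₀ = 0 := by
    intro x hxP hxI
    by_contra hne0
    let ψ : Γ(G.left, ⊤) ⧸ P →ₐ[k] k := Ideal.Quotient.liftₐ P (fn x) hxP
    let z : Rs →ₐ[k] k := ψ.comp Rs.val
    have hzr : r ∉ RingHom.ker z := fun h => hne0 (by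
      have h' : ψ r.1 = 0 := h
      rw [← hp] at h'
      change ψ (Θ p) = 0 at h'
      rw [hmk] at h'
      exact h')
    obtain ⟨g, hg⟩ := ComodLib.exists_lift_of_mem_range φ z (hr _ hzr)
    let w' : Γ(G.left, ⊤) →ₐ[k] k :=
      g.comp ((IsScalarTower.toAlgHom k (Γ(G.left, ⊤) ⧸ P) A).comp (Ideal.Quotient.mkₐ k P))
    obtain ⟨w, hw⟩ := exists_fn_eq w'
    have hsx : ∀ f ∈ s, fn w f = fn x f := by
      intro f hf
      rw [hw]
      have := congrArg (fun t : Rs →ₐ[k] k => t ⟨Θ (MvPolynomial.X ⟨f, hf⟩), _, rfl⟩) hg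
      simpa [z, φ, w', ψ, Θ] using this
    obtain ⟨h, hh⟩ := hsep x w fun f hf => (hsx f hf).symm
    have h0 : fn w d = 0 := hh ▸ hst x h hxI d hdI
    have hu : IsUnit (g (algebraMap _ A d')) := (IsLocalization.Away.algebraMap_isUnit d').map g
    rw [hw] at h0
    exact hu.ne_zero h0
  -- an invariant function supported on the translates of the component
  obtain ⟨e, he, hePt⟩ := exists_idempotent hP
  let S₀ : Set Γ(G.left, ⊤) := Set.range fun h : VecGrp.pt k k ⟶ T => tr (h ≫ i)⁻¹ e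
  have hS₀ : S₀.Finite := (finite_idempotents _).subset (by
    rintro _ ⟨h, rfl⟩
    exact he.map _)
  let e' : Γ(G.left, ⊤) := 1 - ∏ t ∈ hS₀.toFinset, (1 - t)
  have he01 : ∀ x : VecGrp.pt k k ⟶ G, fn x e = 0 ∨ fn x e = 1 := fun x =>
    IsIdempotentElem.iff_eq_zero_or_one.1 (he.map (fn x))
  have he'0 : ∀ x : VecGrp.pt k k ⟶ G, fn x e' = 1 - ∏ t ∈ hS₀.toFinset, (1 - fn x t) := fun x => by
    simp [e', map_prod]
  have he' : ∀ x : VecGrp.pt k k ⟶ G, (fn x e' = 1 ∧ ∃ h, fn (x * (h ≫ i)⁻¹) e = 1) ∨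
      (fn x e' = 0 ∧ ∀ h, fn (x * (h ≫ i)⁻¹) e = 0) := by
    intro x
    by_cases hx : ∃ h, fn (x * (h ≫ i)⁻¹) e = 1
    · refine Or.inl ⟨?_, hx⟩
      obtain ⟨h, hh⟩ := hx
      rw [he'0, Finset.prod_eq_zero (hS₀.mem_toFinset.2 ⟨h, rfl⟩) (by rw [fn_tr, hh, sub_self]), sub_zero]
    · push_neg at hx
      refine Or.inr ⟨?_, fun h => (he01 _).resolve_right (hx h)⟩
      rw [he'0, Finset.prod_eq_one, sub_self]
      intro t ht
      obtain ⟨h, rfl⟩ := hS₀.mem_toFinset.1 ht
      rw [fn_tr, (he01 _).resolve_right (hx h), sub_zero]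
  refine ⟨a₀ * e', rTransInv_of_pts i _ fun x y => ?_, ?_, ?_⟩
  · rw [map_mul, map_mul]
    have h1 : fn (x * (y ≫ i)) a₀ = fn x a₀ := hev p _ _ fun f hf => by
      have h2 := eval_of_rTransInv i f (hs f hf) x y
      exact h2
    rw [h1]
    congr 1
    have hiff : (∃ h, fn (x * (y ≫ i) * (h ≫ i)⁻¹) e = 1) ↔ ∃ h, fn (x * (h ≫ i)⁻¹) e = 1 := by
      constructor
      · rintro ⟨h, hh⟩
        refine ⟨h * y⁻¹, ?_⟩
        rwa [MonObj.mul_comp, GrpObj.inv_comp, _root_.mul_inv_rev, _root_.inv_inv, ← _root_.mul_assoc]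
      · rintro ⟨h, hh⟩
        refine ⟨h * y, ?_⟩
        rwa [MonObj.mul_comp, _root_.mul_inv_rev, ← _root_.mul_assoc, mul_inv_cancel_right]
    rcases he' (x * (y ≫ i)) with ⟨h1', h2'⟩ | ⟨h1', h2'⟩ <;> rcases he' x with ⟨h3, h4⟩ | ⟨h3, h4⟩ <;>
      simp only [h1', h3]
    · obtain ⟨h, hh⟩ := hiff.1 h2'
      exact absurd ((h4 h).symm.trans hh) zero_ne_one
    · obtain ⟨h, hh⟩ := hiff.2 h4
      exact absurd ((h2' h).symm.trans hh) zero_ne_one
  · by_contra hrad
    obtain ⟨x, hxI, hxa⟩ := exists_pt_of_not_mem_radical hrad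
    rw [map_mul] at hxa
    rcases he' x with ⟨-, h, hh⟩ | ⟨h0, -⟩
    · refine left_ne_zero_of_mul hxa ?_
      have hc := hvan (x * (h ≫ i)⁻¹) ((hePt _).1 hh) (by
        rw [← GrpObj.inv_comp]; exact hst x h⁻¹ hxI)
      rw [← hc]
      refine hev p _ _ fun f hf => ?_
      rw [← GrpObj.inv_comp, eval_of_rTransInv i f (hs f hf)]
    · exact right_ne_zero_of_mul hxa h0
  · intro h0
    obtain ⟨c, hcP, hca⟩ := exists_pt_of_not_mem_radical (I := P) (a := a₀) (by
      rwa [Ideal.IsPrime.radical ‹_›])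
    have hc1 : fn c e' = 1 := by
      rcases he' c with ⟨h1, -⟩ | ⟨-, h2⟩
      · exact h1
      · refine absurd ((h2 1).symm.trans ?_) zero_ne_one
        rw [MonObj.one_comp, inv_one, _root_.mul_one]
        exact (hePt c).2 hcP
    have := congrArg (fn c) h0
    rw [map_mul, hc1, _root_.mul_one, map_zero] at this
    exact hca this

end Group

end Groth.Agent.Deform.ObsVanish
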