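import Groth.Agent.Deform.RTrans
import Mathlib.LinearAlgebra.GeneralLinearGroup.Basic
import Mathlib.LinearAlgebra.TensorProduct.Pi
import Mathlib.RingTheory.TensorProduct.Free

/-! The regular module functor of an affine group and observable subgroups. -/

universe u

open CategoryTheory Limits AlgebraicGeometry MonoidalCategory CartesianMonoidalCategory MonObj GrpObj
open scoped TensorProduct

attribute [local instance] CategoryTheory.Hom.monoid CategoryTheory.Hom.group
set_option linter.style.haveILetI false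
set_option maxHeartbeats 1000000

namespace Groth.Agent.Deform.Observ

open GModStable RTrans
attribute [local instance] GModStable.algΓ

variable {k : Type u} [Field k] {G : Over (Spec (CommRingCat.of k))} [GrpObj G] [IsAffine G.left]

/-- The point `u * g` with values in `B ⊗ Γ`. -/
noncomputable def shift {B : Type u} [CommRing B] [Algebra k B] (g : VecGrp.pt k B ⟶ G) :
    VecGrp.pt k (B ⊗[k] Γ(G.left, ⊤)) ⟶ G :=
  (VecGrp.ptMap Algebra.TensorProduct.includeRight ≫ uPt G) *
    (VecGrp.ptMap (Algebra.TensorProduct.includeLeft (S := k)) ≫ g)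

theorem ptMap_comp {A B C : Type u} [CommRing A] [Algebra k A] [CommRing B] [Algebra k B] [CommRing C] [Algebra k C]
    (f : A →ₐ[k] B) (g : B →ₐ[k] C) : VecGrp.ptMap g ≫ VecGrp.ptMap f = VecGrp.ptMap (g.comp f) := by
  apply Over.OverMorphism.ext
  show Spec.map _ ≫ Spec.map _ = Spec.map _
  rw [← Spec.map_comp]
  rfl

/-- Right translation as an endomorphism of `B ⊗ Γ`. -/
noncomputable def Φ {B : Type u} [CommRing B] [Algebra k B] (g : VecGrp.pt k B ⟶ G) :
    B ⊗[k] Γ(G.left, ⊤) →ₐ[B] B ⊗[k] Γ(G.left, ⊤) :=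
  Algebra.TensorProduct.lift (Algebra.ofId B _) (fn (shift g)) fun _ _ => Commute.all _ _

theorem Φ_one_tmul {B : Type u} [CommRing B] [Algebra k B] (g : VecGrp.pt k B ⟶ G) (f : Γ(G.left, ⊤)) :
    Φ g ((1 : B) ⊗ₜ[k] f) = fn (shift g) f := by
  simp [Φ, ← Algebra.TensorProduct.one_def]

theorem ptMap_Φ_shift {B : Type u} [CommRing B] [Algebra k B] (g g' : VecGrp.pt k B ⟶ G) :
    VecGrp.ptMap ((Φ g).restrictScalars k) ≫ shift g' = shift (g * g') := by
  have h1 : ((Φ g).restrictScalars k).comp Algebra.TensorProduct.includeRight = fn (shift g) := by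
    ext f
    exact Φ_one_tmul g f
  have h2 : ((Φ g).restrictScalars k).comp (Algebra.TensorProduct.includeLeft (S := k)) =
      Algebra.TensorProduct.includeLeft (S := k) := by
    ext b
    simp [Φ, Algebra.ofId_apply]
  rw [shift, shift, MonObj.comp_mul, MonObj.comp_mul, ← Category.assoc, ← Category.assoc, ptMap_comp, ptMap_comp,
    h1, h2, ptMap_fn_uPt, shift, _root_.mul_assoc]

theorem Φ_mul {B : Type u} [CommRing B] [Algebra k B] (g g' : VecGrp.pt k B ⟶ G) :
    Φ (g * g') = (Φ g).comp (Φ g') := by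
  apply Algebra.TensorProduct.ext
  · exact Subsingleton.elim _ _
  · ext f
    show Φ (g * g') ((1 : B) ⊗ₜ[k] f) = Φ g (Φ g' ((1 : B) ⊗ₜ[k] f))
    rw [Φ_one_tmul, Φ_one_tmul, ← ptMap_Φ_shift, fn_ptMap]
    rfl

theorem Φ_one {B : Type u} [CommRing B] [Algebra k B] : Φ (1 : VecGrp.pt k B ⟶ G) = AlgHom.id B _ := by
  apply Algebra.TensorProduct.ext
  · exact Subsingleton.elim _ _
  · ext f
    show Φ (1 : VecGrp.pt k B ⟶ G) ((1 : B) ⊗ₜ[k] f) = _
    rw [Φ_one_tmul, shift, MonObj.comp_one, _root_.mul_one, fn_ptMap, AlgHom.comp_apply, fn_uPt]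
    rfl

/-- The regular module functor. -/
noncomputable def reg : VecGrp.GMod G Γ(G.left, ⊤) where
  ρ B _ _ := (LinearMap.GeneralLinearGroup.generalLinearEquiv B (B ⊗[k] Γ(G.left, ⊤))).toMonoidHom.comp
    (MonoidHom.toHomUnits
      { toFun := fun g => (Φ g).toLinearMap
        map_one' := by rw [Φ_one]; rfl
        map_mul' := fun g g' => by rw [Φ_mul]; rfl })
  naturality {B B'} _ _ _ _ φ g x := by
    show VecGrp.Wmap φ (Φ g x) = Φ (VecGrp.ptMap φ ≫ g) (VecGrp.Wmap φ x)
    induction x using TensorProduct.induction_on with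
    | zero => simp
    | add p q hp hq => simp only [map_add, hp, hq]
    | tmul b f =>
      have e : (b ⊗ₜ[k] f : B ⊗[k] Γ(G.left, ⊤)) = b • ((1 : B) ⊗ₜ[k] f) := by
        rw [TensorProduct.smul_tmul', smul_eq_mul, _root_.mul_one]
      rw [e, map_smul, VecGrp.Wmap_smul, VecGrp.Wmap_smul, map_smul, VecGrp.Wmap_tmul, map_one, Φ_one_tmul, Φ_one_tmul]
      congr 1
      have hw : ∀ z, VecGrp.Wmap φ z = Algebra.TensorProduct.map φ (AlgHom.id k Γ(G.left, ⊤)) z := fun z => rfl
      rw [hw, ← AlgHom.comp_apply, ← fn_ptMap]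
      congr 2
      rw [shift, shift, MonObj.comp_mul, ← Category.assoc, ← Category.assoc, ← Category.assoc, ptMap_comp, ptMap_comp,
        ptMap_comp]
      congr 3 <;> congr 1 <;> ext a <;> simp

theorem reg_ρ {B : Type u} [CommRing B] [Algebra k B] (g : VecGrp.pt k B ⟶ G) (x) :
    (reg (G := G)).ρ B g x = Φ g x := rfl

section Constructions

variable {H : Over (Spec (CommRingCat.of k))} [GrpObj H] {E : Type u} [AddCommGroup E] [Module k E]

/-- A finite power of a module functor. -/
noncomputable def piMod (m : VecGrp.GMod H E) (ι' : Type u) [Fintype ι'] [DecidableEq ι'] :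
    VecGrp.GMod H (ι' → E) where
  ρ B _ _ :=
    { toFun := fun g => (TensorProduct.piRight k B B fun _ : ι' => E) ≪≫ₗ
        (LinearEquiv.piCongrRight fun _ => m.ρ B g) ≪≫ₗ (TensorProduct.piRight k B B fun _ : ι' => E).symm
      map_one' := by
        refine LinearEquiv.ext fun z => ?_
        simp only [map_one, LinearEquiv.trans_apply]
        exact (TensorProduct.piRight k B B fun _ : ι' => E).symm_apply_apply z
      map_mul' := fun g g' => by
        refine LinearEquiv.ext fun z => ?_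
        simp only [map_mul, LinearEquiv.mul_apply, LinearEquiv.trans_apply, LinearEquiv.apply_symm_apply]
        rfl }
  naturality {B B'} _ _ _ _ φ g x := by
    have hn : ∀ (z : B ⊗[k] (ι' → E)) (j : ι'), (TensorProduct.piRight k B' B' fun _ : ι' => E) (VecGrp.Wmap φ z) j =
        VecGrp.Wmap φ ((TensorProduct.piRight k B B fun _ : ι' => E) z j) := by
      intro z j
      induction z using TensorProduct.induction_on with
      | zero => simp
      | add p q hp hq => simp only [map_add, Pi.add_apply, hp, hq]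
      | tmul b e => simp
    apply (TensorProduct.piRight k B' B' fun _ : ι' => E).injective
    funext j
    rw [hn]
    simp only [LinearEquiv.trans_apply, LinearEquiv.piCongrRight_apply, LinearEquiv.apply_symm_apply,
      MonoidHom.coe_mk, OneHom.coe_mk, m.naturality, hn]

theorem piMod_apply (m : VecGrp.GMod H E) (ι' : Type u) [Fintype ι'] [DecidableEq ι'] {B : Type u} [CommRing B]
    [Algebra k B] (g : VecGrp.pt k B ⟶ H) (z : B ⊗[k] (ι' → E)) (j : ι') :
    (TensorProduct.piRight k B B fun _ : ι' => E) ((piMod m ι').ρ B g z) j =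
      m.ρ B g ((TensorProduct.piRight k B B fun _ : ι' => E) z j) := by
  simp [piMod]

/-- Restriction to a stable subspace. -/
theorem exists_restrict (m : VecGrp.GMod H E) (N : Submodule k E)
    (hN : ∀ (B : Type u) [CommRing B] [Algebra k B] (g : VecGrp.pt k B ⟶ H) (x : E), x ∈ N →
      m.ρ B g ((1 : B) ⊗ₜ[k] x) ∈ LinearMap.range (N.subtype.baseChange B)) :
    ∃ σ : VecGrp.GMod H N, ∀ (B : Type u) [CommRing B] [Algebra k B] (g : VecGrp.pt k B ⟶ H) (z : B ⊗[k] N),
      N.subtype.baseChange B (σ.ρ B g z) = m.ρ B g (N.subtype.baseChange B z) := by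
  have hj : ∀ (B : Type u) [CommRing B] [Algebra k B], Function.Injective (N.subtype.baseChange B) := fun B _ _ =>
    Module.Flat.lTensor_preserves_injective_linearMap N.subtype N.injective_subtype
  have hst : ∀ (B : Type u) [CommRing B] [Algebra k B] (g : VecGrp.pt k B ⟶ H) (z : B ⊗[k] N),
      m.ρ B g (N.subtype.baseChange B z) ∈ LinearMap.range (N.subtype.baseChange B) := by
    intro B _ _ g z
    induction z using TensorProduct.induction_on with
    | zero => simp
    | add p q hp hq => rw [map_add, map_add]; exact add_mem hp hq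
    | tmul b x =>
      have e : N.subtype.baseChange B (b ⊗ₜ[k] x) = b • ((1 : B) ⊗ₜ[k] (x : E)) := by
        rw [TensorProduct.smul_tmul', smul_eq_mul, _root_.mul_one]
        rfl
      rw [e, map_smul]
      exact Submodule.smul_mem _ b (hN B g x x.2)
  let act : ∀ (B : Type u) [CommRing B] [Algebra k B], (VecGrp.pt k B ⟶ H) → (B ⊗[k] N →ₗ[B] B ⊗[k] N) :=
    fun B _ _ g => (LinearEquiv.ofInjective _ (hj B)).symm.toLinearMap ∘ₗ
      LinearMap.codRestrict _ ((m.ρ B g).toLinearMap ∘ₗ N.subtype.baseChange B) (hst B g)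
  have hact : ∀ (B : Type u) [CommRing B] [Algebra k B] (g : VecGrp.pt k B ⟶ H) (z : B ⊗[k] N),
      N.subtype.baseChange B (act B g z) = m.ρ B g (N.subtype.baseChange B z) := fun B _ _ g z =>
    congrArg Subtype.val ((LinearEquiv.ofInjective _ (hj B)).apply_symm_apply ⟨_, hst B g z⟩)
  refine ⟨{ ρ := fun B _ _ => (LinearMap.GeneralLinearGroup.generalLinearEquiv B (B ⊗[k] N)).toMonoidHom.comp (MonoidHom.toHomUnits { toFun := act B, map_one' := ?_, map_mul' := ?_ }), naturality := ?_ }, hact⟩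
  · refine LinearMap.ext fun z => hj B ?_
    rw [hact, map_one]
    rfl
  · intro g g'
    refine LinearMap.ext fun z => hj B ?_
    rw [hact, map_mul, LinearEquiv.mul_apply, Module.End.mul_apply, hact, hact]
  · intro B B' _ _ _ _ φ g x
    apply hj B'
    show _ = N.subtype.baseChange B' (act B' _ _)
    rw [hact, ← VecGrp.baseChange_natural, ← VecGrp.baseChange_natural, ← m.naturality]
    exact congrArg (VecGrp.Wmap φ) (hact B g x)

end Constructions

variable [IsAlgClosed k] [IsReduced G.left] [LocallyOfFiniteType G.hom]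
variable {T : Over (Spec (CommRingCat.of k))} [GrpObj T] (i : T ⟶ G) [IsMonHom i] [IsAffine T.left] [IsReduced T.left]
  [LocallyOfFiniteType T.hom]

omit [GrpObj T] [IsMonHom i] [IsAffine T.left] [IsReduced T.left] [LocallyOfFiniteType T.hom] in
theorem rTransInv_of_rational (d : VecGrp.pt k k ⟶ G) (f : Γ(G.left, ⊤))
    (h : ∀ x : VecGrp.pt k k ⟶ G, fn (x * d) f = fn x f) : AGF.IsRTransInv d f := by
  haveI : IsAffine (VecGrp.pt k k).left := inferInstanceAs (IsAffine (Spec (CommRingCat.of k)))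
  have hD : fn (uPt G * (VecGrp.ptMap (Algebra.ofId k Γ(G.left, ⊤)) ≫ d)) f = f := by
    rw [← sub_eq_zero]
    refine eq_zero_of_rational _ fun x => ?_
    rw [map_sub, sub_eq_zero, ← AlgHom.comp_apply, ← fn_ptMap, MonObj.comp_mul, ptMap_fn_uPt, ← Category.assoc,
      show VecGrp.ptMap (fn x) ≫ VecGrp.ptMap (Algebra.ofId k Γ(G.left, ⊤)) = 𝟙 _ from
        (to_pt_unique _).trans (to_pt_unique _).symm, Category.id_comp]
    exact h x
  refine rTransInv_of_forall d f fun B _ _ x y => ?_
  conv_rhs => rw [← hD]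
  rw [← AlgHom.comp_apply, ← fn_ptMap, MonObj.comp_mul, ptMap_fn_uPt, ← Category.assoc, to_pt_unique y,
    to_pt_unique (VecGrp.ptMap (fn x) ≫ VecGrp.ptMap (Algebra.ofId k Γ(G.left, ⊤)))]

/-- Separation of cosets by invariant functions. -/
theorem exists_separating (hobs : AGF.IsObservableIn k i) :
    ∃ s : Finset Γ(G.left, ⊤), (∀ f ∈ s, AGF.IsRTransInv i f) ∧
      ∀ g g' : VecGrp.pt k k ⟶ G, (∀ f ∈ s, fn g f = fn g' f) → ∃ h, g' = g * (h ≫ i) := by
  classical
  obtain ⟨s₀, hs₀, hdet⟩ := exists_finset_determines i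
  let L : (VecGrp.pt k k ⟶ G) → Γ(G.left, ⊤) → Γ(G.left, ⊤) := fun x f =>
    fn ((VecGrp.ptMap (Algebra.ofId k Γ(G.left, ⊤)) ≫ x) * uPt G) f
  have hL : ∀ x f {B : Type u} [CommRing B] [Algebra k B] (y : VecGrp.pt k B ⟶ G),
      fn y (L x f) = fn ((VecGrp.ptMap (Algebra.ofId k B) ≫ x) * y) f := by
    intro x f B _ _ y
    simp only [L]
    rw [← AlgHom.comp_apply, ← fn_ptMap, MonObj.comp_mul, ptMap_fn_uPt, ← Category.assoc,
      show VecGrp.ptMap (fn y) ≫ VecGrp.ptMap (Algebra.ofId k Γ(G.left, ⊤)) = VecGrp.ptMap (Algebra.ofId k B) from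
        to_pt_unique _]
  let gen : Set Γ(G.left, ⊤) := {t | ∃ f ∈ s₀, ∃ x, L x f = t}
  have hfin : (Submodule.span k gen).FG := by
    have key : ∀ f : Γ(G.left, ⊤), ∃ W : Submodule k Γ(G.left, ⊤), W.FG ∧ ∀ x, L x f ∈ W := by
      intro f
      let z : Γ(G.left, ⊤) ⊗[k] Γ(G.left, ⊤) := fn (shift (uPt G)) f
      have hz : ∀ x : VecGrp.pt k k ⟶ G, L x f = TensorProduct.rid k _
          (LinearMap.lTensor Γ(G.left, ⊤) (fn x).toLinearMap z) := by
        intro x
        let a : Γ(G.left, ⊤) ⊗[k] Γ(G.left, ⊤) →ₐ[k] Γ(G.left, ⊤) :=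
          (Algebra.TensorProduct.rid k k Γ(G.left, ⊤)).toAlgHom.comp
            (Algebra.TensorProduct.map (AlgHom.id k _) (fn x))
        have ha : ∀ w, TensorProduct.rid k _ (LinearMap.lTensor Γ(G.left, ⊤) (fn x).toLinearMap w) = a w := by
          intro w
          induction w using TensorProduct.induction_on with
          | zero => simp
          | add p q hp hq => simp only [map_add, hp, hq]
          | tmul p q => simp [a]
        rw [ha]
        simp only [z, L]
        rw [← AlgHom.comp_apply, ← fn_ptMap, shift, MonObj.comp_mul, ← Category.assoc, ← Category.assoc, ptMap_comp,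
          ptMap_comp]
        have e1 : a.comp Algebra.TensorProduct.includeRight = (Algebra.ofId k _).comp (fn x) := by
          ext w; simp [a, Algebra.ofId_apply, Algebra.algebraMap_eq_smul_one]
        have e2 : a.comp (Algebra.TensorProduct.includeLeft (S := k)) = AlgHom.id k Γ(G.left, ⊤) := by
          ext w; simp [a]
        rw [e1, e2, ← ptMap_comp, Category.assoc, ptMap_fn_uPt]
        congr 2
        conv_lhs => rw [← ptMap_fn_uPt (uPt G)]
        rw [show fn (uPt G) = AlgHom.id k Γ(G.left, ⊤) from AlgHom.ext fun w => fn_uPt (X := G) w]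
      obtain ⟨W, hW, hzW⟩ : ∃ W : Submodule k Γ(G.left, ⊤), W.FG ∧ ∀ ψ : Γ(G.left, ⊤) →ₗ[k] k,
          TensorProduct.rid k _ (LinearMap.lTensor Γ(G.left, ⊤) ψ z) ∈ W := by
        induction z using TensorProduct.induction_on with
        | zero => exact ⟨⊥, Submodule.fg_bot, fun ψ => by simp⟩
        | tmul a b => exact ⟨k ∙ a, Submodule.fg_span_singleton a, fun ψ => by
            simpa using Submodule.smul_mem _ (ψ b) (Submodule.mem_span_singleton_self a)⟩
        | add p q hp hq =>
          obtain ⟨W₁, h₁, e₁⟩ := hp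
          obtain ⟨W₂, h₂, e₂⟩ := hq
          refine ⟨W₁ ⊔ W₂, h₁.sup h₂, fun ψ => ?_⟩
          rw [map_add, map_add]
          exact add_mem (Submodule.mem_sup_left (e₁ ψ)) (Submodule.mem_sup_right (e₂ ψ))
      exact ⟨W, hW, fun x => by rw [hz]; exact hzW _⟩
    choose W hW hLW using key
    have hle : Submodule.span k gen ≤ ⨆ f ∈ s₀, W f := by
      rw [Submodule.span_le]
      rintro t ⟨f, hf, x, rfl⟩
      exact le_iSup₂ (f := fun f _ => W f) f hf (hLW f x)
    haveI := isNoetherian_of_fg_of_noetherian (⨆ f ∈ s₀, W f) (Submodule.fg_biSup s₀ W fun f _ => hW f)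
    have h2 := (IsNoetherian.noetherian (Submodule.comap (⨆ f ∈ s₀, W f).subtype (Submodule.span k gen))).map
      (⨆ f ∈ s₀, W f).subtype
    rwa [Submodule.map_comap_eq, Submodule.range_subtype, inf_eq_right.2 hle] at h2
  obtain ⟨s, hs, hspan⟩ := Submodule.fg_span_iff_fg_span_finset_subset gen |>.1 hfin
  refine ⟨s, fun t ht => ?_, fun g g' hgg => ?_⟩
  · obtain ⟨f, hf, x, rfl⟩ := hs ht
    refine rTransInv_of_forall i _ fun B _ _ y h => ?_
    rw [hL, hL, ← _root_.mul_assoc, eval_of_rTransInv i f (hs₀ f hf)]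
  have hall : ∀ t ∈ Submodule.span k gen, fn g t = fn g' t := by
    intro t ht
    rw [hspan] at ht
    induction ht using Submodule.span_induction with
    | mem t ht => exact hgg t ht
    | zero => simp
    | add p q _ _ hp hq => simp only [map_add, hp, hq]
    | smul c p _ hp => simp only [map_smul, hp]
  have hid : VecGrp.ptMap (Algebra.ofId k k) = 𝟙 (VecGrp.pt k k) := (to_pt_unique (𝟙 (VecGrp.pt k k))).symm
  have hd : ∀ f ∈ s₀, AGF.IsRTransInv (g⁻¹ * g') f := fun f hf => rTransInv_of_rational _ f fun y => by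
    have h := hall (L (y * g⁻¹) f) (Submodule.subset_span ⟨f, hf, _, rfl⟩)
    rw [hL, hL, hid, Category.id_comp, _root_.mul_assoc, inv_mul_cancel, _root_.mul_one] at h
    rw [← _root_.mul_assoc]
    exact h.symm
  obtain ⟨h, hh⟩ := hobs (g⁻¹ * g') (hdet _ hd)
  exact ⟨h, by rw [hh, ← _root_.mul_assoc, mul_inv_cancel, _root_.one_mul]⟩

omit [IsAlgClosed k] [IsReduced T.left] [LocallyOfFiniteType T.hom] [IsAffine T.left] [IsReduced G.left]
  [LocallyOfFiniteType G.hom] in
/-- A vector with stabilizer the subgroup. -/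
theorem exists_stab (s : Finset Γ(G.left, ⊤)) (hs : ∀ f ∈ s, AGF.IsRTransInv i f)
    (hsep : ∀ g g' : VecGrp.pt k k ⟶ G, (∀ f ∈ s, fn g f = fn g' f) → ∃ h, g' = g * (h ≫ i)) :
    ∃ (V : Type u) (_ : AddCommGroup V) (_ : Module k V) (_ : Module.Finite k V) (ρ : VecGrp.GMod G V) (v : V),
      AGF.IsStabOnPts k i ρ v := by
  classical
  haveI : IsNoetherianRing k := inferInstance
  haveI : QuasiSeparated G.hom := inferInstance
  haveI : QuasiCompact G.hom := inferInstance
  haveI : Flat G.hom := inferInstance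
  let v₀ : ↥s → Γ(G.left, ⊤) := fun f => f.1
  obtain ⟨N, hMN, hN, hst⟩ := GModStable.exists_fg_stable (piMod (reg (G := G)) ↥s)
    (k ∙ v₀) (Submodule.fg_span_singleton v₀)
  obtain ⟨σ, hσ⟩ := exists_restrict _ N hst
  haveI : Module.Finite k N := Module.Finite.iff_fg.2 hN
  let v : N := ⟨v₀, hMN (Submodule.mem_span_singleton_self v₀)⟩
  refine ⟨N, inferInstance, inferInstance, inferInstance, σ, v, fun g => ?_⟩
  have hfix : σ.ρ k g ((1 : k) ⊗ₜ[k] v) = (1 : k) ⊗ₜ[k] v ↔
      ∀ f : ↥s, fn (shift g) f.1 = (1 : k) ⊗ₜ[k] f.1 := by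
    rw [← (show Function.Injective (N.subtype.baseChange k) from
      Module.Flat.lTensor_preserves_injective_linearMap N.subtype N.injective_subtype).eq_iff, hσ,
      LinearMap.baseChange_tmul, ← (TensorProduct.piRight k k k fun _ : ↥s => Γ(G.left, ⊤)).injective.eq_iff,
      funext_iff]
    refine forall_congr' fun f => ?_
    rw [piMod_apply, TensorProduct.piRight_apply, TensorProduct.piRightHom_tmul, reg_ρ]
    show Φ g ((1 : k) ⊗ₜ[k] f.1) = (1 : k) ⊗ₜ[k] f.1 ↔ _
    rw [Φ_one_tmul]
  rw [hfix]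
  constructor
  · intro h
    have key : ∀ f ∈ s, fn g f = fn (1 : VecGrp.pt k k ⟶ G) f := by
      intro f hf
      let a : k ⊗[k] Γ(G.left, ⊤) →ₐ[k] k :=
        Algebra.TensorProduct.lift (AlgHom.id k k) (fn (1 : VecGrp.pt k k ⟶ G)) fun _ _ => Commute.all _ _
      have h2 := congrArg a (h ⟨f, hf⟩)
      rw [← AlgHom.comp_apply, ← fn_ptMap, shift, MonObj.comp_mul, ← Category.assoc, ← Category.assoc, ptMap_comp,
        ptMap_comp] at h2
      have e1 : a.comp Algebra.TensorProduct.includeRight = fn (1 : VecGrp.pt k k ⟶ G) := by ext w; simp [a]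
      have e2 : a.comp (Algebra.TensorProduct.includeLeft (S := k)) = Algebra.ofId k k := by ext
      rw [e1, e2, ptMap_fn_uPt, (to_pt_unique (𝟙 (VecGrp.pt k k))).symm, Category.id_comp, _root_.one_mul] at h2
      simpa [a] using h2
    obtain ⟨h', hh⟩ := hsep 1 g fun f hf => (key f hf).symm
    exact ⟨h', by rw [hh, _root_.one_mul]⟩
  · rintro ⟨h, rfl⟩ f
    rw [shift, ← Category.assoc, eval_of_rTransInv i f.1 (hs f.1 f.2), fn_ptMap, AlgHom.comp_apply, fn_uPt]
    rfl

/-- A stabilizer of a vector is observable. -/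
theorem observable_of_stab {V : Type u} [AddCommGroup V] [Module k V] (ρ : VecGrp.GMod G V) (v : V)
    (hv : AGF.IsStabOnPts k i ρ v) : AGF.IsObservableIn k i := by
  intro g hg
  refine (hv g).1 (fixed_of_rTransInv i ρ g hg v ?_)
  intro B _ _ h
  have hz : ρ.ρ _ (uPt T ≫ i) ((1 : Γ(T.left, ⊤)) ⊗ₜ[k] v) = (1 : Γ(T.left, ⊤)) ⊗ₜ[k] v := by
    let b := Module.Free.chooseBasis k V
    apply (Algebra.TensorProduct.basis Γ(T.left, ⊤) b).repr.injective
    refine Finsupp.ext fun j => ?_
    rw [← sub_eq_zero]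
    refine eq_zero_of_rational (G := T) _ fun x => ?_
    have hx : ∀ z : Γ(T.left, ⊤) ⊗[k] V, fn x ((Algebra.TensorProduct.basis Γ(T.left, ⊤) b).repr z j) =
        (Algebra.TensorProduct.basis k b).repr (VecGrp.Wmap (fn x) z) j := by
      intro z
      induction z using TensorProduct.induction_on with
      | zero => simp
      | add p q hp hq => simp only [map_add, Finsupp.add_apply, hp, hq]
      | tmul c e => simp
    rw [map_sub, sub_eq_zero, hx, hx, GModStable.ρ_naturality ρ, ← Category.assoc, ptMap_fn_uPt, VecGrp.Wmap_tmul,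
      map_one, (hv (x ≫ i)).2 ⟨x, rfl⟩]
  have e : h = VecGrp.ptMap (fn h) ≫ uPt T := (ptMap_fn_uPt h).symm
  rw [e, Category.assoc, ← GModStable.ρ_naturality ρ, hz, VecGrp.Wmap_tmul, map_one]

end Groth.Agent.Deform.Observ
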