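import Groth.Agent.Deform.QuotDense
import Groth.Agent.Deform.AffineDense
import Groth.Agent.AlgSpDec.ActQuotient
import Groth.Agent.GrpdThick.Descend
import Groth.Agent.GrpSchLib.AntiAffine
import Groth.Agent.GrpSchLib.HomFlat
import Groth.Agent.SrcDescent.SchemeFppf

/-!
# Left translations by a subgroup: the relation and a dense affine piece of the quotient
-/

set_option backward.isDefEq.respectTransparency false
set_option backward.isDefEq.respectTransparency.types false
set_option linter.style.haveILetI false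
set_option linter.unusedSectionVars false

universe u

open CategoryTheory CategoryTheory.Limits MonoidalCategory CartesianMonoidalCategory MonObj AlgebraicGeometry
open TopologicalSpace

attribute [local instance] CategoryTheory.Hom.monoid CategoryTheory.Hom.group

namespace Groth.Agent.Deform.QuotBase

noncomputable section

variable {S : Scheme.{u}} {F G : Over S} [GrpObj F] [GrpObj G] (u : F ⟶ G) [IsMonHom u]

theorem leftMul_apply {T : Over S} (r : T ⟶ F ⊗ G) :
    r ≫ (u ▷ G) ≫ μ[G] = ((r ≫ fst F G) ≫ u) * (r ≫ snd F G) := by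
  have : r ≫ (u ▷ G) = lift ((r ≫ fst F G) ≫ u) (r ≫ snd F G) := by
    apply CartesianMonoidalCategory.hom_ext <;> simp
  rw [Hom.mul_def, ← this, Category.assoc]

/-- Left translation of `G` by `F`. -/
def leftAct : AlgGrp.Action F G where
  act := (u ▷ G) ≫ μ[G]
  one_act := by
    rw [← Category.assoc, ← comp_whiskerRight, IsMonHom.one_hom, MonObj.one_mul]
  mul_act := by
    have hfst : fst (F ⊗ F) G ≫ μ[F] = (fst (F ⊗ F) G ≫ fst F F) * (fst (F ⊗ F) G ≫ snd F F) := by
      rw [Hom.mul_def, ← comp_lift, lift_fst_snd, Category.comp_id]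
    rw [leftMul_apply u, whiskerRight_fst, whiskerRight_snd, hfst, MonObj.mul_comp]
    rw [← Category.assoc (α_ F F G).hom, leftMul_apply u, Category.assoc _ (F ◁ _), whiskerLeft_fst,
      Category.assoc _ (F ◁ _) (snd F G), whiskerLeft_snd, ← Category.assoc (α_ F F G).hom (snd F _),
      leftMul_apply u, associator_hom_fst, Category.assoc _ (snd F (F ⊗ G)), Category.assoc _ (snd F (F ⊗ G)),
      associator_hom_snd_fst, associator_hom_snd_snd, _root_.mul_assoc]

theorem leftAct_apply {T : Over S} (r : T ⟶ F ⊗ G) :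
    r ≫ (leftAct u).act = ((r ≫ fst F G) ≫ u) * (r ≫ snd F G) :=
  leftMul_apply u r

/-- `a` and `b` differ by left translation by a point of `F`. -/
def Rel {T : Over S} (a b : T ⟶ G) : Prop := ∃ f : T ⟶ F, a = (f ≫ u) * b

theorem rel_iff {T : Over S} (a b : T ⟶ G) :
    Rel u a b ↔ ∃ r : T ⟶ F ⊗ G, r ≫ (leftAct u).act = a ∧ r ≫ snd F G = b := by
  constructor
  · rintro ⟨f, rfl⟩
    exact ⟨lift f b, by rw [leftAct_apply, lift_fst, lift_snd], lift_snd _ _⟩
  · rintro ⟨r, rfl, rfl⟩
    exact ⟨r ≫ fst F G, leftAct_apply u r⟩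

theorem rel_comp {T T' : Over S} {a b : T ⟶ G} (h : Rel u a b) (π : T' ⟶ T) : Rel u (π ≫ a) (π ≫ b) := by
  obtain ⟨f, rfl⟩ := h
  exact ⟨π ≫ f, by rw [MonObj.comp_mul, Category.assoc]⟩

theorem rel_mul_right {T : Over S} {a b : T ⟶ G} (h : Rel u a b) (g : T ⟶ G) : Rel u (a * g) (b * g) := by
  obtain ⟨f, rfl⟩ := h
  exact ⟨f, _root_.mul_assoc _ _ _⟩

theorem rel_mul_right_iff {T : Over S} {a b : T ⟶ G} (g : T ⟶ G) : Rel u (a * g) (b * g) ↔ Rel u a b := by
  refine ⟨fun h => ?_, fun h => rel_mul_right u h g⟩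
  simpa using rel_mul_right u h g⁻¹

theorem free [Mono u] (T : Over S) (g : T ⟶ F) (x : T ⟶ G) (h : lift g x ≫ (leftAct u).act = x) :
    g = toUnit T ≫ η[F] := by
  rw [leftAct_apply, lift_fst, lift_snd] at h
  have h1 : g ≫ u = (toUnit T ≫ η[F]) ≫ u := by
    rw [Category.assoc, IsMonHom.one_hom]
    exact mul_eq_right.1 h
  exact (cancel_mono u).1 h1

theorem isEqvRel [Mono u] : AlgSp.IsEqvRel (snd F G) (leftAct u).act :=
  AlgSpDec.ActQuotient.isEqvRel (leftAct u) (free u)

theorem invMor_invMor : AlgSpDec.ActGroupoid.invMor (leftAct u) ≫ AlgSpDec.ActGroupoid.invMor (leftAct u) = 𝟙 _ := by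
    apply CartesianMonoidalCategory.hom_ext
    · rw [Category.assoc, AlgSpDec.ActGroupoid.invMor_fst, GrpObj.comp_inv, AlgSpDec.ActGroupoid.invMor_fst,
        inv_inv, Category.id_comp]
    · rw [Category.assoc, AlgSpDec.ActGroupoid.invMor_snd, AlgSpDec.ActGroupoid.invMor_act, Category.id_comp]

variable [Flat F.hom] [LocallyOfFinitePresentation F.hom]

theorem flat_snd : Flat (snd F G).left :=
  MorphismProperty.pullback_snd (P := @Flat) _ _ ‹_›

theorem lfp_snd : LocallyOfFinitePresentation (snd F G).left :=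
  MorphismProperty.pullback_snd (P := @LocallyOfFinitePresentation) _ _ ‹_›

theorem flat_act : Flat (leftAct u).act.left := by
  haveI := flat_snd (F := F) (G := G)
  have h := AlgSpDec.ActGroupoid.invMor_snd (leftAct u)
  haveI : IsIso (AlgSpDec.ActGroupoid.invMor (leftAct u)).left :=
    ⟨(AlgSpDec.ActGroupoid.invMor (leftAct u)).left, by
      rw [← Over.comp_left, invMor_invMor u]; rfl, by rw [← Over.comp_left, invMor_invMor u]; rfl⟩
  rw [← h, Over.comp_left]
  infer_instance

theorem lfp_act : LocallyOfFinitePresentation (leftAct u).act.left := by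
  haveI := lfp_snd (F := F) (G := G)
  have h := AlgSpDec.ActGroupoid.invMor_snd (leftAct u)
  haveI : IsIso (AlgSpDec.ActGroupoid.invMor (leftAct u)).left :=
    ⟨(AlgSpDec.ActGroupoid.invMor (leftAct u)).left, by
      rw [← Over.comp_left, invMor_invMor u]; rfl, by rw [← Over.comp_left, invMor_invMor u]; rfl⟩
  rw [← h, Over.comp_left]
  infer_instance

theorem quasiCompact_pair [QuasiCompact u.left] :
    QuasiCompact (Limits.prod.lift (leftAct u).act (snd F G)).left := by
  let e : G ⊗ G ≅ G ⨯ G :=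
    { hom := Limits.prod.lift μ[G] (snd G G)
      inv := lift ((Limits.prod.fst : G ⨯ G ⟶ G) * (Limits.prod.snd : G ⨯ G ⟶ G)⁻¹) Limits.prod.snd
      hom_inv_id := by
        have hμ : μ[G] = fst G G * snd G G := by rw [Hom.mul_def, lift_fst_snd, Category.id_comp]
        apply CartesianMonoidalCategory.hom_ext
        · rw [Category.assoc, lift_fst, MonObj.comp_mul, GrpObj.comp_inv, Limits.prod.lift_fst,
            Limits.prod.lift_snd, hμ, Category.id_comp, mul_inv_cancel_right]
        · rw [Category.assoc, lift_snd, Limits.prod.lift_snd, Category.id_comp]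
      inv_hom_id := by
        apply Limits.prod.hom_ext
        · rw [Category.assoc, Limits.prod.lift_fst, ← Hom.mul_def, inv_mul_cancel_right, Category.id_comp]
        · rw [Category.assoc, Limits.prod.lift_snd, lift_snd, Category.id_comp] }
  have he : Limits.prod.lift (leftAct u).act (snd F G) = (u ▷ G) ≫ e.hom := by
    apply Limits.prod.hom_ext
    · rw [Limits.prod.lift_fst, Category.assoc, Limits.prod.lift_fst]
      rfl
    · rw [Limits.prod.lift_snd, Category.assoc, Limits.prod.lift_snd, whiskerRight_snd]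
  haveI : QuasiCompact (u ▷ G).left :=
    MorphismProperty.of_isPullback (P := @QuasiCompact) (GrpSchLib.isPullback_whiskerRight u G).flip ‹_›
  haveI : IsIso e.hom.left := ((Over.forget S).mapIso e).isIso_hom
  rw [he, Over.comp_left]
  infer_instance

end

section Piece

variable {k : Type u} [Field k] {F G : Over (Spec (CommRingCat.of k))} [GrpObj F] [GrpObj G] (u : F ⟶ G)
  [IsMonHom u] [Mono u] [QuasiCompact u.left] [LocallyOfFiniteType F.hom] [LocallyOfFiniteType G.hom]

/-- Over a quasi-compact open, the quotient of `G` by left translations has a dense affine piece. -/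
theorem exists_affine_piece (Ω : G.left.Opens) (hΩ : IsCompact (Ω : Set G.left)) :
    ∃ (P V : Over (Spec (CommRingCat.of k))) (i : P ⟶ G) (q : P ⟶ V), IsOpenImmersion i.left ∧
      IsAffine V.left ∧ Surjective q.left ∧ Flat q.left ∧ LocallyOfFinitePresentation q.left ∧
      (∀ (T : Over (Spec (CommRingCat.of k))) (r : T ⟶ F ⊗ G) (a : T ⟶ P), r ≫ (leftAct u).act = a ≫ i →
        ∃ b : T ⟶ P, r ≫ snd F G = b ≫ i) ∧
      (∀ (T : Over (Spec (CommRingCat.of k))) (a b : T ⟶ P), a ≫ q = b ≫ q ↔ Rel u (a ≫ i) (b ≫ i)) ∧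
      ∀ O : Set G.left, IsOpen O → O ⊆ Ω → O.Nonempty → (O ∩ Set.range i.left).Nonempty := by
  haveI := flat_snd (F := F) (G := G)
  haveI := flat_act u
  haveI := lfp_snd (F := F) (G := G)
  haveI := lfp_act u
  haveI := quasiCompact_pair u
  obtain ⟨P, M, i, p, hi, hd, hp1, hp2, hp3, hinv, hch⟩ :=
    QuotDense.exists_dense_quot (leftAct u).act (snd F G) (isEqvRel u)
  haveI := hi
  haveI := hp1
  haveI := hp2
  haveI := hp3
  haveI : IsLocallyNoetherian G.left := LocallyOfFiniteType.isLocallyNoetherian G.hom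
  haveI : LocallyOfFiniteType P.hom := by rw [← Over.w i]; infer_instance
  haveI : LocallyOfFinitePresentation (p.left ≫ M.hom) := by rw [Over.w p]; infer_instance
  haveI : LocallyOfFinitePresentation M.hom := SrcDescent.locallyOfFinitePresentation_of_fppf_comp p.left M.hom
  haveI : IsLocallyNoetherian M.left := LocallyOfFiniteType.isLocallyNoetherian M.hom
  -- the image of `Ω` in the quotient
  haveI : CompactSpace Ω.toScheme := isCompact_iff_compactSpace.1 hΩ
  haveI : AlgebraicGeometry.IsNoetherian Ω.toScheme := { }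
  have hcpt : ∀ A : Set G.left, A ⊆ Ω → IsCompact A := fun A hA => by
    have := (NoetherianSpace.isCompact (Ω.ι ⁻¹' A)).image Ω.ι.continuous
    rwa [Set.image_preimage_eq_of_subset (by rw [Scheme.Opens.range_ι]; exact hA)] at this
  let Ωm : M.left.Opens := ⟨p.left '' (i.left ⁻¹' Ω), p.left.isOpenMap _ (Ω.2.preimage i.left.continuous)⟩
  have hΩm : IsCompact (Ωm : Set M.left) :=
    ((i.left.isOpenEmbedding.isEmbedding.isCompact_iff).2 (hcpt _ (Set.image_preimage_subset _ _))).image
      p.left.continuous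
  haveI : CompactSpace Ωm.toScheme := isCompact_iff_compactSpace.1 hΩm
  haveI : AlgebraicGeometry.IsNoetherian Ωm.toScheme := { }
  obtain ⟨V₀, hV₀, hV₀d⟩ := AffineDense.exists_affine_dense Ωm.toScheme
  let V : M.left.Opens := Ωm.ι ''ᵁ V₀
  have hV : IsAffineOpen V := hV₀.image_of_isOpenImmersion Ωm.ι
  let P' : Over (Spec (CommRingCat.of k)) := Over.mk ((p.left ⁻¹ᵁ V).ι ≫ P.hom)
  let j : P' ⟶ P := Over.homMk (p.left ⁻¹ᵁ V).ι rfl
  let V' : Over (Spec (CommRingCat.of k)) := Over.mk (V.ι ≫ M.hom)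
  let jV : V' ⟶ M := Over.homMk V.ι rfl
  let q : P' ⟶ V' := Over.homMk (p.left ∣_ V) (by
    show (p.left ∣_ V) ≫ V.ι ≫ M.hom = (p.left ⁻¹ᵁ V).ι ≫ P.hom
    rw [morphismRestrict_ι_assoc, Over.w p])
  have hq : q ≫ jV = j ≫ p := Over.OverMorphism.ext (morphismRestrict_ι _ _)
  haveI : IsOpenImmersion j.left := inferInstanceAs (IsOpenImmersion (p.left ⁻¹ᵁ V).ι)
  haveI : Mono jV := (Over.forget _).mono_of_mono_map (inferInstanceAs (Mono V.ι))
  refine ⟨P', V', j ≫ i, q, by rw [Over.comp_left]; infer_instance, hV, IsZariskiLocalAtTarget.restrict hp1 V,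
    IsZariskiLocalAtTarget.restrict hp2 V, IsZariskiLocalAtTarget.restrict hp3 V, fun T r a hr => ?_,
    fun T a b => ?_, fun O hO hOΩ hne => ?_⟩
  · rw [← Category.assoc] at hr
    obtain ⟨b, hb⟩ := hinv T r (a ≫ j) hr
    have he : (a ≫ j) ≫ p = b ≫ p := (hch T _ _).2 ⟨r, hr, hb⟩
    have hbV : ∀ z, b.left z ∈ p.left ⁻¹ᵁ V := fun z => by
      show p.left (b.left z) ∈ V
      rw [← Scheme.Hom.comp_apply, ← Over.comp_left, ← he]
      exact (a.left z).2
    let b' : T ⟶ P' := Over.homMk (IsOpenImmersion.lift (p.left ⁻¹ᵁ V).ι b.left (by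
      rintro _ ⟨z, rfl⟩
      exact ⟨⟨b.left z, hbV z⟩, rfl⟩)) (by
        show _ ≫ (p.left ⁻¹ᵁ V).ι ≫ P.hom = T.hom
        rw [IsOpenImmersion.lift_fac_assoc, Over.w b])
    refine ⟨b', ?_⟩
    have : b' ≫ j = b := Over.OverMorphism.ext (IsOpenImmersion.lift_fac _ _ _)
    rw [reassoc_of% this, hb]
  · rw [← cancel_mono jV, Category.assoc, Category.assoc, hq, ← Category.assoc, ← Category.assoc, hch,
      ← Category.assoc, ← Category.assoc, rel_iff]
  · obtain ⟨_, hxO, x, rfl⟩ := hd.inter_open_nonempty O hO hne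
    obtain ⟨w, ⟨y, hy, hyw⟩, hy'⟩ := hV₀d.inter_open_nonempty
      (Ωm.ι ⁻¹' (p.left '' (i.left ⁻¹' O))) ((p.left.isOpenMap _ (hO.preimage i.left.continuous)).preimage
        Ωm.ι.continuous) ⟨⟨p.left x, x, hOΩ hxO, rfl⟩, x, hxO, rfl⟩
    exact ⟨i.left y, hy, ⟨y, ⟨w, hy', hyw.symm⟩⟩, rfl⟩

end Piece

end Groth.Agent.Deform.QuotBase
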