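import Groth.Agent.AlgSpDec.FreeQuotSep
import Groth.Agent.AlgSpDec.FppfDescent
import Groth.Agent.AlgSpDec.QsDense

/-!
# A dense invariant open with a scheme quotient

A flat, locally finitely presented equivalence relation with quasi-compact `(t, s)` has a scheme
quotient over a dense invariant open: its algebraic space quotient is quasi-separated, so it
contains a dense open subscheme.
-/

set_option backward.isDefEq.respectTransparency false
set_option backward.isDefEq.respectTransparency.types false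
set_option linter.style.haveILetI false

universe u

open CategoryTheory CategoryTheory.Limits AlgebraicGeometry AlgSp
open Groth.Agent.AlgSpLib Groth.Agent.AlgSpPts

namespace Groth.Agent.Deform.QuotDense

variable {S : Scheme.{u}} {R U : Over S}

/-- A relation which is the kernel pair of an fppf map to a scheme over a dense open. -/
theorem exists_dense_quot (t s : R ⟶ U) (h : IsEqvRel s t) [Flat s.left] [Flat t.left]
    [LocallyOfFinitePresentation s.left] [LocallyOfFinitePresentation t.left]
    [QuasiCompact (prod.lift t s).left] :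
    ∃ (P M : Over S) (i : P ⟶ U) (p : P ⟶ M), IsOpenImmersion i.left ∧ Dense (Set.range i.left) ∧
      Surjective p.left ∧ Flat p.left ∧ LocallyOfFinitePresentation p.left ∧
      (∀ (T : Over S) (r : T ⟶ R) (a : T ⟶ P), r ≫ t = a ≫ i → ∃ b : T ⟶ P, r ≫ s = b ≫ i) ∧
      ∀ (T : Over S) (a b : T ⟶ P), a ≫ p = b ≫ p ↔ ∃ r : T ⟶ R, r ≫ t = a ≫ i ∧ r ≫ s = b ≫ i := by
  let π := quotMap s t
  haveI : Sheaf.IsLocallySurjective π := by
    have : Epi (QuotSh.quotπ Scheme.fppfPrecoverage s t) := by
      unfold QuotSh.quotπ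
      infer_instance
    exact (CategoryTheory.Sheaf.isLocallySurjective_iff_epi π).2 (epi_comp _ _)
  have sq : IsPullback ((yon S).map t) ((yon S).map s) π π := isPullback_quotMap h
  have hr : Representable π := AlgSpDec.representable_of_kernelPair sq
  have hA : IsAlgSpace (QuotSh.quot Scheme.fppfPrecoverage s t) := AlgSpDec.isAlgSpace_of_flat_kernelPair sq
  haveI : Surjective s.left := ⟨fun x => by
    obtain ⟨e, -, he⟩ := (h.equivalence U).refl (𝟙 U)
    exact ⟨e.left x, by rw [← Scheme.Hom.comp_apply, ← Over.comp_left, he]; rfl⟩⟩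
  haveI := isLocalAtTarget_fppf (@Flat : MorphismProperty Scheme.{u})
  haveI := isLocalAtTarget_fppf (@LocallyOfFinitePresentation : MorphismProperty Scheme.{u})
  haveI := isLocalAtTarget_fppf (@Surjective : MorphismProperty Scheme.{u})
  haveI := isLocalAtTarget_fppf (@QuasiCompact : MorphismProperty Scheme.{u})
  have hfl : RepWith @Flat π :=
    repWith_of_locallySurjective hr π sq @Flat ((repWith_yon_map_iff _ _).2 ‹Flat s.left›)
  have hlfp : RepWith @LocallyOfFinitePresentation π :=
    repWith_of_locallySurjective hr π sq @LocallyOfFinitePresentation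
      ((repWith_yon_map_iff _ _).2 ‹LocallyOfFinitePresentation s.left›)
  have hsurj : RepWith @Surjective π :=
    repWith_of_locallySurjective hr π sq @Surjective ((repWith_yon_map_iff _ _).2 ‹Surjective s.left›)
  have hπ : RepWith fppf π := ⟨hr, fun a b g fst snd hp =>
    ⟨⟨hsurj.2 g fst snd hp, hfl.2 g fst snd hp⟩, hlfp.2 g fst snd hp⟩⟩
  -- the diagonal of the quotient is quasi-compact
  let b : (yon S).obj (U ⨯ U) ⟶ QuotSh.quot Scheme.fppfPrecoverage s t ⨯ QuotSh.quot Scheme.fppfPrecoverage s t :=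
    prod.lift ((yon S).map prod.fst ≫ π) ((yon S).map prod.snd ≫ π)
  have sqb := isPullback_diag sq ((yon S).map prod.fst) ((yon S).map prod.snd) (yon_prod_ext)
    ((yon S).map (prod.lift t s)) (by rw [← Functor.map_comp, prod.lift_fst])
    (by rw [← Functor.map_comp, prod.lift_snd])
  haveI : Sheaf.IsLocallySurjective b := isLocallySurjective_of_lifts b fun T z => by
    obtain ⟨V₁, k₁, x₁, hk₁, hx₁⟩ := AlgSpDec.exists_fppf_lift_of_locallySurjective π (z ≫ prod.fst)
    obtain ⟨V₂, k₂, x₂, hk₂, hx₂⟩ :=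
      AlgSpDec.exists_fppf_lift_of_locallySurjective π ((yon S).map k₁ ≫ z ≫ prod.snd)
    obtain ⟨x₁, rfl⟩ := (yon S).map_surjective x₁
    obtain ⟨x₂, rfl⟩ := (yon S).map_surjective x₂
    refine ⟨V₂, k₂ ≫ k₁, (yon S).map (prod.lift (k₂ ≫ x₁) x₂),
      MorphismProperty.comp_mem _ k₂.left k₁.left hk₂ hk₁, ?_⟩
    apply prod.hom_ext
    · simp only [b, Category.assoc, prod.lift_fst]
      rw [← Category.assoc, ← Functor.map_comp, prod.lift_fst, Functor.map_comp, Category.assoc, hx₁,
        Functor.map_comp, Category.assoc]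
    · simp only [b, Category.assoc, prod.lift_snd]
      rw [← Category.assoc, ← Functor.map_comp, prod.lift_snd, hx₂, Functor.map_comp, Category.assoc]
  have hqs : IsQuasiSeparatedSp (QuotSh.quot Scheme.fppfPrecoverage s t) :=
    repWith_of_locallySurjective hA.diag b sqb @QuasiCompact
      ((repWith_yon_map_iff _ _).2 ‹QuasiCompact (prod.lift t s).left›)
  -- the open subscheme
  let X : Space S := ⟨_, hA⟩
  obtain ⟨X', j, hj, hrep, hd, -⟩ := AlgSpDec.exists_dense_open_subscheme_of_zarQs X
    ⟨PUnit, fun _ => X, fun _ => 𝟙 X,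
      ⟨fun _ => repWith_of_isIso @IsOpenImmersion (𝟙 X.obj),
        fun x => ⟨⟨⟩, x, Points.map_id x⟩⟩, fun _ => hqs⟩
  obtain ⟨M, ⟨rM⟩⟩ := hrep
  let e : (yon S).obj M ≅ X'.obj := isoOfRepresentableBy rM
  haveI : Mono j.hom := AlgSpPts.mono_of_repWith (repWith_mono (fun _ _ f hf => by
    haveI : IsOpenImmersion f := hf
    exact MorphismProperty.monomorphisms.infer_property f) _ hj)
  let P := hj.rep.pullback π
  let i : P ⟶ U := hj.rep.snd π
  obtain ⟨p, hp⟩ := (yon S).map_surjective (hj.rep.fst π ≫ e.inv)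
  have sqP : IsPullback ((yon S).map i) (hj.rep.fst π) π j.hom := (hj.rep.isPullback π).flip
  have sqp : IsPullback ((yon S).map i) ((yon S).map p) π (e.hom ≫ j.hom) :=
    sqP.of_iso (Iso.refl _) (Iso.refl _) e.symm (Iso.refl _) (by simp) (by simp [hp]) (by simp) (by simp)
  have hpf : fppf p.left := hπ.2 (e.hom ≫ j.hom) _ p sqp
  obtain ⟨⟨hp1, hp2⟩, hp3⟩ := hpf
  refine ⟨P, M, i, p, hj.property_snd π, ?_, hp1, hp2, hp3, fun T r a hra => ?_, fun T a b => ?_⟩
  · refine dense_iff_inter_open.2 fun O hO hne => ?_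
    obtain ⟨_, ⟨x, hxO, rfl⟩, z, hz⟩ := hd.inter_open_nonempty _
      (AlgSpDec.Fppf.isOpenMap_ofPt hπ O hO) (hne.image _)
    obtain ⟨z', -, hz'⟩ := exists_point_of_isPullback (hj.rep.isPullback π) (x := z) (y := Points.ofScheme U x)
      (hz.trans (Points.ofPt_eq_map_ofScheme π x))
    obtain ⟨w, rfl⟩ := (Points.schemeHomeo _).surjective z'
    exact ⟨x, hxO, w, (Points.schemeHomeo U).injective ((Points.map_yon_map_apply i w).symm.trans hz')⟩
  · obtain ⟨b, hb⟩ := (yon S).map_surjective (sqp.lift ((yon S).map (r ≫ s)) ((yon S).map (a ≫ p)) (by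
      rw [Functor.map_comp, Category.assoc, ← sq.w, ← Category.assoc, ← Functor.map_comp, hra, Functor.map_comp,
        Functor.map_comp, Category.assoc, Category.assoc, sqp.w]))
    exact ⟨b, ((yon S).map_injective (by rw [Functor.map_comp, hb, sqp.lift_fst])).symm⟩
  · have key : a ≫ p = b ≫ p ↔ (yon S).map (a ≫ i) ≫ π = (yon S).map (b ≫ i) ≫ π := by
      haveI : Mono (e.hom ≫ j.hom) := mono_comp _ _
      rw [Functor.map_comp, Functor.map_comp, Category.assoc, Category.assoc, sqp.w, ← Functor.map_comp_assoc,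
        ← Functor.map_comp_assoc]
      exact ⟨fun e' => by rw [e'], fun e' => (yon S).map_injective ((cancel_mono _).1 e')⟩
    rw [key]
    constructor
    · intro hab
      obtain ⟨r, hr⟩ := (yon S).map_surjective (sq.lift _ _ hab)
      exact ⟨r, (yon S).map_injective (by rw [Functor.map_comp, hr, sq.lift_fst]),
        (yon S).map_injective (by rw [Functor.map_comp, hr, sq.lift_snd])⟩
    · rintro ⟨r, hrt, hrs⟩
      rw [← hrt, ← hrs, Functor.map_comp, Functor.map_comp, Category.assoc, Category.assoc, sq.w]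

end Groth.Agent.Deform.QuotDense
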