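import Groth.Agent.Deform.QuotTop
import Groth.Agent.Deform.QuotGroup
import Groth.Agent.GrpSchLib.KernelGrp

/-!
# The image of a homomorphism of group schemes over a field
-/

set_option backward.isDefEq.respectTransparency false
set_option backward.isDefEq.respectTransparency.types false
set_option linter.style.haveILetI false
set_option linter.unusedSectionVars false

universe u

open CategoryTheory CategoryTheory.Limits MonoidalCategory CartesianMonoidalCategory MonObj AlgebraicGeometry

attribute [local instance] CategoryTheory.Hom.monoid CategoryTheory.Hom.group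

namespace Groth.Agent.Deform.QuotImage

open GrpSchLib

noncomputable section

theorem eq_of_add_natCast_eq {a b : WithBot ℕ∞} {n : ℕ} (h : a + ((n : ℕ∞) : WithBot ℕ∞) = b + ((n : ℕ∞) : WithBot ℕ∞)) :
    a = b := by
  induction a with
  | bot =>
    induction b with
    | bot => rfl
    | coe b => rw [WithBot.bot_add, ← WithBot.coe_add] at h; exact absurd h WithBot.bot_ne_coe
  | coe a =>
    induction b with
    | bot => rw [WithBot.bot_add, ← WithBot.coe_add] at h; exact absurd h WithBot.coe_ne_bot
    | coe b =>
      rw [← WithBot.coe_add, ← WithBot.coe_add, WithBot.coe_inj] at h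
      exact WithBot.coe_inj.2 ((WithTop.add_right_inj (ENat.natCast_ne_top n)).1 h)

variable {k : Type u} [Field k] {G H : Over (Spec (CommRingCat.of k))} [GrpObj G] [GrpObj H]
  [LocallyOfFiniteType G.hom] [LocallyOfFiniteType H.hom] (f : G ⟶ H) [IsMonHom f] [QuasiCompact f.left]

/-- The image is closed and its dimension complements that of the kernel. -/
theorem isClosed_range_and_dim :
    IsClosed (Set.range f.left) ∧ ∀ (N : Over (Spec (CommRingCat.of k))) (n : N ⟶ G), AlgGrp.IsKernel n f →
      topologicalKrullDim ↥G.left = topologicalKrullDim ↥(Set.range f.left) + topologicalKrullDim ↥N.left := by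
  haveI := AntiAffine.isSeparated_grp H
  obtain ⟨K, _, i, hi, hci, hKn, hK⟩ := exists_kernel f
  haveI := hi
  haveI := hci
  haveI : LocallyOfFiniteType K.hom := by rw [← Over.w i]; infer_instance
  haveI : Mono i := (Over.forget _).mono_of_mono_map (inferInstanceAs (Mono i.left))
  obtain ⟨X, p, hf, hs, hl, sq, -, hX⟩ := QuotField.exists_quot i
  haveI := hf
  haveI := hs
  haveI := hl
  haveI := hX
  haveI := QuotDescent.epi_of_fppf p
  obtain ⟨_, hp, -⟩ := QuotGroup.exists_grpObj i p sq hKn
  haveI := hp
  have hif : i ≫ f = 1 := hK.w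
  obtain ⟨v, hv⟩ := QuotDescent.exists_descOver p f fun T x y h => by
    obtain ⟨r, hr⟩ := (QuotGroup.comp_eq_iff i p sq x y).1 h
    rw [hr, MonObj.mul_comp, Category.assoc, hif, MonObj.comp_one, _root_.one_mul]
  haveI : IsMonHom v := {
    one_hom := by rw [← IsMonHom.one_hom (f := p), Category.assoc, hv, IsMonHom.one_hom]
    mul_hom := by
      obtain ⟨_, _, _⟩ := QuotGroup.fppf_tensor p p
      haveI := QuotDescent.epi_of_fppf (p ⊗ₘ p)
      rw [← cancel_epi (p ⊗ₘ p), ← reassoc_of% (IsMonHom.mul_hom (f := p)), hv, IsMonHom.mul_hom,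
        tensorHom_comp_tensorHom_assoc, hv] }
  haveI : Mono v := by
    refine ⟨fun {T} a b hab => ?_⟩
    -- lift both points along the projection
    have key : ∀ (T : Over (Spec (CommRingCat.of k))) (x y : T ⟶ G), x ≫ f = y ≫ f → x ≫ p = y ≫ p := by
      intro T x y h
      rw [QuotGroup.comp_eq_iff i p sq]
      refine ⟨hK.lift (x * y⁻¹) (toUnit T) ?_, ?_⟩
      · rw [MonObj.mul_comp, GrpObj.inv_comp, h, mul_inv_cancel, Hom.one_def]
      · rw [hK.lift_fst, inv_mul_cancel_right]
    let Ta : Over (Spec (CommRingCat.of k)) := Over.mk (pullback.snd p.left a.left ≫ T.hom)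
    let π : Ta ⟶ T := Over.homMk (pullback.snd p.left a.left) rfl
    let za : Ta ⟶ G := Over.homMk (pullback.fst p.left a.left) (by
      show pullback.fst p.left a.left ≫ G.hom = pullback.snd p.left a.left ≫ T.hom
      rw [← Over.w p, pullback.condition_assoc, Over.w a])
    let Tb : Over (Spec (CommRingCat.of k)) := Over.mk (pullback.snd p.left (π ≫ b).left ≫ Ta.hom)
    let π' : Tb ⟶ Ta := Over.homMk (pullback.snd p.left (π ≫ b).left) rfl
    let zb : Tb ⟶ G := Over.homMk (pullback.fst p.left (π ≫ b).left) (by
      show pullback.fst p.left (π ≫ b).left ≫ G.hom = pullback.snd p.left (π ≫ b).left ≫ Ta.hom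
      rw [← Over.w p, pullback.condition_assoc, Over.w (π ≫ b)])
    have ha : za ≫ p = π ≫ a := Over.OverMorphism.ext pullback.condition
    have hb : zb ≫ p = π' ≫ π ≫ b := Over.OverMorphism.ext pullback.condition
    haveI : Flat π.left := MorphismProperty.pullback_snd (P := @Flat) _ _ hf
    haveI : Surjective π.left := MorphismProperty.pullback_snd (P := @Surjective) _ _ hs
    haveI : LocallyOfFinitePresentation π.left := MorphismProperty.pullback_snd (P := @LocallyOfFinitePresentation) _ _ hl
    haveI : Flat π'.left := MorphismProperty.pullback_snd (P := @Flat) _ _ hf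
    haveI : Surjective π'.left := MorphismProperty.pullback_snd (P := @Surjective) _ _ hs
    haveI : LocallyOfFinitePresentation π'.left := MorphismProperty.pullback_snd (P := @LocallyOfFinitePresentation) _ _ hl
    haveI := QuotDescent.epi_of_fppf π
    haveI := QuotDescent.epi_of_fppf π'
    rw [← cancel_epi π, ← cancel_epi π', ← ha, ← hb, ← Category.assoc]
    refine key _ _ _ ?_
    rw [Category.assoc, ← hv, ← Category.assoc za, ha, ← Category.assoc zb, hb]
    simp only [Category.assoc, hab]
  haveI : QuasiCompact v.left := by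
    haveI : QuasiCompact (p.left ≫ v.left) := by rw [← Over.comp_left, hv]; infer_instance
    refine ⟨fun U hU hUc => ?_⟩
    have h := QuasiCompact.isCompact_preimage (f := p.left ≫ v.left) U hU hUc
    rw [Scheme.Hom.comp_base, TopCat.coe_comp, Set.preimage_comp] at h
    exact Set.image_preimage_eq (v.left ⁻¹' U) p.left.surjective ▸ h.image p.left.continuous
  haveI := QuotField.isClosedImmersion_hom v
  have hrange : Set.range f.left = Set.range v.left := by
    rw [← hv, Over.comp_left, Scheme.Hom.comp_base, TopCat.coe_comp]
    exact p.left.surjective.range_comp _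
  refine ⟨hrange ▸ v.left.isClosedEmbedding.isClosed_range, fun N n hn => ?_⟩
  have hN : topologicalKrullDim ↥N.left = topologicalKrullDim ↥K.left :=
    (Scheme.homeoOfIso ((Over.forget _).mapIso (hn.isoIsPullback _ _ hK))).isHomeomorph.topologicalKrullDim_eq
  have hXd : topologicalKrullDim ↥(Set.range f.left) = topologicalKrullDim ↥X.left :=
    ((Homeomorph.setCongr hrange).trans v.left.isClosedEmbedding.isEmbedding.toHomeomorph.symm).isHomeomorph.topologicalKrullDim_eq
  rw [hN, hXd]
  have hadd := fun x : X.left => QuotTop.dim_add i p sq x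
  let x₀ : X.left := p.left (η[G].left (IsLocalRing.closedPoint k))
  have hle : ∀ x : X.left, topologicalKrullDim ↥(connectedComponent x) ≤ topologicalKrullDim ↥X.left :=
    fun x => topologicalKrullDim_subspace_le _ _
  refine le_antisymm ((hadd x₀).symm.le.trans (add_le_add (hle x₀) le_rfl)) ?_
  haveI : Subsingleton ↥(Spec (CommRingCat.of k)) := inferInstanceAs (Subsingleton (PrimeSpectrum k))
  obtain ⟨c, hc, -⟩ := exists_isMaxPt (η[K].left (IsLocalRing.closedPoint k))
  have hKd := topologicalKrullDim_eq_deg hc
  have hcc : ∀ x : X.left, topologicalKrullDim ↥(connectedComponent x) = topologicalKrullDim ↥(connectedComponent x₀) :=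
    fun x => by
      have h := (hadd x).trans (hadd x₀).symm
      rw [hKd] at h
      exact eq_of_add_natCast_eq h
  refine le_trans (add_le_add ?_ le_rfl) (hadd x₀).le
  haveI : Nonempty X.left := ⟨x₀⟩
  rw [FibDim.topologicalKrullDim_eq_iSup_rd X.hom]
  refine iSup_le fun x => ?_
  rw [← hcc x, ← FibDim.topologicalKrullDim_closure X.hom x]
  exact (Topology.IsEmbedding.inclusion (closure_minimal (Set.singleton_subset_iff.2 mem_connectedComponent)
    isClosed_connectedComponent)).isInducing.topologicalKrullDim_le

end

end Groth.Agent.Deform.QuotImage
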