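import Groth.Agent.Deform.QuotSep
import Groth.Agent.GrpSchLib.Coincidence

/-!
# Quotients by right translations are separated
-/

set_option backward.isDefEq.respectTransparency false
set_option backward.isDefEq.respectTransparency.types false
set_option linter.style.haveILetI false
set_option linter.unusedSectionVars false

universe u

open CategoryTheory CategoryTheory.Limits MonoidalCategory CartesianMonoidalCategory MonObj AlgebraicGeometry

attribute [local instance] CategoryTheory.Hom.monoid CategoryTheory.Hom.group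

namespace Groth.Agent.Deform.QuotSepRight

open QuotDescent

/-- The quotient by a closed subgroup acting by right translations is separated. -/
theorem isSeparated_of_isPullback {S : Scheme.{u}} {H G X : Over S} [GrpObj G] (i : H ⟶ G)
    [IsClosedImmersion i.left] (p : G ⟶ X) [Flat p.left] [Surjective p.left]
    [LocallyOfFinitePresentation p.left] (hpX : IsPullback (fst G H) ((G ◁ i) ≫ μ[G]) p p) :
    IsSeparated X.hom := by
  let J : G ⊗ H ⟶ G ⊗ G := lift (fst G H) ((G ◁ i) ≫ μ[G])
  haveI : IsClosedImmersion J.left := by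
    let e : G ⊗ G ≅ G ⊗ G :=
      { hom := lift (fst G G) μ[G]
        inv := lift (fst G G) ((fst G G)⁻¹ * snd G G)
        hom_inv_id := by
          have hμ : μ[G] = fst G G * snd G G := by rw [Hom.mul_def, lift_fst_snd, Category.id_comp]
          apply CartesianMonoidalCategory.hom_ext
          · simp
          · simp [MonObj.comp_mul, GrpObj.comp_inv, hμ]
        inv_hom_id := by
          apply CartesianMonoidalCategory.hom_ext
          · simp
          · rw [Category.assoc, lift_snd, ← Hom.mul_def, mul_inv_cancel_left, Category.id_comp] }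
    have hJ : J = (G ◁ i) ≫ e.hom := by apply CartesianMonoidalCategory.hom_ext <;> simp [J, e]
    haveI : IsClosedImmersion (G ◁ i).left :=
      MorphismProperty.of_isPullback (GrpSchLib.isPullback_whiskerLeft (W := G) i).flip ‹IsClosedImmersion i.left›
    haveI : IsIso e.hom.left := ((Over.forget _).mapIso e).isIso_hom
    rw [hJ, Over.comp_left]
    infer_instance
  have sq : IsPullback J (fst G H ≫ p) (p ⊗ₘ p) (lift (𝟙 X) (𝟙 X)) := by
    have w : J ≫ (p ⊗ₘ p) = (fst G H ≫ p) ≫ lift (𝟙 X) (𝟙 X) := by
      apply CartesianMonoidalCategory.hom_ext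
      · simp [J]
      · simp only [J, Category.assoc, tensorHom_snd, lift_snd_assoc, lift_snd, Category.comp_id]
        rw [hpX.w, Category.assoc]
    have hl : ∀ c : PullbackCone (p ⊗ₘ p) (lift (𝟙 X) (𝟙 X)),
        (c.fst ≫ fst G G) ≫ p = c.snd ∧ (c.fst ≫ fst G G) ≫ p = (c.fst ≫ snd G G) ≫ p := fun c => by
      have h1 := congrArg (· ≫ fst X X) c.condition
      have h2 := congrArg (· ≫ snd X X) c.condition
      simp only [Category.assoc, tensorHom_fst, tensorHom_snd, lift_fst, lift_snd, Category.comp_id] at h1 h2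
      refine ⟨(Category.assoc _ _ _).trans h1, ?_⟩
      rw [Category.assoc, Category.assoc, h1, h2]
    refine ⟨⟨w⟩, ⟨PullbackCone.IsLimit.mk _ (fun c => hpX.lift _ _ (hl c).2) (fun c => ?_) (fun c => ?_)
      (fun c m h₁ _ => ?_)⟩⟩
    · apply CartesianMonoidalCategory.hom_ext
      · rw [Category.assoc, lift_fst, hpX.lift_fst]
      · rw [Category.assoc, lift_snd, hpX.lift_snd]
    · rw [hpX.lift_fst_assoc, (hl c).1]
    · refine hpX.hom_ext ?_ ?_
      · rw [hpX.lift_fst, ← h₁, Category.assoc, lift_fst]
      · rw [hpX.lift_snd, ← h₁, Category.assoc, lift_snd]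
  obtain ⟨_, _, _⟩ := fppf_whiskerRight p G
  obtain ⟨_, _, _⟩ := fppf_whiskerRight p X
  have hpp : (p ⊗ₘ p) = (p ▷ G) ≫ (β_ X G).hom ≫ (p ▷ X) ≫ (β_ X X).hom := by
    apply CartesianMonoidalCategory.hom_ext <;> simp
  haveI : IsIso (β_ X G).hom.left := ((Over.forget _).mapIso (β_ X G)).isIso_hom
  haveI : IsIso (β_ X X).hom.left := ((Over.forget _).mapIso (β_ X X)).isIso_hom
  haveI : Flat (p ⊗ₘ p).left := by rw [hpp]; simp only [Over.comp_left]; infer_instance
  haveI : Surjective (p ⊗ₘ p).left := by rw [hpp]; simp only [Over.comp_left]; infer_instance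
  haveI : LocallyOfFinitePresentation (p ⊗ₘ p).left := by rw [hpp]; simp only [Over.comp_left]; infer_instance
  haveI := EtFound.fpqc_isClosedImmersion.{u}
  haveI hd : IsClosedImmersion (lift (𝟙 X) (𝟙 X)).left :=
    MorphismProperty.of_isPullback_of_descendsAlong (P := @IsClosedImmersion)
      (Q := @Surjective ⊓ @Flat ⊓ @LocallyOfFinitePresentation) (sq.map (Over.forget _))
      ⟨⟨inferInstanceAs (Surjective (p ⊗ₘ p).left), inferInstanceAs (Flat (p ⊗ₘ p).left)⟩,
        inferInstanceAs (LocallyOfFinitePresentation (p ⊗ₘ p).left)⟩ ‹IsClosedImmersion J.left›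
  constructor
  have : (lift (𝟙 X) (𝟙 X)).left = pullback.diagonal X.hom := by
    apply pullback.hom_ext
    · rw [pullback.diagonal_fst]
      exact congrArg CommaMorphism.left (lift_fst (𝟙 X) (𝟙 X))
    · rw [pullback.diagonal_snd]
      exact congrArg CommaMorphism.left (lift_snd (𝟙 X) (𝟙 X))
  exact this ▸ hd

end Groth.Agent.Deform.QuotSepRight
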