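import Groth.Agent.Deform.QuotArtin
import Groth.Agent.GrpSchLib.FieldAllComp
import Groth.Agent.GrpSchLib.FibreDimGrp
import Groth.Agent.FibDim.RelDim
import Groth.Agent.FibDim.BaseField

/-!
# Topology of quotients by subgroup schemes: connected components and dimensions
-/

set_option backward.isDefEq.respectTransparency false
set_option backward.isDefEq.respectTransparency.types false
set_option linter.style.haveILetI false
set_option linter.unusedSectionVars false

universe u

open CategoryTheory CategoryTheory.Limits MonoidalCategory CartesianMonoidalCategory MonObj AlgebraicGeometry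

attribute [local instance] CategoryTheory.Hom.monoid CategoryTheory.Hom.group

namespace Groth.Agent.Deform.QuotTop

open GrpSchLib QuotBase

noncomputable section

section AlgClosed

variable {K : Type u} [Field K] [IsAlgClosed K] {F G X : Over (Spec (CommRingCat.of K))} [GrpObj F] [GrpObj G]
  [LocallyOfFiniteType G.hom] [LocallyOfFiniteType X.hom] (u : F ⟶ G) [IsMonHom u] (p : G ⟶ X)

/-- Over an algebraically closed field the components of the quotient are the images of those of the group. -/
theorem connectedComponent_algClosed [Surjective p.left] [Flat p.left] [LocallyOfFinitePresentation p.left]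
    (sq : IsPullback ((u ▷ G) ≫ μ[G]) (snd F G) p p) (x : X.left) :
    IsIrreducible (connectedComponent x) ∧ IsCompact (connectedComponent x) ∧ IsOpen (connectedComponent x) := by
  haveI : IsLocallyNoetherian G.left := LocallyOfFiniteType.isLocallyNoetherian G.hom
  haveI := LocallyOfFiniteType.jacobsonSpace G.hom
  have hopen : ∀ g : G.left, IsOpen (p.left '' connectedComponent g) := fun g =>
    p.left.isOpenMap _ (isOpen_connectedComponent g)
  have hirr : ∀ g : G.left, IsIrreducible (p.left '' connectedComponent g) := fun g => by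
    obtain ⟨c, hc, hcg⟩ := exists_isMaxPt g
    rw [connectedComponent_eq_closure hc hcg]
    exact isIrreducible_singleton.closure.image _ p.left.continuous.continuousOn
  let Kpt : ∀ a : G.left, IsClosed ({a} : Set G.left) → (𝟙_ (Over (Spec (CommRingCat.of K))) ⟶ G) :=
    fun a ha => Over.homMk _ ((pointEquivClosedPoint G.hom).symm ⟨a, ha⟩).2
  have hKpt : ∀ a ha, (Kpt a ha).left (IsLocalRing.closedPoint K) = a := fun a ha => by
    simp only [Kpt, pointEquivClosedPoint]
    exact pointOfClosedPoint_apply _ _ _ _
  have heq : ∀ g g' : G.left, (p.left '' connectedComponent g ∩ p.left '' connectedComponent g').Nonempty →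
      p.left '' connectedComponent g' ⊆ p.left '' connectedComponent g := by
    rintro g g' ⟨y, hy, hy'⟩
    have hW : IsOpen (p.left '' connectedComponent g') := hopen g'
    obtain ⟨a₀, ha₀, rfl⟩ := hy
    obtain ⟨a, ⟨hag, hag'⟩, hac⟩ := nonempty_inter_closedPoints
      (Z := connectedComponent g ∩ p.left ⁻¹' (p.left '' connectedComponent g')) ⟨a₀, ha₀, hy'⟩
      ((isOpen_connectedComponent g).inter (hW.preimage p.left.continuous)).isLocallyClosed
    let α := Kpt a hac
    have hpa : IsClosed ({p.left a} : Set X.left) := by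
      have h := ((pointEquivClosedPoint X.hom) ⟨(α ≫ p).left, Over.w (α ≫ p)⟩).2
      have e : (α ≫ p).left (IsLocalRing.closedPoint K) = p.left a := by
        rw [Over.comp_left, Scheme.Hom.comp_apply, hKpt]
      rw [← e]
      exact h
    obtain ⟨b₀, hb₀, hb₀a⟩ := hag'
    obtain ⟨b, ⟨hbg, hba⟩, hbc⟩ := nonempty_inter_closedPoints
      (Z := connectedComponent g' ∩ p.left ⁻¹' {p.left a}) ⟨b₀, hb₀, hb₀a⟩
      (isClosed_connectedComponent.inter (hpa.preimage p.left.continuous)).isLocallyClosed
    let β := Kpt b hbc
    have hαβ : α ≫ p = β ≫ p := by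
      have h : (pointEquivClosedPoint X.hom) ⟨(α ≫ p).left, Over.w (α ≫ p)⟩ =
          (pointEquivClosedPoint X.hom) ⟨(β ≫ p).left, Over.w (β ≫ p)⟩ := by
        refine Subtype.ext ?_
        show (α ≫ p).left (IsLocalRing.closedPoint K) = (β ≫ p).left (IsLocalRing.closedPoint K)
        rw [Over.comp_left, Over.comp_left, Scheme.Hom.comp_apply, Scheme.Hom.comp_apply, hKpt, hKpt]
        exact (hba : p.left b = p.left a).symm
      exact Over.OverMorphism.ext (congrArg Subtype.val ((pointEquivClosedPoint X.hom).injective h) :)
    obtain ⟨r, hr1, hr2⟩ := sq.exists_lift α β hαβ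
    rw [leftMul_apply, hr2] at hr1
    let f := (r ≫ fst F G) ≫ u
    let L : G ≅ G :=
      { hom := (toUnit G ≫ f) * 𝟙 G
        inv := (toUnit G ≫ f)⁻¹ * 𝟙 G
        hom_inv_id := by simp [MonObj.comp_mul, GrpObj.comp_inv]
        inv_hom_id := by simp [MonObj.comp_mul] }
    haveI : IsIso L.hom.left := ((Over.forget _).mapIso L).isIso_hom
    have hL : L.hom ≫ p = p := by
      have h := sq.w
      have h2 : lift (toUnit G ≫ r ≫ fst F G) (𝟙 G) ≫ (u ▷ G) ≫ μ[G] = L.hom := by
        rw [leftMul_apply, lift_fst, lift_snd]
        simp [L, f]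
      rw [← h2, Category.assoc, h, ← Category.assoc, lift_snd, Category.id_comp]
    have hβα : β ≫ L.hom = α := by
      rw [← hr1]
      simp [L, f, MonObj.comp_mul]
    have hLb : L.hom.left b = a := by
      have h := congrArg (fun f : 𝟙_ (Over (Spec (CommRingCat.of K))) ⟶ G =>
        f.left (IsLocalRing.closedPoint K)) hβα
      rw [Over.comp_left, Scheme.Hom.comp_apply, hKpt] at h
      exact h.trans (hKpt a hac)
    rintro _ ⟨w, hw, rfl⟩
    refine ⟨L.hom.left w, ?_, ?_⟩
    · rw [connectedComponent_eq hag]
      rw [← hLb]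
      refine L.hom.left.continuous.image_connectedComponent_subset b ⟨w, ?_, rfl⟩
      rw [← connectedComponent_eq hbg]
      exact hw
    · rw [← Scheme.Hom.comp_apply, ← Over.comp_left, hL]
  obtain ⟨g, rfl⟩ := p.left.surjective x
  have hclosed : IsClosed (p.left '' connectedComponent g) := by
    constructor
    have : (p.left '' connectedComponent g)ᶜ =
        ⋃ g' : {g' : G.left // p.left g' ∉ p.left '' connectedComponent g}, p.left '' connectedComponent g'.1 := by
      ext y
      constructor
      · intro hy
        obtain ⟨g', rfl⟩ := p.left.surjective y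
        exact Set.mem_iUnion.2 ⟨⟨g', hy⟩, g', mem_connectedComponent, rfl⟩
      · intro hy hy'
        obtain ⟨⟨g', hg'⟩, hy⟩ := Set.mem_iUnion.1 hy
        exact hg' (heq g g' ⟨y, hy', hy⟩ ⟨g', mem_connectedComponent, rfl⟩)
    rw [this]
    exact isOpen_iUnion fun g' => hopen g'.1
  have hcc : connectedComponent (p.left g) = p.left '' connectedComponent g :=
    subset_antisymm (IsClopen.connectedComponent_subset ⟨hclosed, hopen g⟩ ⟨g, mem_connectedComponent, rfl⟩)
      ((hirr g).isPreirreducible.isPreconnected.subset_connectedComponent ⟨g, mem_connectedComponent, rfl⟩)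
  rw [hcc]
  exact ⟨hirr g, (isCompact_connectedComponent g).image p.left.continuous, hopen g⟩

end AlgClosed

section Artin

variable {A : Type u} [CommRing A] [IsArtinianRing A] [IsLocalRing A]
  {F G X : Over (Spec (CommRingCat.of A))} [GrpObj F] [GrpObj G] [LocallyOfFiniteType G.hom]
  [LocallyOfFiniteType X.hom] (u : F ⟶ G) [IsMonHom u] (p : G ⟶ X) [Surjective p.left] [Flat p.left]
  [LocallyOfFinitePresentation p.left]

/-- Components of the quotient over an artinian local ring are irreducible, compact and open. -/
theorem connectedComponent_artin (sq : IsPullback ((u ▷ G) ≫ μ[G]) (snd F G) p p) (x : X.left) :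
    IsIrreducible (connectedComponent x) ∧ IsCompact (connectedComponent x) ∧ IsOpen (connectedComponent x) := by
  let k := IsLocalRing.ResidueField A
  let K := AlgebraicClosure k
  let g : Spec (CommRingCat.of K) ⟶ Spec (CommRingCat.of k) := Spec.map (CommRingCat.ofHom (algebraMap k K))
  haveI : IsIntegralHom g := (IsIntegralHom.SpecMap_iff).mpr (algebraMap_isIntegral_iff.mpr inferInstance)
  haveI : Surjective g := surjective_spec_map_field _
  haveI : UniversallyOpen g := inferInstance
  let Fr := Over.pullback (g ≫ clPt A)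
  haveI : LocallyOfFiniteType (Fr.obj G).hom := inferInstanceAs (LocallyOfFiniteType (pullback.snd G.hom _))
  haveI : LocallyOfFiniteType (Fr.obj X).hom := inferInstanceAs (LocallyOfFiniteType (pullback.snd X.hom _))
  haveI : Flat (Fr.map p).left := MorphismProperty.overPullbackMap (P := @Flat) _ p ‹_›
  haveI : Surjective (Fr.map p).left := MorphismProperty.overPullbackMap (P := @Surjective) _ p ‹_›
  haveI : LocallyOfFinitePresentation (Fr.map p).left :=
    MorphismProperty.overPullbackMap (P := @LocallyOfFinitePresentation) _ p ‹_›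
  haveI : IsMonHom (Fr.map u) := inferInstance
  have sq₁ : IsPullback ((Fr.map u ▷ Fr.obj G) ≫ μ[Fr.obj G]) (snd (Fr.obj F) (Fr.obj G)) (Fr.map p) (Fr.map p) := by
    refine (sq.map Fr).of_iso (Functor.Monoidal.μIso Fr F G).symm (Iso.refl _) (Iso.refl _) (Iso.refl _) ?_ ?_
      (by simp) (by simp)
    · have h1 := Functor.LaxMonoidal.μ_natural_left Fr u G
      have h2 : μ[Fr.obj G] = Functor.LaxMonoidal.μ Fr G G ≫ Fr.map μ[G] := rfl
      rw [Iso.refl_hom, Category.comp_id, Iso.symm_hom, h2, reassoc_of% h1, Iso.eq_inv_comp,
        Functor.Monoidal.μIso_hom, Fr.map_comp]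
    · rw [Iso.refl_hom, Category.comp_id, Iso.symm_hom, Iso.eq_inv_comp, Functor.Monoidal.μIso_hom]
      simp
  let π : (Fr.obj X).left ⟶ X.left := pullback.fst X.hom (g ≫ clPt A)
  haveI : IsIntegralHom (g ≫ clPt A) := inferInstance
  haveI : IsIntegralHom π := MorphismProperty.pullback_fst (P := @IsIntegralHom) _ _ inferInstance
  haveI : Surjective π := MorphismProperty.pullback_fst (P := @Surjective) _ _ inferInstance
  have hπo : IsOpenMap π := by
    let e := pullbackLeftPullbackSndIso X.hom (clPt A) g
    have he : e.inv ≫ pullback.fst _ g ≫ pullback.fst X.hom (clPt A) = π := by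
      rw [Iso.inv_comp_eq]
      exact (pullbackLeftPullbackSndIso_hom_fst _ _ _).symm
    rw [← he, Scheme.Hom.comp_base, Scheme.Hom.comp_base]
    exact ((clHomeo X).isOpenMap.comp (pullback.fst (pullback.snd X.hom (clPt A)) g).isOpenMap).comp
      e.inv.isOpenEmbedding.isOpenMap
  obtain ⟨x', rfl⟩ := π.surjective x
  obtain ⟨h1, h2, h3⟩ := connectedComponent_algClosed (Fr.map u) (Fr.map p) sq₁ x'
  have hcc : connectedComponent (π x') = π '' connectedComponent x' :=
    subset_antisymm
      (IsClopen.connectedComponent_subset ⟨π.isClosedMap _ isClosed_connectedComponent, hπo _ h3⟩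
        ⟨x', mem_connectedComponent, rfl⟩)
      (π.continuous.image_connectedComponent_subset x')
  rw [hcc]
  exact ⟨h1.image _ π.continuous.continuousOn, h2.image π.continuous, hπo _ h3⟩

/-- The dimension formula for a quotient. -/
theorem dim_add [LocallyOfFiniteType F.hom] (sq : IsPullback ((u ▷ G) ≫ μ[G]) (snd F G) p p) (x : X.left) :
    topologicalKrullDim ↥(connectedComponent x) + topologicalKrullDim ↥F.left = topologicalKrullDim ↥G.left := by
  haveI : Subsingleton ↥(Spec (CommRingCat.of A)) := inferInstanceAs (Subsingleton (PrimeSpectrum A))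
  have hgrp : ∀ (H : Over (Spec (CommRingCat.of A))) [GrpObj H] [LocallyOfFiniteType H.hom] (a : H.left),
      FlatMor.fibreDimAt H.hom a = topologicalKrullDim ↥H.left := fun H _ _ a => by
    rw [FibreDimGrp.fibreDimAt_eq H a]
    have he : H.hom ⁻¹' {H.hom a} = Set.univ := Set.eq_univ_of_forall fun z => Subsingleton.elim _ _
    exact ((Homeomorph.setCongr he).trans (Homeomorph.Set.univ _)).isHomeomorph.topologicalKrullDim_eq
  obtain ⟨a, rfl⟩ := p.left.surjective x
  -- the fibres of `p` have the dimension of `F`
  have hsq : IsPullback ((u ▷ G) ≫ μ[G]).left (snd F G).left p.left p.left := sq.map (Over.forget _)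
  haveI : LocallyOfFiniteType (snd F G).left := MorphismProperty.pullback_snd (P := @LocallyOfFiniteType) _ _ ‹_›
  haveI : Surjective ((u ▷ G) ≫ μ[G]).left := MorphismProperty.of_isPullback hsq.flip ‹Surjective p.left›
  obtain ⟨r, hr⟩ := ((u ▷ G) ≫ μ[G]).left.surjective a
  have hfs : IsPullback (fst F G).left (snd F G).left F.hom G.hom := IsPullback.of_hasPullback F.hom G.hom
  have hp : FlatMor.fibreDimAt p.left a = topologicalKrullDim ↥F.left := by
    rw [← hr, ← FibDim.fibreDimAt_baseChange hsq r,
      FibDim.fibreDimAt_baseChange hfs r, hgrp F]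
  have hG := hgrp G a
  rw [← Over.w p, FibDim.fibreDimAt_comp_of_flat p.left X.hom a (Flat.stalkMap p.left a), hp] at hG
  -- the local dimension of the quotient
  obtain ⟨z, hz, -, hzmax, he⟩ := FibDim.exists_fibMax_generization X.hom (p.left a)
  obtain ⟨hi, -, ho⟩ := connectedComponent_artin u p sq (p.left a)
  have hcl : connectedComponent (p.left a) = closure {z} := by
    have hgen := hi.isGenericPoint_genericPoint isClosed_connectedComponent
    have hzC : z ∈ connectedComponent (p.left a) := hz.mem_open ho mem_connectedComponent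
    have hzg : hi.genericPoint = z :=
      hzmax _ (hgen.specializes hzC) (Subsingleton.elim _ _)
    rw [← hzg, hgen.def]
  rw [hcl, FibDim.topologicalKrullDim_closure X.hom, ← he, ← hG, add_comm]

end Artin

end

end Groth.Agent.Deform.QuotTop
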