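import Groth.Agent.Deform.GModStable
import Groth.Prelude.Def_W4bk4grossh111Obs
import Groth.Prelude.Def_W4bk4grossh1223Act
import Mathlib.RingTheory.Jacobson.Ring
import Mathlib.FieldTheory.IsAlgClosed.Basic
import Mathlib.LinearAlgebra.Dual.Lemmas

/-! Translation invariance of functions, tested on points. -/

universe u

open CategoryTheory Limits AlgebraicGeometry MonoidalCategory CartesianMonoidalCategory MonObj GrpObj

attribute [local instance] CategoryTheory.Hom.monoid CategoryTheory.Hom.group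
set_option linter.style.haveILetI false

namespace Groth.Agent.Deform.RTrans

open GModStable
attribute [local instance] GModStable.algΓ

variable {k : Type u} [Field k] {X : Over (Spec (CommRingCat.of k))}

/-- The tautological point of an affine scheme. -/
noncomputable def uPt (X : Over (Spec (CommRingCat.of k))) [IsAffine X.left] :
    VecGrp.pt k Γ(X.left, ⊤) ⟶ X :=
  Over.homMk X.left.isoSpec.inv (by
    rw [Iso.inv_comp_eq, Scheme.isoSpec_hom]
    show _ = X.left.toSpecΓ ≫ Spec.map ((Scheme.ΓSpecIso (CommRingCat.of k)).inv ≫ X.hom.appTop)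
    rw [Spec.map_comp, ← Category.assoc, ← Scheme.toSpecΓ_naturality, Category.assoc, toSpecΓ_SpecMap_ΓSpecIso_inv,
      Category.comp_id])

theorem ptMap_fn_uPt [IsAffine X.left] {B : Type u} [CommRing B] [Algebra k B] (g : VecGrp.pt k B ⟶ X) :
    VecGrp.ptMap (fn g) ≫ uPt X = g := by
  apply Over.OverMorphism.ext
  show Spec.map (g.left.appTop ≫ (Scheme.ΓSpecIso (CommRingCat.of B)).hom) ≫ X.left.isoSpec.inv = g.left
  rw [Spec.map_comp, Category.assoc, SpecMap_ΓSpecIso_hom,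
    ← Category.assoc, ← Scheme.toSpecΓ_naturality, Category.assoc, ← Scheme.isoSpec_hom, Iso.hom_inv_id,
    Category.comp_id]

theorem fn_uPt [IsAffine X.left] (f : Γ(X.left, ⊤)) : fn (uPt X) f = f := by
  show (Scheme.ΓSpecIso Γ(X.left, ⊤)).hom (X.left.isoSpec.inv.appTop f) = f
  have h : X.left.isoSpec.inv.appTop ≫ (Scheme.ΓSpecIso Γ(X.left, ⊤)).hom = 𝟙 _ := by
    rw [← cancel_epi (Scheme.ΓSpecIso Γ(X.left, ⊤)).hom]
    have e : X.left.isoSpec.hom.appTop = (Scheme.ΓSpecIso Γ(X.left, ⊤)).hom := by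
      rw [Scheme.isoSpec_hom, Scheme.toSpecΓ_appTop]
    rw [← e, ← Category.assoc, ← Scheme.Hom.comp_appTop, Iso.inv_hom_id, Category.comp_id]
    exact Category.id_comp _
  exact congr($h f)

variable {G T : Over (Spec (CommRingCat.of k))} [GrpObj G]

theorem fn_graph {B : Type u} [CommRing B] [Algebra k B] (g : T ⟶ G) (f : Γ(G.left, ⊤))
    (x : VecGrp.pt k B ⟶ G) (y : VecGrp.pt k B ⟶ T) :
    fn (x * (y ≫ g)) f = fn (lift x y) (((G ◁ g) ≫ μ[G]).left.appTop f) := by
  have : x * (y ≫ g) = lift x y ≫ (G ◁ g) ≫ μ[G] := by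
    rw [lift_whiskerLeft_assoc]
    rfl
  rw [this]
  rfl

theorem rTransInv_of_forall [IsAffine G.left] [IsAffine T.left] (g : T ⟶ G) (f : Γ(G.left, ⊤))
    (h : ∀ (B : Type u) [CommRing B] [Algebra k B] (x : VecGrp.pt k B ⟶ G) (y : VecGrp.pt k B ⟶ T),
      fn (x * (y ≫ g)) f = fn x f) : AGF.IsRTransInv g f := by
  haveI : IsAffine (G ⊗ T).left := inferInstanceAs (IsAffine (pullback G.hom T.hom))
  unfold AGF.IsRTransInv
  have h2 := h _ (uPt (G ⊗ T) ≫ fst G T) (uPt (G ⊗ T) ≫ snd G T)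
  rw [fn_graph, show lift (uPt (G ⊗ T) ≫ fst G T) (uPt (G ⊗ T) ≫ snd G T) = uPt (G ⊗ T) by
    apply CartesianMonoidalCategory.hom_ext <;> simp, fn_uPt] at h2
  refine h2.trans ?_
  show fn (uPt (G ⊗ T)) ((fst G T).left.appTop f) = _
  rw [fn_uPt]

theorem eval_of_rTransInv (g : T ⟶ G) (f : Γ(G.left, ⊤)) (h : AGF.IsRTransInv g f) {B : Type u} [CommRing B]
    [Algebra k B] (x : VecGrp.pt k B ⟶ G) (y : VecGrp.pt k B ⟶ T) : fn (x * (y ≫ g)) f = fn x f := by
  rw [fn_graph, h]
  conv_rhs => rw [← lift_fst x y]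
  rfl

open scoped TensorProduct

/-- The coefficient of a linear form on a base change. -/
noncomputable def pr {M : Type u} [AddCommGroup M] [Module k M] (φ : M →ₗ[k] k) (B : Type u) [CommRing B]
    [Algebra k B] : B ⊗[k] M →ₗ[B] B :=
  (TensorProduct.AlgebraTensorModule.rid k B B).toLinearMap ∘ₗ φ.baseChange B

theorem pr_natural {M : Type u} [AddCommGroup M] [Module k M] (φ : M →ₗ[k] k) {B B' : Type u} [CommRing B]
    [Algebra k B] [CommRing B'] [Algebra k B'] (a : B →ₐ[k] B') (z : B ⊗[k] M) :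
    a (pr φ B z) = pr φ B' (VecGrp.Wmap a z) := by
  induction z using TensorProduct.induction_on with
  | zero => simp
  | tmul b m => simp [pr, map_smul]
  | add p q hp hq => simp only [map_add, hp, hq]

/-- Points fixing the invariant functions fix the invariant vectors. -/
theorem fixed_of_rTransInv [IsAffine G.left] [IsAffine T.left] (i : T ⟶ G) {M : Type u} [AddCommGroup M] [Module k M]
    (ρ : VecGrp.GMod G M) (g : VecGrp.pt k k ⟶ G)
    (hg : ∀ f : Γ(G.left, ⊤), AGF.IsRTransInv i f → AGF.IsRTransInv g f) (a : M) (ha : a ∈ ρ.fixedUnder i) :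
    ρ.ρ k g ((1 : k) ⊗ₜ[k] a) = (1 : k) ⊗ₜ[k] a := by
  have key : ∀ φ : M →ₗ[k] k, pr φ k (ρ.ρ k g ((1 : k) ⊗ₜ[k] a)) = pr φ k ((1 : k) ⊗ₜ[k] a) := by
    intro φ
    let f : Γ(G.left, ⊤) := pr φ Γ(G.left, ⊤) (ρ.ρ _ (uPt G) ((1 : Γ(G.left, ⊤)) ⊗ₜ[k] a))
    have hf : ∀ (B : Type u) [CommRing B] [Algebra k B] (x : VecGrp.pt k B ⟶ G),
        fn x f = pr φ B (ρ.ρ B x ((1 : B) ⊗ₜ[k] a)) := by
      intro B _ _ x
      rw [pr_natural, GModStable.ρ_naturality ρ, ptMap_fn_uPt]
    have hinv : AGF.IsRTransInv i f := rTransInv_of_forall i f fun B _ _ x y => by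
      rw [hf, hf, map_mul, LinearEquiv.mul_apply, ha B y]
    have h := eval_of_rTransInv g f (hg f hinv) (1 : VecGrp.pt k k ⟶ G) (𝟙 _)
    rw [Category.id_comp, _root_.one_mul, hf, hf, map_one] at h
    exact h
  apply (TensorProduct.lid k M).injective
  rw [← sub_eq_zero, ← Module.forall_dual_apply_eq_zero_iff k]
  intro φ
  rw [map_sub, sub_eq_zero]
  have h := key φ
  have e : ∀ z : k ⊗[k] M, pr φ k z = φ (TensorProduct.lid k M z) := by
    intro z
    induction z using TensorProduct.induction_on with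
    | zero => simp
    | tmul b m => simp [pr, mul_comm]
    | add p q hp hq => simp only [map_add, hp, hq]
  rwa [e, e] at h

omit [GrpObj G] in
theorem to_pt_unique {B : Type u} [CommRing B] [Algebra k B] (y : VecGrp.pt k B ⟶ VecGrp.pt k k) :
    y = VecGrp.ptMap (Algebra.ofId k B) := by
  apply Over.OverMorphism.ext
  have h := Over.w y
  have e : (VecGrp.pt k k).hom = 𝟙 (Spec (CommRingCat.of k)) := by
    show Spec.map (CommRingCat.ofHom (algebraMap k k)) = _
    rw [Algebra.algebraMap_self]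
    exact Spec.map_id _
  rw [e] at h
  exact (Category.comp_id _).symm.trans (h.trans rfl)

/-- Finitely many invariant functions determine the points fixing all invariant functions. -/
theorem exists_finset_determines [IsAlgClosed k] [IsAffine G.left] [IsReduced G.left] [LocallyOfFiniteType G.hom]
    (i : T ⟶ G) : ∃ s : Finset Γ(G.left, ⊤), (∀ f ∈ s, AGF.IsRTransInv i f) ∧
      ∀ g : VecGrp.pt k k ⟶ G, (∀ f ∈ s, AGF.IsRTransInv g f) →
        ∀ f : Γ(G.left, ⊤), AGF.IsRTransInv i f → AGF.IsRTransInv g f := by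
  classical
  haveI : Algebra.FiniteType k Γ(G.left, ⊤) := by
    haveI : LocallyOfFiniteType (Spec.map (CommRingCat.ofHom (algebraMap k Γ(G.left, ⊤)))) := by
      have e : Spec.map (CommRingCat.ofHom (algebraMap k Γ(G.left, ⊤))) = G.left.isoSpec.inv ≫ G.hom :=
        (Over.w (uPt G)).symm
      rw [e]
      infer_instance
    exact RingHom.finiteType_algebraMap.1 ((HasRingHomProperty.Spec_iff (P := @LocallyOfFiniteType)).1 this)
  haveI : IsNoetherianRing Γ(G.left, ⊤) := Algebra.FiniteType.isNoetherianRing k _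
  haveI : _root_.IsReduced Γ(G.left, ⊤) := inferInstance
  haveI : IsJacobsonRing Γ(G.left, ⊤) := isJacobsonRing_of_finiteType (A := k)
  let τ : (VecGrp.pt k k ⟶ G) → Γ(G.left, ⊤) → Γ(G.left, ⊤) := fun x f =>
    fn ((VecGrp.ptMap (Algebra.ofId k Γ(G.left, ⊤)) ≫ x) * uPt G) f - algebraMap k _ (fn x f)
  let gen : Set Γ(G.left, ⊤) := {t | ∃ f, AGF.IsRTransInv i f ∧ ∃ x, τ x f = t}
  obtain ⟨w, hw, hspan⟩ :=
    Submodule.fg_span_iff_fg_span_finset_subset gen |>.1 (IsNoetherian.noetherian (Ideal.span gen))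
  choose F hF1 hF2 using fun t : w => hw t.2
  refine ⟨Finset.univ.image F, fun f hf => ?_, fun g hg f hf => ?_⟩
  · obtain ⟨t, -, rfl⟩ := Finset.mem_image.1 hf
    exact hF1 t
  have hτ : ∀ x f, fn g (τ x f) = fn (x * g) f - fn x f := by
    intro x f
    simp only [τ]
    rw [map_sub, AlgHom.commutes, Algebra.algebraMap_self, RingHom.id_apply, ← AlgHom.comp_apply, ← fn_ptMap, MonObj.comp_mul, ptMap_fn_uPt, ← Category.assoc]
    congr 2
    have : VecGrp.ptMap (fn g) ≫ VecGrp.ptMap (Algebra.ofId k Γ(G.left, ⊤)) = 𝟙 _ :=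
      (to_pt_unique _).trans (to_pt_unique _).symm
    rw [this, Category.id_comp]
  have hle : Ideal.span gen ≤ RingHom.ker (fn g).toRingHom := by
    show Submodule.span Γ(G.left, ⊤) gen ≤ _
    rw [hspan, Submodule.span_le]
    intro t ht
    obtain ⟨x, hx⟩ := hF2 ⟨t, ht⟩
    have hx' : τ x (F ⟨t, ht⟩) = t := hx
    show fn g t = 0
    rw [← hx', hτ, sub_eq_zero]
    have h := eval_of_rTransInv g _ (hg _ (Finset.mem_image_of_mem F (Finset.mem_univ ⟨t, ht⟩))) x (𝟙 _)
    rwa [Category.id_comp] at h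
  have hrat : ∀ x : VecGrp.pt k k ⟶ G, fn (x * g) f = fn x f := by
    intro x
    rw [← sub_eq_zero, ← hτ]
    exact hle (Ideal.subset_span ⟨f, hf, x, rfl⟩)
  have hD : fn (uPt G * (VecGrp.ptMap (Algebra.ofId k Γ(G.left, ⊤)) ≫ g)) f = f := by
    rw [← sub_eq_zero]
    by_contra hne
    have hnj : fn (uPt G * (VecGrp.ptMap (Algebra.ofId k Γ(G.left, ⊤)) ≫ g)) f - f ∉ (⊥ : Ideal Γ(G.left, ⊤)).jacobson := by
      rw [← Ideal.radical_eq_jacobson, Ideal.mem_radical_iff]
      rintro ⟨n, hn⟩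
      exact hne (eq_zero_of_pow_eq_zero (Ideal.mem_bot.1 hn))
    rw [Ideal.jacobson, Ideal.mem_sInf] at hnj
    push_neg at hnj
    obtain ⟨m, ⟨-, hm⟩, hmem⟩ := hnj
    letI := Ideal.Quotient.field m
    haveI : Algebra.FiniteType k (Γ(G.left, ⊤) ⧸ m) := Algebra.FiniteType.trans (S := Γ(G.left, ⊤)) inferInstance inferInstance
    haveI : Module.Finite k (Γ(G.left, ⊤) ⧸ m) := finite_of_finite_type_of_isJacobsonRing k _
    let e := AlgEquiv.ofBijective (Algebra.ofId k (Γ(G.left, ⊤) ⧸ m)) IsAlgClosed.algebraMap_bijective_of_isIntegral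
    let φ : Γ(G.left, ⊤) →ₐ[k] k := e.symm.toAlgHom.comp (Ideal.Quotient.mkₐ k m)
    apply hmem
    have hφ : ∀ s, φ s = fn (VecGrp.ptMap φ ≫ uPt G) s := fun s => by rw [fn_ptMap]; exact congrArg φ (fn_uPt s).symm
    have h0 : φ (fn (uPt G * (VecGrp.ptMap (Algebra.ofId k Γ(G.left, ⊤)) ≫ g)) f - f) = 0 := by
      rw [map_sub, sub_eq_zero, hφ f, ← AlgHom.comp_apply, ← fn_ptMap, MonObj.comp_mul, ← Category.assoc]
      have : VecGrp.ptMap φ ≫ VecGrp.ptMap (Algebra.ofId k Γ(G.left, ⊤)) = 𝟙 _ :=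
        (to_pt_unique _).trans (to_pt_unique _).symm
      rw [this, Category.id_comp]
      exact hrat _
    refine Ideal.Quotient.eq_zero_iff_mem.1 (e.symm.injective ?_)
    rw [map_zero]
    exact h0
  haveI : IsAffine (VecGrp.pt k k).left := inferInstanceAs (IsAffine (Spec (CommRingCat.of k)))
  refine rTransInv_of_forall g f fun B _ _ x y => ?_
  rw [to_pt_unique y]
  conv_rhs => rw [← hD]
  rw [← AlgHom.comp_apply, ← fn_ptMap, MonObj.comp_mul, ptMap_fn_uPt, ← Category.assoc]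
  rw [to_pt_unique (VecGrp.ptMap (fn x) ≫ VecGrp.ptMap (Algebra.ofId k Γ(G.left, ⊤)))]

omit [GrpObj G] in
/-- Functions on a reduced affine scheme of finite type are determined by rational points. -/
theorem eq_zero_of_rational [IsAlgClosed k] [IsAffine G.left] [IsReduced G.left] [LocallyOfFiniteType G.hom]
    (D : Γ(G.left, ⊤)) (h : ∀ x : VecGrp.pt k k ⟶ G, fn x D = 0) : D = 0 := by
  haveI : Algebra.FiniteType k Γ(G.left, ⊤) := by
    haveI : LocallyOfFiniteType (Spec.map (CommRingCat.ofHom (algebraMap k Γ(G.left, ⊤)))) := by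
      have e : Spec.map (CommRingCat.ofHom (algebraMap k Γ(G.left, ⊤))) = G.left.isoSpec.inv ≫ G.hom :=
        (Over.w (uPt G)).symm
      rw [e]
      infer_instance
    exact RingHom.finiteType_algebraMap.1 ((HasRingHomProperty.Spec_iff (P := @LocallyOfFiniteType)).1 this)
  haveI : _root_.IsReduced Γ(G.left, ⊤) := inferInstance
  haveI : IsJacobsonRing Γ(G.left, ⊤) := isJacobsonRing_of_finiteType (A := k)
  by_contra hne
  have hnj : D ∉ (⊥ : Ideal Γ(G.left, ⊤)).jacobson := by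
    rw [← Ideal.radical_eq_jacobson, Ideal.mem_radical_iff]
    rintro ⟨n, hn⟩
    exact hne (eq_zero_of_pow_eq_zero (Ideal.mem_bot.1 hn))
  rw [Ideal.jacobson, Ideal.mem_sInf] at hnj
  push_neg at hnj
  obtain ⟨m, ⟨-, hm⟩, hmem⟩ := hnj
  letI := Ideal.Quotient.field m
  haveI : Algebra.FiniteType k (Γ(G.left, ⊤) ⧸ m) := Algebra.FiniteType.trans (S := Γ(G.left, ⊤)) inferInstance inferInstance
  haveI : Module.Finite k (Γ(G.left, ⊤) ⧸ m) := finite_of_finite_type_of_isJacobsonRing k _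
  let e := AlgEquiv.ofBijective (Algebra.ofId k (Γ(G.left, ⊤) ⧸ m)) IsAlgClosed.algebraMap_bijective_of_isIntegral
  let φ : Γ(G.left, ⊤) →ₐ[k] k := e.symm.toAlgHom.comp (Ideal.Quotient.mkₐ k m)
  apply hmem
  have h0 := h (VecGrp.ptMap φ ≫ uPt G)
  rw [fn_ptMap, AlgHom.comp_apply, fn_uPt] at h0
  refine Ideal.Quotient.eq_zero_iff_mem.1 (e.symm.injective ?_)
  rw [map_zero]
  exact h0

end Groth.Agent.Deform.RTrans
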