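import Groth.Agent.Deform.Nilpotent
import Groth.Agent.MultTypeLib.MultNil
import Groth.Prelude.Def_SGA3x

/-!
# Rigidity of groups of multiplicative type along nilpotent thickenings of an affine base
-/

set_option autoImplicit false
set_option linter.style.haveILetI false
set_option backward.isDefEq.respectTransparency false
set_option backward.isDefEq.respectTransparency.types false

universe u

open CategoryTheory CategoryTheory.Limits MonoidalCategory CartesianMonoidalCategory AlgebraicGeometry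
open TensorProduct

attribute [local instance] CategoryTheory.Hom.monoid CategoryTheory.Hom.group

namespace Groth.Agent.Deform

open GrpSchLib.AffineHopf (sp spMap spMap_comp spMap_id spMap_injective exists_bialgHom)

variable {R : Type u} [CommRing R] {J : Ideal R}

/-- The inclusion of the reduced base. -/
noncomputable abbrev bm (J : Ideal R) : Spec (CommRingCat.of (R ⧸ J)) ⟶ Spec (CommRingCat.of R) :=
  Spec.map (CommRingCat.ofHom (Ideal.Quotient.mk J))

/-- Reduction of the spectrum of a Hopf algebra, with its formula. -/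
theorem exists_bc_sp (B : Type u) [CommRing B] [HopfAlgebra R B] :
    ∃ a : Grp.mk (Red.bc (bm J) (sp R B)) ≅ Grp.mk (sp (R ⧸ J) ((R ⧸ J) ⊗[R] B)),
      a.hom.hom.hom.left ≫ Spec.map (CommRingCat.ofHom
        (Algebra.TensorProduct.includeRight : B →ₐ[R] (R ⧸ J) ⊗[R] B).toRingHom) =
        pullback.fst (sp R B).hom (bm J) := by
  let g : Red.bc (bm J) (sp R B) ⟶ sp (R ⧸ J) ((R ⧸ J) ⊗[R] B) :=
    (pullbackSymmetry .. ≪≫ pullbackSpecIso' R (R ⧸ J) B).hom.asOver (Spec (CommRingCat.of (R ⧸ J)))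
  haveI : IsMonHom g := inferInstanceAs (IsMonHom
    ((pullbackSymmetry .. ≪≫ pullbackSpecIso' R (R ⧸ J) B).hom.asOver (Spec (CommRingCat.of (R ⧸ J)))))
  haveI : IsIso g.left := inferInstanceAs (IsIso (pullbackSymmetry .. ≪≫ pullbackSpecIso' R (R ⧸ J) B).hom)
  haveI : IsIso ((Over.forget _).map g) := ‹IsIso g.left›
  haveI : IsIso g := isIso_of_reflects_iso g (Over.forget _)
  refine ⟨Grp.mkIso' (asIso g), ?_⟩
  show (pullbackSymmetry _ _ ≪≫ pullbackSpecIso' R (R ⧸ J) B).hom ≫ _ = _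
  rw [Iso.trans_hom, Category.assoc]
  refine (congrArg (_ ≫ ·) (pullbackSpecIso_hom_snd R (R ⧸ J) B)).trans ?_
  exact pullbackSymmetry_hom_comp_snd _ _

section Map

variable {H G : Over (Spec (CommRingCat.of R))}

theorem theta_map {T : Scheme.{u}} (f : T ⟶ Spec (CommRingCat.of R)) {Y : Over T} (h : Y ⟶ Red.bc f H) (w : H ⟶ G) :
    DSPtsLib.theta f (h ≫ (Over.pullback f).map w) = DSPtsLib.theta f h ≫ w :=
  (Over.mapPullbackAdj f).homEquiv_naturality_right_symm h w

/-- Morphisms with the same reduction agree on points over the reduced base. -/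
theorem agree_of_map_eq {u v : H ⟶ G} (h : (Over.pullback (bm J)).map u = (Over.pullback (bm J)).map v)
    (X : Over (Spec (CommRingCat.of R))) (p : X ⟶ closedPt J) (x : X ⟶ H) : x ≫ u = x ≫ v := by
  let Y : Over (Spec (CommRingCat.of (R ⧸ J))) := Over.mk p.left
  let j : X ⟶ (Over.map (bm J)).obj Y := Over.homMk (𝟙 _) ((Category.id_comp _).trans (Over.w p))
  let j' : (Over.map (bm J)).obj Y ⟶ X := Over.homMk (𝟙 _) ((Category.id_comp _).trans (Over.w p).symm)
  obtain ⟨x', hx'⟩ := (DSPtsLib.theta_bijective (bm J)).surjective (j' ≫ x)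
  have hjx : j ≫ DSPtsLib.theta (bm J) x' = x := by
    rw [hx', ← Category.assoc, show j ≫ j' = 𝟙 X from Over.OverMorphism.ext (Category.id_comp _), Category.id_comp]
  rw [← hjx, Category.assoc, Category.assoc, ← theta_map, ← theta_map, h]

/-- The universal point of the reduction. -/
noncomputable def redPt (J : Ideal R) (H : Over (Spec (CommRingCat.of R))) :
    (Over.map (bm J)).obj (Red.bc (bm J) H) ⟶ closedPt J := Over.homMk (pullback.snd H.hom (bm J)) rfl

/-- Morphisms agreeing on points over the reduced base have the same reduction. -/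
theorem map_eq_of_agree {u v : H ⟶ G}
    (h : ∀ (X : Over (Spec (CommRingCat.of R))) (_ : X ⟶ closedPt J) (x : X ⟶ H), x ≫ u = x ≫ v) :
    (Over.pullback (bm J)).map u = (Over.pullback (bm J)).map v := by
  refine (Category.id_comp _).symm.trans (Eq.trans ?_ (Category.id_comp _))
  apply (DSPtsLib.theta_bijective (bm J)).injective
  rw [theta_map, theta_map]
  exact h _ (redPt J H) _

end Map

variable {H H' : Over (Spec (CommRingCat.of R))} [GrpObj H] [GrpObj H']
  (hH : TwC.Locally (Spec (CommRingCat.of R)) TwC.Topology.fpqc (fun S' f => ∃ (M : Type) (_ : AddCommGroup M),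
    Nonempty (Grp.mk (Red.bc f H) ≅ Grp.mk (Red.DS S' M))))
  (hH' : TwC.Locally (Spec (CommRingCat.of R)) TwC.Topology.fpqc (fun S' f => ∃ (M : Type) (_ : AddCommGroup M),
    Nonempty (Grp.mk (Red.bc f H') ≅ Grp.mk (Red.DS S' M))))

include hH hH' in
/-- A homomorphism of groups of multiplicative type is determined by its reduction. -/
theorem hom_ext_nil (hJ : IsNilpotent J) (a b : H ⟶ H') [IsMonHom a] [IsMonHom b]
    (h : (Over.pullback (bm J)).map a = (Over.pullback (bm J)).map b) : a = b := by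
  obtain ⟨B, _, _, hB, ⟨e⟩⟩ := exists_hopf_multType H hH
  obtain ⟨C, _, _, hC, ⟨e'⟩⟩ := exists_hopf_multType H' hH'
  haveI : IsMonHom e.hom.hom.hom := e.hom.hom.isMonHom_hom
  haveI : IsMonHom e'.inv.hom.hom := e'.inv.hom.isMonHom_hom
  have he' : e'.inv.hom.hom ≫ e'.hom.hom.hom = 𝟙 H' :=
    congrArg (fun m : Grp.mk H' ⟶ Grp.mk H' => m.hom.hom) e'.inv_hom_id
  have he : e.inv.hom.hom ≫ e.hom.hom.hom = 𝟙 H := congrArg (fun m : Grp.mk H ⟶ Grp.mk H => m.hom.hom) e.inv_hom_id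
  obtain ⟨φ, hφ⟩ := exists_bialgHom (e.hom.hom.hom ≫ a ≫ e'.inv.hom.hom)
  obtain ⟨ψ, hψ⟩ := exists_bialgHom (e.hom.hom.hom ≫ b ≫ e'.inv.hom.hom)
  have key : φ = ψ := by
    refine MultTypeLib.bialgHom_ext_nil hJ hC hB φ ψ fun c => ?_
    let p : sp R (B ⧸ J.map (algebraMap R B)) ⟶ closedPt J :=
      Over.homMk (Spec.map (CommRingCat.ofHom (Ideal.Quotient.lift J
        ((Ideal.Quotient.mk (J.map (algebraMap R B))).comp (algebraMap R B))
        fun r hr => Ideal.Quotient.eq_zero_iff_mem.mpr (Ideal.mem_map_of_mem _ hr)))) (by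
        show Spec.map _ ≫ Spec.map _ = Spec.map _
        rw [← Spec.map_comp, ← CommRingCat.ofHom_comp]
        rfl)
    have h1 : spMap (red J B) ≫ spMap (φ : C →ₐ[R] B) = spMap (red J B) ≫ spMap (ψ : C →ₐ[R] B) := by
      rw [← hφ, ← hψ]
      simp only [← Category.assoc]
      rw [agree_of_map_eq h _ p]
    rw [spMap_comp, spMap_comp] at h1
    rw [Ideal.smul_top_eq_map]
    exact Ideal.Quotient.eq.mp (AlgHom.congr_fun (spMap_injective h1) c)
  rw [key, ← hψ] at hφ
  have h2 := congrArg (fun m => e.inv.hom.hom ≫ m ≫ e'.hom.hom.hom) hφ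
  simp only [Category.assoc, he', Category.comp_id] at h2
  rwa [reassoc_of% he, reassoc_of% he] at h2

include hH hH' in
/-- Homomorphisms between groups of multiplicative type lift along nilpotent thickenings. -/
theorem exists_hom_lift (hJ : IsNilpotent J) (ψ : Red.bc (bm J) H ⟶ Red.bc (bm J) H') [IsMonHom ψ] :
    ∃ a : H ⟶ H', IsMonHom a ∧ (Over.pullback (bm J)).map a = ψ := by
  obtain ⟨B, _, _, hB, ⟨e⟩⟩ := exists_hopf_multType H hH
  obtain ⟨C, _, _, hC, ⟨e'⟩⟩ := exists_hopf_multType H' hH'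
  haveI : IsMonHom e.hom.hom.hom := e.hom.hom.isMonHom_hom
  haveI : IsMonHom e.inv.hom.hom := e.inv.hom.isMonHom_hom
  haveI : IsMonHom e'.hom.hom.hom := e'.hom.hom.isMonHom_hom
  haveI : IsMonHom e'.inv.hom.hom := e'.inv.hom.isMonHom_hom
  have he : e.inv.hom.hom ≫ e.hom.hom.hom = 𝟙 H := congrArg (fun m : Grp.mk H ⟶ Grp.mk H => m.hom.hom) e.inv_hom_id
  have he' : e'.inv.hom.hom ≫ e'.hom.hom.hom = 𝟙 H' :=
    congrArg (fun m : Grp.mk H' ⟶ Grp.mk H' => m.hom.hom) e'.inv_hom_id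
  obtain ⟨c, hc⟩ := exists_bc_sp (J := J) B
  obtain ⟨c', hc'⟩ := exists_bc_sp (J := J) C
  haveI : IsMonHom c.inv.hom.hom := c.inv.hom.isMonHom_hom
  haveI : IsMonHom c'.hom.hom.hom := c'.hom.hom.isMonHom_hom
  haveI : IsMonHom ((Over.pullback (bm J)).map e.hom.hom.hom) := inferInstance
  haveI : IsMonHom ((Over.pullback (bm J)).map e'.inv.hom.hom) := inferInstance
  let m := (Over.pullback (bm J)).map e.hom.hom.hom ≫ ψ ≫ (Over.pullback (bm J)).map e'.inv.hom.hom
  obtain ⟨φ₀, hφ₀⟩ := exists_bialgHom (c.inv.hom.hom ≫ m ≫ c'.hom.hom.hom)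
  obtain ⟨φ, hφ⟩ := MultTypeLib.exists_bialgHom_lift_nil hJ hC hB φ₀
  have hmain : (Over.pullback (bm J)).map (spMap (φ : C →ₐ[R] B)) = m := by
    have h1 : c.hom.hom.hom ≫ spMap (φ₀ : (R ⧸ J) ⊗[R] C →ₐ[R ⧸ J] (R ⧸ J) ⊗[R] B) = m ≫ c'.hom.hom.hom := by
      rw [← hφ₀, ← Category.assoc,
        show c.hom.hom.hom ≫ c.inv.hom.hom = 𝟙 _ from
          congrArg (fun m : Grp.mk (Red.bc (bm J) (sp R B)) ⟶ Grp.mk (Red.bc (bm J) (sp R B)) => m.hom.hom) c.hom_inv_id,
        Category.id_comp]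
    refine Over.OverMorphism.ext (pullback.hom_ext ?_ ?_)
    · have h2 : ((Over.pullback (bm J)).map (spMap (φ : C →ₐ[R] B))).left ≫ pullback.fst _ _ =
          pullback.fst _ _ ≫ (spMap (φ : C →ₐ[R] B)).left := pullback.lift_fst _ _ _
      have h3 := congrArg (fun x => Over.Hom.left x ≫ Spec.map (CommRingCat.ofHom
        (Algebra.TensorProduct.includeRight : C →ₐ[R] (R ⧸ J) ⊗[R] C).toRingHom)) h1
      simp only [Over.comp_left, Category.assoc] at h3
      rw [h2, ← hc]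
      refine Eq.trans ?_ (h3.trans (congrArg (m.left ≫ ·) hc'))
      rw [Category.assoc]
      refine congrArg (c.hom.hom.hom.left ≫ ·) ?_
      show Spec.map _ ≫ Spec.map _ = Spec.map _ ≫ Spec.map _
      rw [← Spec.map_comp, ← Spec.map_comp]
      congr 1
      ext x
      exact (hφ x).symm
    · exact (Over.w _).trans (Over.w m).symm
  refine ⟨e.inv.hom.hom ≫ spMap (φ : C →ₐ[R] B) ≫ e'.hom.hom.hom, inferInstance, ?_⟩
  rw [Functor.map_comp, Functor.map_comp, hmain]
  simp only [m, Category.assoc, ← Functor.map_comp, he', CategoryTheory.Functor.map_id, Category.comp_id]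
  rw [← Category.assoc, ← Functor.map_comp, he, CategoryTheory.Functor.map_id, Category.id_comp]

include hH hH' in
/-- An isomorphism of the reductions lifts to an isomorphism. -/
theorem exists_iso_lift (hJ : IsNilpotent J) (ψ : Red.bc (bm J) H ≅ Red.bc (bm J) H') [IsMonHom ψ.hom] :
    ∃ a : H ≅ H', IsMonHom a.hom ∧ (Over.pullback (bm J)).map a.hom = ψ.hom := by
  obtain ⟨a, ha, ha'⟩ := exists_hom_lift hH hH' hJ ψ.hom
  obtain ⟨b, hb, hb'⟩ := exists_hom_lift hH' hH hJ ψ.inv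
  refine ⟨⟨a, b, hom_ext_nil hH hH hJ (a ≫ b) (𝟙 H) ?_, hom_ext_nil hH' hH' hJ (b ≫ a) (𝟙 H') ?_⟩, ha, ha'⟩
  · rw [Functor.map_comp, ha', hb', ψ.hom_inv_id, CategoryTheory.Functor.map_id]
  · rw [Functor.map_comp, ha', hb', ψ.inv_hom_id, CategoryTheory.Functor.map_id]

variable {G : Over (Spec (CommRingCat.of R))} [GrpObj G]

include hH hH' in
/-- Subgroups of multiplicative type with the same reduction differ by an isomorphism and a congruence. -/
theorem exists_iso_agree (hJ : IsNilpotent J) (i : H ⟶ G) [IsMonHom i] (i' : H' ⟶ G) [IsMonHom i'] [Mono i']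
    (ψ : Red.bc (bm J) H ≅ Red.bc (bm J) H')
    (hψ : ψ.hom ≫ (Over.pullback (bm J)).map i' = (Over.pullback (bm J)).map i) :
    ∃ a : H ≅ H', IsMonHom (a.hom ≫ i') ∧
      ∀ (X : Over (Spec (CommRingCat.of R))) (_ : X ⟶ closedPt J) (x : X ⟶ H), x ≫ i = x ≫ a.hom ≫ i' := by
  haveI : Mono ((Over.pullback (bm J)).map i') := inferInstance
  haveI : IsMonHom ((Over.pullback (bm J)).map i') := inferInstance
  haveI : IsMonHom ψ.hom := WittEndoLib.isMonHom_of_mul _ fun T x y => by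
    rw [← cancel_mono ((Over.pullback (bm J)).map i'), Category.assoc, hψ, MonObj.mul_comp, MonObj.mul_comp,
      Category.assoc, Category.assoc, hψ]
  obtain ⟨a, ha, ha'⟩ := exists_iso_lift hH hH' hJ ψ
  refine ⟨a, inferInstance, fun X p x => agree_of_map_eq ?_ X p x⟩
  rw [Functor.map_comp, ha', hψ]

include hH hH' in
/-- Subgroups of multiplicative type equal modulo a square-zero ideal are conjugate. -/
theorem conjBy_sqZero (hJ : J ^ 2 = ⊥) (i : H ⟶ G) [IsMonHom i] (i' : H' ⟶ G) [IsMonHom i'] [Mono i']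
    (ψ : Red.bc (bm J) H ≅ Red.bc (bm J) H')
    (hψ : ψ.hom ≫ (Over.pullback (bm J)).map i' = (Over.pullback (bm J)).map i) :
    ∃ g : 𝟙_ (Over (Spec (CommRingCat.of R))) ⟶ G, toUnit (closedPt J) ≫ g = 1 ∧ SGA3x.ConjBy i i' g := by
  obtain ⟨a, ha, h0⟩ := exists_iso_agree hH hH' ⟨2, hJ⟩ i i' ψ hψ
  obtain ⟨g, hg, hg'⟩ := exists_conj_sqZero hJ H G hH i (a.hom ≫ i') h0
  refine ⟨g, hg, a, ?_⟩
  have := hg' H (𝟙 H)
  rw [Category.id_comp, Category.id_comp] at this
  exact this.symm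

include hH hH' in
/-- Conjugacy of subgroups of multiplicative type lifts along nilpotent thickenings, in a smooth group. -/
theorem conjBy_nilpotent [Smooth G.hom] (hJ : IsNilpotent J) (i : H ⟶ G) [IsMonHom i] [Mono i] (i' : H' ⟶ G)
    [IsMonHom i'] [Mono i'] (g₀ : closedPt J ⟶ G)
    (h0 : ∀ (X : Over (Spec (CommRingCat.of R))) (p : X ⟶ closedPt J),
      (∀ h : X ⟶ H, ∃ h' : X ⟶ H', (p ≫ g₀) * (h ≫ i) * (p ≫ g₀)⁻¹ = h' ≫ i') ∧
      (∀ h' : X ⟶ H', ∃ h : X ⟶ H, (p ≫ g₀)⁻¹ * (h' ≫ i') * (p ≫ g₀) = h ≫ i)) :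
    ∃ g : 𝟙_ (Over (Spec (CommRingCat.of R))) ⟶ G, toUnit (closedPt J) ≫ g = g₀ ∧ SGA3x.ConjBy i i' g := by
  obtain ⟨g₁, hg₁⟩ := exists_lift_pt hJ g₀
  let i₁ := (toUnit H ≫ g₁) * i * (toUnit H ≫ g₁)⁻¹
  haveI : IsMonHom i₁ := isMonHom_conj i g₁
  have hp : ∀ (X : Over (Spec (CommRingCat.of R))) (p : X ⟶ closedPt J), p ≫ g₀ = toUnit X ≫ g₁ := fun X p => by
    rw [← hg₁, ← Category.assoc, comp_toUnit]
  have hi₁ : ∀ (X : Over (Spec (CommRingCat.of R))) (x : X ⟶ H),
      x ≫ i₁ = (toUnit X ≫ g₁) * (x ≫ i) * (toUnit X ≫ g₁)⁻¹ := fun X x => by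
    simp only [i₁, MonObj.comp_mul, GrpObj.comp_inv, comp_toUnit_assoc]
  haveI : Mono i₁ := ⟨fun a b e => by
    rw [hi₁, hi₁] at e
    exact (cancel_mono i).mp (mul_left_cancel (mul_right_cancel e))⟩
  -- the two reductions
  obtain ⟨y, hy⟩ := (h0 _ (redPt J H)).1 (DSPtsLib.theta (bm J) (𝟙 _))
  rw [hp, ← hi₁] at hy
  obtain ⟨ψ, hψ⟩ := (DSPtsLib.theta_bijective (bm J)).surjective y
  obtain ⟨y', hy'⟩ := (h0 _ (redPt J H')).2 (DSPtsLib.theta (bm J) (𝟙 _))
  obtain ⟨χ, hχ⟩ := (DSPtsLib.theta_bijective (bm J)).surjective y'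
  have e1 : ψ ≫ (Over.pullback (bm J)).map i' = (Over.pullback (bm J)).map i₁ := by
    refine ((DSPtsLib.theta_bijective (bm J)).injective ?_).trans (Category.id_comp _)
    rw [theta_map, theta_map, hψ, ← hy]
  have e2 : χ ≫ (Over.pullback (bm J)).map i₁ = (Over.pullback (bm J)).map i' := by
    refine ((DSPtsLib.theta_bijective (bm J)).injective ?_).trans (Category.id_comp _)
    rw [theta_map, theta_map, hχ, hi₁, ← hy', hp]
    group
  let ψ' : Red.bc (bm J) H ≅ Red.bc (bm J) H' :=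
    ⟨ψ, χ, (cancel_mono ((Over.pullback (bm J)).map i₁)).mp (by rw [Category.assoc, e2, e1, Category.id_comp]),
      (cancel_mono ((Over.pullback (bm J)).map i')).mp (by rw [Category.assoc, e1, e2, Category.id_comp])⟩
  obtain ⟨a, ha, hag⟩ := exists_iso_agree hH hH' hJ i₁ i' ψ' e1
  obtain ⟨g, hg, hg'⟩ := exists_conj_nilpotent hJ hH i₁ (a.hom ≫ i') (1 : closedPt J ⟶ G) fun X p x => by
    rw [MonObj.comp_one, ← hag X p x, _root_.one_mul, inv_one, _root_.mul_one]
  refine ⟨g * g₁, by rw [MonObj.comp_mul, hg, hg₁, _root_.one_mul], a, ?_⟩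
  have := hg' H (𝟙 H)
  rw [Category.id_comp, Category.id_comp] at this
  rw [this]
  simp only [i₁, MonObj.comp_mul]
  group

end Groth.Agent.Deform
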