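import Groth.Agent.RootData.Inversions

/-!
# Chains of simple roots conjugate under the Weyl group
-/

set_option linter.unusedSectionVars false

namespace Groth.Agent.Deform.SimpleChain

open Set Function Module RootD Groth.Agent.RootData

variable {ι R M N : Type*} [CommRing R] [IsDomain R] [CharZero R]
  [AddCommGroup M] [Module R M] [AddCommGroup N] [Module R N]
  {P : RootPairing ι R M N} [Fintype ι] [P.IsCrystallographic] [P.IsReduced] {Δ : Set ι}
  (hΔ : Simple P Δ)

include hΔ in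
theorem supp_gen {S : Set ι} (hS : S ⊆ Δ) {g : P.Aut} (hg : g ∈ gen P S) (k : ι)
    (hk : ∀ b, b ∉ S → hΔ.co k b = 0) : ∀ b, b ∉ S → hΔ.co (g • k) b = 0 := by
  classical
  obtain ⟨l, hl, rfl⟩ := exists_word hg
  clear hg
  induction l with
  | nil => simpa [word] using hk
  | cons a t ih =>
    intro b hb
    have ha : a ∈ S := hl a List.mem_cons_self
    have hba : b ≠ a := fun e => hb (e ▸ ha)
    rw [word_cons, mul_smul, refl_smul_idx, hΔ.co_refl (hS ha)]
    simp [ih (fun x hx => hl x (List.mem_cons_of_mem _ hx)) b hb, hba]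

include hΔ in
theorem inv_lt {g : P.Aut} {x : ι} (hx : x ∈ Δ) (h : g • x ∉ posOf P Δ) :
    (inv' P Δ (g * RootPairing.Equiv.reflection P x)).ncard < (inv' P Δ g).ncard := by
  have hsub : P.reflectionPerm x '' inv' P Δ (g * RootPairing.Equiv.reflection P x) ⊆
      inv' P Δ g \ {x} := by
    rintro _ ⟨a, ⟨ha, ha'⟩, rfl⟩
    rw [mul_smul, refl_smul_idx] at ha'
    have hax : a ≠ x := by
      rintro rfl
      rw [smul_neg_idx, hΔ.neg_mem_posOf_iff] at ha'
      exact ha' h
    refine ⟨⟨(hΔ.refl_pos_ne isIndiv_of_reduced hx ha hax).1, ha'⟩, ?_⟩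
    intro e
    rw [Set.mem_singleton_iff] at e
    have h1 := congrArg (P.reflectionPerm x) e
    rw [P.reflectionPerm_self] at h1
    rw [h1] at ha
    exact hΔ.refl_self_notMem hx ha
  have h1 := Set.ncard_le_ncard hsub (Set.toFinite _)
  rw [Set.ncard_image_of_injective _ (P.reflectionPerm x).injective] at h1
  exact h1.trans_lt (Set.ncard_diff_singleton_lt_of_mem ⟨hΔ.subset_posOf hx, h⟩ (Set.toFinite _))

include hΔ in
/-- If `u` is positive on the simple roots `α, γ` and sends some `v α`, `v ∈ ⟨s_α, s_γ⟩`, to a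
simple root, then `v α` is one of `α`, `γ`. -/
theorem mem_pair {u v : P.Aut} {α γ : ι} (hα : α ∈ Δ) (hγ : γ ∈ Δ) (hne : α ≠ γ)
    (hv : v ∈ gen P {α, γ}) (huα : u • α ∈ posOf P Δ) (huγ : u • γ ∈ posOf P Δ)
    (hβ : u • v • α ∈ Δ) : v • α = α ∨ v • α = γ := by
  classical
  set k := v • α
  set β := u • k
  have hk : ∀ b, b ∉ ({α, γ} : Set ι) → hΔ.co k b = 0 :=
    supp_gen hΔ (by rintro x (rfl | rfl) <;> assumption) hv α fun b hb => by
      rw [hΔ.co_simple hα, Pi.single_eq_of_ne (fun e => hb (by simp [e]))]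
  set p := hΔ.co k α with hp
  set q := hΔ.co k γ with hq
  have hroot : P.root k = p • P.root α + q • P.root γ := by
    rw [← hΔ.co_spec k]
    refine Finset.sum_eq_add α γ hne (fun c _ hc => ?_) (by simp) (by simp)
    rw [hk c (by simp [hc.1, hc.2]), zero_smul]
  have hco : hΔ.co β = p • hΔ.co (u • α) + q • hΔ.co (u • γ) := by
    refine hΔ.co_unique (fun b hb => by simp [hΔ.co_supp hb]) ?_
    rw [comb_add, comb_smul, comb_smul, hΔ.co_spec, hΔ.co_spec, smul_root, smul_root, smul_root,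
      hroot, smul_add, smul_comm u p, smul_comm u q]
  have h1 : ∀ b, 0 ≤ hΔ.co (u • α) b := hΔ.mem_posOf_iff.mp huα
  have h2 : ∀ b, 0 ≤ hΔ.co (u • γ) b := hΔ.mem_posOf_iff.mp huγ
  have hb1 : hΔ.co β β = 1 := by rw [hΔ.co_simple hβ, Pi.single_eq_same]
  have hkp : k ∈ posOf P Δ := by
    by_contra hneg
    have hle := hΔ.notMem_posOf_iff.mp hneg
    have hp' : p ≤ 0 := hle α
    have hq' : q ≤ 0 := hle γ
    rw [hco] at hb1
    simp at hb1
    nlinarith [h1 β, h2 β]
  have hp' : 0 ≤ p := hΔ.mem_posOf_iff.mp hkp α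
  have hq' : 0 ≤ q := hΔ.mem_posOf_iff.mp hkp γ
  have hz : p = 0 ∨ q = 0 := by
    by_contra hh
    push Not at hh
    have hpp : 0 < p := lt_of_le_of_ne hp' (Ne.symm hh.1)
    have hqq : 0 < q := lt_of_le_of_ne hq' (Ne.symm hh.2)
    have hout : ∀ b, b ≠ β → hΔ.co (u • α) b = 0 ∧ hΔ.co (u • γ) b = 0 := by
      intro b hb
      have := congrFun hco b
      rw [hΔ.co_simple hβ, Pi.single_eq_of_ne hb] at this
      simp at this
      constructor <;> nlinarith [h1 b, h2 b]
    have e1 := hΔ.eq_of_pos_multiple hβ huα (isIndiv_of_reduced _) fun b hb => (hout b hb).1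
    have e2 := hΔ.eq_of_pos_multiple hβ huγ (isIndiv_of_reduced _) fun b hb => (hout b hb).2
    exact hne (smul_left_cancel u (e1.trans e2.symm))
  rcases hz with hz | hz
  · right
    refine hΔ.eq_of_pos_multiple hγ hkp (isIndiv_of_reduced _) fun b hb => ?_
    by_cases hbα : b = α
    · rw [hbα, ← hp, hz]
    · exact hk b (by simp [hb, hbα])
  · left
    refine hΔ.eq_of_pos_multiple hα hkp (isIndiv_of_reduced _) fun b hb => ?_
    by_cases hbγ : b = γ
    · rw [hbγ, ← hq, hz]
    · exact hk b (by simp [hb, hbγ])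

include hΔ in
theorem exists_chain (w : P.Aut) : ∀ (α β : ι), w ∈ P.weylGroup → α ∈ Δ → β ∈ Δ → w • α = β →
    ∃ (m : ℕ) (a : Fin (m + 1) → ι) (ws : Fin m → P.Aut),
      (∀ i, a i ∈ Δ) ∧ a 0 = α ∧ a (Fin.last m) = β ∧
      (∀ i, ws i ∈ P.weylGroup) ∧
      w = (List.ofFn fun i : Fin m => ws (Fin.rev i)).prod ∧
      (∀ i : Fin m, ws i • a (Fin.castSucc i) = a (Fin.succ i)) ∧
      ∀ i : Fin m, ∃ γ ∈ Δ,
        ws i ∈ gen P {a (Fin.castSucc i), γ} ∧
        (a (Fin.castSucc i) ≠ a (Fin.succ i) → γ = a (Fin.succ i)) := by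
  classical
  induction hn : (inv' P Δ w).ncard using Nat.strong_induction_on generalizing w with
  | _ n ih =>
    intro α β hw hα hβ hwα
    by_cases h1 : w = 1
    · subst h1
      refine ⟨0, fun _ => α, Fin.elim0, fun _ => hα, rfl, by simpa using hwα, fun i => i.elim0,
        by simp, fun i => i.elim0, fun i => i.elim0⟩
    obtain ⟨γ, hγ, hneg⟩ : ∃ γ ∈ Δ, w • γ ∉ posOf P Δ := by
      by_contra hh
      push Not at hh
      exact h1 (hΔ.eq_one_of_pos hw hh)
    have hne : α ≠ γ := by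
      rintro rfl
      exact hneg (hwα ▸ hΔ.subset_posOf hβ)
    have hex : ∃ r, ∃ v ∈ gen P {α, γ}, (inv' P Δ (w * v)).ncard = r := ⟨_, 1, one_mem _, rfl⟩
    obtain ⟨v, hv, hvr⟩ := Nat.find_spec hex
    have hmin : ∀ v' ∈ gen P ({α, γ} : Set ι),
        (inv' P Δ (w * v)).ncard ≤ (inv' P Δ (w * v')).ncard :=
      fun v' hv' => hvr ▸ Nat.find_min' hex ⟨v', hv', rfl⟩
    have hpos : ∀ x ∈ ({α, γ} : Set ι), (w * v) • x ∈ posOf P Δ := by
      intro x hx
      by_contra hxn
      have hxΔ : x ∈ Δ := by rcases hx with rfl | rfl <;> assumption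
      have := inv_lt hΔ hxΔ hxn
      rw [mul_assoc] at this
      exact absurd this (not_lt.mpr (hmin _ (mul_mem hv (refl_mem_gen hx))))
    have hlt : (inv' P Δ (w * v)).ncard < n :=
      hn ▸ (hmin _ (refl_mem_gen (by simp))).trans_lt (inv_lt hΔ hγ hneg)
    have huv : (w * v) • v⁻¹ • α = β := by rw [← mul_smul, mul_inv_cancel_right, hwα]
    have ha1 := mem_pair hΔ hα hγ hne (inv_mem hv) (hpos α (by simp)) (hpos γ (by simp))
      (by rw [huv]; exact hβ)
    have ha1Δ : v⁻¹ • α ∈ Δ := by rcases ha1 with h | h <;> rw [h] <;> assumption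
    obtain ⟨m, a, ws, e1, e2, e3, e4, e5, e6, e7⟩ := ih _ hlt (w * v) rfl (v⁻¹ • α) β
      (mul_mem hw (gen_le _ hv)) ha1Δ hβ huv
    refine ⟨m + 1, Fin.cons α a, Fin.cons v⁻¹ ws, ?_, rfl, ?_, ?_, ?_, ?_, ?_⟩
    · intro i; induction i using Fin.cases with
      | zero => simpa using hα
      | succ j => simpa using e1 j
    · rw [← Fin.succ_last, Fin.cons_succ]; exact e3
    · intro i; induction i using Fin.cases with
      | zero => simpa using inv_mem (gen_le _ hv)
      | succ j => simpa using e4 j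
    · rw [List.ofFn_succ', List.concat_eq_append, List.prod_append]
      simp only [Fin.rev_castSucc, Fin.rev_last, Fin.cons_succ, Fin.cons_zero, ← e5, List.prod_singleton]
      exact (mul_inv_cancel_right w v).symm
    · intro i; induction i using Fin.cases with
      | zero => simpa using e2.symm
      | succ j => simpa [Fin.castSucc_succ] using e6 j
    · intro i; induction i using Fin.cases with
      | zero =>
        refine ⟨γ, hγ, by simpa using inv_mem hv, fun h => ?_⟩
        simp [e2] at h ⊢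
        rcases ha1 with h' | h'
        · exact absurd h'.symm h
        · exact h'.symm
      | succ j => simpa [Fin.castSucc_succ] using e7 j

end Groth.Agent.Deform.SimpleChain
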