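import Groth.Agent.Deform.LocalImage
import Groth.Agent.GrpSchLib.MultTypeComm

/-!
# Directedness of locally split subtori

The image of a split group in a group of multiplicative type is split near every point, so two locally split
subtori are contained in a third one.
-/

set_option autoImplicit false
set_option linter.style.haveILetI false
set_option maxHeartbeats 400000

universe u

open CategoryTheory CategoryTheory.Limits MonoidalCategory CartesianMonoidalCategory MonObj GrpObj AlgebraicGeometry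

attribute [local instance] CategoryTheory.Hom.monoid CategoryTheory.Hom.group

namespace Groth.Agent.Deform.SubtorusJoin

open DiagMaps SplitQuot
open GrpSchLib.HomUnitLocus (Triv)
open GrpSchLib.HomMonoLocus (Inj)

variable {S : Scheme.{u}}

theorem triv_precomp {A B C : Over S} [GrpObj A] [GrpObj B] [GrpObj C] (e : A ≅ B) (v : A ⟶ C) {T : Scheme.{u}}
    (g : T ⟶ S) (h : Triv (e.inv ≫ v) g) : Triv v g := fun Y q x => by
  have h1 := h Y q (x ≫ e.hom)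
  rwa [Category.assoc, e.hom_inv_id_assoc] at h1

/-- The characters trivial near the point are trivial at the point. -/
theorem range_le {G : Over S} [GrpObj G] {M : Type} [AddCommGroup M] (u : Red.DS S M ⟶ G) [IsMonHom u] {k : Type u}
    [Field k] {β : Spec (CommRingCat.of k) ⟶ S} {MQ : Type} [AddCommGroup MQ] {cG : Chart β G MQ} {φ : MQ →+ M}
    (hφ : Rep (chartDS β M) cG u φ) {s : S} (hs : β (IsLocalRing.closedPoint k) = s) (U : S.Opens) (u₀ : U)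
    (hu : U.ι u₀ = s) {k' : Type u} [Field k'] {β' : Spec (CommRingCat.of k') ⟶ U} {MQ' : Type} [AddCommGroup MQ']
    {cG' : Chart β' (Red.bc U.ι G) MQ'} {φ' : MQ' →+ M}
    (hφ' : Rep (chartDS β' M) cG' ((bcDS U.ι M).inv ≫ (Over.pullback U.ι).map u) φ')
    (hs' : β' (IsLocalRing.closedPoint k') = u₀) : φ.range ≤ φ'.range := by
  let A := φ'.range
  have h1 := (rep_DSmap (S := (U : Scheme.{u})) (β := β') (QuotientAddGroup.mk' A)).comp hφ'
  rw [show (QuotientAddGroup.mk' A).comp φ' = 0 from AddMonoidHom.ext fun m =>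
    (QuotientAddGroup.eq_zero_iff _).mpr ⟨m, rfl⟩] at h1
  have hnat : Red.DSmap U (QuotientAddGroup.mk' A) ≫ (bcDS U.ι M).inv =
      (bcDS U.ι (M ⧸ A)).inv ≫ (Over.pullback U.ι).map (Red.DSmap S (QuotientAddGroup.mk' A)) := by
    rw [Iso.eq_inv_comp, ← Category.assoc, ← bcDS_naturality, Category.assoc, Iso.hom_inv_id, Category.comp_id]
  have h2 := triv_of_rep_zero h1
  rw [← Category.assoc, hnat, Category.assoc, ← Functor.map_comp] at h2
  have h4 := (GrpSchLib.HomUnitLocus.triv_iff_of_field _).mp ((triv_bc _ U.ι β').mp (triv_precomp _ _ _ h2))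
  rw [Scheme.Hom.comp_apply, hs', hu, ← hs] at h4
  have h5 := rep_zero_of_triv ((rep_DSmap (S := S) (β := β) (QuotientAddGroup.mk' A)).comp hφ)
    ((GrpSchLib.HomUnitLocus.triv_iff_of_field β).mpr h4)
  rintro _ ⟨m, rfl⟩
  exact (QuotientAddGroup.eq_zero_iff _).mp (DFunLike.congr_fun h5 m)

/-- The image of a split group in a group of multiplicative type, near a point. -/
theorem exists_image_near {G : Over S} [GrpObj G] (hG : SGA3x.IsMultTypeFT G) {M : Type} [AddCommGroup M]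
    [AddGroup.FG M] (u : Red.DS S M ⟶ G) [IsMonHom u] (s : S) :
    ∃ (U : S.Opens) (u₀ : U) (V : (U : Scheme.{u}).Opens) (A : AddSubgroup M) (ψ : Red.DS U A ⟶ Red.bc U.ι G),
      U.ι u₀ = s ∧ u₀ ∈ V ∧ IsMonHom ψ ∧ Mono ((Over.pullback V.ι).map ψ) ∧
      Red.DSmap U A.subtype ≫ ψ = (bcDS U.ι M).inv ≫ (Over.pullback U.ι).map u := by
  haveI := isSeparated_of_multType hG
  haveI : LocallyOfFiniteType G.hom := GrpSchLib.MultTypeLft.lft hG
  obtain ⟨k, _, β, MQ, _, _, cG, hs⟩ := exists_chart hG s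
  obtain ⟨φ, hφ⟩ := exists_rep (chartDS β M) cG u
  let A : AddSubgroup M := φ.range
  have hr := (rep_DSmap (S := S) (β := β) (QuotientAddGroup.mk' A)).comp hφ
  rw [show (QuotientAddGroup.mk' A).comp φ = 0 from AddMonoidHom.ext fun m =>
    (QuotientAddGroup.eq_zero_iff _).mpr ⟨m, rfl⟩] at hr
  have ht := (GrpSchLib.HomUnitLocus.triv_iff_of_field β).mp (triv_of_rep_zero hr)
  rw [hs] at ht
  obtain ⟨U, hUc, hU, hUt⟩ := GrpSchLib.HomUnitLocus.main (isMultTypeFT_DS S (M ⧸ A))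
    (u := Red.DSmap S (QuotientAddGroup.mk' A) ≫ u) (Or.inr inferInstance)
  have hsU : s ∈ U := (hU s).mpr ht
  let u₁ : Red.DS U M ⟶ Red.bc U.ι G := (bcDS U.ι M).inv ≫ (Over.pullback U.ι).map u
  haveI : IsMonHom u₁ := inferInstanceAs (IsMonHom ((bcDS U.ι M).inv ≫ (Over.pullback U.ι).map u))
  have hker : Red.DSmap U (QuotientAddGroup.mk' A) ≫ u₁ = 1 := by
    have hnat : Red.DSmap U (QuotientAddGroup.mk' A) ≫ (bcDS U.ι M).inv =
        (bcDS U.ι (M ⧸ A)).inv ≫ (Over.pullback U.ι).map (Red.DSmap S (QuotientAddGroup.mk' A)) := by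
      rw [Iso.eq_inv_comp, ← Category.assoc, ← bcDS_naturality, Category.assoc, Iso.hom_inv_id, Category.comp_id]
    rw [← Category.assoc, hnat, Category.assoc, ← Functor.map_comp,
      GrpSchLib.HomUnitLocus.map_eq_one_of_triv hUt, MonObj.comp_one]
  obtain ⟨ψ, hψm, hψ⟩ := exists_desc A u₁ hker
  haveI := hψm
  have hG₁ := GrpSchLib.MultTypeBC.isMultTypeFT_bc U.ι hG
  obtain ⟨k', _, β', MQ', _, _, cG', hs'⟩ := exists_chart hG₁ ⟨s, hsU⟩
  obtain ⟨φ', hφ'⟩ := exists_rep (chartDS β' A) cG' ψ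
  have hcomp := (rep_DSmap (S := (U : Scheme.{u})) (β := β') A.subtype).comp hφ'
  rw [hψ] at hcomp
  have hle := range_le u hφ hs U ⟨s, hsU⟩ rfl hcomp hs'
  have hsurj : Function.Surjective φ' := fun a => by
    obtain ⟨m, hm⟩ := hle a.2
    exact ⟨m, Subtype.ext hm⟩
  haveI : Module.Finite ℤ M := Module.Finite.iff_addGroup_fg.mpr ‹_›
  haveI : AddGroup.FG A := Module.Finite.iff_addGroup_fg.mp
    (Module.Finite.of_injective A.subtype.toIntLinearMap (fun a b e => A.subtype_injective e))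
  obtain ⟨V, -, hV, hVt⟩ := GrpSchLib.HomSplitLocus.mono_locus (u := ψ)
    (Deform.isMultType_of_ft (isMultTypeFT_DS U A)) hG₁
  have hres := GrpSchLib.HomSplitLocus.residue_of_field (fun g => Inj ψ g) (fun l _ _ hl h => Inj.of_covers l hl h) β'
    (inj_of_rep hφ' hsurj)
  rw [hs'] at hres
  haveI := GrpSchLib.HomMonoLocus.mono_of_inj hVt
  exact ⟨U, ⟨s, hsU⟩, V, A, ψ, rfl, (hV _).mpr hres, hψm,
    (Over.forget _).mono_of_mono_map (inferInstanceAs (Mono ((Over.pullback V.ι).map ψ).left)), hψ⟩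

/-- The comparison of two successive base changes. -/
noncomputable def bcComp {U V : Scheme.{u}} (g : U ⟶ S) (t : V ⟶ U) (X : Over S) :
    Red.bc t (Red.bc g X) ≅ Red.bc (t ≫ g) X := (Over.pullbackComp t g).symm.app X

set_option backward.isDefEq.respectTransparency false in
instance isMonHom_bcComp {U V : Scheme.{u}} (g : U ⟶ S) (t : V ⟶ U) (X : Over S) [GrpObj X] :
    IsMonHom (bcComp g t X).hom := by
  exact ((Functor.mapGrpCompIso.symm ≪≫ Functor.mapGrpNatIso (Over.pullbackComp t g).symm).hom.app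
    (Grp.mk X)).hom.isMonHom_hom

theorem bcComp_naturality {U V : Scheme.{u}} (g : U ⟶ S) (t : V ⟶ U) {X Y : Over S} (f : X ⟶ Y) :
    (Over.pullback t).map ((Over.pullback g).map f) ≫ (bcComp g t Y).hom =
      (bcComp g t X).hom ≫ (Over.pullback (t ≫ g)).map f :=
  (Over.pullbackComp t g).symm.hom.naturality f

theorem DSmap_mul {M N : Type} [AddCommGroup M] [AddCommGroup N] (φ ψ : M →+ N) :
    Red.DSmap S φ * Red.DSmap S ψ = Red.DSmap S (φ + ψ) := by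
  refine hom_ext_pt _ _ fun B _ j c => ?_
  rw [MonObj.comp_mul, pt_DSmap, pt_DSmap, pt_DSmap]
  refine DSPtsLib.pt_mul _ _ _ _ fun m => ?_
  simp only [GrpSchLib.SubgroupFactor.pull_single]
  rw [← map_mul, MonoidAlgebra.single_mul_single, _root_.one_mul]
  rfl

/-- A product of diagonalisable groups. -/
noncomputable def prodDS (S : Scheme.{u}) (M N : Type) [AddCommGroup M] [AddCommGroup N] :
    Red.DS S M ⊗ Red.DS S N ≅ Red.DS S (M × N) where
  hom := (fst (Red.DS S M) (Red.DS S N) ≫ Red.DSmap S (AddMonoidHom.fst M N)) *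
    (snd (Red.DS S M) (Red.DS S N) ≫ Red.DSmap S (AddMonoidHom.snd M N))
  inv := lift (Red.DSmap S (AddMonoidHom.inl M N)) (Red.DSmap S (AddMonoidHom.inr M N))
  hom_inv_id := by
    apply CartesianMonoidalCategory.hom_ext
    · rw [Category.assoc, lift_fst, Category.id_comp, MonObj.mul_comp, Category.assoc, Category.assoc, DSmap_comp,
        DSmap_comp, AddMonoidHom.fst_comp_inl, AddMonoidHom.snd_comp_inl, DSmap_id, DSmap_zero, Category.comp_id,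
        MonObj.comp_one, _root_.mul_one]
    · rw [Category.assoc, lift_snd, Category.id_comp, MonObj.mul_comp, Category.assoc, Category.assoc, DSmap_comp,
        DSmap_comp, AddMonoidHom.fst_comp_inr, AddMonoidHom.snd_comp_inr, DSmap_id, DSmap_zero, Category.comp_id,
        MonObj.comp_one, _root_.one_mul]
  inv_hom_id := by
    rw [MonObj.comp_mul, lift_fst_assoc, lift_snd_assoc, DSmap_comp, DSmap_comp, DSmap_mul, ← DSmap_id]
    congr 1
    refine AddMonoidHom.ext fun x => ?_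
    show ((x.1, (0 : N)) + ((0 : M), x.2) : M × N) = x
    simp

theorem isMonHom_mul {X G : Over S} [GrpObj X] [GrpObj G] (hG : SGA3x.IsMultTypeFT G) (a b : X ⟶ G)
    [IsMonHom a] [IsMonHom b] : IsMonHom (a * b) where
  one_hom := by
    rw [MonObj.comp_mul, IsMonHom.one_hom, IsMonHom.one_hom]
    simp [Hom.one_def, toUnit_unique (toUnit (𝟙_ (Over S))) (𝟙 _)]
  mul_hom := by
    rw [MonObj.mul_eq_mul (M := G), MonObj.comp_mul, MonObj.comp_mul, tensorHom_fst, tensorHom_snd, MonObj.comp_mul,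
      MonObj.comp_mul, MonObj.mul_eq_mul (M := X), MonObj.mul_comp, MonObj.mul_comp]
    have h := GrpSchLib.MultTypeComm.points_comm hG (snd X X ≫ a) (fst X X ≫ b)
    rw [_root_.mul_assoc, _root_.mul_assoc, ← _root_.mul_assoc (snd X X ≫ a), h, _root_.mul_assoc]

/-- Zariski-locally on the base a split torus. -/
abbrev IsLocSplit (T : Over S) [GrpObj T] : Prop :=
  ∀ s : ↥S, ∃ U : S.Opens, s ∈ U ∧ ∃ r : ℕ, Red.IsSplitTorusWith (Fin r → ℤ) (Red.bc U.ι T)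

/-- The sum of two split subtori over an open piece, seen as a piece of the sum map. -/
theorem exists_piece {G E₁ E₂ : Over S} [GrpObj G] [GrpObj E₁] [GrpObj E₂] (hG : SGA3x.IsMultTypeFT G)
    (j₁ : E₁ ⟶ G) [IsMonHom j₁] (j₂ : E₂ ⟶ G) [IsMonHom j₂] (h₁ : IsLocSplit E₁) (h₂ : IsLocSplit E₂) (s : S) :
    ∃ (D : LocalImage.Piece ((fst E₁ E₂ ≫ j₁) * (snd E₁ E₂ ≫ j₂))) (n : ℕ), s ∈ Set.range D.g ∧
      (letI := D.grp; Red.IsSplitTorusWith (Fin n → ℤ) D.E) := by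
  obtain ⟨U₁, hs₁, r₁, ⟨e₁⟩⟩ := h₁ s
  obtain ⟨U₂, hs₂, r₂, ⟨e₂⟩⟩ := h₂ s
  let W₀ : S.Opens := U₁ ⊓ U₂
  let M₁ := Fin r₁ → ℤ
  let M₂ := Fin r₂ → ℤ
  obtain ⟨c₁⟩ : Nonempty (Grp.mk (Red.bc W₀.ι E₁) ≅ Grp.mk (Red.DS W₀ M₁)) := by
    obtain ⟨a⟩ := GrpSchLib.MultTypeBC.bc_bc (S.homOfLE (inf_le_left : W₀ ≤ U₁)) U₁.ι E₁
    obtain ⟨b⟩ := GrpSchLib.MultTypeBC.bc_congr (S.homOfLE_ι (inf_le_left : W₀ ≤ U₁)) E₁
    obtain ⟨c⟩ := GrpSchLib.MultTypeBC.bc_iso (S.homOfLE (inf_le_left : W₀ ≤ U₁)) e₁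
    obtain ⟨d⟩ := GrpSchLib.MultTypeBC.bc_DS (S.homOfLE (inf_le_left : W₀ ≤ U₁)) M₁
    exact ⟨(a ≪≫ b).symm ≪≫ c ≪≫ d⟩
  obtain ⟨c₂⟩ : Nonempty (Grp.mk (Red.bc W₀.ι E₂) ≅ Grp.mk (Red.DS W₀ M₂)) := by
    obtain ⟨a⟩ := GrpSchLib.MultTypeBC.bc_bc (S.homOfLE (inf_le_right : W₀ ≤ U₂)) U₂.ι E₂
    obtain ⟨b⟩ := GrpSchLib.MultTypeBC.bc_congr (S.homOfLE_ι (inf_le_right : W₀ ≤ U₂)) E₂
    obtain ⟨c⟩ := GrpSchLib.MultTypeBC.bc_iso (S.homOfLE (inf_le_right : W₀ ≤ U₂)) e₂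
    obtain ⟨d⟩ := GrpSchLib.MultTypeBC.bc_DS (S.homOfLE (inf_le_right : W₀ ≤ U₂)) M₂
    exact ⟨(a ≪≫ b).symm ≪≫ c ≪≫ d⟩
  haveI : AddGroup.FG (M₁ × M₂) := Module.Finite.iff_addGroup_fg.mp inferInstance
  have hG₀ := GrpSchLib.MultTypeBC.isMultTypeFT_bc W₀.ι hG
  let P₀ : Red.bc W₀.ι (E₁ ⊗ E₂) ⟶ Red.DS W₀ (M₁ × M₂) :=
    lift ((Over.pullback W₀.ι).map (fst E₁ E₂) ≫ c₁.hom.hom.hom)
      ((Over.pullback W₀.ι).map (snd E₁ E₂) ≫ c₂.hom.hom.hom) ≫ (prodDS W₀ M₁ M₂).hom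
  haveI : IsIso c₁.hom.hom.hom := ((Grp.forget _).mapIso c₁).isIso_hom
  haveI : IsIso c₂.hom.hom.hom := ((Grp.forget _).mapIso c₂).isIso_hom
  haveI : IsIso P₀ := by
    have e : lift ((Over.pullback W₀.ι).map (fst E₁ E₂) ≫ c₁.hom.hom.hom)
        ((Over.pullback W₀.ι).map (snd E₁ E₂) ≫ c₂.hom.hom.hom) =
        lift ((Over.pullback W₀.ι).map (fst E₁ E₂)) ((Over.pullback W₀.ι).map (snd E₁ E₂)) ≫
          (c₁.hom.hom.hom ⊗ₘ c₂.hom.hom.hom) := by rw [lift_map]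
    haveI : IsIso (lift ((Over.pullback W₀.ι).map (fst E₁ E₂)) ((Over.pullback W₀.ι).map (snd E₁ E₂))) :=
      inferInstanceAs (IsIso (CartesianMonoidalCategory.prodComparison (Over.pullback W₀.ι) E₁ E₂))
    show IsIso (lift _ _ ≫ _)
    rw [e]
    infer_instance
  haveI : IsMonHom c₁.inv.hom.hom := c₁.inv.hom.isMonHom_hom
  haveI : IsMonHom c₂.inv.hom.hom := c₂.inv.hom.isMonHom_hom
  let a : Red.DS W₀ (M₁ × M₂) ⟶ Red.bc W₀.ι G :=
    Red.DSmap W₀ (AddMonoidHom.inl M₁ M₂) ≫ c₁.inv.hom.hom ≫ (Over.pullback W₀.ι).map j₁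
  let b : Red.DS W₀ (M₁ × M₂) ⟶ Red.bc W₀.ι G :=
    Red.DSmap W₀ (AddMonoidHom.inr M₁ M₂) ≫ c₂.inv.hom.hom ≫ (Over.pullback W₀.ι).map j₂
  haveI : IsMonHom a := inferInstanceAs (IsMonHom (Red.DSmap W₀ _ ≫ c₁.inv.hom.hom ≫ _))
  haveI : IsMonHom b := inferInstanceAs (IsMonHom (Red.DSmap W₀ _ ≫ c₂.inv.hom.hom ≫ _))
  haveI := isMonHom_mul hG₀ a b
  have hP₀ : P₀ ≫ (a * b) = (Over.pullback W₀.ι).map ((fst E₁ E₂ ≫ j₁) * (snd E₁ E₂ ≫ j₂)) := by
    have hm : (Over.pullback W₀.ι).map ((fst E₁ E₂ ≫ j₁) * (snd E₁ E₂ ≫ j₂)) =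
        (Over.pullback W₀.ι).map (fst E₁ E₂ ≫ j₁) * (Over.pullback W₀.ι).map (snd E₁ E₂ ≫ j₂) :=
      map_mul ((Over.pullback W₀.ι).homMonoidHom) _ _
    have hi₁ : (prodDS W₀ M₁ M₂).hom ≫ Red.DSmap W₀ (AddMonoidHom.inl M₁ M₂) = fst _ _ := by
      rw [← Iso.eq_inv_comp]
      exact (lift_fst _ _).symm
    have hi₂ : (prodDS W₀ M₁ M₂).hom ≫ Red.DSmap W₀ (AddMonoidHom.inr M₁ M₂) = snd _ _ := by
      rw [← Iso.eq_inv_comp]
      exact (lift_snd _ _).symm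
    have g1 : c₁.hom.hom.hom ≫ c₁.inv.hom.hom = 𝟙 _ := congrArg (fun m => m.hom.hom) c₁.hom_inv_id
    have g2 : c₂.hom.hom.hom ≫ c₂.inv.hom.hom = 𝟙 _ := congrArg (fun m => m.hom.hom) c₂.hom_inv_id
    rw [hm, MonObj.comp_mul]
    simp only [P₀, a, b, Category.assoc, reassoc_of% hi₁, reassoc_of% hi₂, lift_fst_assoc, lift_snd_assoc,
      reassoc_of% g1, reassoc_of% g2, ← Functor.map_comp]
  obtain ⟨U, u₀, V, A, ψ, hu₀, hV, hψm, hψ, hfac⟩ := exists_image_near hG₀ (a * b) ⟨s, hs₁, hs₂⟩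
  obtain ⟨n, ⟨bA⟩⟩ : ∃ n : ℕ, Nonempty (A ≃+ (Fin n → ℤ)) := by
    let W := A.toIntSubmodule
    obtain ⟨n, bb⟩ := Submodule.basisOfPid ((Pi.basisFun ℤ (Fin r₁)).prod (Pi.basisFun ℤ (Fin r₂))) W
    exact ⟨n, ⟨bb.equivFun.toAddEquiv⟩⟩
  haveI : AddGroup.FG A := AddGroup.fg_of_surjective (f := bA.symm.toAddMonoidHom) bA.symm.surjective
  haveI := hψm
  haveI := hψ
  let g₁ : (U : Scheme.{u}) ⟶ S := U.ι ≫ W₀.ι
  let g : (V : Scheme.{u}) ⟶ S := V.ι ≫ g₁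
  let κ := fun X : Over S => (Over.pullback V.ι).mapIso (bcComp W₀.ι U.ι X) ≪≫ bcComp g₁ V.ι X
  let ψ' : Red.bc V.ι (Red.DS U A) ⟶ Red.bc g G := (Over.pullback V.ι).map ψ ≫ (κ G).hom
  haveI : IsMonHom (κ G).hom := inferInstanceAs
    (IsMonHom ((Over.pullback V.ι).map (bcComp W₀.ι U.ι G).hom ≫ (bcComp g₁ V.ι G).hom))
  haveI : IsMonHom ψ' := inferInstanceAs (IsMonHom ((Over.pullback V.ι).map ψ ≫ (κ G).hom))
  haveI : Mono ψ' := inferInstanceAs (Mono ((Over.pullback V.ι).map ψ ≫ (κ G).hom))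
  haveI : IsSeparated (Red.bc g G).hom := isSeparated_of_multType (GrpSchLib.MultTypeBC.isMultTypeFT_bc g hG)
  have hE := GrpSchLib.MultTypeBC.isMultTypeFT_bc V.ι (isMultTypeFT_DS U A)
  haveI : IsAffineHom (Red.bc g G).hom :=
    Deform.isAffineHom (Deform.isMultType_of_ft (GrpSchLib.MultTypeBC.isMultTypeFT_bc g hG))
  haveI hcl : IsClosedImmersion ψ'.left := Deform.isClosedImmersion_of_mono (Deform.isMultType_of_ft hE) ψ'
  let π : Red.bc g (E₁ ⊗ E₂) ⟶ Red.bc V.ι (Red.DS U A) :=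
    (κ (E₁ ⊗ E₂)).inv ≫ (Over.pullback V.ι).map ((Over.pullback U.ι).map P₀ ≫ (bcDS U.ι (M₁ × M₂)).hom ≫
      Red.DSmap U A.subtype)
  obtain ⟨hfl, hsj, -⟩ := fppf_DSmap (S := (U : Scheme.{u})) A.subtype A.subtype_injective
  let Qm : Red.bc U.ι (Red.bc W₀.ι (E₁ ⊗ E₂)) ⟶ Red.DS U A :=
    (Over.pullback U.ι).map P₀ ≫ (bcDS U.ι (M₁ × M₂)).hom ≫ Red.DSmap U A.subtype
  haveI : IsIso ((Over.pullback U.ι).map P₀).left := ((Over.forget _).mapIso ((Over.pullback U.ι).mapIso (asIso P₀))).isIso_hom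
  haveI : IsIso (bcDS U.ι (M₁ × M₂)).hom.left := ((Over.forget _).mapIso (bcDS U.ι (M₁ × M₂))).isIso_hom
  haveI hQf : Flat Qm.left := by rw [Over.comp_left, Over.comp_left]; infer_instance
  haveI hQs : Surjective Qm.left := by rw [Over.comp_left, Over.comp_left]; infer_instance
  haveI : IsIso (κ (E₁ ⊗ E₂)).inv.left := ((Over.forget _).mapIso (κ (E₁ ⊗ E₂)).symm).isIso_hom
  have hπf : Flat π.left := by
    haveI : Flat ((Over.pullback V.ι).map Qm).left := MorphismProperty.overPullbackMap (P := @Flat) _ _ hQf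
    rw [Over.comp_left]; infer_instance
  have hπs : Surjective π.left := by
    haveI : Surjective ((Over.pullback V.ι).map Qm).left := MorphismProperty.overPullbackMap (P := @Surjective) _ _ hQs
    rw [Over.comp_left]; infer_instance
  have hπ : π ≫ ψ' = (Over.pullback g).map ((fst E₁ E₂ ≫ j₁) * (snd E₁ E₂ ≫ j₂)) := by
    simp only [π, ψ', Category.assoc, ← Functor.map_comp_assoc]
    rw [hfac, Iso.hom_inv_id_assoc, ← Functor.map_comp, hP₀, Iso.inv_comp_eq]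
    simp only [κ, Iso.trans_hom, Functor.mapIso_hom, Category.assoc, ← Functor.map_comp_assoc]
    rw [bcComp_naturality, Functor.map_comp, Category.assoc, bcComp_naturality]
  refine ⟨⟨_, g, inferInstance, _, inferInstance, ψ', inferInstance, hcl, π, hπf, hπs, hπ⟩, n,
    ⟨⟨u₀, hV⟩, ?_⟩, ?_⟩
  · show (V.ι ≫ U.ι ≫ W₀.ι) ⟨u₀, hV⟩ = s
    rw [Scheme.Hom.comp_apply, Scheme.Hom.comp_apply]
    exact congrArg W₀.ι hu₀
  · obtain ⟨d⟩ := GrpSchLib.MultTypeBC.bc_DS V.ι A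
    obtain ⟨eb⟩ := nonempty_DS_congr (S := (V : Scheme.{u})) bA.symm
    exact ⟨d ≪≫ eb⟩

theorem quasiCompact_of_locSplit {T : Over S} [GrpObj T] (h : IsLocSplit T) : QuasiCompact T.hom := by
  choose U hs r hr using h
  refine IsZariskiLocalAtTarget.of_openCover (P := @QuasiCompact) (Scheme.openCoverOfIsOpenCover S U
    (TopologicalSpace.Opens.ext (Set.eq_univ_of_forall fun s => by
      simp only [TopologicalSpace.Opens.coe_iSup, Set.mem_iUnion]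
      exact ⟨s, hs s⟩))) fun s => ?_
  obtain ⟨e⟩ := hr s
  haveI : IsAffineHom (Red.DS (U s) (Fin (r s) → ℤ)).hom :=
    Deform.isAffineHom (Deform.isMultType_of_ft (Deform.isMultTypeFT_of_isTorus (Deform.isTorus_of_split (r s) ⟨Iso.refl _⟩)))
  haveI : IsIso e.hom.hom.hom.left := ((Grp.forget _ ⋙ Over.forget _).mapIso e).isIso_hom
  show QuasiCompact (Red.bc (U s).ι T).hom
  rw [← Over.w e.hom.hom.hom]
  infer_instance

/-- Two locally split subtori are contained in a third one. -/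
theorem exists_join {G E₁ E₂ : Over S} [GrpObj G] [GrpObj E₁] [GrpObj E₂] (hG : SGA3x.IsMultTypeFT G)
    (j₁ : E₁ ⟶ G) [IsMonHom j₁] (j₂ : E₂ ⟶ G) [IsMonHom j₂] (h₁ : IsLocSplit E₁) (h₂ : IsLocSplit E₂) :
    ∃ (E₃ : Over S) (_ : GrpObj E₃) (j₃ : E₃ ⟶ G) (g₁ : E₁ ⟶ E₃) (g₂ : E₂ ⟶ E₃),
      IsMonHom j₃ ∧ Mono j₃ ∧ IsLocSplit E₃ ∧ g₁ ≫ j₃ = j₁ ∧ g₂ ≫ j₃ = j₂ := by
  haveI : IsAffineHom G.hom := Deform.isAffineHom (Deform.isMultType_of_ft hG)
  haveI := quasiCompact_of_locSplit h₁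
  haveI := quasiCompact_of_locSplit h₂
  let u : E₁ ⊗ E₂ ⟶ G := (fst E₁ E₂ ≫ j₁) * (snd E₁ E₂ ≫ j₂)
  haveI : QuasiCompact (E₁ ⊗ E₂).hom := by
    rw [Over.tensorObj_hom]
    haveI : QuasiCompact (pullback.fst E₁.hom E₂.hom) := MorphismProperty.pullback_fst _ _ inferInstance
    infer_instance
  haveI : QuasiCompact u.left := by
    haveI : QuasiCompact (u.left ≫ G.hom) := by rw [Over.w u]; infer_instance
    exact QuasiCompact.of_comp u.left G.hom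
  obtain ⟨P, _, j, hj, hjc, p, hpj, hiso⟩ := LocalImage.exists_image u fun s =>
    let ⟨D, _, hD, _⟩ := exists_piece hG j₁ j₂ h₁ h₂ s
    ⟨D, hD⟩
  refine ⟨P, inferInstance, j, lift (𝟙 E₁) 1 ≫ p, lift 1 (𝟙 E₂) ≫ p, hj,
    (Over.forget S).mono_of_mono_map (inferInstanceAs (Mono j.left)), fun s => ?_, ?_, ?_⟩
  · obtain ⟨D, n, hD, hsplit⟩ := exists_piece hG j₁ j₂ h₁ h₂ s
    letI := D.grp
    haveI := D.isOpen
    obtain ⟨e⟩ := hiso D
    obtain ⟨d⟩ := hsplit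
    let W : S.Opens := D.g.opensRange
    let t : (W : Scheme.{u}) ⟶ D.W := IsOpenImmersion.lift D.g W.ι (by rw [Scheme.Opens.range_ι]; rfl)
    obtain ⟨a⟩ := GrpSchLib.MultTypeBC.bc_bc t D.g P
    obtain ⟨b⟩ := GrpSchLib.MultTypeBC.bc_congr (IsOpenImmersion.lift_fac D.g W.ι _ : t ≫ D.g = W.ι) P
    obtain ⟨c⟩ := GrpSchLib.MultTypeBC.bc_iso t (e ≪≫ d)
    obtain ⟨f⟩ := GrpSchLib.MultTypeBC.bc_DS t (Fin n → ℤ)
    exact ⟨W, hD, n, ⟨(a ≪≫ b).symm ≪≫ c ≪≫ f⟩⟩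
  · rw [Category.assoc, hpj, MonObj.comp_mul, lift_fst_assoc, lift_snd_assoc, Category.id_comp, MonObj.one_comp,
      _root_.mul_one]
  · rw [Category.assoc, hpj, MonObj.comp_mul, lift_fst_assoc, lift_snd_assoc, Category.id_comp, MonObj.one_comp,
      _root_.one_mul]

end Groth.Agent.Deform.SubtorusJoin
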