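import Groth.Agent.Deform.SubgroupLift
import Groth.Agent.Deform.Rigid
import Groth.Agent.Deform.Extension

/-!
# Subgroups of multiplicative type lift compatibly with their torsion

A lift of the `n`-torsion of a subgroup of multiplicative type extends to a lift of the subgroup.
-/

set_option autoImplicit false
set_option linter.style.haveILetI false
set_option linter.unusedSectionVars false
set_option backward.isDefEq.respectTransparency false
set_option backward.isDefEq.respectTransparency.types false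

universe u

open CategoryTheory CategoryTheory.Limits MonoidalCategory CartesianMonoidalCategory MonObj AlgebraicGeometry
open TensorProduct

attribute [local instance] CategoryTheory.Hom.monoid CategoryTheory.Hom.group

namespace Groth.Agent.Deform

open GrpSchLib.AffineHopf (sp spMap)

variable {R : Type u} [CommRing R]

/-- The torsion subgroup of the spectrum of a Hopf algebra of multiplicative type. -/
theorem exists_torsion_subgroup {A : Type u} [CommRing A] [HopfAlgebra R A] [Algebra.FiniteType R A]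
    (hA : SGA3b.IsMultType R A) (n : ℕ) :
    ∃ (Q : Over (Spec (CommRingCat.of R))) (_ : GrpObj Q) (q : Q ⟶ sp R A), IsMonHom q ∧ Mono q ∧
      SGA3x.IsMultTypeFT Q ∧
      ∀ (X : Over (Spec (CommRingCat.of R))) (x : X ⟶ sp R A), x ^ n = 1 ↔ ∃ y : X ⟶ Q, y ≫ q = x := by
  let J := SGA3b.torsionIdeal R A n
  haveI : J.IsHopfIdeal R := MultTypeLib.isHopfIdeal_torsionIdeal hA n
  haveI : Algebra.FiniteType R (A ⧸ J) :=
    Algebra.FiniteType.of_surjective (Ideal.Quotient.mkₐ R J) Ideal.Quotient.mk_surjective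
  let ρ : A →+* A := (SGA3b.powConv R A n).toRingHom
  let π : A →ₐc[R] A ⧸ J := Bialgebra.Quotient.mkBialgHom (R := R) J
  let q : sp R (A ⧸ J) ⟶ sp R A := spMap (π : A →ₐ[R] A ⧸ J)
  haveI : IsClosedImmersion q.left := IsClosedImmersion.spec_of_surjective _ Ideal.Quotient.mk_surjective
  refine ⟨sp R (A ⧸ J), inferInstance, q, inferInstance, Over.mono_of_mono_left _,
    isMultTypeFT_sp (MultTypeLib.isMultType_torsion J hA n rfl), ?_⟩
  have h := isPullback_SpecMap_of_isPushout _ _ _ _ (TorsionOrderScheme.isPushout_of_surjective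
    (Bialgebra.counitAlgHom R A).toRingHom ρ (fun r => ⟨algebraMap R A r, (Bialgebra.counitAlgHom R A).commutes r⟩)
    (algebraMap R (A ⧸ J)) (fun x => by
      show algebraMap R (A ⧸ J) (Coalgebra.counit x) = Ideal.Quotient.mk J (SGA3b.powConv R A n x)
      rw [eq_comm, ← Ideal.Quotient.mk_algebraMap, Ideal.Quotient.eq, ← (SGA3b.powConv R A n).commutes, ← map_sub]
      refine Ideal.mem_map_of_mem _ ?_
      rw [RingHom.mem_ker, map_sub, AlgHom.commutes]
      exact sub_eq_zero.mpr rfl))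
  have h' : IsPullback (sp R (A ⧸ J)).hom q.left η[sp R A].left (𝟙 (sp R A) ^ n : sp R A ⟶ sp R A).left := by
    rw [TorsionOrderScheme.spMap_powConv]
    exact h
  have hq : q ≫ (𝟙 (sp R A) ^ n : sp R A ⟶ sp R A) = 1 := by
    refine Over.OverMorphism.ext ?_
    rw [Over.comp_left, ← h'.w, Hom.one_def, Over.comp_left]
    exact congrArg (· ≫ η[sp R A].left) (Category.comp_id _).symm
  intro X x
  constructor
  · intro hx
    obtain ⟨l, hl₁, hl₂⟩ := h'.exists_lift X.hom x.left (by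
      have e : x ≫ (𝟙 (sp R A) ^ n : sp R A ⟶ sp R A) = 1 := by rw [MonObj.comp_pow, Category.comp_id, hx]
      have e' := congrArg CommaMorphism.left e
      rw [Hom.one_def] at e'
      simp only [Over.comp_left] at e'
      rw [e']
      exact congrArg (· ≫ η[sp R A].left) (Category.comp_id _).symm)
    exact ⟨Over.homMk l hl₁, Over.OverMorphism.ext hl₂⟩
  · rintro ⟨y, rfl⟩
    have e := congrArg (y ≫ ·) hq
    simp only [← Category.assoc, MonObj.comp_pow, Category.comp_id, MonObj.comp_one] at e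
    exact e

variable {J : Ideal R}

/-- Points over the reduced base correspond to points of the reduction. -/
theorem exists_point_over {X : Over (Spec (CommRingCat.of R))} (p : X ⟶ closedPt J)
    {G : Over (Spec (CommRingCat.of R))} [GrpObj G] (g : X ⟶ G) :
    ∃ (Y : Over (Spec (CommRingCat.of (R ⧸ J)))) (g' : Y ⟶ Red.bc (bm J) G),
      (∀ n : ℕ, g' ^ n = 1 ↔ g ^ n = 1) ∧
      ∀ (A : Over (Spec (CommRingCat.of R))) (a : A ⟶ G),
        (∃ y : X ⟶ A, y ≫ a = g) ↔ ∃ y' : Y ⟶ Red.bc (bm J) A, y' ≫ (Over.pullback (bm J)).map a = g' := by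
  let Y : Over (Spec (CommRingCat.of (R ⧸ J))) := Over.mk p.left
  let e : X ≅ (Over.map (bm J)).obj Y := Over.isoMk (Iso.refl _) ((Category.id_comp _).trans (Over.w p))
  obtain ⟨g', hg'⟩ := (DSPtsLib.theta_bijective (H := G) (Y := Y) (bm J)).surjective (e.inv ≫ g)
  have hpow : ∀ n : ℕ, DSPtsLib.theta (bm J) (g' ^ n) = e.inv ≫ g ^ n := fun n => by
    induction n with
    | zero => rw [pow_zero, pow_zero, GrpSchLib.HomUnitLocus.theta_one, MonObj.comp_one]
    | succ m ih => rw [pow_succ, pow_succ, DSPtsLib.theta_mul, ih, hg', MonObj.comp_mul]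
  refine ⟨Y, g', fun n => ⟨fun h => ?_, fun h => ?_⟩, fun A a => ⟨?_, ?_⟩⟩
  · rw [← cancel_epi e.inv, ← hpow, h, GrpSchLib.HomUnitLocus.theta_one, MonObj.comp_one]
  · apply (DSPtsLib.theta_bijective (bm J)).injective
    rw [hpow, h, GrpSchLib.HomUnitLocus.theta_one, MonObj.comp_one]
  · rintro ⟨y, rfl⟩
    obtain ⟨y', hy'⟩ := (DSPtsLib.theta_bijective (H := A) (Y := Y) (bm J)).surjective (e.inv ≫ y)
    refine ⟨y', (DSPtsLib.theta_bijective (bm J)).injective ?_⟩
    rw [theta_map, hy', hg', Category.assoc]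
  · rintro ⟨y', hy'⟩
    refine ⟨e.hom ≫ DSPtsLib.theta (bm J) y', ?_⟩
    rw [Category.assoc, ← theta_map, hy', hg', e.hom_inv_id_assoc]

variable {G : Over (Spec (CommRingCat.of R))} [GrpObj G]

/-- Conjugation by a point, as an automorphism. -/
theorem isIso_conj (g : 𝟙_ (Over (Spec (CommRingCat.of R))) ⟶ G) :
    IsIso ((toUnit G ≫ g) * 𝟙 G * (toUnit G ≫ g)⁻¹) := by
  refine ⟨(toUnit G ≫ g)⁻¹ * 𝟙 G * (toUnit G ≫ g), ?_, ?_⟩ <;>
    simp only [MonObj.comp_mul, GrpObj.comp_inv, Category.comp_id, comp_toUnit_assoc] <;>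
    group

set_option maxHeartbeats 1000000 in
/-- Subgroups of multiplicative type of a smooth group lift compatibly with a given lift of their torsion. -/
theorem exists_torsion_compatible_lift (hJ : IsNilpotent J) (n : ℕ) [Smooth G.hom]
    (H₀ : Over (Spec (CommRingCat.of (R ⧸ J)))) [GrpObj H₀]
    (hH₀ : TwC.Locally (Spec (CommRingCat.of (R ⧸ J))) TwC.Topology.fpqc (fun S' f => ∃ (M : Type)
      (_ : AddCommGroup M), Nonempty (Grp.mk (Red.bc f H₀) ≅ Grp.mk (Red.DS S' M))))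
    (j₀ : H₀ ⟶ Red.bc (bm J) G) [IsMonHom j₀] [IsImmersion j₀.left]
    (L : Over (Spec (CommRingCat.of R))) [GrpObj L]
    (hL : TwC.Locally (Spec (CommRingCat.of R)) TwC.Topology.fpqc (fun S' f => ∃ (M : Type) (_ : AddCommGroup M),
      Nonempty (Grp.mk (Red.bc f L) ≅ Grp.mk (Red.DS S' M))))
    (l : L ⟶ G) [IsMonHom l] [IsImmersion l.left]
    (hL0 : ∀ (X : Over (Spec (CommRingCat.of (R ⧸ J)))) (g : X ⟶ Red.bc (bm J) G),
      (∃ y : X ⟶ Red.bc (bm J) L, y ≫ (Over.pullback (bm J)).map l = g) ↔ ∃ h : X ⟶ H₀, h ^ n = 1 ∧ h ≫ j₀ = g) :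
    ∃ (H : Over (Spec (CommRingCat.of R))) (_ : GrpObj H) (j : H ⟶ G), IsMonHom j ∧ IsImmersion j.left ∧
      SGA3x.IsMultTypeFT H ∧
      (∃ φ : Red.bc (bm J) H ≅ H₀, φ.hom ≫ j₀ = (Over.pullback (bm J)).map j) ∧
      ∀ (X : Over (Spec (CommRingCat.of R))) (g : X ⟶ G),
        (∃ y : X ⟶ L, y ≫ l = g) ↔ ∃ h : X ⟶ H, h ^ n = 1 ∧ h ≫ j = g := by
  obtain ⟨A, _, _, hA, hft, v, hv, hvi, -, φ, hφ⟩ := exists_subgroup_lift_mult hJ G H₀ hH₀ j₀
  haveI := hft
  haveI : Mono v := Over.mono_of_mono_left _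
  haveI : Mono l := Over.mono_of_mono_left _
  haveI : Mono j₀ := Over.mono_of_mono_left _
  obtain ⟨Q, _, q, hqm, hqmono, hQ, hq⟩ := exists_torsion_subgroup hA n
  haveI : IsMonHom (q ≫ v) := inferInstance
  have key : ∀ (X : Over (Spec (CommRingCat.of R))) (_ : X ⟶ closedPt J) (g : X ⟶ G),
      (∃ y : X ⟶ L, y ≫ l = g) ↔ ∃ y : X ⟶ Q, y ≫ q ≫ v = g := by
    intro X p g
    obtain ⟨Y, g', hpow, hex⟩ := exists_point_over p g
    rw [hex L l, hL0]
    constructor
    · rintro ⟨h, hh, hg⟩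
      obtain ⟨x, hx⟩ := (hex _ v).mpr ⟨h ≫ φ.inv, by rw [Category.assoc, ← hφ, φ.inv_hom_id_assoc, hg]⟩
      have hgn : g' ^ n = 1 := by rw [← hg, ← Extension.pow_comp_hom j₀, hh, MonObj.one_comp]
      obtain ⟨y, hy⟩ := (hq X x).mp (by
        rw [← cancel_mono v, Extension.pow_comp_hom v, hx, MonObj.one_comp]
        exact (hpow n).mp hgn)
      exact ⟨y, by rw [← Category.assoc, hy, hx]⟩
    · rintro ⟨y, rfl⟩
      obtain ⟨x', hx'⟩ := (hex _ v).mp ⟨y ≫ q, Category.assoc _ _ _⟩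
      refine ⟨x' ≫ φ.hom, ?_, by rw [Category.assoc, hφ, hx']⟩
      rw [← cancel_mono j₀, Extension.pow_comp_hom j₀, Category.assoc, hφ, hx', MonObj.one_comp, hpow,
        ← Category.assoc, ← Extension.pow_comp_hom v, (hq X (y ≫ q)).mpr ⟨y, rfl⟩, MonObj.one_comp]
  obtain ⟨g, hg, φc, hφc⟩ := conjBy_nilpotent (isMultType_of_ft hQ) hL hJ (q ≫ v) l 1 fun X p => by
    refine ⟨fun h => ?_, fun h => ?_⟩
    · obtain ⟨y, hy⟩ := (key X p _).mpr ⟨h, rfl⟩
      exact ⟨y, by rw [MonObj.comp_one, _root_.one_mul, inv_one, _root_.mul_one, hy]⟩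
    · obtain ⟨y, hy⟩ := (key X p _).mp ⟨h, rfl⟩
      exact ⟨y, by rw [MonObj.comp_one, inv_one, _root_.one_mul, _root_.mul_one, hy]⟩
  let c : G ⟶ G := (toUnit G ≫ g) * 𝟙 G * (toUnit G ≫ g)⁻¹
  have hc : ∀ {X : Over (Spec (CommRingCat.of R))} (x : X ⟶ G),
      x ≫ c = (toUnit X ≫ g) * x * (toUnit X ≫ g)⁻¹ := fun x => by
    simp only [c, MonObj.comp_mul, GrpObj.comp_inv, Category.comp_id, comp_toUnit_assoc]
  haveI : IsIso c := isIso_conj g
  haveI : IsIso c.left := inferInstanceAs (IsIso ((Over.forget _).map c))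
  haveI : IsMonHom (v ≫ c) := WittEndoLib.isMonHom_of_mul _ fun T x y => by
    rw [← Category.assoc, ← Category.assoc, ← Category.assoc, hc, hc, hc, MonObj.mul_comp]
    group
  refine ⟨sp R A, inferInstance, v ≫ c, inferInstance, inferInstanceAs (IsImmersion (v.left ≫ c.left)),
    isMultTypeFT_sp hA, ⟨φ, ?_⟩, fun X x => ?_⟩
  · rw [hφ]
    refine map_eq_of_agree fun X p a => ?_
    rw [← Category.assoc, hc, ← comp_toUnit p, Category.assoc, hg, MonObj.comp_one, _root_.one_mul, inv_one,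
      _root_.mul_one]
  · have hφ' : φc.hom ≫ l = (q ≫ v) ≫ c := by rw [hc, ← hφc]
    constructor
    · rintro ⟨y, rfl⟩
      refine ⟨(y ≫ φc.inv) ≫ q, (hq X _).mpr ⟨_, rfl⟩, ?_⟩
      rw [Category.assoc, ← Category.assoc q v c, ← hφ', Category.assoc, φc.inv_hom_id_assoc]
    · rintro ⟨h, hh, rfl⟩
      obtain ⟨y, rfl⟩ := (hq X h).mp hh
      exact ⟨y ≫ φc.hom, by rw [Category.assoc, hφ', Category.assoc, Category.assoc]⟩

end Groth.Agent.Deform
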