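import Groth.Agent.Deform.FixedPts
import Groth.Agent.Deform.Borel.CentBase
import Groth.Agent.Deform.Luna.CentralPreimage
import Groth.Agent.Deform.Luna.MaxTorusFactor
import Groth.Agent.Deform.SubMT.Grp
import Groth.Agent.GrpSchLib.Action
import Groth.Agent.FlatMisc.Fibrewise
import Mathlib.GroupTheory.SemidirectProduct

/-!
# The invariants of a torus acting on a smooth group

The invariants are a retract of the centralizer of the torus in the semidirect product, so their fibres are connected
when the group is affine with connected fibres.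
-/

set_option autoImplicit false
set_option linter.style.haveILetI false
set_option linter.unusedSectionVars false
set_option backward.isDefEq.respectTransparency false
set_option backward.isDefEq.respectTransparency.types false

universe u

open CategoryTheory CategoryTheory.Limits MonoidalCategory CartesianMonoidalCategory AlgebraicGeometry Opposite

open scoped MonObj

attribute [local instance] CategoryTheory.Hom.monoid CategoryTheory.Hom.group

namespace Groth.Agent.Deform.TorusFixed

/-- An open map with connected fibres pulls connected sets back to preconnected ones. -/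
theorem isPreconnected_preimage {X Y : Type*} [TopologicalSpace X] [TopologicalSpace Y] {f : X → Y} (hf : IsOpenMap f)
    (hfib : ∀ y, IsConnected (f ⁻¹' {y})) {s : Set Y} (hs : IsPreconnected s) : IsPreconnected (f ⁻¹' s) := by
  rintro U V hU hV hcov ⟨a, has, haU⟩ ⟨b, hbs, hbV⟩
  obtain ⟨y, hys, ⟨p, hpU, hp⟩, q, hqV, hq⟩ := hs (f '' U) (f '' V) (hf U hU) (hf V hV) (fun y hy => by
      obtain ⟨x, rfl⟩ := (hfib y).nonempty
      exact (hcov hy).imp (fun h => ⟨x, h, rfl⟩) fun h => ⟨x, h, rfl⟩)
    ⟨f a, has, a, haU, rfl⟩ ⟨f b, hbs, b, hbV, rfl⟩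
  obtain ⟨r, hr, hrUV⟩ := (hfib y).isPreconnected U V hU hV
    (fun x hx => hcov (show f x ∈ s by rw [hx]; exact hys)) ⟨p, hp, hpU⟩ ⟨q, hq, hqV⟩
  exact ⟨r, show f r ∈ s by rw [hr]; exact hys, hrUV⟩

variable {S : Scheme.{u}}

theorem geomPt_range (s : S) : Set.range (Red.geomPt s) = {s} := by
  have : ∀ y, Red.geomPt s y = s := fun y => by
    rw [Red.geomPt, Scheme.Hom.comp_apply]
    exact Scheme.fromSpecResidueField_apply s _
  exact Set.eq_singleton_iff_unique_mem.mpr ⟨⟨IsLocalRing.closedPoint _, this _⟩, fun x ⟨y, hy⟩ => hy ▸ this y⟩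

/-- A connected geometric fibre gives a connected fibre. -/
theorem isConnected_of_geom (X : Over S) (s : S) [ConnectedSpace (Red.bc (Red.geomPt s) X).left] :
    _root_.IsConnected (X.hom.base ⁻¹' {s}) := by
  haveI : ConnectedSpace ↥(pullback X.hom (Red.geomPt s)) := ‹ConnectedSpace (Red.bc (Red.geomPt s) X).left›
  have := isConnected_range (pullback.fst X.hom (Red.geomPt s)).continuous
  rwa [Scheme.Pullback.range_fst, geomPt_range] at this

variable {Q H : Over S} [GrpObj Q] [GrpObj H] (a : AlgGrp.Action Q H)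

/-- The action on points, by automorphisms. -/
noncomputable def phi
    (hmul : ∀ (X : Over S) (q : X ⟶ Q) (h h' : X ⟶ H),
      lift q (h * h') ≫ a.act = (lift q h ≫ a.act) * (lift q h' ≫ a.act))
    (Y : Over S) : (Y ⟶ Q) →* MulAut (Y ⟶ H) where
  toFun q :=
    { toFun := fun h => lift q h ≫ a.act
      invFun := fun h => lift q⁻¹ h ≫ a.act
      left_inv := fun h => by
        show lift q⁻¹ (lift q h ≫ a.act) ≫ a.act = h
        rw [GrpSchLib.act_mul, inv_mul_cancel, GrpSchLib.act_one]
      right_inv := fun h => by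
        show lift q (lift q⁻¹ h ≫ a.act) ≫ a.act = h
        rw [GrpSchLib.act_mul, mul_inv_cancel, GrpSchLib.act_one]
      map_mul' := hmul Y q }
  map_one' := MulEquiv.ext fun h => GrpSchLib.act_one a h
  map_mul' q q' := MulEquiv.ext fun h => (GrpSchLib.act_mul a q q' h).symm

theorem exists_semidirect
    (hmul : ∀ (X : Over S) (q : X ⟶ Q) (h h' : X ⟶ H),
      lift q (h * h') ≫ a.act = (lift q h ≫ a.act) * (lift q h' ≫ a.act)) :
    ∃ (E : Over S) (_ : GrpObj E) (e : E ≅ Q ⊗ H), ∀ (Y : Over S) (x y : Y ⟶ E),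
      (x * y) ≫ e.hom ≫ fst Q H = (x ≫ e.hom ≫ fst Q H) * (y ≫ e.hom ≫ fst Q H) ∧
      (x * y) ≫ e.hom ≫ snd Q H =
        (x ≫ e.hom ≫ snd Q H) * (lift (x ≫ e.hom ≫ fst Q H) (y ≫ e.hom ≫ snd Q H) ≫ a.act) := by
  let F : (Over S)ᵒᵖ ⥤ GrpCat.{u} :=
    { obj := fun Y => GrpCat.of (SemidirectProduct (Y.unop ⟶ H) (Y.unop ⟶ Q) (phi a hmul Y.unop))
      map := fun {Y Z} f => GrpCat.ofHom (MonoidHom.mk' (fun p => ⟨f.unop ≫ p.left, f.unop ≫ p.right⟩)
        fun p p' => SemidirectProduct.ext
          (by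
            show f.unop ≫ (p.left * (lift p.right p'.left ≫ a.act)) =
              (f.unop ≫ p.left) * (lift (f.unop ≫ p.right) (f.unop ≫ p'.left) ≫ a.act)
            rw [MonObj.comp_mul, ← comp_lift, Category.assoc])
          (MonObj.comp_mul f.unop p.right p'.right))
      map_id := fun Y => GrpCat.hom_ext (MonoidHom.ext fun p => SemidirectProduct.ext (Category.id_comp _)
        (Category.id_comp _))
      map_comp := fun f g => GrpCat.hom_ext (MonoidHom.ext fun p => SemidirectProduct.ext (Category.assoc _ _ _)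
        (Category.assoc _ _ _)) }
  let E : Over S := Over.mk (Q ⊗ H).hom
  let e : E ≅ Q ⊗ H := Iso.refl _
  let α : (F ⋙ forget _).RepresentableBy E :=
    { homEquiv := fun {Y} =>
        { toFun := fun g => ⟨g ≫ e.hom ≫ snd Q H, g ≫ e.hom ≫ fst Q H⟩
          invFun := fun p => lift p.right p.left ≫ e.inv
          left_inv := fun g => by
            rw [← cancel_mono e.hom, Category.assoc, Iso.inv_hom_id, Category.comp_id]
            apply CartesianMonoidalCategory.hom_ext <;> simp
          right_inv := fun p => SemidirectProduct.ext (by simp) (by simp) }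
      homEquiv_comp := fun f g => SemidirectProduct.ext (Category.assoc _ _ _) (Category.assoc _ _ _) }
  letI iE : GrpObj E := GrpObj.ofRepresentableBy E F α
  refine ⟨E, iE, e, fun Y x y => ?_⟩
  have hmulα : α.homEquiv (x * y) = (α.homEquiv x * α.homEquiv y : (F.obj (op Y) : Type u)) := by
    have hμ : μ[E] = α.homEquiv.symm
        ((α.homEquiv (fst E E) * α.homEquiv (snd E E) : (F.obj (op (E ⊗ E)) : Type u))) := rfl
    show α.homEquiv (lift x y ≫ μ[E]) = _
    rw [hμ, α.homEquiv_comp, Equiv.apply_symm_apply]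
    show (F.map (lift x y).op).hom _ = _
    rw [map_mul]
    exact congrArg₂ (· * ·) ((α.homEquiv_comp _ _).symm.trans (congrArg α.homEquiv (lift_fst x y)))
      ((α.homEquiv_comp _ _).symm.trans (congrArg α.homEquiv (lift_snd x y)))
  exact ⟨congrArg SemidirectProduct.right hmulα, congrArg SemidirectProduct.left hmulα⟩

/-- The invariants of a torus acting on a smooth separated group. -/
theorem exists_fixed [IsSeparated H.hom] [Smooth H.hom] (hQ : Red.IsTorus Q)
    (hmul : ∀ (X : Over S) (q : X ⟶ Q) (h h' : X ⟶ H),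
      lift q (h * h') ≫ a.act = (lift q h ≫ a.act) * (lift q h' ≫ a.act)) :
    ∃ (F : Over S) (f : F ⟶ H), IsClosedImmersion f.left ∧ Smooth F.hom ∧
      (∀ (X : Over S) (h : X ⟶ H), (∃ x : X ⟶ F, x ≫ f = h) ↔
        ∀ (X' : Over S) (g : X' ⟶ X) (q : X' ⟶ Q), lift q (g ≫ h) ≫ a.act = g ≫ h) ∧
      (IsAffineHom H.hom → (∀ s : S, _root_.IsConnected (H.hom.base ⁻¹' {s})) →
        IsAffineHom F.hom ∧ ∀ s : S, _root_.IsConnected (F.hom.base ⁻¹' {s})) := by
  have hQm := Deform.isMultTypeFT_of_isTorus hQ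
  obtain ⟨F, iF, f, hfm, hf, hFs, hF⟩ := exists_invariants (Deform.isMultType_of_ft hQm) a hmul
  refine ⟨F, f, hf, hFs, hF, fun hHa hconn => ?_⟩
  haveI := hf
  haveI := hHa
  refine ⟨by rw [← Over.w f]; infer_instance, fun s => ?_⟩
  obtain ⟨E, iE, e, hE⟩ := exists_semidirect a hmul
  letI := iE
  haveI : IsAffineHom Q.hom := (TransLib.multTypeFT_essFree hQm).1
  haveI : LocallyOfFinitePresentation Q.hom := MultTypeFlat.lfp hQm
  haveI : Flat Q.hom := MultTypeFlat.flat hQm
  have hQc : ∀ t : S, _root_.IsConnected (Q.hom.base ⁻¹' {t}) := fun t => by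
    haveI : ConnectedSpace (Red.bc (Red.geomPt t) Q).left :=
      (Deform.TorusBasic.props (Deform.isTorus_bc (Red.geomPt t) hQ)).2.2.2
    exact isConnected_of_geom Q t
  haveI : Smooth (pullback.fst Q.hom H.hom) := MorphismProperty.pullback_fst _ _ ‹_›
  haveI : Smooth Q.hom := by
    haveI : LocallyOfFinitePresentation (Q.hom ≫ 𝟙 S) := by rw [Category.comp_id]; infer_instance
    haveI : Flat (Q.hom ≫ 𝟙 S) := by rw [Category.comp_id]; infer_instance
    refine FlatMisc.smooth_of_smooth_fibres (𝟙 S) Q.hom fun t => ?_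
    obtain ⟨-, -, hTs', -⟩ := Deform.TorusBasic.props (Deform.isTorus_bc (S.fromSpecResidueField t) hQ)
    let e := pullback.snd (𝟙 S) (S.fromSpecResidueField t)
    suffices key : ∀ g' : (𝟙 S : S ⟶ S).fiber t ⟶ S, g' = e ≫ S.fromSpecResidueField t →
        Smooth (pullback.snd Q.hom g') from
      key _ ((Category.comp_id _).symm.trans pullback.condition)
    rintro _ rfl
    rw [← pullbackLeftPullbackSndIso_inv_snd_snd Q.hom (S.fromSpecResidueField t) e]
    haveI : Smooth (pullback.snd Q.hom (S.fromSpecResidueField t)) := hTs'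
    infer_instance
  haveI : IsAffineHom (pullback.fst Q.hom H.hom) := MorphismProperty.pullback_fst _ _ ‹_›
  haveI : Smooth (Q ⊗ H).hom := inferInstanceAs (Smooth (pullback.fst Q.hom H.hom ≫ Q.hom))
  haveI : IsAffineHom (Q ⊗ H).hom := inferInstanceAs (IsAffineHom (pullback.fst Q.hom H.hom ≫ Q.hom))
  haveI : IsSeparated (Q ⊗ H).hom := inferInstance
  have hEc : ∀ t : S, _root_.IsConnected ((Q ⊗ H).hom.base ⁻¹' {t}) := fun t => by
    haveI : Smooth (pullback.snd Q.hom H.hom) := MorphismProperty.pullback_snd _ _ inferInstance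
    have h1 := isPreconnected_preimage (pullback.snd Q.hom H.hom).isOpenMap
      (fun y => Luna.isConnected_fibre_bc H.hom hQc y) (hconn t).isPreconnected
    have hw : (Q ⊗ H).hom.base ⁻¹' {t} = (pullback.snd Q.hom H.hom).base ⁻¹' (H.hom.base ⁻¹' {t}) := by
      rw [← Set.preimage_comp, ← TopCat.coe_comp, ← Scheme.Hom.comp_base, ← pullback.condition]
      rfl
    refine ⟨?_, hw ▸ h1⟩
    obtain ⟨y, hy⟩ := (hconn t).nonempty
    obtain ⟨x, hx⟩ := (Luna.isConnected_fibre_bc H.hom hQc y).nonempty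
    exact ⟨x, hw ▸ (show (pullback.snd Q.hom H.hom) x ∈ H.hom.base ⁻¹' {t} from hx.symm ▸ hy)⟩
  haveI : IsIso e.hom.left := ((Over.forget _).mapIso e).isIso_hom
  haveI : IsIso e.inv.left := ((Over.forget _).mapIso e).isIso_inv
  haveI : Smooth E.hom := by rw [← Over.w e.hom]; infer_instance
  haveI : IsAffineHom E.hom := by rw [← Over.w e.hom]; infer_instance
  let i : Q ⟶ E := lift (𝟙 Q) 1 ≫ e.inv
  have ifst : ∀ {X : Over S} (q : X ⟶ Q), (q ≫ i) ≫ e.hom ≫ fst Q H = q := fun q => by simp [i]
  have isnd : ∀ {X : Over S} (q : X ⟶ Q), (q ≫ i) ≫ e.hom ≫ snd Q H = 1 := fun q => by simp [i]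
  haveI : IsMonHom i := SubMT.isMonHom_of_mul i fun x y => by
    obtain ⟨h1, h2⟩ := hE _ (x ≫ i) (y ≫ i)
    rw [← cancel_mono e.hom]
    apply CartesianMonoidalCategory.hom_ext
    · rw [Category.assoc, Category.assoc _ e.hom, ifst, h1, ifst, ifst]
    · rw [Category.assoc, Category.assoc _ e.hom, isnd, h2, isnd, isnd, ifst, _root_.one_mul]
      exact (map_one (phi a hmul _ x)).symm
  obtain ⟨C, iC, z, hz, hzc, hzs⟩ := Deform.exists_centralizer (Deform.isMultType_of_ft hQm) i
  letI := iC
  have hiff : ∀ (X : Over S) (x : X ⟶ E),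
      (∃ w : X ⟶ C, w ≫ z = x) ↔ ∃ w : X ⟶ F, w ≫ f = x ≫ e.hom ≫ snd Q H := by
    intro X x
    rw [hz.2.2, hF]
    refine forall_congr' fun X' => forall_congr' fun g => forall_congr' fun q => ?_
    obtain ⟨l1, l2⟩ := hE _ (g ≫ x) (q ≫ i)
    obtain ⟨r1, r2⟩ := hE _ (q ≫ i) (g ≫ x)
    rw [ifst] at l1 r1 r2
    rw [isnd, show lift ((g ≫ x) ≫ e.hom ≫ fst Q H) 1 ≫ a.act = 1 from map_one (phi a hmul _ _),
      _root_.mul_one] at l2
    rw [isnd, _root_.one_mul] at r2
    constructor
    · intro h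
      rw [h, r2] at l2
      simpa only [Category.assoc] using l2
    · intro h
      rw [← cancel_mono e.hom]
      apply CartesianMonoidalCategory.hom_ext
      · rw [Category.assoc, Category.assoc _ e.hom, l1, r1, GrpSchLib.MultTypeComm.points_comm hQm]
      · rw [Category.assoc, Category.assoc _ e.hom, l2, r2]
        simpa only [Category.assoc] using h.symm
  obtain ⟨r, hr⟩ := (hiff C z).mp ⟨𝟙 C, Category.id_comp z⟩
  obtain ⟨σ, hσ⟩ := (hiff F (lift 1 f ≫ e.inv)).mpr ⟨𝟙 F, by simp⟩
  haveI : Mono f := (Over.forget _).mono_of_mono_map (inferInstanceAs (Mono f.left))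
  have hσr : σ ≫ r = 𝟙 F := by
    rw [← cancel_mono f, Category.assoc, hr, ← Category.assoc, hσ]
    simp
  have hEc' : ∀ t : S, _root_.IsConnected (E.hom.base ⁻¹' {t}) := fun t => by
    have : E.hom.base ⁻¹' {t} = e.inv.left.base '' ((Q ⊗ H).hom.base ⁻¹' {t}) := by
      ext y
      constructor
      · intro hy
        refine ⟨e.hom.left y, ?_, ?_⟩
        · show (Q ⊗ H).hom (e.hom.left y) = t
          rw [← Scheme.Hom.comp_apply, Over.w e.hom]; exact hy
        · rw [← Scheme.Hom.comp_apply, ← Over.comp_left, Iso.hom_inv_id]; rfl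
      · rintro ⟨x, hx, rfl⟩
        show E.hom (e.inv.left x) = t
        rw [← Scheme.Hom.comp_apply, Over.w e.inv]; exact hx
    rw [this]; exact (hEc t).image _ e.inv.left.continuous.continuousOn
  haveI : IsAffine (Red.bc (Red.geomPt s) E).left := by
    haveI : IsAffineHom (pullback.snd E.hom (Red.geomPt s)) :=
      MorphismProperty.pullback_snd (P := @IsAffineHom) _ _ inferInstance
    exact isAffine_of_isAffineHom (pullback.snd E.hom (Red.geomPt s))
  haveI : Smooth (Red.bc (Red.geomPt s) E).hom := MorphismProperty.pullback_snd _ _ inferInstance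
  haveI : ConnectedSpace (Red.bc (Red.geomPt s) E).left := Luna.connectedSpace_geom hEc' s
  haveI := hz.1
  haveI : ConnectedSpace (Red.bc (Red.geomPt s) C).left :=
    Borel.centralizer_connected (Red.bc (Red.geomPt s) E) (Deform.isTorus_bc (Red.geomPt s) hQ)
      (Borel.isCentralizerOf_bc (Red.geomPt s) hz)
  have hCc := isConnected_of_geom C s
  suffices F.hom.base ⁻¹' {s} = r.left.base '' (C.hom.base ⁻¹' {s}) by
    rw [this]; exact hCc.image _ r.left.continuous.continuousOn
  have hr1 : ∀ x, F.hom (r.left x) = C.hom x := fun x => by rw [← Scheme.Hom.comp_apply, Over.w r]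
  have hr2 : ∀ y, r.left (σ.left y) = y := fun y => by
    rw [← Scheme.Hom.comp_apply, ← Over.comp_left, hσr]; rfl
  ext y
  constructor
  · intro hy
    refine ⟨σ.left y, ?_, hr2 y⟩
    show C.hom (σ.left y) = s
    rw [← hr1, hr2]; exact hy
  · rintro ⟨x, hx, rfl⟩
    show F.hom (r.left x) = s
    rw [hr1]; exact hx

end Groth.Agent.Deform.TorusFixed
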