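import Groth.Agent.MultTypeLib.Change
import Groth.Agent.MultTypeLib.Field
import Groth.Agent.MultTypeLib.NilLift
import Mathlib.RingTheory.Jacobson.Ring
import Mathlib.FieldTheory.IsAlgClosed.Basic

/-!
# Diagonalisable subgroups over an extension of an algebraically closed field

A closed diagonalisable subgroup defined over a field extension is defined over a finitely generated subalgebra, so it
can be specialised at a rational point.
-/

set_option autoImplicit false
set_option linter.style.haveILetI false

universe u

open WithConv TensorProduct Coalgebra Bialgebra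

noncomputable section

namespace Groth.Agent.Deform

open Groth.Agent.MultTypeLib

section Criterion

variable {R : Type u} [CommRing R] {A : Type u} [CommRing A] [Bialgebra R A] {S : Type u} [CommRing S] [Algebra R S]
  {M : Type u} [CommGroup M]

/-- The coefficients of an algebra map into a group algebra as linear functionals. -/
def coefLin (ψ : A →ₐ[R] MonoidAlgebra S M) (m : M) : WithConv (A →ₗ[R] S) :=
  toConv (((cB m : MonoidAlgebra S M →ₗ[S] S).restrictScalars R) ∘ₗ ψ.toLinearMap)

theorem coefLin_apply (ψ : A →ₐ[R] MonoidAlgebra S M) (m : M) (a : A) :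
    (coefLin ψ m).ofConv a = (ψ a).coeff m := rfl

/-- Orthogonal coefficients give a morphism of bialgebras. -/
def semiOfCoef [DecidableEq M] (ψ : A →ₐ[R] MonoidAlgebra S M)
    (hε : ∀ a, counit (R := S) (ψ a) = algebraMap R S (counit (R := R) a))
    (hmul : ∀ (m n : M) (a : A), (coefLin ψ m * coefLin ψ n).ofConv a = if m = n then (ψ a).coeff m else 0) :
    SemiBialgHom R S A (MonoidAlgebra S M) where
  toAlgHom := ψ
  counit_comp := hε
  comul_comp a := by
    classical
    let b : Module.Basis M S (MonoidAlgebra S M) := MonoidAlgebra.basis M S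
    refine (b.tensorProduct b).ext_elem fun p => ?_
    obtain ⟨m, n⟩ := p
    let E : MonoidAlgebra S M ⊗[S] MonoidAlgebra S M →ₗ[S] S :=
      LinearMap.mul' S S ∘ₗ TensorProduct.map (cB m) (cB n)
    have hE : ∀ z, (b.tensorProduct b).repr z (m, n) = E z := by
      intro z
      induction z using TensorProduct.induction_on with
      | zero => simp
      | add x y hx hy => simp [hx, hy]
      | tmul x y => simp [E, b, Module.Basis.tensorProduct_repr_tmul_apply, cB_apply, mul_comm]; rfl
    rw [hE, hE]
    have h1 : E (comul (R := S) (ψ a)) = if m = n then (ψ a).coeff m else 0 := by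
      generalize ψ a = x
      induction x using MonoidAlgebra.induction_linear with
      | zero => simp
      | add x y hx hy => simp only [map_add, hx, hy, MonoidAlgebra.coeff_add, Finsupp.add_apply]; split_ifs <;> simp
      | single k r =>
        rw [MultTypeLib.comul_single_one]
        simp only [E, LinearMap.comp_apply, TensorProduct.map_tmul, LinearMap.mul'_apply, cB_apply,
          MonoidAlgebra.coeff_single, Finsupp.single_apply]
        split_ifs <;> simp_all
    rw [h1, ← hmul m n a, LinearMap.convMul_apply]
    generalize comul (R := R) a = z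
    induction z using TensorProduct.induction_on with
    | zero => simp
    | add z₁ z₂ h₁ h₂ => simp only [map_add, h₁, h₂]
    | tmul x y => simp [E, sq_tmul, coefLin, cB_apply]

end Criterion

/-- The coefficients change functorially. -/
theorem coefLin_map {R : Type u} [CommRing R] {A : Type u} [CommRing A] [Bialgebra R A] {S T : Type u} [CommRing S]
    [Algebra R S] [CommRing T] [Algebra R T] {M : Type u} [CommGroup M] (q : S →ₐ[R] T)
    (ψ : A →ₐ[R] MonoidAlgebra S M) (m n : M) (a : A) :
    (coefLin ((MonoidAlgebra.mapAlgHom M q).comp ψ) m * coefLin ((MonoidAlgebra.mapAlgHom M q).comp ψ) n).ofConv a =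
      q ((coefLin ψ m * coefLin ψ n).ofConv a) := by
  rw [LinearMap.convMul_apply, LinearMap.convMul_apply]
  generalize comul (R := R) a = z
  induction z using TensorProduct.induction_on with
  | zero => simp
  | add z₁ z₂ h₁ h₂ => simp only [map_add, h₁, h₂]
  | tmul x y => simp [coefLin, cB_apply]

theorem mapDomain_mapAlgHom {R S T : Type u} [CommRing R] [CommRing S] [Algebra R S] [CommRing T] [Algebra R T]
    {M N : Type u} [CommGroup M] [CommGroup N] (θ : M →* N) (q : S →ₐ[R] T) (x : MonoidAlgebra S M) :
    MonoidAlgebra.mapDomainAlgHom T T θ (MonoidAlgebra.mapAlgHom M q x) =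
      MonoidAlgebra.mapAlgHom N q (MonoidAlgebra.mapDomainAlgHom S S θ x) := by
  induction x using MonoidAlgebra.induction_linear with
  | zero => simp
  | add x y hx hy => simp only [map_add, hx, hy]
  | single m r => simp

/-- A closed diagonalisable subgroup over an extension field, containing a given one defined below, specialises. -/
theorem exists_specialize {K : Type u} [Field K] [IsAlgClosed K] {A : Type u} [CommRing A] [Bialgebra K A]
    (hA : Algebra.FiniteType K A) {L : Type u} [Field L] [Algebra K L] {M N : Type u} [CommGroup M] [CommGroup N]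
    [Group.FG M] (h : SemiBialgHom K L A (MonoidAlgebra L M))
    (hs : Submodule.span L (Set.range h.toAlgHom) = ⊤) (θ : M →* N) (π : A →ₐ[K] MonoidAlgebra K N)
    (hπ : ∀ a, MonoidAlgebra.mapDomainAlgHom L L θ (h.toAlgHom a) =
      MonoidAlgebra.mapAlgHom N (Algebra.ofId K L) (π a)) :
    ∃ ψ : A →ₐc[K] MonoidAlgebra K M, Function.Surjective ψ ∧
      ∀ a, MonoidAlgebra.mapDomainAlgHom K K θ (ψ a) = π a := by
  classical
  obtain ⟨s, hs'⟩ := hA
  obtain ⟨t, ht⟩ := (inferInstance : Monoid.FG M).fg_top
  have hz : ∀ m : M, ∃ (l : A →₀ L), (l.sum fun a c => c • h.toAlgHom a) = MonoidAlgebra.single m 1 := fun m => by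
    obtain ⟨l, hl⟩ := Finsupp.mem_span_range_iff_exists_finsupp.mp
      (hs.symm ▸ Submodule.mem_top : MonoidAlgebra.single m (1 : L) ∈ Submodule.span L (Set.range h.toAlgHom))
    exact ⟨l, hl⟩
  choose l hl using hz
  let gens : Finset L := (s.biUnion fun a => (h.toAlgHom a).coeff.support.image fun m => (h.toAlgHom a).coeff m) ∪
    t.biUnion fun m => (l m).support.image fun a => l m a
  let D : Subalgebra K L := Algebra.adjoin K (gens : Set L)
  haveI hDft : Algebra.FiniteType K D := ⟨(Subalgebra.fg_top _).mpr ⟨gens, rfl⟩⟩
  -- the subgroup over `D`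
  have hinj : Function.Injective (MonoidAlgebra.mapAlgHom M D.val) :=
    fun x y hxy => by
      ext m
      exact congrArg (fun z : MonoidAlgebra L M => z.coeff m) hxy
  have hcoef : ∀ a, h.toAlgHom a ∈ (MonoidAlgebra.mapAlgHom M D.val).range := by
    have hle : (⊤ : Subalgebra K A) ≤ (MonoidAlgebra.mapAlgHom M D.val).range.comap h.toAlgHom := by
      rw [← hs', Algebra.adjoin_le_iff]
      intro a ha
      refine ⟨(h.toAlgHom a).coeff.support.attach.sum fun m => MonoidAlgebra.single m.1
        ⟨(h.toAlgHom a).coeff m.1, Algebra.subset_adjoin (Finset.mem_union_left _ (Finset.mem_biUnion.mpr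
          ⟨a, ha, Finset.mem_image.mpr ⟨m.1, m.2, rfl⟩⟩))⟩, ?_⟩
      show MonoidAlgebra.mapAlgHom M D.val _ = _
      rw [map_sum]
      simp only [MonoidAlgebra.mapAlgHom_single, Subalgebra.coe_val]
      rw [Finset.sum_attach _ (fun m => MonoidAlgebra.single m ((h.toAlgHom a).coeff m))]
      exact (h.toAlgHom a).sum_coeff_single
    exact fun a => hle trivial
  let ψD : A →ₐ[K] MonoidAlgebra D M :=
    (AlgEquiv.ofInjective (MonoidAlgebra.mapAlgHom M D.val) hinj).symm.toAlgHom.comp
      (h.toAlgHom.codRestrict _ hcoef)
  have hψD : (MonoidAlgebra.mapAlgHom M D.val).comp ψD = h.toAlgHom := by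
    refine AlgHom.ext fun a => ?_
    show ((AlgEquiv.ofInjective (MonoidAlgebra.mapAlgHom M D.val) hinj)
      ((AlgEquiv.ofInjective (MonoidAlgebra.mapAlgHom M D.val) hinj).symm _) : MonoidAlgebra L M) = _
    rw [AlgEquiv.apply_symm_apply]
    rfl
  -- a rational point
  obtain ⟨𝔪, h𝔪⟩ := Ideal.exists_maximal D
  haveI := h𝔪
  letI : Field (D ⧸ 𝔪) := Ideal.Quotient.field 𝔪
  haveI : Algebra.FiniteType K (D ⧸ 𝔪) :=
    hDft.of_surjective (Ideal.Quotient.mkₐ K 𝔪) Ideal.Quotient.mk_surjective
  haveI : Module.Finite K (D ⧸ 𝔪) := finite_of_finite_type_of_isJacobsonRing K (D ⧸ 𝔪)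
  let ε : D →ₐ[K] K := (AlgEquiv.ofBijective (Algebra.ofId K (D ⧸ 𝔪))
    IsAlgClosed.algebraMap_bijective_of_isIntegral).symm.toAlgHom.comp (Ideal.Quotient.mkₐ K 𝔪)
  let ψ₀ : A →ₐ[K] MonoidAlgebra K M := (MonoidAlgebra.mapAlgHom M ε).comp ψD
  have hmapc : ∀ {S T : Type u} [CommRing S] [Algebra K S] [CommRing T] [Algebra K T] (q : S →ₐ[K] T)
      (x : MonoidAlgebra S M), counit (R := T) (MonoidAlgebra.mapAlgHom M q x) = q (counit (R := S) x) :=
    fun {S T} _ _ _ _ q x => by
      induction x using MonoidAlgebra.induction_linear with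
      | zero => simp
      | add x y hx hy => simp only [map_add, hx, hy]
      | single m r => simp
  have hD1 : ∀ a, counit (R := D) (ψD a) = algebraMap K D (counit (R := K) a) := fun a => by
    refine Subtype.val_injective (show D.val _ = D.val _ from (Eq.trans ?_ (h.counit_comp a)).trans (D.val.commutes _).symm)
    rw [← hmapc, ← AlgHom.comp_apply, hψD]
  have hD2 : ∀ (m n : M) (a : A), (coefLin ψD m * coefLin ψD n).ofConv a = if m = n then (ψD a).coeff m else 0 := by
    intro m n a
    refine Subtype.val_injective (show D.val _ = D.val _ from ?_)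
    rw [← coefLin_map, hψD]
    have h2 := congrArg (fun f => f.ofConv a) (h.coef_mul m n)
    refine h2.trans ?_
    rw [apply_ite D.val, map_zero]
    split_ifs
    · rw [SemiBialgHom.coef_apply, ← hψD]
      simp
    · rfl
  let H₀ := semiOfCoef ψ₀ (fun a => by
      show counit (MonoidAlgebra.mapAlgHom M ε (ψD a)) = _
      rw [hmapc, hD1, ε.commutes]) (fun m n a => by
      rw [coefLin_map, hD2, apply_ite ε, map_zero]
      rfl)
  let ψ : A →ₐc[K] MonoidAlgebra K M := BialgHom.ofAlgHom ψ₀
    (AlgHom.ext fun a => H₀.counit_comp a)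
    (AlgHom.ext fun a => by
      show Algebra.TensorProduct.map ψ₀ ψ₀ (comul a) = comul (ψ₀ a)
      refine Eq.trans ?_ (H₀.comul_comp a).symm
      generalize comul (R := K) a = z
      induction z using TensorProduct.induction_on with
      | zero => simp
      | add z₁ z₂ h₁ h₂ => simp only [map_add, h₁, h₂]
      | tmul x y => simp [H₀, semiOfCoef])
  refine ⟨ψ, fun y => ?_, fun a => ?_⟩
  · show y ∈ ψ₀.range
    have hgen : ∀ m ∈ t, MonoidAlgebra.single m (1 : K) ∈ ψ₀.range := by
      intro m hm
      let lD : A →₀ D := ⟨(l m).support, fun a => if ha : a ∈ (l m).support then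
        ⟨l m a, Algebra.subset_adjoin (Finset.mem_union_right _ (Finset.mem_biUnion.mpr
          ⟨m, hm, Finset.mem_image.mpr ⟨a, ha, rfl⟩⟩))⟩ else 0, fun a => by
        by_cases ha : a ∈ (l m).support
        · rw [dif_pos ha]
          exact iff_of_true ha fun h0 => (Finsupp.mem_support_iff.mp ha) (congrArg Subtype.val h0)
        · rw [dif_neg ha]
          exact iff_of_false ha (by simp)⟩
      have e1 : (lD.sum fun a c => c • ψD a) = MonoidAlgebra.single m 1 := by
        apply hinj
        rw [MonoidAlgebra.mapAlgHom_single, map_one, ← hl m]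
        simp only [Finsupp.sum, map_sum]
        refine Finset.sum_congr rfl fun a ha => ?_
        ext k
        have hv : (lD a : L) = l m a := congrArg Subtype.val (dif_pos ha)
        rw [← hψD]
        simp [hv]
      have e2 := congrArg (MonoidAlgebra.mapAlgHom M ε) e1
      rw [MonoidAlgebra.mapAlgHom_single, map_one] at e2
      rw [← e2, Finsupp.sum, map_sum]
      refine Subalgebra.sum_mem _ fun a _ => ⟨ε (lD a) • a, ?_⟩
      show ψ₀ (ε (lD a) • a) = _
      rw [map_smul]
      ext k
      simp [ψ₀]
    induction y using MonoidAlgebra.induction_linear with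
    | zero => exact Subalgebra.zero_mem _
    | add x y hx hy => exact Subalgebra.add_mem _ hx hy
    | single m r =>
      have hm : MonoidAlgebra.single m (1 : K) ∈ ψ₀.range := by
        have : m ∈ Submonoid.closure (t : Set M) := ht ▸ Submonoid.mem_top m
        induction this using Submonoid.closure_induction with
        | mem x hx => exact hgen x hx
        | one => exact Subalgebra.one_mem _
        | mul x y _ _ hx hy =>
          rw [← one_mul (1 : K), ← MonoidAlgebra.single_mul_single]
          exact Subalgebra.mul_mem _ hx hy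
      rw [show MonoidAlgebra.single m r = r • MonoidAlgebra.single m (1 : K) by simp [MonoidAlgebra.smul_single]]
      exact Subalgebra.smul_mem _ hm r
  · show MonoidAlgebra.mapDomainAlgHom K K θ (MonoidAlgebra.mapAlgHom M ε (ψD a)) = π a
    have e : MonoidAlgebra.mapDomainAlgHom D D θ (ψD a) = MonoidAlgebra.mapAlgHom N (Algebra.ofId K D) (π a) := by
      ext k
      have hk := congrArg (fun z : MonoidAlgebra L N => z.coeff k) (hπ a)
      rw [← hψD, AlgHom.comp_apply, mapDomain_mapAlgHom] at hk
      simpa using hk
    rw [mapDomain_mapAlgHom, e]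
    ext k
    simp

end Groth.Agent.Deform
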