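import Groth.Agent.Deform.SmoothLiftHom
import Groth.Agent.Deform.Transporter

/-!
# Transporters into smooth or multiplicative subgroups lift along nilpotent thickenings
-/

set_option autoImplicit false
set_option linter.style.haveILetI false
set_option linter.unusedSectionVars false
set_option backward.isDefEq.respectTransparency false
set_option backward.isDefEq.respectTransparency.types false

universe u

open CategoryTheory CategoryTheory.Limits MonoidalCategory CartesianMonoidalCategory AlgebraicGeometry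

open scoped MonObj

namespace Groth.Agent.Deform

variable {R : Type u} [CommRing R] {I : Ideal R}

/-- A point carrying a group of multiplicative type into a subgroup lifts. -/
theorem exists_transport_lift (hnil : IsNilpotent I) {G K H : Over (Spec (CommRingCat.of R))} [GrpObj G] [GrpObj K]
    [GrpObj H] [Smooth G.hom] (k : K ⟶ G) [IsMonHom k] [Mono k]
    (hK : Smooth K.hom ∨ TwC.Locally (Spec (CommRingCat.of R)) TwC.Topology.fpqc (fun S' f =>
      ∃ (M : Type) (_ : AddCommGroup M), Nonempty (Grp.mk (Red.bc f K) ≅ Grp.mk (Red.DS S' M))))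
    (hH : TwC.Locally (Spec (CommRingCat.of R)) TwC.Topology.fpqc (fun S' f => ∃ (M : Type) (_ : AddCommGroup M),
      Nonempty (Grp.mk (Red.bc f H) ≅ Grp.mk (Red.DS S' M))))
    (u : H ⟶ G) [IsMonHom u] (g₀ : closedPt I ⟶ G)
    (h0 : ∀ (X : Over (Spec (CommRingCat.of R))) (p : X ⟶ closedPt I) (h : X ⟶ H),
      ∃ x : X ⟶ K, (p ≫ g₀) * (h ≫ u) * (p ≫ g₀)⁻¹ = x ≫ k) :
    ∃ g : 𝟙_ (Over (Spec (CommRingCat.of R))) ⟶ G, toUnit (closedPt I) ≫ g = g₀ ∧
      ∀ (X : Over (Spec (CommRingCat.of R))) (h : X ⟶ H),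
        ∃ x : X ⟶ K, (toUnit X ≫ g) * (h ≫ u) * (toUnit X ≫ g)⁻¹ = x ≫ k := by
  obtain ⟨g₁, hg₁⟩ := exists_lift_pt hnil g₀
  let u₁ := (toUnit _ ≫ g₁) * u * (toUnit _ ≫ g₁)⁻¹
  haveI : IsMonHom u₁ := isMonHom_conj u g₁
  have hu₁ : ∀ (Y : Over (Spec (CommRingCat.of R))) (h : Y ⟶ H),
      h ≫ u₁ = (toUnit Y ≫ g₁) * (h ≫ u) * (toUnit Y ≫ g₁)⁻¹ := fun Y h => by
    simp only [u₁, MonObj.comp_mul, GrpObj.comp_inv, comp_toUnit_assoc]
  obtain ⟨y', hy'⟩ := h0 _ (redPt I H) (DSPtsLib.theta (bm I) (𝟙 (Red.bc (bm I) H)))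
  rw [← hg₁, ← Category.assoc, comp_toUnit, ← hu₁] at hy'
  obtain ⟨ψ, rfl⟩ := (DSPtsLib.theta_bijective (bm I)).surjective y'
  have e1 : ψ ≫ (Over.pullback (bm I)).map k = (Over.pullback (bm I)).map u₁ := by
    refine ((DSPtsLib.theta_bijective (bm I)).injective ?_).trans (Category.id_comp _)
    rw [theta_map, theta_map, ← hy']
  haveI : Mono ((Over.pullback (bm I)).map k) := inferInstance
  haveI : IsMonHom ((Over.pullback (bm I)).map k) := inferInstance
  haveI : IsMonHom ((Over.pullback (bm I)).map u₁) := inferInstance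
  haveI : IsMonHom ψ := WittEndoLib.isMonHom_of_mul _ fun T p q => by
    rw [← cancel_mono ((Over.pullback (bm I)).map k), Category.assoc, e1, MonObj.mul_comp, MonObj.mul_comp,
      Category.assoc, Category.assoc, e1]
  obtain ⟨a, ha, ha'⟩ : ∃ a : H ⟶ K, IsMonHom a ∧ (Over.pullback (bm I)).map a = ψ := by
    rcases hK with hK | hK
    · haveI := hK
      exact exists_hom_lift_smooth hnil hH ψ
    · exact exists_hom_lift hH hK hnil ψ
  have hag : ∀ (Y : Over (Spec (CommRingCat.of R))) (p : Y ⟶ closedPt I) (h : Y ⟶ H),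
      h ≫ a ≫ k = (p ≫ (1 : closedPt I ⟶ G)) * (h ≫ u₁) * (p ≫ 1)⁻¹ := fun Y p h => by
    rw [MonObj.comp_one, _root_.one_mul, inv_one, _root_.mul_one]
    exact agree_of_map_eq (by rw [Functor.map_comp, ha', e1]) Y p h
  obtain ⟨g, hg, hg'⟩ := exists_conj_nilpotent hnil hH u₁ (a ≫ k) (1 : closedPt I ⟶ G) hag
  refine ⟨g * g₁, by rw [MonObj.comp_mul, hg, hg₁, _root_.one_mul], fun X h => ⟨h ≫ a, ?_⟩⟩
  rw [Category.assoc, hg' X h, hu₁, MonObj.comp_mul]
  group

end Groth.Agent.Deform
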